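import Cfsg.Agent.Lib.Fusion.Model
import Cfsg.Agent.Lib.Fusion.Realized
import Cfsg.Agent.Lib.Fusion.Join
import Cfsg.Agent.Lib.Fusion.Centric
import Cfsg.Agent.Lib.Fusion.ModelGroup
import Cfsg.Agent.Lib.OddLocal.PLengthOne
import Cfsg.Agent.Lib.LocalFusion.PSolvable
import Cfsg.Agent.S5103

/-!
Fusion systems of `p`-solvable groups.
-/

set_option autoImplicit false

namespace Cfsg.Agent.Lib.Fusion.PSolvableModel

open Cfsg Cfsg.FusionSystem

universe u

variable {p : ℕ}

theorem isPSolvable_of_surjective [Fact p.Prime] {G H : Type*} [Group G] [Finite G] [Group H]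
    {f : G →* H} (hf : Function.Surjective f) (h : IsPSolvable p G) : IsPSolvable p H := by
  obtain ⟨n, K, h0, hn, hm, hN, hi⟩ := h
  refine ⟨n, fun i => (K i).map f, by simp [h0],
    by simp [hn, Subgroup.map_top_of_surjective f hf], fun i j hij => Subgroup.map_mono (hm hij),
    fun i => (hN i).map f hf, fun i => ?_⟩
  have hle : K i.castSucc ≤ K i.succ := hm (Fin.castSucc_le_succ i)
  have hd : ((K i.castSucc).map f).relIndex ((K i.succ).map f) ∣
      (K i.castSucc).relIndex (K i.succ) := by
    have := hN i.castSucc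
    rw [Subgroup.relIndex_map_map,
      show K i.succ ⊔ f.ker = K i.succ ⊔ (K i.castSucc ⊔ f.ker) by
        rw [← sup_assoc, sup_eq_left.2 hle],
      Subgroup.relIndex_sup_right]
    exact Subgroup.relIndex_dvd_of_le_left _ le_sup_left
  rcases hi i with ⟨m, hm'⟩ | hc
  · obtain ⟨t, -, ht⟩ := (Nat.dvd_prime_pow (Fact.out : p.Prime)).1 (hm' ▸ hd)
    exact Or.inl ⟨t, ht⟩
  · exact Or.inr (hc.coprime_dvd_left hd)

theorem isPSolvable_of_pKer [Fact p.Prime] {G H : Type*} [Group G] [Finite G] [Group H]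
    {f : G →* H} (hf : Function.Surjective f) (hk : IsPGroup p f.ker) (h : IsPSolvable p H) :
    IsPSolvable p G := by
  obtain ⟨n, K, h0, hn, hm, hN, hi⟩ := h
  refine ⟨n + 1, Fin.cases ⊥ fun i => (K i).comap f, by simp,
    by simp [← Fin.succ_last, hn], ?_, ?_, ?_⟩
  · intro i j hij
    induction i using Fin.cases with
    | zero => simp
    | succ i =>
      induction j using Fin.cases with
      | zero => exact absurd hij (by simp)
      | succ j =>
        simp only [Fin.cases_succ]
        exact Subgroup.comap_mono (hm (Fin.succ_le_succ_iff.1 hij))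
  · intro i
    induction i using Fin.cases with
    | zero => simp only [Fin.cases_zero]; infer_instance
    | succ i => simp only [Fin.cases_succ]; exact (hN i).comap f
  · intro i
    induction i using Fin.cases with
    | zero =>
      left
      simp only [Fin.castSucc_zero, Fin.cases_zero, Fin.cases_succ, h0, MonoidHom.comap_bot,
        Subgroup.relIndex_bot_left]
      exact hk.exists_card_eq
    | succ i =>
      simp only [Fin.castSucc_succ, Fin.cases_succ]
      rw [Subgroup.relIndex_comap, Subgroup.map_comap_eq_self_of_surjective hf]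
      exact hi i

variable {Ω : Type u} [Group Ω] {S : Subgroup Ω} {F : FusionSystem S}

theorem core_centric (hF : F.IsConstrained p) [Finite S] : F.IsCentric F.core := by
  obtain ⟨-, Q, hQn, hQc⟩ := hF
  exact isCentric_of_le hQc (le_core hQn) isNormal_core.1

/-- The automorphisms of the core are a quotient of a model by a normal `p`-subgroup. -/
theorem exists_model_action [Finite S] [Fact p.Prime] (hS : IsPGroup p S)
    (hF : F.IsConstrained p) {G : Type u} [Group G] {ι : S →* G} (hG : F.IsModel p G ι) :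
    ∃ χ : G →* F.autGroup F.core, Function.Surjective χ ∧ IsPGroup p χ.ker := by
  have hKn : F.IsNormal F.core := isNormal_core
  have hKc := core_centric hF
  have hKS := hKn.1
  have hn := model_normal hKn hG
  have hc := fun g => model_centralizer hKn hKc hG (g := g)
  obtain ⟨hfin, hr, -, -⟩ := hG
  have htop : ∀ g : G, g ∈ Subgroup.normalizer (img ι F.core : Set G) := fun g => by
    refine mem_normalizer_of_conj_mem ?_
    rintro _ ⟨q, hq, rfl⟩
    obtain ⟨q', hq', e⟩ := hn g q hq
    exact e ▸ ⟨q', hq', rfl⟩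
  let θ : G →* MulAut F.core := (autHom hr.1 hKS).comp ((MonoidHom.id G).codRestrict _ htop)
  have hθ : ∀ g (x : F.core),
      ι ⟨(θ g x : Ω), hKS (θ g x).2⟩ = g * ι ⟨x, hKS x.2⟩ * g⁻¹ := fun g x =>
    autHom_spec hr.1 hKS ⟨g, htop g⟩ x
  have hmem : ∀ g, θ g ∈ F.autGroup F.core := fun g =>
    (mem_autGroup hKS).2 ((realized_iso_iff hr hKS hKS).2 ⟨g, hθ g⟩)
  refine ⟨θ.codRestrict _ hmem, ?_, ?_⟩
  · rintro ⟨α, hα⟩
    obtain ⟨g, hg⟩ := (realized_iso_iff hr hKS hKS).1 ((mem_autGroup hKS).1 hα)
    refine ⟨g, Subtype.ext (MulEquiv.ext fun x => Subtype.ext ?_)⟩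
    exact (congrArg Subtype.val (hr.1 ((hθ g x).trans (hg x).symm)) :)
  · rintro ⟨g, hg⟩
    have hg' : θ g = 1 := congrArg Subtype.val hg
    obtain ⟨z, -, rfl⟩ := hc g fun q hq => by
      have h := hθ g ⟨q, hq⟩
      rw [hg'] at h
      exact h.symm
    obtain ⟨k, hk⟩ := hS z
    exact ⟨k, Subtype.ext (by simpa using congrArg ι hk)⟩

/-- A system realized by a `p`-solvable group has a `p`-solvable model. -/
theorem exists_pSolvable_model [Finite S] [Fact p.Prime] (hS : IsPGroup p S) {G : Type u}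
    [Group G] [Finite G] {ι : S →* G} (hsol : IsPSolvable p G) (hr : F.IsRealizedBy ι)
    (hT : ∃ T : Sylow p G, (T : Subgroup G) = ι.range) :
    ∃ (L : Type u) (_ : Group L) (κ : S →* L), F.IsModel p L κ ∧ IsPSolvable p L := by
  obtain ⟨T, hT⟩ := hT
  haveI := Cfsg.pPrimeCore_normal p G
  let O := pPrimeCore p G
  have hO : (Nat.card O).Coprime p := Hall.coprime_card_pPrimeCore p
  let m := QuotientGroup.mk' O
  have hinter : ∀ s : S, ι s ∈ O → s = 1 := fun s hs => by
    obtain ⟨k, hk⟩ := hS s
    refine hr.1 ((eq_one_of_pGroup_coprime ⟨k, by rw [← map_pow, hk, map_one]⟩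
      (congrArg Subtype.val (pow_card_eq_one' (x := (⟨ι s, hs⟩ : O)))) hO).trans (map_one ι).symm)
  refine ⟨G ⧸ O, inferInstance, m.comp ι, ?_,
    isPSolvable_of_surjective (QuotientGroup.mk'_surjective O) hsol⟩
  refine ⟨inferInstance, ⟨?_, ?_⟩, ⟨T.mapSurjective (QuotientGroup.mk'_surjective O), ?_⟩, ?_⟩
  · rw [injective_iff_map_eq_one]
    exact fun s hs => hinter s ((QuotientGroup.eq_one_iff _).1 hs)
  · intro P hP φ hφ
    constructor
    · intro h
      obtain ⟨g, hg⟩ := (hr.2 P hP φ hφ).1 h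
      refine ⟨m g, fun x => ?_⟩
      show m (ι _) = m g * m (ι _) * (m g)⁻¹
      rw [hg x, map_mul, map_mul, map_inv]
    · rintro ⟨gb, hgb⟩
      obtain ⟨g, rfl⟩ := QuotientGroup.mk'_surjective O gb
      have := finite_of_le hP
      let a : P →* G := ι.comp (φ.codRestrict S hφ)
      let b : P →* G := (MulAut.conj g).toMonoidHom.comp (ι.comp (Subgroup.inclusion hP))
      have hab : ∀ x, m (a x) = m (b x) := fun x => by
        show m (ι ⟨φ x, hφ x⟩) = m (g * ι ⟨x, hP x.2⟩ * g⁻¹)
        rw [map_mul, map_mul, map_inv]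
        exact hgb x
      let X : Subgroup G := a.range ⊔ O
      have hPp : IsPGroup p P := hS.to_le hP
      have ha : IsPGroup p a.range := hPp.of_surjective a.rangeRestrict a.rangeRestrict_surjective
      have hb : IsPGroup p b.range := hPp.of_surjective b.rangeRestrict b.rangeRestrict_surjective
      have hsyl : IsSylowIn p a.range X := by
        refine ⟨le_sup_left, ha, fun hd => ?_⟩
        have h1 : a.range.relIndex X ∣ Nat.card O := by
          show a.range.relIndex (a.range ⊔ O) ∣ _
          have h2 := Subgroup.relIndex_sup_right (H := a.range) (K := O)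
          have h3 := card_mul_relIndex' (H := a.range) (K := a.range ⊔ O) le_sup_left
          have h4 := card_mul_relIndex' (H := O) (K := a.range ⊔ O) le_sup_right
          have h5 : O.relIndex a.range ∣ Nat.card a.range := Subgroup.relIndex_dvd_card _ _
          obtain ⟨c, hc⟩ := h5
          refine ⟨c, ?_⟩
          rw [h2] at h4
          have h6 : 0 < O.relIndex a.range := Nat.pos_of_ne_zero (relIndex_ne_zero _ _)
          refine Nat.eq_of_mul_eq_mul_left h6 ?_
          rw [← h3, hc] at h4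
          linarith
        exact ((Nat.Prime.coprime_iff_not_dvd Fact.out).1 hO.symm) (hd.trans h1)
      have hbX : b.range ≤ X := by
        rintro _ ⟨x, rfl⟩
        have h1 : (a x)⁻¹ * b x ∈ O := QuotientGroup.eq.1 (hab x)
        rw [show b x = a x * ((a x)⁻¹ * b x) by group]
        exact mul_mem (Subgroup.mem_sup_left ⟨x, rfl⟩) (Subgroup.mem_sup_right h1)
      obtain ⟨k, hk, hkb⟩ := hsyl.exists_conj_le hbX hb
      obtain ⟨a₀, ha₀, o, ho, rfl⟩ := Subgroup.mem_sup_of_normal_right.1 hk
      refine (hr.2 P hP φ hφ).2 ⟨o * g, fun x => ?_⟩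
      have h1 : o * b x * o⁻¹ ∈ a.range := by
        have h2 := a.range.mul_mem (a.range.mul_mem (a.range.inv_mem ha₀) (hkb _ ⟨x, rfl⟩)) ha₀
        have e : a₀⁻¹ * (a₀ * o * b x * (a₀ * o)⁻¹) * a₀ = o * b x * o⁻¹ := by group
        rwa [e] at h2
      obtain ⟨y, hy⟩ := h1
      have hm : m (a x) = m (a y) := by
        rw [hy, map_mul, map_mul, map_inv,
          show m o = 1 from (QuotientGroup.eq_one_iff o).2 ho, inv_one, one_mul, mul_one, hab]
      have hxy : a x = a y := by
        have h3 : (a x)⁻¹ * a y ∈ O := QuotientGroup.eq.1 hm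
        have h4 : (a x)⁻¹ * a y =
            ι ((⟨φ x, hφ x⟩ : S)⁻¹ * (⟨φ y, hφ y⟩ : S)) := by
          rw [map_mul, map_inv]; rfl
        rw [h4] at h3
        have h5 := inv_mul_eq_one.1 (hinter _ h3)
        exact congrArg ι h5
      show a x = _
      rw [hxy, hy]
      show o * (g * ι ⟨x, hP x.2⟩ * g⁻¹) * o⁻¹ = o * g * ι ⟨x, hP x.2⟩ * (o * g)⁻¹
      group
  · rw [Sylow.coe_mapSurjective, hT, MonoidHom.range_comp]
  · exact LocalFusion.centralizer_pCore_le_of_isPSolvable
      (isPSolvable_of_surjective (QuotientGroup.mk'_surjective O) hsol)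
      (OddLocal.pPrimeCore_quotient_eq_bot p)

theorem realized_by_pSolvable_iff [Finite S] [Fact p.Prime] (hS : IsPGroup p S)
    (hF : F.IsSaturated p) :
    (∃ (G : Type u) (_ : Group G) (_ : Finite G) (ι : S →* G), IsPSolvable p G ∧
        F.IsRealizedBy ι ∧ ∃ T : Sylow p G, (T : Subgroup G) = ι.range) ↔
      (F.IsConstrained p ∧ IsPSolvable p ↥(F.autGroup F.core)) := by
  constructor
  · rintro ⟨G, _, _, ι, hsol, hr, hT⟩
    obtain ⟨L, _, κ, hL, hLs⟩ := exists_pSolvable_model hS hsol hr hT
    have hc := Cfsg.Agent.S5103.result p hS F κ hL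
    obtain ⟨χ, hχ, -⟩ := exists_model_action hS hc hL
    have := hL.1
    exact ⟨hc, isPSolvable_of_surjective hχ hLs⟩
  · rintro ⟨hc, hA⟩
    obtain ⟨G, _, ι, hG⟩ := exists_model hS hc
    obtain ⟨χ, hχ, hk⟩ := exists_model_action hS hc hG
    have := hG.1
    exact ⟨G, inferInstance, inferInstance, ι, isPSolvable_of_pKer hχ hk hA, hG.2.1, hG.2.2.1⟩

end Cfsg.Agent.Lib.Fusion.PSolvableModel
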