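import Cfsg.Agent.Lib.Metacyclic.Basic
import Cfsg.Agent.S4399
import Cfsg.Prelude.Def_CaseTheorems

/-!
Metacyclic 2-groups: automorphisms of odd order and recognition of maximal class.
-/

set_option autoImplicit false

namespace Cfsg.Agent.Lib.Fusion.MetaTwo

open Subgroup
open Cfsg.Agent.Lib
open scoped commutatorElement

variable {Q : Type*} [Group Q]

/-- Dihedral, generalized quaternion or semidihedral. -/
def Exceptional (P : Type*) [Group P] : Prop :=
  (∃ m : ℕ, Nonempty (P ≃* DihedralGroup m)) ∨ (∃ m : ℕ, Nonempty (P ≃* QuaternionGroup m)) ∨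
    Cfsg.IsQuasiDihedral P

/-- `a` generates a normal subgroup and, together with `b`, everything. -/
def Pair (a b : Q) : Prop :=
  (∀ g : Q, g * a * g⁻¹ ∈ zpowers a) ∧ ∀ g : Q, ∃ i j : ℤ, g = a ^ i * b ^ j

theorem exists_pair (h : Cfsg.IsMetacyclic Q) : ∃ a b : Q, Pair a b := by
  obtain ⟨N, hN, hNc, hQc⟩ := h
  obtain ⟨a, ha⟩ := (Subgroup.isCyclic_iff_exists_zpowers_eq_top N).mp hNc
  obtain ⟨bq, hbq⟩ := hQc.exists_generator
  obtain ⟨b, rfl⟩ := QuotientGroup.mk_surjective bq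
  refine ⟨a, b, fun g => ?_, fun g => ?_⟩
  · rw [ha]
    exact hN.conj_mem a (ha ▸ mem_zpowers a) g
  · obtain ⟨j, hj⟩ := mem_zpowers_iff.1 (hbq (QuotientGroup.mk g))
    have h1 : g * (b ^ j)⁻¹ ∈ N := by
      rw [← QuotientGroup.eq_one_iff, QuotientGroup.mk_mul, QuotientGroup.mk_inv,
        QuotientGroup.mk_zpow, hj, mul_inv_cancel]
    rw [← ha, mem_zpowers_iff] at h1
    obtain ⟨i, hi⟩ := h1
    exact ⟨i, j, by rw [hi, inv_mul_cancel_right]⟩

theorem Pair.map {a b : Q} (h : Pair a b) {W : Type*} [Group W] (f : Q →* W)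
    (hf : Function.Surjective f) : Pair (f a) (f b) := by
  refine ⟨fun w => ?_, fun w => ?_⟩
  · obtain ⟨g, rfl⟩ := hf w
    rw [← map_inv, ← map_mul, ← map_mul, ← MonoidHom.map_zpowers]
    exact mem_map_of_mem f (h.1 g)
  · obtain ⟨g, rfl⟩ := hf w
    obtain ⟨i, j, hg⟩ := h.2 g
    exact ⟨i, j, by rw [hg, map_mul, map_zpow, map_zpow]⟩

theorem zpowers_normal {a : Q} (h : ∀ g : Q, g * a * g⁻¹ ∈ zpowers a) : (zpowers a).Normal := by
  refine ⟨fun x hx g => ?_⟩
  obtain ⟨i, rfl⟩ := mem_zpowers_iff.1 hx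
  rw [← conj_zpow]
  exact zpow_mem (h g) i

theorem Pair.normal {a b : Q} (h : Pair a b) : (zpowers a).Normal := zpowers_normal h.1

theorem Pair.commutator_le {a b : Q} (h : Pair a b) : commutator Q ≤ zpowers a := by
  have := h.normal
  refine Subgroup.commutator_le.2 fun g _ k _ => ?_
  have hb : ∀ g : Q, ∃ j : ℤ, (g : Q ⧸ zpowers a) = (b : Q ⧸ zpowers a) ^ j := fun g => by
    obtain ⟨i, j, rfl⟩ := h.2 g
    refine ⟨j, ?_⟩
    rw [QuotientGroup.mk_mul, QuotientGroup.mk_zpow, QuotientGroup.mk_zpow,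
      (QuotientGroup.eq_one_iff a).2 (mem_zpowers a), one_zpow, one_mul]
  rw [← QuotientGroup.eq_one_iff]
  show ((g * k * g⁻¹ * k⁻¹ : Q) : Q ⧸ zpowers a) = 1
  obtain ⟨i, hi⟩ := hb g
  obtain ⟨j, hj⟩ := hb k
  simp only [QuotientGroup.mk_mul, QuotientGroup.mk_inv, hi, hj]
  group

theorem eq_of_sq_eq_one {a : Q} [Finite Q] {y z : Q} (hy : y ∈ zpowers a) (hz : z ∈ zpowers a)
    (hy2 : y ^ 2 = 1) (hz2 : z ^ 2 = 1) (hz1 : z ≠ 1) : y = 1 ∨ y = z := by
  classical
  by_contra h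
  simp only [not_or] at h
  have := Fintype.ofFinite (zpowers a)
  have hle := IsCyclic.card_pow_eq_one_le (α := zpowers a) (n := 2) two_pos
  have h3 : ({1, ⟨y, hy⟩, ⟨z, hz⟩} : Finset (zpowers a)) ⊆
      Finset.univ.filter fun g => g ^ 2 = 1 := by
    intro g hg
    simp only [Finset.mem_insert, Finset.mem_singleton] at hg
    rw [Finset.mem_filter]
    refine ⟨Finset.mem_univ _, ?_⟩
    rcases hg with rfl | rfl | rfl
    · exact one_pow 2
    · exact Subtype.ext hy2
    · exact Subtype.ext hz2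
  have h4 := (Finset.card_le_card h3).trans hle
  rw [Finset.card_insert_of_notMem, Finset.card_pair] at h4
  · omega
  · exact fun e => h.2 (congrArg Subtype.val e)
  · simp only [Finset.mem_insert, Finset.mem_singleton, not_or]
    exact ⟨fun e => h.1 (congrArg Subtype.val e).symm, fun e => hz1 (congrArg Subtype.val e).symm⟩

theorem card_quotient_frattini_le [Finite Q] (hQ : IsPGroup 2 Q) {a b : Q} (h : Pair a b) :
    Nat.card (Q ⧸ frattini Q) ≤ 4 := by
  have : Fact (Nat.Prime 2) := ⟨Nat.prime_two⟩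
  have hz : ∀ (g : Q) (i : ℤ), (g ^ i : Q ⧸ frattini Q) =
      if Even i then 1 else (g : Q ⧸ frattini Q) := fun g i => by
    have h2 : (g : Q ⧸ frattini Q) ^ (2 : ℤ) = 1 := by
      rw [zpow_ofNat, ← QuotientGroup.mk_pow, QuotientGroup.eq_one_iff]
      exact PGroupFrattini.pow_mem_frattini hQ g
    split_ifs with hi
    · obtain ⟨k, rfl⟩ := hi
      rw [← two_mul, zpow_mul, h2, one_zpow]
    · obtain ⟨k, rfl⟩ := Int.not_even_iff_odd.1 hi
      rw [zpow_add, zpow_mul, h2, one_zpow, zpow_one, one_mul]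
  let f : Bool × Bool → Q ⧸ frattini Q := fun s =>
    (if s.1 then (a : Q ⧸ frattini Q) else 1) * if s.2 then (b : Q ⧸ frattini Q) else 1
  have hf : Function.Surjective f := fun g => by
    obtain ⟨g, rfl⟩ := QuotientGroup.mk_surjective g
    obtain ⟨i, j, rfl⟩ := h.2 g
    refine ⟨(decide (Odd i), decide (Odd j)), ?_⟩
    rw [QuotientGroup.mk_mul, QuotientGroup.mk_zpow, QuotientGroup.mk_zpow, hz, hz]
    simp [f, ← Int.not_even_iff_odd]
  exact (Nat.card_le_card_of_surjective f hf).trans (by simp)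

theorem aut_eq_one_of_trivial_mod_frattini {p : ℕ} [Fact p.Prime] [Finite Q] (hQ : IsPGroup p Q)
    {α : MulAut Q} {m : ℕ} (hm : m.Coprime p) (hαm : α ^ m = 1)
    (h : ∀ x, α x * x⁻¹ ∈ frattini Q) : α = 1 := by
  by_contra hne
  have ho : orderOf α ∣ m := orderOf_dvd_of_pow_eq_one hαm
  obtain ⟨q, hq, hqd⟩ := Nat.exists_prime_and_dvd (n := orderOf α) fun h1 =>
    hne (orderOf_eq_one_iff.1 h1)
  have hαfin : orderOf α ≠ 0 := fun h0 => by
    have hm0 : m = 0 := Nat.eq_zero_of_zero_dvd (h0 ▸ ho)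
    exact (Fact.out : p.Prime).ne_one (by simpa [hm0] using hm)
  set β := α ^ (orderOf α / q)
  have hβ : orderOf β = q := orderOf_pow_orderOf_div hαfin hqd
  have hqp : q ≠ p := fun e =>
    (Fact.out : p.Prime).ne_one (Nat.eq_one_of_dvd_coprimes hm (e ▸ hqd.trans ho) dvd_rfl)
  have hmod : ∀ (k : ℕ) (x : Q), (α ^ k) x * x⁻¹ ∈ frattini Q := by
    intro k
    induction k with
    | zero => intro x; simp
    | succ k ih =>
      intro x
      have h1 := mul_mem (ih (α x)) (h x)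
      simpa [pow_succ] using h1
  have hfix : ∀ x, ∃ c, β c = c ∧ x⁻¹ * c ∈ frattini Q := by
    intro x
    classical
    have hstep : ∀ y, x⁻¹ * y ∈ frattini Q ↔ x⁻¹ * β y ∈ frattini Q := by
      intro y
      have hn : (frattini Q).Normal := inferInstance
      have h1 := hn.conj_mem _ (hmod (orderOf α / q) y) y⁻¹
      have h2 : x⁻¹ * β y = x⁻¹ * y * (y⁻¹ * (β y * y⁻¹) * y⁻¹⁻¹) := by group
      rw [h2]
      exact ⟨fun hy => mul_mem hy h1, fun hy => ((frattini Q).mul_mem_cancel_right h1).1 hy⟩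
    let σ : Equiv.Perm {y : Q // x⁻¹ * y ∈ frattini Q} := Equiv.Perm.subtypePerm (β.toEquiv : Equiv.Perm Q) fun y => (hstep y).symm
    have hσ : σ ^ q ^ 1 = 1 := by
      rw [pow_one]
      refine Equiv.ext fun y => Subtype.ext ?_
      have h1 : ∀ k : ℕ, ((σ ^ k) y : Q) = (β ^ k) y := by
        intro k
        induction k with
        | zero => rfl
        | succ k ih => rw [pow_succ', pow_succ', MulAut.mul_apply, ← ih]; rfl
      rw [h1, ← hβ, pow_orderOf_eq_one]
      rfl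
    have := Fact.mk hq
    have := Fintype.ofFinite {y : Q // x⁻¹ * y ∈ frattini Q}
    have hcard : Fintype.card {y : Q // x⁻¹ * y ∈ frattini Q} = Nat.card (frattini Q) := by
      rw [← Nat.card_eq_fintype_card]
      exact Nat.card_congr ((Equiv.mulLeft x⁻¹).subtypeEquiv fun y => Iff.rfl)
    obtain ⟨⟨c, hc⟩, hσc⟩ := Equiv.Perm.exists_fixed_point_of_prime (p := q) (n := 1) (by
      rw [hcard]
      intro hd
      obtain ⟨e, he⟩ := IsPGroup.iff_card.1 (hQ.to_subgroup (frattini Q))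
      rw [he] at hd
      exact hqp ((Nat.prime_dvd_prime_iff_eq hq Fact.out).1 (hq.dvd_of_dvd_pow hd))) hσ
    exact ⟨c, congrArg Subtype.val hσc, hc⟩
  let C : Subgroup Q :=
    { carrier := {x | β x = x}
      one_mem' := map_one β
      mul_mem' := fun {u v} hu hv => show β (u * v) = u * v by rw [map_mul, hu, hv]
      inv_mem' := fun {u} hu => show β u⁻¹ = u⁻¹ by rw [map_inv, hu] }
  have hC : C = ⊤ := frattini_nongenerating (eq_top_iff.2 fun x _ => by
    obtain ⟨c, hc, hxc⟩ := hfix x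
    rw [show x = c * (x⁻¹ * c)⁻¹ by group]
    exact mul_mem (mem_sup_left hc) (mem_sup_right (inv_mem hxc)))
  have hβ1 : β = 1 := MulEquiv.ext fun x => hC.ge (mem_top x)
  rw [hβ1, orderOf_one] at hβ
  exact hq.ne_one hβ.symm

theorem aut_eq_one_of_fixed_hom [Finite Q] (hQ : IsPGroup 2 Q) {a b : Q} (hab : Pair a b)
    {α : MulAut Q} {m : ℕ} (hm : Odd m) (hαm : α ^ m = 1) {W : Type*} [Group W] (f : Q →* W)
    {z : W} (hz : z ≠ 1) (hz2 : z * z = 1) (hf : ∀ x, f x = 1 ∨ f x = z) {y : Q} (hy : f y = z)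
    (hfα : ∀ x, f (α x) = f x) : α = 1 := by
  classical
  have : Fact (Nat.Prime 2) := ⟨Nat.prime_two⟩
  refine aut_eq_one_of_trivial_mod_frattini hQ (Nat.coprime_two_right.2 hm) hαm fun x => ?_
  have hker : frattini Q ≤ f.ker := by
    refine PGroupFrattini.frattini_le Nat.prime_two _ (commutator_le.2 fun u _ v _ => ?_) fun u => ?_
    · rw [MonoidHom.mem_ker, map_commutatorElement, commutatorElement_eq_one_iff_mul_comm]
      rcases hf u with h | h <;> rcases hf v with h' | h' <;> simp [h, h']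
    · rw [MonoidHom.mem_ker, map_pow]
      rcases hf u with h | h <;> simp [h, pow_two, hz2]
  let π := QuotientGroup.mk' (frattini Q)
  have hαF : ∀ g, g ∈ frattini Q → α g ∈ frattini Q := fun g hg =>
    (Subgroup.characteristic_iff_map_eq.1 (inferInstance : (frattini Q).Characteristic) α).le
      ⟨g, hg, rfl⟩
  have hπα : ∀ u v, π u = π v → π (α u) = π (α v) := by
    intro u v huv
    rw [← inv_mul_eq_one, ← map_inv, ← map_mul] at huv ⊢
    rw [← map_inv, ← map_mul]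
    exact (QuotientGroup.eq_one_iff _).2 (hαF _ ((QuotientGroup.eq_one_iff _).1 huv))
  have hπf : ∀ u v, π u = π v → f u = f v := by
    intro u v huv
    rw [← inv_mul_eq_one, ← map_inv, ← map_mul] at huv
    have h1 := MonoidHom.mem_ker.1 (hker ((QuotientGroup.eq_one_iff _).1 huv))
    rwa [map_mul, map_inv, inv_mul_eq_one] at h1
  suffices h : π (α x) = π x by
    rw [← QuotientGroup.eq_one_iff]
    show π (α x * x⁻¹) = 1
    rw [map_mul, map_inv, h, mul_inv_cancel]
  have h2x : π ((α ^ 2) x) = π x → π (α x) = π x := by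
    intro h2
    obtain ⟨k, rfl⟩ := hm
    have h4 : ∀ j : ℕ, ∀ u v, π u = π v → π ((α ^ j) u) = π ((α ^ j) v) := by
      intro j
      induction j with
      | zero => exact fun u v h => h
      | succ j ihj =>
        intro u v huv
        rw [pow_succ, MulAut.mul_apply, MulAut.mul_apply]
        exact ihj _ _ (hπα u v huv)
    have h3 : ∀ i : ℕ, π ((α ^ (2 * i)) x) = π x := by
      intro i
      induction i with
      | zero => simp
      | succ i ih =>
        rw [show 2 * (i + 1) = 2 * i + 2 by ring, pow_add, MulAut.mul_apply]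
        exact (h4 _ _ _ h2).trans ih
    have h5 : π ((α ^ (2 * k + 1)) x) = π (α x) := by
      rw [pow_succ', MulAut.mul_apply]
      exact hπα _ _ (h3 k)
    rw [hαm] at h5
    simpa using h5.symm
  by_contra hne
  have h21 : π ((α ^ 2) x) ≠ π x := fun h => hne (h2x h)
  have h22 : π ((α ^ 2) x) ≠ π (α x) := by
    intro h
    refine hne ?_
    have h1 := h
    rw [pow_two, MulAut.mul_apply] at h1
    have hi : ∀ g, g ∈ frattini Q → α⁻¹ g ∈ frattini Q := fun g hg =>
      (Subgroup.characteristic_iff_map_eq.1 (inferInstance : (frattini Q).Characteristic) α⁻¹).le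
        ⟨g, hg, rfl⟩
    rw [← inv_mul_eq_one, ← map_inv, ← map_mul] at h1 ⊢
    have h6 := hi _ ((QuotientGroup.eq_one_iff _).1 h1)
    simp only [map_mul, map_inv, MulAut.inv_apply_self] at h6
    exact (QuotientGroup.eq_one_iff _).2 h6
  have hf2 : f ((α ^ 2) x) = f x := by rw [pow_two, MulAut.mul_apply, hfα, hfα]
  have hsep : ∀ u, f u = f x → ∀ v, π u ≠ π v * π y ∨ f v ≠ f x := by
    intro u hu v
    by_contra h
    simp only [not_or, not_not] at h
    have h1 := hπf u (v * y) (by rw [h.1, map_mul])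
    rw [map_mul, hu, h.2, hy] at h1
    exact hz (left_eq_mul.1 h1)
  have hcard := card_quotient_frattini_le hQ hab
  have := Fintype.ofFinite (Q ⧸ frattini Q)
  rw [Nat.card_eq_fintype_card] at hcard
  have h5 := (Finset.card_le_univ
    ({π x, π (α x), π ((α ^ 2) x), π x * π y, π (α x) * π y} : Finset (Q ⧸ frattini Q))).trans hcard
  have s1 : ∀ u v, f u = f x → f v = f x → π u ≠ π v * π y := fun u v hu hv =>
    (hsep u hu v).resolve_right (fun h => h hv)
  have hxx := hfα x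
  rw [Finset.card_insert_of_notMem, Finset.card_insert_of_notMem, Finset.card_insert_of_notMem,
    Finset.card_pair] at h5
  · omega
  · exact fun h => hne (mul_right_cancel h).symm
  · simp only [Finset.mem_insert, Finset.mem_singleton, not_or]
    exact ⟨s1 _ _ hf2 rfl, s1 _ _ hf2 hxx⟩
  · simp only [Finset.mem_insert, Finset.mem_singleton, not_or]
    exact ⟨h22.symm, s1 _ _ hxx rfl, s1 _ _ hxx hxx⟩
  · simp only [Finset.mem_insert, Finset.mem_singleton, not_or]
    exact ⟨fun h => hne h.symm, h21.symm, s1 _ _ rfl rfl, s1 _ _ rfl hxx⟩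

theorem exists_exponent_facts [Finite Q] (hQ : IsPGroup 2 Q) {a b : Q} (hab : Pair a b)
    (hcomm : ∀ u v : Q, u * v = v * u) {α : MulAut Q} {m : ℕ} (hm : Odd m) (hαm : α ^ m = 1)
    (hα : α ≠ 1) :
    ∃ n : ℕ, (∀ q : Q, q ^ 2 ^ (n + 1) = 1) ∧
      ∀ g : Q, ∃ q : Q, q ^ 2 ^ n ∉ zpowers (g ^ 2 ^ n) := by
  classical
  have : Fact (Nat.Prime 2) := ⟨Nat.prime_two⟩
  obtain ⟨e, he⟩ := IsPGroup.iff_card.1 hQ
  have hex : ∃ n : ℕ, ∀ q : Q, q ^ 2 ^ n = 1 := ⟨e, fun q => he ▸ pow_card_eq_one'⟩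
  have hspec := Nat.find_spec hex
  have hpos : Nat.find hex ≠ 0 := fun h0 => hα (MulEquiv.ext fun q => by
    have h1 := hspec q
    rw [h0, pow_zero, pow_one] at h1
    simp [h1])
  refine ⟨Nat.find hex - 1, fun q => ?_, fun g => ?_⟩
  · rw [Nat.sub_add_cancel (Nat.pos_of_ne_zero hpos)]
    exact hspec q
  set k := Nat.find hex - 1
  by_contra hne
  simp only [not_exists, not_not] at hne
  set z := g ^ 2 ^ k
  have hz2 : z * z = 1 := by
    rw [← pow_add, ← two_mul, ← pow_succ', show k + 1 = Nat.find hex by omega]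
    exact hspec g
  have hpow : ∀ q : Q, q ^ 2 ^ k = 1 ∨ q ^ 2 ^ k = z := fun q => by
    obtain ⟨i, hi⟩ := mem_zpowers_iff.1 (hne q)
    rcases Int.even_or_odd i with ⟨j, rfl⟩ | ⟨j, rfl⟩
    · left; rw [← hi, ← two_mul, zpow_mul, zpow_two, hz2, one_zpow]
    · right; rw [← hi, zpow_add, zpow_mul, zpow_two, hz2, one_zpow, zpow_one, one_mul]
  have hz1 : z ≠ 1 := fun h1 => Nat.find_min hex (show k < Nat.find hex by omega) fun q => by
    rcases hpow q with h | h
    · exact h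
    · exact h.trans h1
  have hαz : α z = z := by
    rcases hpow (α g) with h | h
    · rw [← map_pow] at h
      exact absurd ((MulEquiv.map_eq_one_iff α).1 h) hz1
    · rwa [← map_pow] at h
  refine hα (aut_eq_one_of_fixed_hom hQ hab hm hαm
    (MonoidHom.mk' (fun q => q ^ 2 ^ k) fun u v => (show Commute u v from hcomm u v).mul_pow _)
    hz1 hz2 hpow (y := g) rfl fun q => ?_)
  show (α q) ^ 2 ^ k = q ^ 2 ^ k
  rw [← map_pow]
  rcases hpow q with h | h <;> rw [h]
  · exact map_one α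
  · exact hαz

/-- The automorphism induced on the quotient by a stable normal subgroup. -/
theorem exists_aut_quotient (M : Subgroup Q) [M.Normal] (α : MulAut Q) (h : M.map α.toMonoidHom = M) :
    ∃ β : MulAut (Q ⧸ M), (∀ g : Q, β (g : Q ⧸ M) = ((α g : Q) : Q ⧸ M)) ∧
      ∀ (k : ℕ), α ^ k = 1 → β ^ k = 1 := by
  refine ⟨QuotientGroup.congr M M α h, fun g => rfl, fun k hk => MulEquiv.ext fun w => ?_⟩
  obtain ⟨g, rfl⟩ := QuotientGroup.mk_surjective w
  have h1 : ∀ j : ℕ, (QuotientGroup.congr M M α h ^ j) (g : Q ⧸ M) = (((α ^ j) g : Q) : Q ⧸ M) := by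
    intro j
    induction j with
    | zero => rfl
    | succ j ih => rw [pow_succ', pow_succ', MulAut.mul_apply, ih]; rfl
  rw [h1, hk]
  rfl

theorem aut_eq_one_of_quotient [Finite Q] (hQ : IsPGroup 2 Q) {M : Subgroup Q} [M.Normal]
    (hM : M ≤ frattini Q) {α : MulAut Q} {m : ℕ} (hm : Odd m) (hαm : α ^ m = 1)
    {β : MulAut (Q ⧸ M)} (hβ : ∀ g : Q, β (g : Q ⧸ M) = ((α g : Q) : Q ⧸ M)) (h1 : β = 1) :
    α = 1 := by
  have : Fact (Nat.Prime 2) := ⟨Nat.prime_two⟩
  refine aut_eq_one_of_trivial_mod_frattini hQ (Nat.coprime_two_right.2 hm) hαm fun x => hM ?_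
  rw [← QuotientGroup.eq_one_iff, QuotientGroup.mk_mul, ← hβ, h1]
  simp

theorem sq_mem_of_small [Finite Q] (hQ : IsPGroup 2 Q) {a b : Q} (hab : Pair a b)
    {α : MulAut Q} {m : ℕ} (hm : Odd m) (hαm : α ^ m = 1) (hα : α ≠ 1) {z : Q} (hz : z ≠ 1)
    (hz2 : z * z = 1) (hzc : ∀ g, z * g = g * z) (hD : ∀ u v : Q, ⁅u, v⁆ = 1 ∨ ⁅u, v⁆ = z)
    (hex : ∃ u v : Q, ⁅u, v⁆ = z) (x : Q) : x * x = 1 ∨ x * x = z := by
  classical
  have : Fact (Nat.Prime 2) := ⟨Nat.prime_two⟩
  let M := zpowers z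
  have hMmem : ∀ g, g ∈ M ↔ g = 1 ∨ g = z := by
    intro g
    constructor
    · intro hg
      obtain ⟨i, rfl⟩ := mem_zpowers_iff.1 hg
      rcases Int.even_or_odd i with ⟨j, rfl⟩ | ⟨j, rfl⟩
      · left; rw [← two_mul, zpow_mul, zpow_two, hz2, one_zpow]
      · right; rw [zpow_add, zpow_mul, zpow_two, hz2, one_zpow, zpow_one, one_mul]
    · rintro (rfl | rfl)
      · exact one_mem _
      · exact mem_zpowers _
  have hMn : M.Normal := ⟨fun g hg k => by
    rcases (hMmem g).1 hg with rfl | rfl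
    · simp
    · rw [← hzc k, mul_inv_cancel_right]; exact hg⟩
  have hza : z ∈ zpowers a := by
    obtain ⟨u, v, huv⟩ := hex
    exact hab.commutator_le (huv ▸ commutator_mem_commutator (mem_top u) (mem_top v))
  have hαz : α z = z := by
    obtain ⟨u, v, huv⟩ := hex
    rcases hD (α u) (α v) with h | h
    · rw [← map_commutatorElement, huv] at h
      exact absurd ((MulEquiv.map_eq_one_iff α).1 h) hz
    · rwa [← map_commutatorElement, huv] at h
  have hMα : M.map α.toMonoidHom = M := by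
    show (zpowers z).map _ = _
    rw [MonoidHom.map_zpowers]
    exact congrArg zpowers hαz
  have hMF : M ≤ frattini Q := by
    obtain ⟨u, v, huv⟩ := hex
    exact zpowers_le.2 (PGroupFrattini.commutator_le_frattini hQ
      (huv ▸ commutator_mem_commutator (mem_top u) (mem_top v)))
  obtain ⟨β, hβ, hβm⟩ := exists_aut_quotient M α hMα
  have hcomm : ∀ u v : Q ⧸ M, u * v = v * u := by
    intro u v
    obtain ⟨u, rfl⟩ := QuotientGroup.mk_surjective u
    obtain ⟨v, rfl⟩ := QuotientGroup.mk_surjective v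
    rw [← commutatorElement_eq_one_iff_mul_comm]
    show ((⁅u, v⁆ : Q) : Q ⧸ M) = 1
    exact (QuotientGroup.eq_one_iff _).2 ((hMmem _).2 (hD u v))
  obtain ⟨n, hexp, hhom⟩ := exists_exponent_facts (hQ.to_quotient M)
    (hab.map (QuotientGroup.mk' M) (QuotientGroup.mk'_surjective M)) hcomm hm (hβm m hαm)
    (fun h => hα (aut_eq_one_of_quotient hQ hMF hm hαm hβ h))
  have hexpQ : ∀ q : Q, q ^ 2 ^ (n + 1) = 1 ∨ q ^ 2 ^ (n + 1) = z := fun q =>
    (hMmem _).1 ((QuotientGroup.eq_one_iff _).1 (by rw [QuotientGroup.mk_pow]; exact hexp _))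
  rcases Nat.eq_zero_or_pos n with rfl | hn
  · simpa [pow_two] using hexpQ x
  exfalso
  obtain ⟨k, rfl⟩ : ∃ k, n = k + 1 := ⟨n - 1, by omega⟩
  have hsq : ∀ u v : Q, u * u * v = v * (u * u) := by
    intro u v
    have hkey : u * v = ⁅u, v⁆ * (v * u) := by rw [commutatorElement_def]; group
    have hc : ⁅u, v⁆ * ⁅u, v⁆ = 1 := by
      rcases hD u v with h | h <;> simp [h, hz2]
    have hcc : ∀ g, ⁅u, v⁆ * g = g * ⁅u, v⁆ := fun g => by
      rcases hD u v with h | h <;> rw [h]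
      · simp
      · exact hzc g
    calc u * u * v = u * (u * v) := mul_assoc _ _ _
      _ = u * (⁅u, v⁆ * (v * u)) := by rw [← hkey]
      _ = ⁅u, v⁆ * (u * v) * u := by rw [← mul_assoc, ← hcc u]; group
      _ = ⁅u, v⁆ * (⁅u, v⁆ * (v * u)) * u := by rw [← hkey]
      _ = _ := by rw [← mul_assoc, hc, one_mul, mul_assoc]
  have h4 : ∀ u v : Q, (u * v) ^ 4 = u ^ 4 * v ^ 4 := by
    intro u v
    have hpow2 : (u * v) ^ 2 = u ^ 2 * v ^ 2 * ⁅v, u⁆ := by
      have hkey : v * u = ⁅v, u⁆ * (u * v) := by rw [commutatorElement_def]; group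
      have hcc : ∀ g, ⁅v, u⁆ * g = g * ⁅v, u⁆ := fun g => by
        rcases hD v u with h | h <;> rw [h]
        · simp
        · exact hzc g
      calc (u * v) ^ 2 = u * (v * u) * v := by rw [pow_two]; group
        _ = u * (⁅v, u⁆ * (u * v)) * v := by rw [← hkey]
        _ = _ := by rw [hcc (u * v), pow_two, pow_two]; simp only [mul_assoc]; rw [hcc v]
    have hc2 : ∀ u : Q, Commute (u ^ 2) ⁅v, u⁆ ∧ True := fun _ =>
      ⟨by rw [pow_two]; exact (hsq _ _), trivial⟩
    rw [show 4 = 2 * 2 from rfl, pow_mul, hpow2, pow_mul, pow_mul]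
    have hc : ⁅v, u⁆ ^ 2 = 1 := by
      rcases hD v u with h | h <;> simp [h, pow_two, hz2]
    have e1 : Commute (u ^ 2) (v ^ 2) := by rw [pow_two]; exact hsq u _
    have e2 : Commute (u ^ 2 * v ^ 2) ⁅v, u⁆ :=
      Commute.mul_left (by rw [pow_two]; exact hsq u _) (by rw [pow_two]; exact hsq v _)
    rw [e2.mul_pow, hc, mul_one, e1.mul_pow]
  let f : Q →* Q := MonoidHom.mk' (fun q => q ^ 2 ^ (k + 2)) fun u v => by
    show (u * v) ^ 2 ^ (k + 2) = u ^ 2 ^ (k + 2) * v ^ 2 ^ (k + 2)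
    rw [show 2 ^ (k + 2) = 4 * 2 ^ k by rw [pow_add]; ring, pow_mul, pow_mul, pow_mul, h4]
    refine Commute.mul_pow ?_ _
    rw [show 4 = 2 * 2 from rfl, pow_mul u, pow_two (u ^ 2)]
    exact hsq _ _
  by_cases hall : ∀ q, f q = 1
  · obtain ⟨q, hq⟩ := hhom (b : Q ⧸ M)
    refine hq ?_
    obtain ⟨q, rfl⟩ := QuotientGroup.mk_surjective q
    obtain ⟨i, j, rfl⟩ := hab.2 q
    have ha : (a : Q ⧸ M) ^ 2 ^ (k + 1) = 1 := by
      rw [← QuotientGroup.mk_pow, QuotientGroup.eq_one_iff, hMmem]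
      exact eq_of_sq_eq_one (npow_mem_zpowers a _) hza
        (by rw [← pow_mul, ← pow_succ]; exact hall a) (by rw [pow_two, hz2]) hz
    rw [QuotientGroup.mk_mul, QuotientGroup.mk_zpow, QuotientGroup.mk_zpow,
      (show Commute ((a : Q ⧸ M) ^ i) ((b : Q ⧸ M) ^ j) from hcomm _ _).mul_pow]
    have e : ∀ (w : Q ⧸ M) (i : ℤ), (w ^ i) ^ 2 ^ (k + 1) = (w ^ 2 ^ (k + 1)) ^ i := fun w i => by
      rw [← zpow_natCast, ← zpow_natCast w, ← zpow_mul, ← zpow_mul, mul_comm]
    rw [e, e, ha, one_zpow, one_mul]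
    exact zpow_mem (mem_zpowers _) j
  · simp only [not_forall] at hall
    obtain ⟨y, hy⟩ := hall
    refine hα (aut_eq_one_of_fixed_hom hQ hab hm hαm f hz hz2 hexpQ
      ((hexpQ y).resolve_left hy) fun q => ?_)
    show (α q) ^ 2 ^ (k + 2) = q ^ 2 ^ (k + 2)
    rw [← map_pow]
    rcases hexpQ q with h | h <;> rw [h]
    · exact map_one α
    · exact hαz

/-- A nonabelian metacyclic 2-group with an automorphism of odd order contains a quaternion
pair. -/
theorem quaternion_of_nonabelian [Finite Q] (hQ : IsPGroup 2 Q) {a b : Q} (hab : Pair a b)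
    {α : MulAut Q} {m : ℕ} (hm : Odd m) (hαm : α ^ m = 1) (hα : α ≠ 1)
    {u v : Q} (huv : u * v ≠ v * u) :
    ∃ x y : Q, y * y ≠ 1 ∧ (y * y) * (y * y) = 1 ∧ x * x = y * y ∧ x * y * x⁻¹ = y⁻¹ := by
  classical
  have : Fact (Nat.Prime 2) := ⟨Nat.prime_two⟩
  set N := zpowers a with hN
  have hNn : N.Normal := hab.normal
  have hDN : commutator Q ≤ N := hab.commutator_le
  have : IsCyclic N := inferInstanceAs (IsCyclic (zpowers a))
  obtain ⟨d, hd⟩ := (Subgroup.isCyclic_iff_exists_zpowers_eq_top (commutator Q)).1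
    (isCyclic_of_injective (Subgroup.inclusion hDN) (Subgroup.inclusion_injective hDN))
  have hd1 : d ≠ 1 := fun h => huv (commutatorElement_eq_one_iff_mul_comm.1 (Subgroup.mem_bot.1 (by
    rw [← zpowers_eq_bot.2 h, hd]
    exact commutator_mem_commutator (mem_top u) (mem_top v))))
  have hdmem : ∀ β : Q ≃* Q, ∃ k : ℤ, d ^ k = β d := fun β => mem_zpowers_iff.1 (by
    rw [hd]
    exact (Subgroup.characteristic_iff_map_eq.1 (inferInstance : (commutator Q).Characteristic) β).le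
      ⟨d, hd ▸ mem_zpowers d, rfl⟩)
  let M := zpowers (d * d)
  have hMn : M.Normal := ⟨fun g hg k => by
    obtain ⟨i, rfl⟩ := mem_zpowers_iff.1 hg
    obtain ⟨l, hl⟩ := hdmem (MulAut.conj k)
    rw [MulAut.conj_apply] at hl
    rw [← conj_zpow, show k * (d * d) * k⁻¹ = (k * d * k⁻¹) * (k * d * k⁻¹) by group, ← hl]
    refine zpow_mem ?_ i
    rw [← (Commute.refl d).mul_zpow]
    exact zpow_mem (mem_zpowers _) l⟩
  have hMα : M.map α.toMonoidHom = M := by
    have hle : ∀ β : MulAut Q, M.map β.toMonoidHom ≤ M := fun β => by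
      show (zpowers _).map _ ≤ _
      rw [MonoidHom.map_zpowers, zpowers_le]
      obtain ⟨l, hl⟩ := hdmem β
      show β (d * d) ∈ _
      rw [map_mul, ← hl, ← (Commute.refl d).mul_zpow]
      exact zpow_mem (mem_zpowers _) l
    refine le_antisymm (hle α) fun g hg => ?_
    exact ⟨α⁻¹ g, hle α⁻¹ ⟨g, hg, rfl⟩, by simp⟩
  have hdM : d ∉ M := by
    intro h
    obtain ⟨i, hi⟩ := mem_zpowers_iff.1 h
    rw [← pow_two, ← zpow_natCast, ← zpow_mul] at hi
    have h1 : d ^ (((2 : ℕ) : ℤ) * i - 1) = 1 := by rw [zpow_sub_one, hi, mul_inv_cancel]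
    have h2 : (2 : ℤ) ∣ ((2 : ℕ) : ℤ) * i - 1 :=
      (Int.natCast_dvd_natCast.2 (hQ.dvd_orderOf hd1)).trans (orderOf_dvd_iff_zpow_eq_one.2 h1)
    omega
  obtain ⟨β, hβ, hβm⟩ := exists_aut_quotient M α hMα
  have hMD : M ≤ commutator Q := zpowers_le.2 (hd ▸ mul_mem (mem_zpowers d) (mem_zpowers d))
  have hMF : M ≤ frattini Q := hMD.trans (PGroupFrattini.commutator_le_frattini hQ)
  set z : Q ⧸ M := (d : Q ⧸ M)
  have hz : z ≠ 1 := fun h => hdM ((QuotientGroup.eq_one_iff d).1 h)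
  have hz2 : z * z = 1 := by
    rw [← QuotientGroup.mk_mul, QuotientGroup.eq_one_iff]
    exact mem_zpowers _
  have hmemD : ∀ g ∈ commutator Q, (g : Q ⧸ M) = 1 ∨ (g : Q ⧸ M) = z := by
    intro g hg
    obtain ⟨i, rfl⟩ := mem_zpowers_iff.1 (hd.ge hg)
    rw [QuotientGroup.mk_zpow]
    rcases Int.even_or_odd i with ⟨j, rfl⟩ | ⟨j, rfl⟩
    · left; rw [← two_mul, zpow_mul, zpow_two, hz2, one_zpow]
    · right; rw [zpow_add, zpow_mul, zpow_two, hz2, one_zpow, zpow_one, one_mul]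
  have hzc : ∀ g, z * g = g * z := by
    intro g
    obtain ⟨g, rfl⟩ := QuotientGroup.mk_surjective g
    have hdD : d ∈ commutator Q := hd ▸ mem_zpowers d
    rcases hmemD _ ((inferInstance : (commutator Q).Normal).conj_mem d hdD g) with h | h
    · rw [QuotientGroup.mk_mul, QuotientGroup.mk_mul, QuotientGroup.mk_inv, mul_inv_eq_one] at h
      exact absurd (mul_eq_left.1 h) hz
    · rw [QuotientGroup.mk_mul, QuotientGroup.mk_mul, QuotientGroup.mk_inv, mul_inv_eq_iff_eq_mul] at h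
      exact h.symm
  have hDbar : ∀ s t : Q ⧸ M, ⁅s, t⁆ = 1 ∨ ⁅s, t⁆ = z := by
    intro s t
    obtain ⟨s, rfl⟩ := QuotientGroup.mk_surjective s
    obtain ⟨t, rfl⟩ := QuotientGroup.mk_surjective t
    exact hmemD ⁅s, t⁆ (commutator_mem_commutator (mem_top _) (mem_top _))
  have hex : ∃ s t : Q ⧸ M, ⁅s, t⁆ = z := by
    by_contra hne
    simp only [not_exists] at hne
    have h1 : commutator Q ≤ M := Subgroup.commutator_le.2 fun s _ t _ =>
      (QuotientGroup.eq_one_iff ⁅s, t⁆).1 ((hDbar s t).resolve_right (hne _ _))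
    exact hdM (h1 (hd ▸ mem_zpowers d))
  have hsqD : ∀ g : Q, g * g ∈ commutator Q := by
    intro g
    rcases sq_mem_of_small (hQ.to_quotient M) (hab.map _ (QuotientGroup.mk'_surjective M)) hm
      (hβm m hαm) (fun h => hα (aut_eq_one_of_quotient hQ hMF hm hαm hβ h)) hz hz2 hzc hDbar hex
      (g : Q ⧸ M) with h | h
    · exact hMD ((QuotientGroup.eq_one_iff _).1 h)
    · rw [← QuotientGroup.mk_mul, QuotientGroup.eq] at h
      have h3 := (commutator Q).mul_mem (hd ▸ mem_zpowers d) (inv_mem (hMD h))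
      simpa using h3
  have hgen : ∀ g : Q, g ∈ N ∨ g * b⁻¹ ∈ N := by
    intro g
    obtain ⟨i, j, rfl⟩ := hab.2 g
    have hb2 : ∀ l : ℤ, b ^ (2 * l) ∈ N := fun l => by
      rw [zpow_mul, zpow_two]
      exact zpow_mem (hDN (hsqD b)) l
    rcases Int.even_or_odd j with ⟨l, rfl⟩ | ⟨l, rfl⟩
    · left
      rw [← two_mul]
      exact mul_mem (zpow_mem (mem_zpowers a) i) (hb2 l)
    · right
      rw [zpow_add_one, mul_assoc, mul_assoc, mul_inv_cancel, mul_one]
      exact mul_mem (zpow_mem (mem_zpowers a) i) (hb2 l)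
  have haD : a ∉ commutator Q := by
    intro ha
    have htop : zpowers b ⊔ frattini Q = ⊤ := eq_top_iff.2 fun g _ => by
      obtain ⟨i, j, rfl⟩ := hab.2 g
      exact mul_mem (mem_sup_right (zpow_mem (PGroupFrattini.commutator_le_frattini hQ ha) i))
        (mem_sup_left (zpow_mem (mem_zpowers b) j))
    have hall := frattini_nongenerating htop
    obtain ⟨i, rfl⟩ := mem_zpowers_iff.1 (hall.ge (mem_top u))
    obtain ⟨j, rfl⟩ := mem_zpowers_iff.1 (hall.ge (mem_top v))
    exact huv ((Commute.refl b).zpow_zpow i j).eq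
  set c := α a
  have hcN : c ∉ N := by
    intro hcN
    have hNα : ∀ g, g ∈ N → α g ∈ N := fun g hg => by
      obtain ⟨i, rfl⟩ := mem_zpowers_iff.1 hg
      rw [map_zpow]
      exact zpow_mem hcN i
    by_cases htop : N = ⊤
    · obtain ⟨i, rfl⟩ := mem_zpowers_iff.1 (htop.ge (mem_top u))
      obtain ⟨j, rfl⟩ := mem_zpowers_iff.1 (htop.ge (mem_top v))
      exact huv ((Commute.refl a).zpow_zpow i j).eq
    have hbN : b ∉ N := fun hb => htop (eq_top_iff.2 fun g _ => by
      rcases hgen g with h | h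
      · exact h
      · simpa using mul_mem h hb)
    have hz' : (b : Q ⧸ N) ≠ 1 := fun h => hbN ((QuotientGroup.eq_one_iff b).1 h)
    have hf : ∀ g : Q, (g : Q ⧸ N) = 1 ∨ (g : Q ⧸ N) = b := fun g => by
      rcases hgen g with h | h
      · exact Or.inl ((QuotientGroup.eq_one_iff g).2 h)
      · exact Or.inr (mul_inv_eq_one.1 ((QuotientGroup.eq_one_iff _).2 h))
    refine hα (aut_eq_one_of_fixed_hom hQ hab hm hαm (QuotientGroup.mk' N) hz'
      (by rw [← QuotientGroup.mk_mul, QuotientGroup.eq_one_iff]; exact hDN (hsqD b)) hf (y := b) rfl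
      fun g => ?_)
    show ((α g : Q) : Q ⧸ N) = (g : Q ⧸ N)
    rcases hf g with h | h
    · rw [h, QuotientGroup.eq_one_iff]
      exact hNα g ((QuotientGroup.eq_one_iff g).1 h)
    · refine ((hf (α g)).resolve_left fun h' => ?_).trans h.symm
      have hfin : N.map α.toMonoidHom = N := by
        refine Subgroup.eq_of_le_of_card_ge ?_ (Subgroup.card_map_of_injective α.injective).ge
        rintro _ ⟨k, hk, rfl⟩
        exact hNα k hk
      obtain ⟨k, hk, hkg⟩ := hfin.ge ((QuotientGroup.eq_one_iff (α g)).1 h')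
      refine hz' ?_
      rw [← h, QuotientGroup.eq_one_iff]
      exact (show k = g from α.injective hkg) ▸ hk
  have hgen' : ∀ g : Q, ∃ i : ℤ, g = a ^ i ∨ g = a ^ i * c := by
    intro g
    rcases hgen g with h | h
    · obtain ⟨i, hi⟩ := mem_zpowers_iff.1 h
      exact ⟨i, Or.inl hi.symm⟩
    · have h2 := mul_mem h (inv_mem ((hgen c).resolve_left hcN))
      obtain ⟨i, hi⟩ := mem_zpowers_iff.1 h2
      exact ⟨i, Or.inr (by rw [hi]; group)⟩
  have hDc : ∀ g ∈ commutator Q, g * c = c * g := by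
    intro g hg
    obtain ⟨g', hg', rfl⟩ := (Subgroup.characteristic_iff_map_eq.1
      (inferInstance : (commutator Q).Characteristic) α).ge hg
    obtain ⟨i, rfl⟩ := mem_zpowers_iff.1 (hDN hg')
    show α _ * α a = α a * α _
    rw [← map_mul, ← map_mul, ((Commute.refl a).zpow_left i).eq]
  have hDcent : ∀ g ∈ commutator Q, ∀ q, g * q = q * g := by
    intro g hg q
    obtain ⟨i, hi⟩ := mem_zpowers_iff.1 (hDN hg)
    have h1 : ∀ k : ℤ, g * a ^ k = a ^ k * g := fun k => by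
      rw [← hi]
      exact ((Commute.refl a).zpow_zpow i k).eq
    obtain ⟨k, rfl | rfl⟩ := hgen' q
    · exact h1 k
    · rw [← mul_assoc, h1, mul_assoc, hDc g hg, ← mul_assoc]
  set w := ⁅c, a⁆
  have hwD : w ∈ commutator Q := commutator_mem_commutator (mem_top _) (mem_top _)
  have hca : c * a * c⁻¹ = w * a := by simp [w, commutatorElement_def]
  have hw2 : w * w = 1 := by
    have h1 : c * (a * a) * c⁻¹ = a * a := by rw [← hDc _ (hsqD a), mul_inv_cancel_right]
    rw [show c * (a * a) * c⁻¹ = (c * a * c⁻¹) * (c * a * c⁻¹) by group, hca,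
      show w * a * (w * a) = w * (a * w) * a by group, ← hDcent w hwD a,
      show w * (w * a) * a = w * w * (a * a) by group] at h1
    exact mul_eq_right.1 h1
  have hW : ∀ g ∈ commutator Q, g ∈ zpowers w := by
    have hWn : (zpowers w).Normal := ⟨fun g hg q => by
      rw [← hDcent g (zpowers_le.2 hwD hg) q, mul_inv_cancel_right]; exact hg⟩
    have hac : Commute (a : Q ⧸ zpowers w) (c : Q ⧸ zpowers w) := by
      refine (commutatorElement_eq_one_iff_mul_comm.1 ?_).symm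
      exact (QuotientGroup.eq_one_iff w).2 (mem_zpowers w)
    refine Subgroup.commutator_le.2 fun s _ t _ => (QuotientGroup.eq_one_iff ⁅s, t⁆).1 ?_
    show ⁅(s : Q ⧸ zpowers w), (t : Q ⧸ zpowers w)⁆ = 1
    rw [commutatorElement_eq_one_iff_mul_comm]
    have hpr : ∀ g : Q, Commute (g : Q ⧸ zpowers w) (a : Q ⧸ zpowers w) ∧
        Commute (g : Q ⧸ zpowers w) (c : Q ⧸ zpowers w) := by
      intro g
      obtain ⟨i, rfl | rfl⟩ := hgen' g
      · simp only [QuotientGroup.mk_zpow]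
        exact ⟨(Commute.refl _).zpow_left i, hac.zpow_left i⟩
      · simp only [QuotientGroup.mk_mul, QuotientGroup.mk_zpow]
        exact ⟨((Commute.refl _).zpow_left i).mul_left hac.symm,
          (hac.zpow_left i).mul_left (Commute.refl _)⟩
    obtain ⟨i, rfl | rfl⟩ := hgen' t
    · rw [QuotientGroup.mk_zpow]
      exact ((hpr s).1.zpow_right i).eq
    · rw [QuotientGroup.mk_mul, QuotientGroup.mk_zpow]
      exact (((hpr s).1.zpow_right i).mul_right (hpr s).2).eq
  have hw1 : w ≠ 1 := fun h => hd1 (Subgroup.mem_bot.1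
    (zpowers_eq_bot.2 h ▸ hW d (hd ▸ mem_zpowers d)))
  have haw : a * a = w := by
    obtain ⟨i, hi⟩ := mem_zpowers_iff.1 (hW _ (hsqD a))
    rcases Int.even_or_odd i with ⟨j, rfl⟩ | ⟨j, rfl⟩
    · rw [← two_mul, zpow_mul, zpow_two, hw2, one_zpow] at hi
      exfalso
      rcases eq_of_sq_eq_one (mem_zpowers a) (hDN hwD) (by rw [pow_two]; exact hi.symm)
        (by rw [pow_two]; exact hw2) hw1 with h | h
      · exact haD (h ▸ one_mem _)
      · exact haD (h ▸ hwD)
    · rwa [zpow_add, zpow_mul, zpow_two, hw2, one_zpow, zpow_one, one_mul, eq_comm] at hi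
  have hαw : α w = w := by
    obtain ⟨i, hi⟩ := mem_zpowers_iff.1 (hW (α w)
      ((Subgroup.characteristic_iff_map_eq.1 (inferInstance : (commutator Q).Characteristic) α).le
        ⟨w, hwD, rfl⟩))
    rcases Int.even_or_odd i with ⟨j, rfl⟩ | ⟨j, rfl⟩
    · rw [← two_mul, zpow_mul, zpow_two, hw2, one_zpow] at hi
      exact absurd ((MulEquiv.map_eq_one_iff α).1 hi.symm) hw1
    · rwa [zpow_add, zpow_mul, zpow_two, hw2, one_zpow, zpow_one, one_mul, eq_comm] at hi
  refine ⟨c, a, haw ▸ hw1, by rw [haw]; exact hw2, ?_, ?_⟩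
  · show α a * α a = _
    rw [← map_mul, haw, hαw]
  · rw [hca, eq_inv_iff_mul_eq_one, mul_assoc, haw, hw2]

/-- An element inverting an element of order four and squaring into the cyclic normal subgroup
forces maximal class. -/
theorem exceptional_of_inverted {P : Type*} [Group P] [Finite P] (hP : IsPGroup 2 P) {a b x c : P}
    (hab : Pair a b) (hc : c ∈ zpowers a) (hc2 : c * c ≠ 1) (hc4 : (c * c) * (c * c) = 1)
    (hxc : x * c * x⁻¹ = c⁻¹) (hx2 : x * x ∈ zpowers a) : Exceptional P := by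
  classical
  have : Fact (Nat.Prime 2) := ⟨Nat.prime_two⟩
  have hNn := hab.normal
  obtain ⟨r, hr⟩ := mem_zpowers_iff.1 (hab.1 x)
  obtain ⟨i, rfl⟩ := mem_zpowers_iff.1 hc
  set c := a ^ i
  have hord : orderOf c = 2 ^ 2 := orderOf_eq_prime_pow
    (by rw [pow_one, pow_two]; exact hc2) (by rw [show 2 ^ (1 + 1) = 2 * 2 from rfl, pow_mul, pow_two, pow_two]; exact hc4)
  have hconj : ∀ {y : P} {s : ℤ}, y * a * y⁻¹ = a ^ s → ∀ l : ℤ, y * a ^ l * y⁻¹ = (a ^ l) ^ s := by
    intro y s h l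
    rw [← conj_zpow, h, ← zpow_mul, ← zpow_mul, mul_comm]
  have h4r : (4 : ℤ) ∣ r + 1 := by
    have h1 : c ^ (r + 1) = 1 := by
      rw [zpow_add_one, ← hconj hr.symm i, hxc, inv_mul_cancel]
    have h2 := orderOf_dvd_iff_zpow_eq_one.2 h1
    rwa [hord] at h2
  have hxa : x ∉ zpowers a := fun h => hc2 (by
    obtain ⟨l, rfl⟩ := mem_zpowers_iff.1 h
    have h1 : a ^ l * c * (a ^ l)⁻¹ = c := by
      rw [((Commute.refl a).zpow_zpow l i).eq, mul_inv_cancel_right]
    rw [hxc, inv_eq_iff_mul_eq_one] at h1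
    exact h1)
  have hcases : ∀ g : P, g ∈ zpowers a ∨ g * x⁻¹ ∈ zpowers a := by
    have hπ : ∀ g : P, ∃ j : ℤ, (g : P ⧸ zpowers a) = (b : P ⧸ zpowers a) ^ j := fun g => by
      obtain ⟨i, j, rfl⟩ := hab.2 g
      refine ⟨j, ?_⟩
      rw [QuotientGroup.mk_mul, QuotientGroup.mk_zpow, QuotientGroup.mk_zpow,
        (QuotientGroup.eq_one_iff a).2 (mem_zpowers a), one_zpow, one_mul]
    set B := (b : P ⧸ zpowers a)
    set X := (x : P ⧸ zpowers a)
    have hX1 : X ≠ 1 := fun h => hxa ((QuotientGroup.eq_one_iff x).1 h)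
    have hXX : X * X = 1 := (QuotientGroup.eq_one_iff (x * x)).2 hx2
    have hB2 : B ^ 2 = 1 := by
      by_contra hB
      obtain ⟨k, hk⟩ := IsPGroup.iff_orderOf.1 (hP.to_quotient (zpowers a)) B
      obtain ⟨k, rfl⟩ : ∃ k', k = k' + 2 := ⟨k - 2, by
        by_contra hk2
        refine hB (orderOf_dvd_iff_pow_eq_one.1 ?_)
        rw [hk]
        exact pow_dvd_pow 2 (n := 1) (by omega)⟩
      have hinv : X = B ^ (2 * 2 ^ k) := by
        obtain ⟨j, hj⟩ := hπ x
        refine (eq_of_sq_eq_one (a := B) (y := X) (z := B ^ (2 * 2 ^ k))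
          (show X ∈ zpowers B from mem_zpowers_iff.2 ⟨j, hj.symm⟩) (npow_mem_zpowers B _) (by rw [pow_two]; exact hXX)
          ?_ ?_).resolve_left hX1
        · rw [← pow_mul, show 2 * 2 ^ k * 2 = 2 ^ (k + 2) by ring, ← hk, pow_orderOf_eq_one]
        · intro h
          have h' := orderOf_dvd_of_pow_eq_one h
          rw [hk, ← pow_succ'] at h'
          exact absurd ((Nat.pow_dvd_pow_iff_le_right (by norm_num)).1 h') (by omega)
      set y := b ^ 2 ^ k
      have hxy : x * (y * y)⁻¹ ∈ zpowers a := by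
        rw [← QuotientGroup.eq_one_iff, QuotientGroup.mk_mul, QuotientGroup.mk_inv,
          mul_inv_eq_one, ← pow_two, ← pow_mul, QuotientGroup.mk_pow, mul_comm]
        exact hinv
      obtain ⟨t, ht⟩ := mem_zpowers_iff.1 (hab.1 y)
      obtain ⟨l, hl⟩ := mem_zpowers_iff.1 hxy
      have h1 : x * c * x⁻¹ = c ^ (t * t) := by
        rw [show x = a ^ l * (y * y) by rw [hl]; group,
          show a ^ l * (y * y) * c * (a ^ l * (y * y))⁻¹ = a ^ l * (y * (y * c * y⁻¹) * y⁻¹) * (a ^ l)⁻¹ by group,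
          hconj ht.symm i, ← conj_zpow, hconj ht.symm i, ← zpow_mul]
        show a ^ l * (a ^ i) ^ (t * t) * (a ^ l)⁻¹ = _
        rw [← zpow_mul, ((Commute.refl a).zpow_zpow l _).eq, mul_inv_cancel_right]
      have h2 : c ^ (t * t + 1) = 1 := by rw [zpow_add_one, ← h1, hxc, inv_mul_cancel]
      have h3 := orderOf_dvd_iff_zpow_eq_one.2 h2
      rw [hord] at h3
      rcases Int.even_or_odd t with ⟨s, rfl⟩ | ⟨s, rfl⟩ <;>
      · obtain ⟨e, he⟩ := h3
        push_cast at he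
        ring_nf at he
        omega
    intro g
    obtain ⟨j, hj⟩ := hπ g
    obtain ⟨jx, hjx⟩ := hπ x
    have hev : ∀ j : ℤ, B ^ j = 1 ∨ B ^ j = B := fun j => by
      rcases Int.even_or_odd j with ⟨l, rfl⟩ | ⟨l, rfl⟩
      · left; rw [← two_mul, zpow_mul, zpow_ofNat, hB2, one_zpow]
      · right; rw [zpow_add, zpow_mul, zpow_ofNat, hB2, one_zpow, zpow_one, one_mul]
    have hXB : X = B := (hjx.trans ((hev jx).resolve_left fun h => hX1 (hjx.trans h)))
    rcases hev j with h | h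
    · exact Or.inl ((QuotientGroup.eq_one_iff g).1 (hj.trans h))
    · refine Or.inr ((QuotientGroup.eq_one_iff _).1 ?_)
      rw [QuotientGroup.mk_mul, QuotientGroup.mk_inv, mul_inv_eq_one]
      exact (hj.trans h).trans hXB.symm
  obtain ⟨q, hq⟩ := h4r
  set M := zpowers (a * a)
  have haM : a ∉ M := by
    intro h
    obtain ⟨l, hl⟩ := mem_zpowers_iff.1 h
    rw [← pow_two, ← zpow_natCast, ← zpow_mul] at hl
    have h1 : a ^ (((2 : ℕ) : ℤ) * l - 1) = 1 := by rw [zpow_sub_one, hl, mul_inv_cancel]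
    have ha1 : a ≠ 1 := fun e => hc2 (by simp [c, e])
    have h2 : (2 : ℤ) ∣ ((2 : ℕ) : ℤ) * l - 1 :=
      (Int.natCast_dvd_natCast.2 (hP.dvd_orderOf ha1)).trans (orderOf_dvd_iff_zpow_eq_one.2 h1)
    omega
  have hMn : M.Normal := zpowers_normal fun g => by
    obtain ⟨l, hl⟩ := mem_zpowers_iff.1 (hab.1 g)
    rw [show g * (a * a) * g⁻¹ = (g * a * g⁻¹) * (g * a * g⁻¹) by group, ← hl,
      ← (Commute.refl a).mul_zpow]
    exact zpow_mem (mem_zpowers _) l
  have hx2M : x * x ∈ M := by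
    obtain ⟨l, hl⟩ := mem_zpowers_iff.1 hx2
    have hfix : x * a ^ l * x⁻¹ = a ^ l := by rw [hl, mul_assoc, mul_inv_cancel_right]
    rw [hconj hr.symm l, ← zpow_mul] at hfix
    have h1 : a ^ (l * r - l) = 1 := by rw [zpow_sub, hfix, mul_inv_cancel]
    have h4a : (4 : ℤ) ∣ orderOf a := Int.natCast_dvd_natCast.2
      (show 4 ∣ orderOf a from (show orderOf c = 4 from hord) ▸ orderOf_dvd_of_mem_zpowers hc)
    obtain ⟨e, he⟩ := h4a.trans (orderOf_dvd_iff_zpow_eq_one.2 h1)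
    rw [← hl]
    rcases Int.even_or_odd l with ⟨s, rfl⟩ | ⟨s, rfl⟩
    · rw [← two_mul, zpow_mul, zpow_two]
      exact zpow_mem (mem_zpowers _) s
    · exfalso
      have hr' : r = 4 * q - 1 := by omega
      subst hr'
      ring_nf at he
      omega
  set A : P ⧸ M := (a : P ⧸ M)
  set X : P ⧸ M := (x : P ⧸ M)
  have hA2 : A * A = 1 := (QuotientGroup.eq_one_iff (a * a)).2 (mem_zpowers _)
  have hX2 : X * X = 1 := (QuotientGroup.eq_one_iff (x * x)).2 hx2M
  have hAX : X * A * X⁻¹ = A := by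
    show ((x * a * x⁻¹ : P) : P ⧸ M) = A
    rw [← hr, QuotientGroup.mk_zpow, show r = 2 * (2 * q - 1) + 1 by omega, zpow_add, zpow_mul,
      zpow_two, hA2, one_zpow, zpow_one, one_mul]
  have hcomm : Commute X A := mul_inv_eq_iff_eq_mul.1 hAX
  let f : Bool × Bool → P ⧸ M := fun s => (if s.1 then A else 1) * if s.2 then X else 1
  have hzA : ∀ l : ℤ, A ^ l = 1 ∨ A ^ l = A := fun l => by
    rcases Int.even_or_odd l with ⟨s, rfl⟩ | ⟨s, rfl⟩
    · left; rw [← two_mul, zpow_mul, zpow_two, hA2, one_zpow]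
    · right; rw [zpow_add, zpow_mul, zpow_two, hA2, one_zpow, zpow_one, one_mul]
  have hsurj : Function.Surjective f := by
    intro w
    obtain ⟨g, rfl⟩ := QuotientGroup.mk_surjective w
    rcases hcases g with h | h
    · obtain ⟨l, rfl⟩ := mem_zpowers_iff.1 h
      rw [QuotientGroup.mk_zpow]
      rcases hzA l with h | h <;> rw [h]
      · exact ⟨(false, false), by simp [f]⟩
      · exact ⟨(true, false), by simp [f]⟩
    · obtain ⟨l, hl⟩ := mem_zpowers_iff.1 h
      rw [show g = a ^ l * x by rw [hl]; group, QuotientGroup.mk_mul, QuotientGroup.mk_zpow]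
      rcases hzA l with h | h <;> rw [h]
      · exact ⟨(false, true), by simp [f, X]⟩
      · exact ⟨(true, true), by simp [f, X]⟩
  have hcq : ∀ u v : P ⧸ M, u * v = v * u := by
    intro u v
    obtain ⟨⟨s₁, s₂⟩, rfl⟩ := hsurj u
    obtain ⟨⟨t₁, t₂⟩, rfl⟩ := hsurj v
    refine Commute.eq ?_
    have := hcomm.symm
    cases s₁ <;> cases s₂ <;> cases t₁ <;> cases t₂ <;>
      simp [f, Commute.one_left, Commute.one_right, Commute.mul_left, Commute.mul_right,
        Commute.refl, hcomm, this]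
  have hA1 : A ≠ 1 := fun h => haM ((QuotientGroup.eq_one_iff a).1 h)
  have hMa : M ≤ zpowers a := zpowers_le.2 (mul_mem (mem_zpowers a) (mem_zpowers a))
  have hX1 : X ≠ 1 := fun h => hxa (hMa ((QuotientGroup.eq_one_iff x).1 h))
  have hXA : X ≠ A := fun h => hxa (by
    have h1 : a⁻¹ * x ∈ M := QuotientGroup.eq.1 h.symm
    simpa using mul_mem (mem_zpowers a) (hMa h1))
  have hAX1 : A * X ≠ 1 := fun h => hXA
    ((eq_inv_of_mul_eq_one_right h).trans (inv_eq_of_mul_eq_one_right hA2))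
  have hinj : Function.Injective f := by
    rintro ⟨s₁, s₂⟩ ⟨t₁, t₂⟩ h
    cases s₁ <;> cases s₂ <;> cases t₁ <;> cases t₂ <;>
      simp [f, hA1, hA1.symm, hX1, hX1.symm, hXA, hXA.symm, hAX1, hAX1.symm] at h ⊢
  have hcardM : Nat.card (P ⧸ M) = 4 := by
    rw [← Nat.card_eq_of_bijective f ⟨hinj, hsurj⟩]
    simp
  have hDM : commutator P = M := by
    apply le_antisymm
    · exact Subgroup.commutator_le.2 fun u _ v _ => (QuotientGroup.eq_one_iff ⁅u, v⁆).1
        (commutatorElement_eq_one_iff_mul_comm.2 (hcq (u : P ⧸ M) (v : P ⧸ M)) :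
          ⁅(u : P ⧸ M), (v : P ⧸ M)⁆ = 1)
    · have hw : (a * a) ^ (2 * q - 1) ∈ commutator P := by
        rw [← pow_two, ← zpow_natCast, ← zpow_mul,
          show ((2 : ℕ) : ℤ) * (2 * q - 1) = r - 1 by push_cast; omega, zpow_sub_one, hr]
        exact commutator_mem_commutator (mem_top x) (mem_top a)
      refine zpowers_le.2 ?_
      obtain ⟨k, hk⟩ := IsPGroup.iff_orderOf.1 hP (a * a)
      have hcop : IsCoprime (2 * q - 1) ((2 : ℤ) ^ k) := by
        refine IsCoprime.pow_right ?_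
        exact ⟨-1, q, by ring⟩
      obtain ⟨s, t, hst⟩ := hcop
      have h1 : (a * a) ^ ((2 : ℤ) ^ k) = 1 := by
        have h2 := pow_orderOf_eq_one (a * a)
        rw [hk, ← zpow_natCast] at h2
        push_cast at h2
        exact h2
      rw [← zpow_one (a * a), ← hst, zpow_add, mul_comm s, mul_comm t, zpow_mul, zpow_mul, h1,
        one_zpow, mul_one]
      exact zpow_mem hw s
  have hexp2 : ∀ w : Abelianization P, w ^ 2 = 1 := by
    intro w
    obtain ⟨g, rfl⟩ := QuotientGroup.mk_surjective (s := commutator P) w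
    refine (QuotientGroup.eq_one_iff (g ^ 2)).2 ?_
    rw [hDM, ← QuotientGroup.eq_one_iff, QuotientGroup.mk_pow]
    obtain ⟨⟨s₁, s₂⟩, hs⟩ := hsurj g
    rw [← hs]
    cases s₁ <;> cases s₂ <;> simp [f, pow_two, hA2, hX2]
    rw [mul_assoc A X, ← mul_assoc X A X, hcomm.eq, mul_assoc A X X, hX2, mul_one, hA2]
  have habel : Nat.card (Abelianization P) = 4 := by
    show Nat.card (P ⧸ commutator P) = 4
    rw [← Subgroup.index_eq_card, hDM, Subgroup.index_eq_card, hcardM]
  rcases Cfsg.Agent.S4399.result hP habel hexp2 with h4 | h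
  · exfalso
    have h1 : Nat.card M * 4 = Nat.card P := by
      rw [← hcardM]
      exact (mul_comm _ _).trans (Subgroup.card_eq_card_quotient_mul_card_subgroup M).symm
    have hM : Nat.card M = 1 := by omega
    have haa : a * a = 1 := by
      rw [← zpowers_eq_bot]
      exact Subgroup.eq_bot_of_card_eq M hM
    refine hc2 ?_
    show a ^ i * a ^ i = 1
    rw [← (Commute.refl a).mul_zpow, haa, one_zpow]
  · rcases h with ⟨k, hk⟩ | ⟨k, hk, s, t, hs, ht, hst⟩ | ⟨k, hk⟩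
    · exact Or.inl ⟨_, hk⟩
    · exact Or.inr (Or.inr ⟨k + 3, by omega, hk, s, t, hs, ht, hst⟩)
    · exact Or.inr (Or.inl ⟨_, hk⟩)

theorem exceptional_of_involutions {P : Type*} [Group P] [Finite P] (hP : IsPGroup 2 P) {a b t u : P}
    (hab : Pair a b) (ht : t * t = 1) (hu : u * u = 1) (htu : t * u ≠ u * t) : Exceptional P := by
  have : Fact (Nat.Prime 2) := ⟨Nat.prime_two⟩
  have hNn := hab.normal
  have hcyc : ∀ g : P, (g : P ⧸ zpowers a) ∈ zpowers (b : P ⧸ zpowers a) := fun g => by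
    obtain ⟨i, j, rfl⟩ := hab.2 g
    rw [QuotientGroup.mk_mul, QuotientGroup.mk_zpow, QuotientGroup.mk_zpow,
      (QuotientGroup.eq_one_iff a).2 (mem_zpowers a), one_zpow, one_mul]
    exact zpow_mem (mem_zpowers _) j
  have hout : ∀ w : P, w * w = 1 → ∀ v, w * v ≠ v * w → w ∉ zpowers a := by
    intro w hw v hne hwN
    rcases eq_of_sq_eq_one (hNn.conj_mem w hwN v) hwN (by rw [pow_two,
      show v * w * v⁻¹ * (v * w * v⁻¹) = v * (w * w) * v⁻¹ by group, hw, mul_one, mul_inv_cancel])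
      (by rw [pow_two, hw]) (fun h => hne (by simp [h])) with h | h
    · refine hne ?_
      rw [mul_inv_eq_one] at h
      rw [mul_eq_left.1 h]
      simp
    · exact hne (mul_inv_eq_iff_eq_mul.1 h).symm
  set c := t * u
  have hcN : c ∈ zpowers a := by
    rw [← QuotientGroup.eq_one_iff]
    show (t : P ⧸ zpowers a) * (u : P ⧸ zpowers a) = 1
    have h1 : ∀ w : P, w * w = 1 → (w : P ⧸ zpowers a) ^ 2 = 1 := fun w hw => by
      rw [pow_two, ← QuotientGroup.mk_mul, hw]; rfl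
    rcases eq_of_sq_eq_one (hcyc t) (hcyc u) (h1 t ht) (h1 u hu)
      (fun h => hout u hu t (fun e => htu e.symm) ((QuotientGroup.eq_one_iff u).1 h)) with h | h
    · exact absurd ((QuotientGroup.eq_one_iff t).1 h) (hout t ht u htu)
    · rw [h, ← pow_two]
      exact h1 u hu
  have hc1 : c * c ≠ 1 := by
    intro h
    refine htu ?_
    have h1 : t * u = (t * u)⁻¹ := eq_inv_of_mul_eq_one_left h
    show t * u = u * t
    rw [h1, mul_inv_rev, inv_eq_of_mul_eq_one_right ht, inv_eq_of_mul_eq_one_right hu]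
  obtain ⟨k, hk⟩ := IsPGroup.iff_orderOf.1 hP c
  obtain ⟨k, rfl⟩ : ∃ k', k = k' + 2 := ⟨k - 2, by
    by_contra hk2
    refine hc1 ?_
    rw [← pow_two]
    exact orderOf_dvd_iff_pow_eq_one.1 (hk ▸ pow_dvd_pow 2 (n := 1) (by omega))⟩
  refine exceptional_of_inverted (x := t) (c := c ^ 2 ^ k) hP hab (pow_mem hcN _) ?_ ?_ ?_
    (by rw [ht]; exact one_mem _)
  · rw [← pow_add, ← two_mul, ← pow_succ']
    intro h
    have h' := orderOf_dvd_of_pow_eq_one h
    rw [hk] at h'
    exact absurd ((Nat.pow_dvd_pow_iff_le_right (by norm_num)).1 h') (by omega)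
  · rw [← pow_add, ← pow_add, show 2 ^ k + 2 ^ k + (2 ^ k + 2 ^ k) = 2 ^ (k + 2) by ring, ← hk,
      pow_orderOf_eq_one]
  · rw [← conj_pow, ← inv_pow]
    congr 1
    show t * (t * u) * t⁻¹ = (t * u)⁻¹
    rw [← mul_assoc, ht, one_mul, mul_inv_rev, inv_eq_of_mul_eq_one_right hu]

theorem exceptional_of_quaternion {P : Type*} [Group P] [Finite P] (hP : IsPGroup 2 P) {a b x y : P}
    (hab : Pair a b) (hy : y * y ≠ 1) (hy4 : (y * y) * (y * y) = 1) (hxy : x * x = y * y)
    (hconj : x * y * x⁻¹ = y⁻¹) : Exceptional P := by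
  have hNn := hab.normal
  have hzN : y * y ∈ zpowers a := by
    have h1 : ⁅x, y⁆ ∈ zpowers a :=
      hab.commutator_le (commutator_mem_commutator (mem_top _) (mem_top _))
    rw [commutatorElement_def, hconj] at h1
    simpa using inv_mem h1
  by_cases hyN : y ∈ zpowers a
  · exact exceptional_of_inverted hP hab hyN hy hy4 hconj (hxy ▸ hzN)
  have hzx : Commute (y * y) x := by rw [← hxy]; exact (Commute.refl x).mul_left (Commute.refl x)
  by_cases hxN : x ∈ zpowers a
  · refine exceptional_of_inverted (x := y) hP hab hxN (hxy ▸ hy) (hxy ▸ hy4) ?_ hzN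
    have h1 : x * y = y⁻¹ * x := mul_inv_eq_iff_eq_mul.1 hconj
    have h2 : y * x * y⁻¹ * x = 1 := by
      rw [mul_assoc (y * x), ← h1, show y * x * (x * y) = y * (x * x) * y by group, hxy,
        show y * (y * y) * y = y * y * (y * y) by group, hy4]
    exact eq_inv_of_mul_eq_one_left h2
  have hxyN : x * y ∈ zpowers a := by
    have hcyc : ∀ g : P, (g : P ⧸ zpowers a) ∈ zpowers (b : P ⧸ zpowers a) := fun g => by
      obtain ⟨i, j, rfl⟩ := hab.2 g
      rw [QuotientGroup.mk_mul, QuotientGroup.mk_zpow, QuotientGroup.mk_zpow,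
        (QuotientGroup.eq_one_iff a).2 (mem_zpowers a), one_zpow, one_mul]
      exact zpow_mem (mem_zpowers _) j
    rw [← QuotientGroup.eq_one_iff]
    show (x : P ⧸ zpowers a) * (y : P ⧸ zpowers a) = 1
    have h1 : ∀ w : P, w * w ∈ zpowers a → (w : P ⧸ zpowers a) ^ 2 = 1 := fun w hw => by
      rw [pow_two]; exact (QuotientGroup.eq_one_iff (w * w)).2 hw
    rcases eq_of_sq_eq_one (hcyc x) (hcyc y) (h1 x (hxy ▸ hzN)) (h1 y hzN)
      (fun h => hyN ((QuotientGroup.eq_one_iff y).1 h)) with h | h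
    · exact absurd ((QuotientGroup.eq_one_iff x).1 h) hxN
    · rw [h, ← pow_two]; exact h1 y hzN
  have hsq : x * y * (x * y) = y * y := by
    rw [show x * y * (x * y) = x * y * x⁻¹ * (x * x) * y by group, hconj, hxy]
    group
  refine exceptional_of_inverted (x := x) (c := x * y) hP hab hxyN (hsq ▸ hy) (hsq ▸ hy4) ?_
    (hxy ▸ hzN)
  refine eq_inv_of_mul_eq_one_left ?_
  rw [show x * (x * y) * x⁻¹ * (x * y) = x * x * (y * y) by group, hxy, hy4]

/-- Outside the exceptional case, commutation with an element squaring into an abelian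
subgroup gives squares. -/
theorem commutator_square {P : Type*} [Group P] [Finite P] (hP : IsPGroup 2 P) {a b : P}
    (hab : Pair a b) (Q₀ : Subgroup P) (hcomm : ∀ u ∈ Q₀, ∀ v ∈ Q₀, u * v = v * u) {n : ℕ}
    (hn : 1 ≤ n) (hexp : ∀ q ∈ Q₀, q ^ 2 ^ (n + 1) = 1)
    (hhom : ∀ g ∈ Q₀, ∃ q ∈ Q₀, q ^ 2 ^ n ∉ zpowers (g ^ 2 ^ n))
    {x : P} (hx : ∀ q ∈ Q₀, x * q * x⁻¹ ∈ Q₀) (hx2 : x * x ∈ Q₀) (hxQ : x ∉ Q₀)
    {q : P} (hq : q ∈ Q₀) : ∃ w ∈ Q₀, x * q * x⁻¹ * q⁻¹ = w * w := by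
  have hNn := hab.normal
  set N := zpowers a
  let H : Subgroup P := Q₀ ⊔ zpowers x
  have hH : ∀ h ∈ H, h ∈ Q₀ ∨ h * x⁻¹ ∈ Q₀ := by
    let K : Subgroup P :=
      { carrier := {h | h ∈ Q₀ ∨ h * x⁻¹ ∈ Q₀}
        one_mem' := Or.inl (one_mem _)
        mul_mem' := by
          intro u v hu hv
          have hconj : ∀ v, v ∈ Q₀ → x * v * x⁻¹ ∈ Q₀ := hx
          rcases hu with hu | hu <;> rcases hv with hv | hv
          · exact Or.inl (mul_mem hu hv)
          · exact Or.inr (by rw [mul_assoc]; exact mul_mem hu hv)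
          · refine Or.inr ?_
            rw [show u * v * x⁻¹ = u * x⁻¹ * (x * v * x⁻¹) by group]
            exact mul_mem hu (hconj v hv)
          · refine Or.inl ?_
            rw [show u * v = u * x⁻¹ * (x * (v * x⁻¹) * x⁻¹) * (x * x) by group]
            exact mul_mem (mul_mem hu (hconj _ hv)) hx2
        inv_mem' := by
          intro u hu
          rcases hu with hu | hu
          · exact Or.inl (inv_mem hu)
          · refine Or.inr ?_
            rw [show u⁻¹ * x⁻¹ = x⁻¹ * ((u * x⁻¹)⁻¹) * x⁻¹ by group,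
              show x⁻¹ * (u * x⁻¹)⁻¹ * x⁻¹ = (x * x)⁻¹ * (x * (u * x⁻¹)⁻¹ * x⁻¹) by group]
            exact mul_mem (inv_mem hx2) (hx _ (inv_mem hu)) }
    intro h hh
    exact (sup_le (fun q hq => Or.inl hq) (zpowers_le.2 (Or.inr (by simp))) : H ≤ K) hh
  obtain ⟨g, hg⟩ : ∃ g, ∀ h ∈ H, ∃ k : ℤ, h * (g ^ k)⁻¹ ∈ N ⊓ H ∧ g ∈ H := by
    have : IsCyclic (P ⧸ N) := ⟨⟨(b : P ⧸ N), fun w => by
      obtain ⟨w, rfl⟩ := QuotientGroup.mk_surjective w
      obtain ⟨i, j, rfl⟩ := hab.2 w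
      rw [QuotientGroup.mk_mul, QuotientGroup.mk_zpow, QuotientGroup.mk_zpow,
        (QuotientGroup.eq_one_iff a).2 (mem_zpowers a), one_zpow, one_mul]
      exact zpow_mem (mem_zpowers _) j⟩⟩
    obtain ⟨G, hG⟩ := (Subgroup.isCyclic_iff_exists_zpowers_eq_top
      (H.map (QuotientGroup.mk' N))).1 inferInstance
    obtain ⟨g, hgH, rfl⟩ := hG.le (mem_zpowers G)
    refine ⟨g, fun h hh => ?_⟩
    obtain ⟨k, hk⟩ := mem_zpowers_iff.1 (hG.ge ⟨h, hh, rfl⟩)
    refine ⟨k, Subgroup.mem_inf.2 ⟨?_, mul_mem hh (inv_mem (zpow_mem hgH k))⟩, hgH⟩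
    rw [← QuotientGroup.eq_one_iff]
    show QuotientGroup.mk' N (h * (g ^ k)⁻¹) = 1
    rw [map_mul, map_inv, map_zpow, hk, mul_inv_cancel]
  have hgH : g ∈ H := (hg 1 (one_mem _)).choose_spec.2
  set e := x * q * x⁻¹ * q⁻¹
  have heQ : e ∈ Q₀ := mul_mem (hx q hq) (inv_mem hq)
  have heN : e ∈ N := hab.commutator_le (commutator_mem_commutator (mem_top x) (mem_top q))
  by_cases hcase : ∃ m ∈ N, m * x⁻¹ ∈ Q₀
  · obtain ⟨m, hmN, hm⟩ := hcase
    have hxe : x * e * x⁻¹ = e := by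
      obtain ⟨i, hi⟩ := mem_zpowers_iff.1 heN
      obtain ⟨j, hj⟩ := mem_zpowers_iff.1 hmN
      have h1 : m * e = e * m := by rw [← hi, ← hj]; exact ((Commute.refl a).zpow_zpow j i).eq
      have h2 := hcomm _ (inv_mem hm) e heQ
      calc x * e * x⁻¹ = (m * x⁻¹)⁻¹ * (m * e) * m⁻¹ * (m * x⁻¹) := by group
        _ = (m * x⁻¹)⁻¹ * e * (m * x⁻¹) := by rw [h1]; group
        _ = e := by rw [h2]; group
    have he2 : e * e = 1 := by
      have h1 : x * x * q * (x * x)⁻¹ = q := by rw [hcomm _ hx2 q hq, mul_inv_cancel_right]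
      rw [show x * x * q * (x * x)⁻¹ = x * (e * q) * x⁻¹ by simp [e, mul_assoc],
        show x * (e * q) * x⁻¹ = x * e * x⁻¹ * (x * q * x⁻¹) by group, hxe,
        show x * q * x⁻¹ = e * q by simp [e, mul_assoc], ← mul_assoc, mul_eq_right] at h1
      exact h1
    obtain ⟨g₀, hg₀, hgg⟩ : ∃ g₀ ∈ Q₀, g₀ * g⁻¹ ∈ N := by
      rcases hH g hgH with h | h
      · exact ⟨g, h, by simp⟩
      · refine ⟨(g * x⁻¹) * (m * x⁻¹)⁻¹, mul_mem h (inv_mem hm), ?_⟩
        rw [show g * x⁻¹ * (m * x⁻¹)⁻¹ * g⁻¹ = g * m⁻¹ * g⁻¹ by group]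
        exact hNn.conj_mem _ (inv_mem hmN) g
    obtain ⟨q₁, hq₁, hq₁'⟩ := hhom g₀ hg₀
    obtain ⟨k, ⟨hwN, -⟩, -⟩ := hg q₁ (mem_sup_left hq₁)
    set w := q₁ * (g₀ ^ k)⁻¹
    have hwQ : w ∈ Q₀ := mul_mem hq₁ (inv_mem (zpow_mem hg₀ k))
    have hwN' : w ∈ N := by
      have h1 : g ^ k * (g₀ ^ k)⁻¹ ∈ N := by
        rw [← QuotientGroup.eq_one_iff, QuotientGroup.mk_mul, QuotientGroup.mk_inv,
          QuotientGroup.mk_zpow, QuotientGroup.mk_zpow, mul_inv_eq_one]
        congr 1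
        exact ((QuotientGroup.eq_one_iff _).2 hgg |> mul_inv_eq_one.1).symm
      simpa [w, mul_assoc] using mul_mem hwN h1
    have hwn : w ^ 2 ^ n ≠ 1 := by
      intro h
      refine hq₁' ?_
      rw [show q₁ = w * g₀ ^ k by simp [w],
        (show Commute w (g₀ ^ k) from hcomm _ hwQ _ (zpow_mem hg₀ k)).mul_pow, h, one_mul,
        show (g₀ ^ k) ^ 2 ^ n = (g₀ ^ 2 ^ n) ^ k by
          rw [← zpow_natCast, ← zpow_natCast g₀, ← zpow_mul, ← zpow_mul, mul_comm]]
      exact zpow_mem (mem_zpowers _) k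
    rcases eq_of_sq_eq_one heN (pow_mem hwN' _) (by rw [pow_two, he2])
      (by rw [← pow_mul, ← pow_succ, hexp w hwQ]) hwn with h | h
    · exact ⟨1, one_mem _, by rw [h, mul_one]⟩
    · refine ⟨w ^ 2 ^ (n - 1), pow_mem hwQ _, ?_⟩
      rw [h, ← pow_add, ← two_mul, ← pow_succ', Nat.sub_add_cancel hn]
  · simp only [not_exists, not_and] at hcase
    have hgQ : g ∉ Q₀ := by
      intro hgQ
      obtain ⟨k, ⟨hkN, hkH⟩, -⟩ := hg x (mem_sup_right (mem_zpowers x))
      rcases hH _ hkH with h | h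
      · exact hxQ (by simpa using mul_mem h (zpow_mem hgQ k))
      · exact hcase _ hkN h
    have hgx : g * x⁻¹ ∈ Q₀ := (hH g hgH).resolve_left hgQ
    obtain ⟨k, ⟨hwN, hwH⟩, -⟩ := hg q (mem_sup_left hq)
    set w := q * (g ^ k)⁻¹
    have hwQ : w ∈ Q₀ := (hH w hwH).resolve_right (hcase w hwN)
    obtain ⟨i, hi⟩ := mem_zpowers_iff.1 hwN
    obtain ⟨t, ht⟩ := mem_zpowers_iff.1 (hab.1 g)
    have he : e = a ^ (i * (t - 1)) := by
      have hxg : x * q * x⁻¹ = g * q * g⁻¹ := by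
        rw [show g * q * g⁻¹ = g * x⁻¹ * (x * q * x⁻¹) * (g * x⁻¹)⁻¹ by group,
          hcomm _ hgx _ (hx q hq), mul_inv_cancel_right]
      have hqw : q = w * g ^ k := by simp [w]
      have h1 : e = g * w * g⁻¹ * w⁻¹ := by
        show x * q * x⁻¹ * q⁻¹ = _
        rw [hxg, hqw]
        simp only [mul_inv_rev, mul_assoc]
        rw [← mul_assoc (g ^ k) g⁻¹, ((Commute.refl g).zpow_left k).inv_right.eq]
        simp [mul_assoc]
      rw [h1, ← hi, ← conj_zpow, ← ht, ← zpow_mul, ← zpow_neg, ← zpow_add]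
      congr 1
      ring
    by_cases ha1 : a = 1
    · exact ⟨1, one_mem _, by rw [he, ha1, one_zpow, mul_one]⟩
    have hodd : Odd t := by
      by_contra hne
      obtain ⟨s, rfl⟩ := Int.not_odd_iff_even.1 hne
      have h2 : orderOf (g * a * g⁻¹) = orderOf a := by
        exact MulEquiv.orderOf_eq (MulAut.conj g) a
      rw [← ht, ← two_mul, zpow_mul] at h2
      have h3 : orderOf ((a ^ (2 : ℤ)) ^ s) ∣ orderOf (a ^ 2) := by
        rw [zpow_ofNat]
        exact orderOf_dvd_of_mem_zpowers (zpow_mem (mem_zpowers _) s)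
      rw [h2, orderOf_pow, Nat.gcd_eq_right (hP.dvd_orderOf ha1)] at h3
      have h5 := Nat.le_of_dvd (Nat.div_pos (Nat.le_of_dvd (orderOf_pos a) (hP.dvd_orderOf ha1)) two_pos) h3
      have h6 := orderOf_pos a
      omega
    obtain ⟨s, hs⟩ := hodd
    refine ⟨w ^ s, zpow_mem hwQ s, ?_⟩
    rw [he, ← zpow_add, ← hi, ← zpow_mul]
    congr 1
    subst hs
    ring

end Cfsg.Agent.Lib.Fusion.MetaTwo
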