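import Cfsg.Agent.S5125
import Cfsg.Agent.Lib.Fusion.Chain

/-!
Fusion systems over 2-groups in which every element is conjugate to a central one.
-/

set_option autoImplicit false

namespace Cfsg.Agent.Lib.Fusion.CentralClasses

open Cfsg Cfsg.FusionSystem
open scoped commutatorElement

variable {Ω : Type*} [Group Ω] {S : Subgroup Ω} {F : FusionSystem S}

theorem conjElt_symm {x y : Ω} (h : F.IsConjElt x y) : F.IsConjElt y x := by
  obtain ⟨φ, hφ, rfl⟩ := h
  obtain ⟨ω, hω, hωe⟩ := F.inv_mem hφ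
  have hle : Subgroup.zpowers (φ ⟨x, Subgroup.mem_zpowers x⟩) ≤ φ.range :=
    Subgroup.zpowers_le.2 ⟨_, rfl⟩
  exact ⟨_, restrict_mem hle hω, hωe ⟨x, Subgroup.mem_zpowers x⟩⟩

theorem conjElt_trans {x y z : Ω} (h : F.IsConjElt x y) (h' : F.IsConjElt y z) : F.IsConjElt x z := by
  obtain ⟨φ, hφ, rfl⟩ := h
  obtain ⟨ψ, hψ, rfl⟩ := h'
  have hmem : ∀ w : Subgroup.zpowers x, φ w ∈ Subgroup.zpowers (φ ⟨x, Subgroup.mem_zpowers x⟩) := by
    rintro ⟨_, k, rfl⟩
    refine ⟨k, ?_⟩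
    show φ ⟨x, _⟩ ^ k = _
    rw [← map_zpow]
    rfl
  exact ⟨_, F.comp_mem hφ hψ hmem, rfl⟩

theorem conjElt_of_mem {P : Subgroup Ω} {φ : P →* Ω} (hφ : φ ∈ F.Hom P) (x : P) :
    F.IsConjElt x (φ x) :=
  ⟨_, restrict_mem (Subgroup.zpowers_le.2 x.2) hφ, rfl⟩

theorem conjElt_inv {x y : Ω} (h : F.IsConjElt x y) : F.IsConjElt x⁻¹ y⁻¹ := by
  obtain ⟨φ, hφ, rfl⟩ := h
  have := conjElt_of_mem hφ ⟨x, Subgroup.mem_zpowers x⟩⁻¹
  rwa [map_inv] at this

theorem conjElt_conj {x g : Ω} (hx : x ∈ S) (hg : g ∈ S) : F.IsConjElt x (g * x * g⁻¹) :=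
  ⟨_, F.conj_mem (Subgroup.zpowers_le.2 hx) hg, by simp [conjHom]⟩

/-- Fused central elements are fused by an automorphism of `S`. -/
theorem exists_aut [Finite S] (hS : IsPGroup 2 S) (hF : F.IsSaturated 2) {w w' : Ω}
    (hw : w ∈ S ⊓ Subgroup.centralizer (S : Set Ω)) (hw' : w' ∈ S ⊓ Subgroup.centralizer (S : Set Ω))
    (h : F.IsConjElt w w') : ∃ α ∈ F.autGroup S, ((α ⟨w, hw.1⟩ : S) : Ω) = w' := by
  obtain ⟨φ, hφ, rfl⟩ := h
  set Q := ((Subgroup.zpowers w).subgroupOf (Subgroup.zpowers w)).map φ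
  obtain ⟨e, he, hee⟩ : ∃ e : Subgroup.zpowers w ≃* Q, IsIso F e ∧ ∀ x, (e x : Ω) = φ x :=
    exists_iso_restrict le_rfl hφ
  have hQle : Q ≤ Subgroup.zpowers (φ ⟨w, Subgroup.mem_zpowers w⟩) := by
    rintro _ ⟨⟨_, k, rfl⟩, -, rfl⟩
    refine ⟨k, ?_⟩
    show φ ⟨w, _⟩ ^ k = _
    rw [← map_zpow]
    rfl
  have hQ : F.IsFullyCentralized Q := by
    refine ⟨he.tgt_le, fun R _ => ?_⟩
    have hfull : centralizerIn S Q = S := le_antisymm (centralizerIn_le S Q) fun g hg =>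
      mem_centralizerIn.2 ⟨hg, fun x hx => by
        obtain ⟨k, rfl⟩ := hQle hx
        exact ((show Commute g (φ ⟨w, _⟩) from hw'.2 g hg).zpow_right k).eq.symm⟩
    rw [hfull]
    exact Subgroup.card_le_of_le (centralizerIn_le S R)
  obtain ⟨θ, hθ, hθe⟩ := receptive_extend (fullyCentralized_receptive hS hF hQ) he
  have hle : S ≤ extender S (Subgroup.zpowers w) (Q.subtype.comp e.toMonoidHom) := fun g hg =>
    centralizerIn_le_extender S _ _ (mem_centralizerIn.2 ⟨hg, by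
      rintro _ ⟨k, rfl⟩
      exact ((show Commute g w from hw.2 g hg).zpow_right k).eq.symm⟩)
  obtain ⟨α, hα, hαe⟩ := exists_aut_of_self_map (restrict_mem hle hθ) fun x => val_mem hθ (Subgroup.inclusion hle x)
  refine ⟨α, hα, (hαe _).trans ?_⟩
  exact (hθe ⟨w, Subgroup.mem_zpowers w⟩ _).trans (hee _)

theorem abelian [Finite S] (hS : IsPGroup 2 S) (hF : F.IsSaturated 2)
    (h : ∀ x ∈ S, ∃ z ∈ S ⊓ Subgroup.centralizer (S : Set Ω), F.IsConjElt x z) :
    IsMulCommutative S := by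
  classical
  have := Fact.mk Nat.prime_two
  set Z := S ⊓ Subgroup.centralizer (S : Set Ω) with hZ
  have := finite_mulAut (le_rfl : S ≤ S)
  obtain ⟨Q, hSQ, hA, -⟩ := hF S le_rfl
  have hQS : Q = S := by
    have := finite_of_le hA.1
    exact (eq_of_le_of_natCard_le hA.1 (isConj_card hSQ).le)
  subst hQS
  obtain ⟨-, hsyl⟩ := isFullyAutomized_iff.1 hA
  have hfixI : ∀ β ∈ autInducedBy Q Q, ∀ (w : Ω) (hw : w ∈ Z), ((β ⟨w, hw.1⟩ : Q) : Ω) = w := by
    intro β hβ w hw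
    obtain ⟨g, hg, hge⟩ := mem_autInducedBy.1 hβ
    rw [hge ⟨w, hw.1⟩]
    show g * w * g⁻¹ = w
    rw [hw.2 g hg, mul_inv_cancel_right]
  set I := (autInducedBy Q Q).subgroupOf (F.autGroup Q) with hI
  have hIn : I.Normal := by
    constructor
    intro a ha b
    obtain ⟨g, hg, hge⟩ := mem_autInducedBy.1 (show (a : MulAut Q) ∈ autInducedBy Q Q from ha)
    refine mem_autInducedBy.2 ⟨(((b : MulAut Q) ⟨g, hg⟩ : Q) : Ω), ((b : MulAut Q) ⟨g, hg⟩).2, fun x => ?_⟩
    show (((b : MulAut Q) ((a : MulAut Q) ((b : MulAut Q).symm x)) : Q) : Ω) = _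
    have h1 : (a : MulAut Q) ((b : MulAut Q).symm x) = ⟨g, hg⟩ * (b : MulAut Q).symm x * ⟨g, hg⟩⁻¹ :=
      Subtype.ext (hge _)
    rw [h1, map_mul, map_mul, map_inv, MulEquiv.apply_symm_apply]
    rfl
  have hodd : Odd I.index := Nat.not_even_iff_odd.1 fun he => hsyl.2.2 (even_iff_two_dvd.1 he)
  -- elements fused with their inverses are involutions
  have hreal : ∀ x ∈ Q, F.IsConjElt x x⁻¹ → x * x = 1 := by
    intro x hx hxx
    obtain ⟨w, hw, hxw⟩ := h x hx
    have hww : F.IsConjElt w w⁻¹ := conjElt_trans (conjElt_trans (conjElt_symm hxw) hxx) (conjElt_inv hxw)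
    obtain ⟨α, hα, hαw⟩ := exists_aut hS hF hw (inv_mem hw) hww
    have hαw' : α ⟨w, hw.1⟩ = (⟨w, hw.1⟩ : Q)⁻¹ := Subtype.ext hαw
    have hk : (⟨α, hα⟩ : F.autGroup Q) ^ I.index ∈ I := Subgroup.pow_index_mem I _
    have h1 := hfixI _ hk w hw
    obtain ⟨j, hj⟩ := hodd
    have h2 : ∀ j : ℕ, (α ^ (2 * j)) ⟨w, hw.1⟩ = ⟨w, hw.1⟩ := by
      intro j
      induction j with
      | zero => rfl
      | succ j ih =>
        rw [show 2 * (j + 1) = 2 * j + 1 + 1 by omega, pow_succ, pow_succ, MulAut.mul_apply, MulAut.mul_apply,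
          hαw', map_inv α, hαw', inv_inv, ih]
    rw [Subgroup.subtype_apply, Subgroup.coe_pow, hj, pow_succ', MulAut.mul_apply] at h1
    simp only [h2 j] at h1
    rw [hαw] at h1
    obtain ⟨φ, hφ, hφw⟩ := hxw
    have h3 : φ (⟨x, Subgroup.mem_zpowers x⟩ * ⟨x, Subgroup.mem_zpowers x⟩) = φ 1 := by
      rw [map_mul, map_one, hφw]
      nth_rw 1 [← h1]
      exact inv_mul_cancel w
    exact congrArg Subtype.val (F.injective_of_mem hφ h3)
  -- the involutions form a normal elementary abelian subgroup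
  have hcomm : ∀ s ∈ Q, ∀ t ∈ Q, s * s = 1 → t * t = 1 → s * t = t * s := by
    intro s hs t ht h1 h2
    have hsi : s⁻¹ = s := inv_eq_of_mul_eq_one_right h1
    have hti : t⁻¹ = t := inv_eq_of_mul_eq_one_right h2
    have hc := conjElt_conj (F := F) (mul_mem hs ht) hs
    rw [show s * (s * t) * s⁻¹ = (s * t)⁻¹ by rw [mul_inv_rev, hsi, hti, ← mul_assoc, h1, one_mul]] at hc
    have h3 := hreal _ (mul_mem hs ht) hc
    have h4 : s * t = (s * t)⁻¹ := eq_inv_of_mul_eq_one_left h3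
    rwa [mul_inv_rev, hsi, hti] at h4
  set E : Subgroup Ω :=
    { carrier := {g | g ∈ Q ∧ g * g = 1}
      one_mem' := ⟨one_mem _, one_mul _⟩
      mul_mem' := fun {a b} ha hb => ⟨mul_mem ha.1 hb.1, by
        rw [← mul_assoc, mul_assoc a b a, ← hcomm a ha.1 b hb.1 ha.2 hb.2, ← mul_assoc a a b, ha.2, one_mul, hb.2]⟩
      inv_mem' := fun {a} ha => ⟨inv_mem ha.1, by rw [← mul_inv_rev, ha.2, inv_one]⟩ } with hE
  have hEsc : F.StronglyClosed E := ⟨fun g hg => hg.1, fun P hP φ hφ x => ⟨val_mem hφ x, by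
    rw [← map_mul, show x * x = 1 from Subtype.ext (hP x.2).2, map_one]⟩⟩
  have hEn : F.IsNormal E := by
    have : Subsingleton (MulAut ↥(⊥ : Subgroup Ω)) :=
      ⟨fun a b => MulEquiv.ext fun x => Subsingleton.elim _ _⟩
    refine Cfsg.Agent.S5125.result 2 hS F hF E ⊥ hEsc bot_le isNormal_bot ?_ fun a => ⟨0, ?_⟩
    · rw [Subgroup.commutator_le]
      intro a ha b hb
      rw [Subgroup.mem_bot, commutatorElement_eq_one_iff_mul_comm]
      exact hcomm a ha.1 b hb.1 ha.2 hb.2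
    · exact Subsingleton.elim _ _
  -- the involutions are central
  have hEZ : E ≤ Z := by
    intro e he
    refine ⟨he.1, fun x hx => ?_⟩
    obtain ⟨w, hw, hxw⟩ := h x hx
    obtain ⟨ω, hω, hωx⟩ := conjElt_symm hxw
    obtain ⟨ψ, -, hψx, hψE⟩ := hEn.2 _ ω hω
    obtain ⟨u, hu, hue⟩ := hψE.ge he
    have h1 : u * Subgroup.inclusion le_sup_left ⟨w, Subgroup.mem_zpowers w⟩ =
        Subgroup.inclusion le_sup_left ⟨w, Subgroup.mem_zpowers w⟩ * u := by
      refine Subtype.ext ?_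
      show (u : Ω) * w = w * (u : Ω)
      exact hw.2 _ (show (u : Ω) ∈ Q from hEn.1 hu)
    have h2 := congrArg ψ h1
    rw [map_mul, map_mul, hψx, hωx, hue] at h2
    exact h2.symm
  by_contra hab
  -- an element of the second centre
  obtain ⟨x, hxQ, hxZ, hxx, hxc⟩ : ∃ x ∈ Q, x ∉ Z ∧ x * x ∈ Z ∧ ∀ y ∈ Q, x⁻¹ * (y * x * y⁻¹) ∈ Z := by
    have : Nontrivial (Q ⧸ Subgroup.center Q) := by
      rw [QuotientGroup.nontrivial_iff]
      intro htop
      refine hab ⟨⟨fun a b => ?_⟩⟩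
      exact (Subgroup.mem_center_iff.1 (htop ▸ Subgroup.mem_top a) b).symm
    have := (hS.to_quotient (Subgroup.center Q)).center_nontrivial
    obtain ⟨k, hk⟩ := IsPGroup.iff_card.1 ((hS.to_quotient (Subgroup.center Q)).to_subgroup (Subgroup.center _))
    have hk0 : k ≠ 0 := fun h0 => by
      rw [h0, pow_zero, Nat.card_eq_one_iff_unique] at hk
      exact not_nontrivial_iff_subsingleton.2 hk.1 this
    obtain ⟨q, hq⟩ := exists_prime_orderOf_dvd_card' 2 (hk ▸ dvd_pow_self 2 hk0)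
    obtain ⟨x, hx⟩ := QuotientGroup.mk_surjective (q : Q ⧸ Subgroup.center Q)
    have hmemZ : ∀ z : Q, z ∈ Subgroup.center Q ↔ (z : Ω) ∈ Z := fun z => by
      rw [Subgroup.mem_center_iff]
      exact ⟨fun hz => ⟨z.2, fun y hy => congrArg Subtype.val (hz ⟨y, hy⟩)⟩,
        fun hz y => Subtype.ext (hz.2 y y.2)⟩
    have hq1 : (q : Q ⧸ Subgroup.center Q) ≠ 1 := fun h1 => by
      rw [show q = 1 from Subtype.ext h1, orderOf_one] at hq
      omega
    have hq2 : (q : Q ⧸ Subgroup.center Q) * q = 1 := by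
      have := hq ▸ pow_orderOf_eq_one q
      rw [sq] at this
      exact congrArg Subtype.val this
    refine ⟨x, x.2, fun h1 => hq1 ?_, ?_, fun y hy => ?_⟩
    · rw [← hx, QuotientGroup.eq_one_iff]; exact (hmemZ x).2 h1
    · exact (hmemZ (x * x)).1 ((QuotientGroup.eq_one_iff (x * x)).1 (by rw [QuotientGroup.mk_mul, hx, hq2]))
    · refine (hmemZ (x⁻¹ * (⟨y, hy⟩ * x * ⟨y, hy⟩⁻¹))).1 ((QuotientGroup.eq_one_iff _).1 ?_)
      rw [QuotientGroup.mk_mul, QuotientGroup.mk_mul, QuotientGroup.mk_mul, QuotientGroup.mk_inv, QuotientGroup.mk_inv, hx,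
        Subgroup.mem_center_iff.1 q.2 (QuotientGroup.mk ⟨y, hy⟩), mul_inv_cancel_right, inv_mul_cancel]
  obtain ⟨y, hy, hne⟩ : ∃ y ∈ Q, y * x ≠ x * y := by
    by_contra hh
    push Not at hh
    exact hxZ ⟨hxQ, fun y hy => hh y hy⟩
  set c := x⁻¹ * (y * x * y⁻¹) with hc
  have hcZ : c ∈ Z := hxc y hy
  have hxcy : y * x * y⁻¹ = x * c := (mul_inv_cancel_left x _).symm
  have hcx : c * x = x * c := (hcZ.2 x hxQ).symm
  have hcE : c ∈ E := by
    refine ⟨hcZ.1, ?_⟩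
    have h1 : (x * c) * (x * c) = x * x := by
      rw [← hxcy, show y * x * y⁻¹ * (y * x * y⁻¹) = y * (x * x) * y⁻¹ by group, hxx.2 y hy, mul_inv_cancel_right]
    rw [mul_assoc, ← mul_assoc c x c, hcx, mul_assoc x c c, ← mul_assoc] at h1
    exact mul_eq_left.1 h1
  have hc1 : c ≠ 1 := fun h1 => hne (by
    rw [h1, mul_one, mul_inv_eq_iff_eq_mul] at hxcy
    exact hxcy)
  obtain ⟨w, hw, φ, hφ, hφw⟩ := h x hxQ
  obtain ⟨ψ, hψ, hψx, hψE⟩ := hEn.2 _ φ hφ
  set X : ↥(Subgroup.zpowers x ⊔ E) := Subgroup.inclusion le_sup_left ⟨x, Subgroup.mem_zpowers x⟩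
  set C : ↥(Subgroup.zpowers x ⊔ E) := Subgroup.inclusion le_sup_right ⟨c, hcE⟩
  have hXw : ψ X = w := (hψx _).trans hφw
  have he : ψ C ∈ E := hψE.le ⟨C, hcE, rfl⟩
  set e := ψ C with hedef
  have he1 : e ≠ 1 := fun h1 => hc1 (congrArg Subtype.val
    (F.injective_of_mem hψ (h1.trans (map_one ψ).symm) : C = 1))
  -- average over the automorphisms preserving the coset
  have hEaut : ∀ (α : F.autGroup Q) (u : Q), (u : Ω) ∈ E → (((α : MulAut Q) u : Q) : Ω) ∈ E :=
    fun α u hu => map_mem_of_stronglyClosed hEsc ((mem_autGroup le_rfl).1 α.2) u hu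
  letI : CommGroup (Subgroup.center Q) :=
    { (inferInstance : Group (Subgroup.center Q)) with
      mul_comm := fun a b => Subtype.ext (Subgroup.mem_center_iff.1 b.2 a) }
  let w' : Subgroup.center Q := ⟨⟨w, hw.1⟩, Subgroup.mem_center_iff.2 fun z => Subtype.ext (hw.2 z z.2)⟩
  let act : F.autGroup Q → Subgroup.center Q →* Subgroup.center Q := fun α =>
    { toFun := fun z => ⟨(α : MulAut Q) z, Subgroup.mem_center_iff.2 fun y => by
        obtain ⟨y, rfl⟩ := (α : MulAut Q).surjective y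
        rw [← map_mul, ← map_mul, Subgroup.mem_center_iff.1 z.2 y]⟩
      map_one' := Subtype.ext (map_one (α : MulAut Q))
      map_mul' := fun a b => Subtype.ext (map_mul (α : MulAut Q) (a : Q) b) }
  have hmul : ∀ α β z, act (α * β) z = act α (act β z) := fun α β z => rfl
  let A₀ : Subgroup (F.autGroup Q) :=
    { carrier := {α | ((((act α w' * w'⁻¹ : Subgroup.center Q) : Q)) : Ω) ∈ E}
      one_mem' := by
        show (((act 1 w' * w'⁻¹ : Subgroup.center Q) : Q) : Ω) ∈ E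
        rw [show act 1 w' = w' from rfl, mul_inv_cancel]
        exact one_mem _
      mul_mem' := by
        intro α β ha hb
        show (((act (α * β) w' * w'⁻¹ : Subgroup.center Q) : Q) : Ω) ∈ E
        rw [hmul, show act α (act β w') * w'⁻¹ = act α (act β w' * w'⁻¹) * (act α w' * w'⁻¹) by
          rw [map_mul, map_inv, mul_assoc, inv_mul_cancel_left]]
        exact mul_mem (hEaut α _ hb) ha
      inv_mem' := by
        intro α ha
        show (((act α⁻¹ w' * w'⁻¹ : Subgroup.center Q) : Q) : Ω) ∈ E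
        rw [show act α⁻¹ w' * w'⁻¹ = (act α⁻¹ (act α w' * w'⁻¹))⁻¹ by
          rw [map_mul, ← hmul, inv_mul_cancel, show act 1 w' = w' from rfl, map_inv, mul_inv, inv_inv, mul_comm]]
        exact inv_mem (hEaut α⁻¹ _ ha) }
  let f : A₀ → Subgroup.center Q := fun α => act α w' * w'⁻¹
  set I₀ := I.subgroupOf A₀
  have hIfix : ∀ α ∈ I, ∀ z, act α z = z := fun α hα z =>
    Subtype.ext (Subtype.ext (hfixI α hα _ ⟨(z : Q).2, fun y hy =>
      congrArg Subtype.val (Subgroup.mem_center_iff.1 z.2 ⟨y, hy⟩)⟩))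
  have hk0 : Odd I₀.index := by
    have hdvd : I₀.index ∣ I.index := Subgroup.relIndex_dvd_index_of_normal I A₀
    exact hodd.of_dvd_nat hdvd
  have : Fintype (A₀ ⧸ I₀) := Fintype.ofFinite _
  let fbar : A₀ ⧸ I₀ → Subgroup.center Q := Quotient.lift f (fun a b hab => by
    have hab' : a⁻¹ * b ∈ I₀ := QuotientGroup.leftRel_apply.1 hab
    show act a w' * w'⁻¹ = act b w' * w'⁻¹
    rw [show (b : F.autGroup Q) = a * ((a⁻¹ * b : A₀) : F.autGroup Q) from (mul_inv_cancel_left _ _).symm, hmul,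
      hIfix _ (show ((a⁻¹ * b : A₀) : F.autGroup Q) ∈ I from hab')])
  set P := ∏ q, fbar q with hP
  have hPE : ((P : Q) : Ω) ∈ E :=
    Subgroup.prod_mem (E.comap (Q.subtype.comp (Subgroup.center Q).subtype)) fun q _ => by
      induction q using QuotientGroup.induction_on with | H a => exact a.2
  have hkey : ∀ α : A₀, act α (w' * P) = w' * P := by
    intro α
    have h1 : act α P = ∏ q, act α (fbar q) := map_prod _ _ _
    have h2 : ∀ q, act α (fbar q) = fbar (α • q) * (f α)⁻¹ := by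
      intro q
      induction q using QuotientGroup.induction_on with
      | H b =>
        show act α (act b w' * w'⁻¹) = act ((α : F.autGroup Q) * b) w' * w'⁻¹ * (act α w' * w'⁻¹)⁻¹
        rw [map_mul, map_inv, hmul, mul_inv, inv_inv, mul_comm _ w', mul_assoc, inv_mul_cancel_left]
    rw [map_mul, h1, Finset.prod_congr rfl fun q _ => h2 q, Finset.prod_mul_distrib, Finset.prod_const,
      Finset.card_univ, ← Nat.card_eq_fintype_card, ← Subgroup.index_eq_card,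
      Fintype.prod_equiv (MulAction.toPerm α) (fun q => fbar (α • q)) fbar (fun q => rfl)]
    have hf2 : f α * f α = 1 := Subtype.ext (Subtype.ext α.2.2)
    obtain ⟨j, hj⟩ := hk0
    have hfi : (f α)⁻¹ = f α := inv_eq_of_mul_eq_one_right hf2
    rw [hfi, hj, pow_succ, pow_mul, sq, hf2, one_pow, one_mul, mul_comm (∏ q, fbar q), ← mul_assoc]
    congr 1
    show act α w' * (act α w' * w'⁻¹) = w'
    calc act α w' * (act α w' * w'⁻¹) = (act α w' * w'⁻¹) * (act α w' * w'⁻¹) * w' := by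
          rw [mul_assoc _ _ w', inv_mul_cancel_right, mul_comm (act α w' * w'⁻¹)]
      _ = w' := by rw [show (act α w' * w'⁻¹) * (act α w' * w'⁻¹) = 1 from hf2, one_mul]
  -- pull the average back
  obtain ⟨u, hu, huP⟩ := hψE.ge hPE
  set e' : Subgroup.center Q := ⟨⟨e, he.1⟩, Subgroup.mem_center_iff.2 fun z => Subtype.ext ((hEZ he).2 z z.2)⟩
  have hconj : F.IsConjElt ((w' * P : Subgroup.center Q) : Q) ((w' * P * e' : Subgroup.center Q) : Q) := by
    have h1 : F.IsConjElt ((X * u : ↥(Subgroup.zpowers x ⊔ E)) : Ω) ((w' * P : Subgroup.center Q) : Q) := by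
      have := conjElt_of_mem hψ (X * u)
      rw [map_mul, hXw, huP] at this
      exact this
    have h2 : F.IsConjElt ((X * u * C : ↥(Subgroup.zpowers x ⊔ E)) : Ω) ((w' * P * e' : Subgroup.center Q) : Q) := by
      have := conjElt_of_mem hψ (X * u * C)
      rw [map_mul, map_mul, hXw, huP] at this
      exact this
    have h3 : F.IsConjElt ((X * u : ↥(Subgroup.zpowers x ⊔ E)) : Ω) ((X * u * C : ↥(Subgroup.zpowers x ⊔ E)) : Ω) := by
      have hu' : (u : Ω) ∈ E := hu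
      have := conjElt_conj (F := F) (mul_mem hxQ hu'.1) hy
      rw [show y * (x * (u : Ω)) * y⁻¹ = (x * (u : Ω)) * c from
        calc y * (x * (u : Ω)) * y⁻¹ = (y * x * y⁻¹) * (y * (u : Ω) * y⁻¹) := by group
          _ = (x * c) * (u : Ω) := by rw [hxcy, (hEZ hu').2 y hy, mul_inv_cancel_right]
          _ = x * ((u : Ω) * c) := by rw [mul_assoc x c, hcZ.2 u hu'.1]
          _ = x * (u : Ω) * c := (mul_assoc _ _ _).symm] at this
      exact this
    exact conjElt_trans (conjElt_symm h1) (conjElt_trans h3 h2)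
  have hcZ' : ∀ z : Subgroup.center Q, ((z : Q) : Ω) ∈ Z := fun z =>
    ⟨(z : Q).2, fun y hy => congrArg Subtype.val (Subgroup.mem_center_iff.1 z.2 ⟨y, hy⟩)⟩
  obtain ⟨α, hα, hαe⟩ := exists_aut hS hF (hcZ' _) (hcZ' _) hconj
  have hαw : act ⟨α, hα⟩ (w' * P) = w' * P * e' := Subtype.ext (Subtype.ext hαe)
  have hA₀ : (⟨α, hα⟩ : F.autGroup Q) ∈ A₀ := by
    show (((act ⟨α, hα⟩ w' * w'⁻¹ : Subgroup.center Q) : Q) : Ω) ∈ E
    have h4 : act ⟨α, hα⟩ w' * w'⁻¹ = P * e' * (act ⟨α, hα⟩ P)⁻¹ := by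
      rw [map_mul] at hαw
      rw [eq_mul_inv_iff_mul_eq, mul_right_comm, hαw, mul_comm w' P, mul_assoc P, mul_comm w' e', ← mul_assoc,
        mul_inv_cancel_right]
    rw [h4]
    exact mul_mem (mul_mem hPE he) (inv_mem (hEaut ⟨α, hα⟩ _ hPE))
  have h5 := hkey ⟨_, hA₀⟩
  rw [show act ((⟨_, hA₀⟩ : A₀) : F.autGroup Q) (w' * P) = w' * P * e' from hαw] at h5
  exact he1 (congrArg (fun z : Subgroup.center Q => ((z : Q) : Ω)) (mul_eq_left.1 h5))

end Cfsg.Agent.Lib.Fusion.CentralClasses
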