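import Cfsg.Agent.Lib.Fusion.ResidualInvariant
import Cfsg.Agent.Lib.Fusion.Weakly

/-!
The `p'`-residual subsystem of a weakly normal subsystem is normal.
-/

set_option autoImplicit false

namespace Cfsg.Agent.Lib.Fusion.ResidualNormal

open Cfsg Cfsg.FusionSystem

variable {Ω : Type*} [Group Ω] {S T : Subgroup Ω} {F : FusionSystem S} {E G : FusionSystem T}
  {p : ℕ}

/-! ### Transport by automorphisms of `T` -/

/-- The map `φ` moved by `β`. -/
def moved {P P' : Subgroup Ω} (β : MulAut T) {φ : P →* Ω} (hφ : ∀ x, φ x ∈ T) (a : P ≃* P') :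
    P' →* Ω :=
  (T.subtype.comp β.toMonoidHom).comp ((φ.codRestrict T hφ).comp a.symm.toMonoidHom)

theorem moved_apply {P P' : Subgroup Ω} (β : MulAut T) {φ : P →* Ω} (hφ : ∀ x, φ x ∈ T)
    (a : P ≃* P') (x : P) : moved β hφ a (a x) = (β ⟨φ x, hφ x⟩ : Ω) :=
  congrArg (fun y => ((β : MulAut T) ⟨φ y, hφ y⟩ : Ω)) (a.symm_apply_apply x)

/-- The maps of `E` moved by `β` into `G`. -/
def pull (E G : FusionSystem T) (hTS : T ≤ S) (β : MulAut T) (hβ : β ∈ F.autGroup T) :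
    FusionSystem T where
  Hom P := {φ | ∃ h : φ ∈ E.Hom P, ∀ (P' : Subgroup Ω) (a : P ≃* P') (χ : P' →* Ω),
    (∀ x : P, (a x : Ω) = (β ⟨x, src_le h x.2⟩ : Ω)) →
      (∀ x : P, χ (a x) = (β ⟨φ x, val_mem h x⟩ : Ω)) → χ ∈ G.Hom P'}
  le_of_mem h := E.le_of_mem h.1
  injective_of_mem h := E.injective_of_mem h.1
  conj_mem := by
    intro P g hP hg
    refine ⟨E.conj_mem hP hg, fun P' a χ ha hχ => ?_⟩
    have hP' : P' ≤ T := fun y hy => by
      obtain ⟨x, hx⟩ := a.surjective ⟨y, hy⟩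
      rw [← show (a x : Ω) = y from congrArg Subtype.val hx, ha x]
      exact Subtype.coe_prop _
    refine conj_map_mem hP' (β ⟨g, hg⟩).2 fun y => ?_
    obtain ⟨x, rfl⟩ := a.surjective y
    rw [hχ x, ha x, ← Subgroup.coe_inv, ← Subgroup.coe_mul, ← Subgroup.coe_mul, ← map_inv, ← map_mul,
      ← map_mul]
    rfl
  comp_mem := by
    intro P Q φ ψ h h' hm
    refine ⟨E.comp_mem h.1 h'.1 hm, fun P' a χ ha hχ => ?_⟩
    obtain ⟨b, -, hb⟩ := exists_iso_restrict (F := F) (src_le h'.1) ((mem_autGroup hTS).1 hβ)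
    have h1 := h.2 P' a (moved β (val_mem h.1) a) ha fun x => moved_apply β (val_mem h.1) a x
    have h2 := h'.2 _ b (moved β (val_mem h'.1) b) hb fun x => moved_apply β (val_mem h'.1) b x
    have hmem : ∀ y : P', moved β (val_mem h.1) a y = (b ⟨φ (a.symm y), hm _⟩ : Ω) := fun y =>
      (hb ⟨φ (a.symm y), hm _⟩).symm
    refine mem_of_comp h1 h2 (fun y => hmem y ▸ (b _).2) fun y => ?_
    obtain ⟨x, rfl⟩ := a.surjective y
    refine (hχ x).trans (Eq.symm ?_)
    rw [show (⟨moved β (val_mem h.1) a (a x), hmem (a x) ▸ (b _).2⟩ : (Q.subgroupOf T).map _) =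
      b ⟨φ x, hm x⟩ from Subtype.ext ((moved_apply β (val_mem h.1) a x).trans (hb ⟨φ x, hm x⟩).symm), moved_apply]
    rfl
  inv_mem := by
    intro P φ h
    obtain ⟨ψ, hψ, hψe⟩ := E.inv_mem h.1
    refine ⟨ψ, ⟨hψ, fun R' a χ ha hχ => ?_⟩, hψe⟩
    obtain ⟨b, -, hb⟩ := exists_iso_restrict (F := F) (src_le h.1) ((mem_autGroup hTS).1 hβ)
    have h1 := h.2 _ b (moved β (val_mem h.1) b) hb fun x => moved_apply β (val_mem h.1) b x
    obtain ⟨ω, hω, hωe⟩ := G.inv_mem h1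
    have hax : ∀ x : P, (a ⟨φ x, x, rfl⟩ : Ω) = moved β (val_mem h.1) b (b x) := fun x => by
      rw [ha, moved_apply]
    have hR' : R' ≤ (moved β (val_mem h.1) b).range := fun y hy => by
      obtain ⟨⟨_, x, rfl⟩, hx⟩ := a.surjective ⟨y, hy⟩
      exact ⟨b x, (hax x).symm.trans (congrArg Subtype.val hx)⟩
    refine mem_of_agree hR' hω fun y => ?_
    obtain ⟨⟨_, x, rfl⟩, rfl⟩ := a.surjective y
    rw [hχ, show (⟨(a ⟨φ x, x, rfl⟩ : Ω), hR' (Subtype.coe_prop _)⟩ :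
      (moved β (val_mem h.1) b).range) = ⟨_, b x, rfl⟩ from Subtype.ext (hax x), hωe, hb]
    exact congrArg (fun t : T => (β t : Ω)) (Subtype.ext (hψe x))

theorem transport_mem (hI : AutInvariant G F) (hTS : T ≤ S) {β : MulAut T} (hβ : β ∈ F.autGroup T)
    {P : Subgroup Ω} {φ : P →* Ω} (hφ : φ ∈ G.Hom P) {P' : Subgroup Ω} (a : P ≃* P')
    (ha : ∀ x : P, (a x : Ω) = (β ⟨x, src_le hφ x.2⟩ : Ω)) :
    moved β (val_mem hφ) a ∈ G.Hom P' :=
  hI P P' φ hφ β hβ a ha _ fun x => moved_apply β (val_mem hφ) a x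

variable [Finite S] [Fact p.Prime]

omit [Finite S] in
theorem eq_autImage {R R' : Subgroup Ω} (hR : R ≤ T) {β : MulAut T} (b : R ≃* R')
    (hb : ∀ x : R, (b x : Ω) = (β ⟨x, hR x.2⟩ : Ω)) : R' = autImage β R := by
  ext y
  constructor
  · intro hy
    obtain ⟨x, hx⟩ := b.surjective ⟨y, hy⟩
    exact ⟨⟨x, hR x.2⟩, x.2, (hb x).symm.trans (congrArg Subtype.val hx)⟩
  · rintro ⟨x, hx, rfl⟩
    have h1 : (b ⟨x, hx⟩ : Ω) = (β x : Ω) := hb ⟨x, hx⟩
    show (β x : Ω) ∈ R'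
    exact h1 ▸ (b _).2

omit [Finite S] [Fact p.Prime] in
theorem centric_autImage (hI : AutInvariant E F) (hTS : T ≤ S) {β : MulAut T}
    (hβ : β ∈ F.autGroup T) {R : Subgroup Ω} (hR : E.IsCentric R) :
    E.IsCentric (autImage β R) := by
  refine ⟨autImage_le β R, fun Q ⟨θ, hθ, hr⟩ c hc => ?_⟩
  obtain ⟨θ', hθ', hθ'e⟩ := hI.exists_transport hTS (inv_mem hβ) hθ
  have hback : autImage β⁻¹ (autImage β R) = R := by
    rw [← autImage_mul, inv_mul_cancel, autImage_one hR.1]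
  obtain ⟨hcT, hcc⟩ := mem_centralizerIn.1 hc
  have hval : ∀ (y : T) (hy : (y : Ω) ∈ autImage β R), ∃ hm : ((β⁻¹ : MulAut T) y : Ω) ∈
      autImage β⁻¹ (autImage β R),
      θ' ⟨_, hm⟩ = ((β⁻¹ : MulAut T) ⟨θ ⟨y, hy⟩, val_mem hθ _⟩ : Ω) := fun y hy =>
    ⟨⟨y, hy, rfl⟩, hθ'e y hy ⟨y, hy, rfl⟩⟩
  have h1 : (((β⁻¹ : MulAut T) ⟨c, hcT⟩ : T) : Ω) ∈
      (θ'.comp (Subgroup.inclusion hback.ge)).range := by
    refine hR.2 _ ⟨_, restrict_mem hback.ge hθ', rfl⟩
      (mem_centralizerIn.2 ⟨Subtype.coe_prop _, ?_⟩)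
    rintro _ ⟨x, rfl⟩
    obtain ⟨y, hy, hxy⟩ := hback.ge x.2
    obtain ⟨hm, hv⟩ := hval y hy
    rw [show (θ'.comp (Subgroup.inclusion hback.ge)) x = θ' ⟨_, hm⟩ from
      congrArg θ' (Subtype.ext hxy.symm), hv, ← Subgroup.coe_mul, ← map_mul, ← Subgroup.coe_mul,
      ← map_mul]
    exact congrArg (fun t : T => (((β⁻¹ : MulAut T) t : T) : Ω))
      (Subtype.ext (hcc _ (hr ▸ ⟨⟨y, hy⟩, rfl⟩)))
  obtain ⟨x, hx⟩ := h1
  obtain ⟨y, hy, hxy⟩ := hback.ge x.2
  obtain ⟨hm, hv⟩ := hval y hy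
  rw [show (θ'.comp (Subgroup.inclusion hback.ge)) x = θ' ⟨_, hm⟩ from
    congrArg θ' (Subtype.ext hxy.symm), hv] at hx
  exact hr ▸ ⟨⟨y, hy⟩, congrArg Subtype.val ((β⁻¹ : MulAut T).injective (Subtype.ext hx))⟩

theorem res_autInvariant (hS : IsPGroup p S) (hE : E.IsWeaklyNormalIn F p) :
    AutInvariant (Residual.res E p) F := by
  have hI := IsInvariantIn.autInvariant hE.2.2
  have hS' := IsInvariantIn.strongInvariant hE.2.2
  have hTS := hE.2.2.2.1.1
  intro P P' φ hφ β hβ a ha χ hχ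
  have hfull : Residual.Full E p (pull E (Residual.res E p) hTS β hβ) := by
    refine ⟨fun P φ h => h.1, fun R hR γ hγ => ?_, fun α hα R hR h => ?_⟩
    · have hγE := IndexPrime.pPart_le E p R hγ
      refine (mem_autGroup hR.1).2 ⟨(mem_autGroup hR.1).1 hγE, fun R' b χ hb hχ => ?_⟩
      obtain rfl := eq_autImage hR.1 b hb
      have hbF : IsIso F b := isIso_of_agree hR.1 ((mem_autGroup hTS).1 hβ) fun x => hb x
      have h2 : MulAut.congr b γ ∈ IndexPrime.pPart E p (autImage β R) := by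
        have h : IndexPrime.pPart E p R ≤
            (IndexPrime.pPart E p (autImage β R)).comap (MulAut.congr b).toMonoidHom := by
          refine IndexPrime.pPart_le_of fun δ hδ ⟨k, hk⟩ => ?_
          refine IndexPrime.mem_pPart
            (Residual.congr_mem hS' hR.1 (autImage_le β R) hbF hδ) ⟨k, ?_⟩
          rw [← hk]
          exact orderOf_injective (MulAut.congr b).toMonoidHom (MulAut.congr b).injective δ
        exact h hγ
      refine mem_of_agree le_rfl ((mem_autGroup (autImage_le β R)).1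
        ((Residual.res_full E p).pPart _ (centric_autImage hI hTS hβ hR) h2)) fun y => ?_
      obtain ⟨x, rfl⟩ := b.surjective y
      rw [hχ]
      show _ = (b (γ (b.symm (b x))) : Ω)
      rw [b.symm_apply_apply, hb]
      rfl
    · refine (mem_autGroup le_rfl).2 ⟨(mem_autGroup le_rfl).1 hα, fun T' b χ hb hχ => ?_⟩
      obtain ⟨a₀, -, ha₀⟩ := exists_iso_restrict (F := F) hR.1 ((mem_autGroup hTS).1 hβ)
      obtain rfl : T' = T := by
        refine (eq_autImage le_rfl b hb).trans (le_antisymm (autImage_le β T) fun y hy => ?_)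
        exact ⟨(β⁻¹ : MulAut T) ⟨y, hy⟩, Subtype.coe_prop _, by simp⟩
      have hb' : ∀ x : T', b x = β x := fun x => Subtype.ext (hb x)
      have hαF : β * α * β⁻¹ ∈ E.autGroup T' := by
        have h := Residual.congr_mem hS' le_rfl le_rfl ((mem_autGroup hTS).1 hβ) hα
        convert h using 1
        ext x
        simp
      have hR₀ := centric_autImage hI hTS hβ hR
      have h2 := (Residual.res_full E p).closed _ hαF _ hR₀
        (h.2 _ a₀ _ ha₀ fun x => by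
          simp only [MonoidHom.coe_comp, Function.comp_apply, Subgroup.coe_subtype,
            MulEquiv.coe_toMonoidHom]
          rw [show (Subgroup.inclusion hR₀.1 (a₀ x) : T') = β ⟨x, hR.1 x.2⟩ from
            Subtype.ext (ha₀ x), MulAut.mul_apply, MulAut.mul_apply, MulAut.inv_apply_self]
          rfl)
      refine mem_of_agree le_rfl ((mem_autGroup le_rfl).1 h2) fun y => ?_
      obtain ⟨x, rfl⟩ := b.surjective y
      rw [hχ]
      simp [hb']
  exact (Residual.res_le_of_full hfull P hφ).2 P' a χ ha hχ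

/-! ### Maps acting trivially on `C_S(T)` modulo `T` -/

/-- `φ` extends to `C_S(T)`, acting trivially on it modulo `T`. -/
def GoodMap (F : FusionSystem S) (T : Subgroup Ω) {R : Subgroup Ω} (φ : R →* Ω) : Prop :=
  ∃ ψ ∈ F.Hom (R ⊔ centralizerIn S T), (∀ x : R, ψ (Subgroup.inclusion le_sup_left x) = φ x) ∧
    ∀ c : centralizerIn S T, (c : Ω)⁻¹ * ψ (Subgroup.inclusion le_sup_right c) ∈ T

/-- All images of `R` contain their centralizers in `T`. -/
def Cen (F : FusionSystem S) (T R : Subgroup Ω) : Prop :=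
  R ≤ T ∧ ∀ φ ∈ F.Hom R, centralizerIn T φ.range ≤ φ.range

omit [Finite S] in
theorem commute_C {c x : Ω} (hc : c ∈ centralizerIn S T) (hx : x ∈ T) : Commute c x :=
  ((mem_centralizerIn.1 hc).2 x hx).symm

section Basic

omit [Finite S] [Fact p.Prime]

theorem Cen.le (hT : F.StronglyClosed T) {R : Subgroup Ω} (hR : Cen F T R) :
    centralizerIn T R ≤ R := by
  have h := hR.2 _ (subtype_mem (hR.1.trans hT.1))
  rwa [Subgroup.range_subtype] at h

theorem Cen.image (hT : F.StronglyClosed T) {R : Subgroup Ω} (hR : Cen F T R) {φ : R →* Ω}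
    (hφ : φ ∈ F.Hom R) : Cen F T φ.range := by
  refine ⟨fun y ⟨x, hx⟩ => hx ▸ hT.2 R hR.1 φ hφ x, fun χ hχ => ?_⟩
  have h : (χ.comp (φ.codRestrict φ.range fun x => ⟨x, rfl⟩)).range = χ.range := by
    ext y
    constructor
    · rintro ⟨x, rfl⟩; exact ⟨_, rfl⟩
    · rintro ⟨⟨_, x, rfl⟩, rfl⟩; exact ⟨x, rfl⟩
  exact h ▸ hR.2 _ (F.comp_mem hφ hχ _)

theorem Cen.mono {R N : Subgroup Ω} (hR : Cen F T R) (h : R ≤ N) (hN : N ≤ T) : Cen F T N := by
  refine ⟨hN, fun φ hφ c hc => ?_⟩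
  have hle : (φ.comp (Subgroup.inclusion h)).range ≤ φ.range := by
    rintro _ ⟨x, rfl⟩; exact ⟨_, rfl⟩
  obtain ⟨hcT, hcc⟩ := mem_centralizerIn.1 hc
  exact hle (hR.2 _ (restrict_mem h hφ) (mem_centralizerIn.2 ⟨hcT, fun y hy => hcc y (hle hy)⟩))

theorem GoodMap.hom {R : Subgroup Ω} {φ : R →* Ω} (h : GoodMap F T φ) : φ ∈ F.Hom R := by
  obtain ⟨ψ, hψ, hψe, -⟩ := h
  exact mem_of_agree le_sup_left hψ fun x => (hψe x).symm

theorem GoodMap.mono {R R₀ : Subgroup Ω} {φ : R →* Ω} (h : GoodMap F T φ) (hle : R₀ ≤ R)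
    {χ : R₀ →* Ω} (hχ : ∀ x : R₀, χ x = φ ⟨x, hle x.2⟩) : GoodMap F T χ := by
  obtain ⟨ψ, hψ, hψe, hψc⟩ := h
  exact ⟨_, restrict_mem (sup_le_sup_right hle _) hψ,
    fun x => (hψe ⟨x, hle x.2⟩).trans (hχ x).symm, hψc⟩

/-- The shift of a good map on `C_S(T)` lies in the image. -/
theorem shift_mem (hT : F.StronglyClosed T) {R : Subgroup Ω} {φ : R →* Ω} (hR : R ≤ T)
    (hR' : Cen F T φ.range) {ψ : ↥(R ⊔ centralizerIn S T) →* Ω}
    (hψe : ∀ x : R, ψ (Subgroup.inclusion le_sup_left x) = φ x) (c : centralizerIn S T)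
    (hc : (c : Ω)⁻¹ * ψ (Subgroup.inclusion le_sup_right c) ∈ T) :
    (c : Ω)⁻¹ * ψ (Subgroup.inclusion le_sup_right c) ∈ φ.range := by
  refine hR'.le hT (mem_centralizerIn.2 ⟨hc, ?_⟩)
  rintro _ ⟨x, rfl⟩
  have h1 : Commute (ψ (Subgroup.inclusion le_sup_right c)) (φ x) := by
    rw [← hψe]
    refine Commute.map ?_ ψ
    exact Subtype.ext (commute_C c.2 (hR x.2)).eq
  exact ((commute_C c.2 (hR'.1 ⟨x, rfl⟩)).inv_left.mul_left h1).eq.symm

theorem GoodMap.comp (hT : F.StronglyClosed T) {R : Subgroup Ω} (hR : Cen F T R) {φ χ : R →* Ω}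
    {ψ : φ.range →* Ω} (h : GoodMap F T φ) (h' : GoodMap F T ψ)
    (hχ : ∀ x, χ x = ψ ⟨φ x, x, rfl⟩) : GoodMap F T χ := by
  have hR' := hR.image hT h.hom
  obtain ⟨u, hu, hue, huc⟩ := h
  obtain ⟨v, hv, hve, hvc⟩ := h'
  have hval : ∀ x, u x ∈ φ.range ⊔ centralizerIn S T := by
    intro x
    refine sup_map_le (fun r => ?_) (fun c => ?_) x
    · rw [hue]; exact Subgroup.mem_sup_left (show φ r ∈ φ.range from ⟨r, rfl⟩)
    · have h1 := shift_mem hT hR.1 hR' hue c (huc c)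
      rw [show u (Subgroup.inclusion le_sup_right c) =
        (c : Ω) * ((c : Ω)⁻¹ * u (Subgroup.inclusion le_sup_right c)) by group]
      exact mul_mem (Subgroup.mem_sup_right c.2) (Subgroup.mem_sup_left h1)
  refine ⟨_, F.comp_mem hu hv hval, fun x => ?_, fun c => ?_⟩
  · rw [hχ, ← hve]
    exact congrArg v (Subtype.ext (hue x))
  · obtain ⟨r, hr⟩ := shift_mem hT hR.1 hR' hue c (huc c)
    show (c : Ω)⁻¹ * v (u.codRestrict _ hval (Subgroup.inclusion le_sup_right c)) ∈ T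
    rw [show u.codRestrict _ hval (Subgroup.inclusion le_sup_right c) =
      Subgroup.inclusion le_sup_right c * Subgroup.inclusion le_sup_left (⟨φ r, r, rfl⟩ : φ.range) from
        Subtype.ext (by
          show u (Subgroup.inclusion le_sup_right c) = (c : Ω) * φ r
          rw [hr]; group), map_mul, hve, ← mul_assoc]
    refine T.mul_mem (hvc c) ?_
    exact hT.2 _ hR'.1 _ (mem_of_agree le_sup_left hv fun y => (hve y).symm) _

theorem GoodMap.symm (hT : F.StronglyClosed T) {R R' : Subgroup Ω} (hR : Cen F T R) {e : R ≃* R'}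
    (h : GoodMap F T (R'.subtype.comp e.toMonoidHom)) :
    GoodMap F T (R.subtype.comp e.symm.toMonoidHom) := by
  have hR' := hR.image hT h.hom
  obtain ⟨u, hu, hue, huc⟩ := h
  obtain ⟨ω, hω, hωe⟩ := F.inv_mem hu
  have hCr : ∀ c : centralizerIn S T, ∃ r : R, (c : Ω) =
      u (Subgroup.inclusion le_sup_right c * Subgroup.inclusion le_sup_left r) := by
    intro c
    obtain ⟨r, hr⟩ := shift_mem hT hR.1 hR' hue c (huc c)
    refine ⟨r⁻¹, ?_⟩
    rw [map_mul, hue, map_inv, hr]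
    group
  have hle : R' ⊔ centralizerIn S T ≤ u.range := sup_le
    (fun y hy => ⟨_, (hue (e.symm ⟨y, hy⟩)).trans (by simp)⟩)
    fun c hc => ⟨_, (hCr ⟨c, hc⟩).choose_spec.symm⟩
  refine ⟨_, restrict_mem hle hω, fun y => ?_, fun c => ?_⟩
  · have h1 := hωe (Subgroup.inclusion le_sup_left (e.symm y))
    refine (congrArg ω (Subtype.ext ?_)).trans h1
    exact ((hue (e.symm y)).trans (by simp)).symm
  · obtain ⟨r, hr⟩ := hCr c
    have h1 := hωe (Subgroup.inclusion le_sup_right c * Subgroup.inclusion le_sup_left r)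
    have h2 : ω.comp (Subgroup.inclusion hle) (Subgroup.inclusion le_sup_right c) = c * r :=
      (congrArg ω (Subtype.ext hr)).trans h1
    rw [h2, inv_mul_cancel_left]
    exact hR.1 r.2

/-- The maps whose restrictions to centric subgroups are good. -/
def gsys (hT : F.StronglyClosed T) : FusionSystem T where
  Hom P := {φ | P ≤ T ∧ φ ∈ F.Hom P ∧
    ∀ (R : Subgroup Ω) (h : R ≤ P), Cen F T R → GoodMap F T (φ.comp (Subgroup.inclusion h))}
  le_of_mem h := ⟨h.1, fun x => hT.2 _ h.1 _ h.2.1 x⟩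
  injective_of_mem h := F.injective_of_mem h.2.1
  conj_mem := by
    intro P g hP hg
    refine ⟨hP, F.conj_mem (hP.trans hT.1) (hT.1 hg), fun R h hR => ?_⟩
    refine ⟨conjHom _ g, F.conj_mem (sup_le ((h.trans hP).trans hT.1) (centralizerIn_le _ _))
      (hT.1 hg), fun x => rfl, fun c => ?_⟩
    show (c : Ω)⁻¹ * (g * c * g⁻¹) ∈ T
    rw [show g * (c : Ω) = c * g from (commute_C c.2 hg).eq.symm]
    group
    exact T.one_mem
  comp_mem := by
    intro P Q φ ψ h h' hm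
    refine ⟨h.1, F.comp_mem h.2.1 h'.2.1 hm, fun R hR hRc => ?_⟩
    have h1 := h.2.2 R hR hRc
    have hle : (φ.comp (Subgroup.inclusion hR)).range ≤ Q := by
      rintro _ ⟨x, rfl⟩; exact hm _
    exact h1.comp hT hRc (h'.2.2 _ hle (hRc.image hT h1.hom)) fun x => rfl
  inv_mem := by
    intro P φ h
    obtain ⟨ψ, hψ, hψe⟩ := F.inv_mem h.2.1
    have hr : φ.range ≤ T := by rintro _ ⟨x, rfl⟩; exact hT.2 _ h.1 _ h.2.1 x
    refine ⟨ψ, ⟨hr, hψ, fun R hR hRc => ?_⟩, hψe⟩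
    obtain ⟨e, he, hee⟩ := exists_iso_restrict hR hψ
    have hR₀ : (R.subgroupOf φ.range).map ψ ≤ P := by
      rintro _ ⟨⟨_, x, rfl⟩, -, rfl⟩
      rw [hψe]; exact x.2
    have hR₀c : Cen F T ((R.subgroupOf φ.range).map ψ) := by
      have h1 := hRc.image hT he
      rwa [iso_range] at h1
    have h1 := h.2.2 _ hR₀ hR₀c
    have heq : φ.comp (Subgroup.inclusion hR₀) = R.subtype.comp e.symm.toMonoidHom := by
      ext y
      obtain ⟨z, rfl⟩ := e.surjective y
      obtain ⟨x, hx⟩ := hR z.2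
      show φ (Subgroup.inclusion hR₀ (e z)) = ((e.symm (e z) : R) : Ω)
      rw [e.symm_apply_apply, ← hx]
      refine congrArg φ (Subtype.ext ?_)
      show (e z : Ω) = x
      rw [hee, show (⟨(z : Ω), hR z.2⟩ : φ.range) = ⟨φ x, x, rfl⟩ from Subtype.ext hx.symm, hψe]
    rw [heq] at h1
    refine (h1.symm hT hR₀c).mono le_rfl fun x => ?_
    exact (hee x).symm

theorem mem_gsys (hT : F.StronglyClosed T) {P : Subgroup Ω} (hP : P ≤ T) {φ : P →* Ω}
    (h : GoodMap F T φ) : φ ∈ (gsys hT).Hom P :=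
  ⟨hP, h.hom, fun _ hR _ => h.mono hR fun _ => rfl⟩

theorem goodMap_of_gsys (hT : F.StronglyClosed T) {P : Subgroup Ω} (hP : Cen F T P) {φ : P →* Ω}
    (h : φ ∈ (gsys hT).Hom P) : GoodMap F T φ :=
  (h.2.2 P le_rfl hP).mono le_rfl fun _ => rfl

theorem cen_of_isCentric (hE : E.IsInvariantIn F) {P : Subgroup Ω} (hP : E.IsCentric P) :
    Cen F T P := by
  obtain ⟨-, -, -, hfr⟩ := hE
  refine ⟨hP.1, fun φ hφ c hc => ?_⟩
  obtain ⟨α, hα, φ₀, hφ₀, he⟩ := hfr P hP.1 φ hφ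
  obtain ⟨hcT, hcc⟩ := mem_centralizerIn.1 hc
  have h1 : (((α⁻¹ : MulAut T) ⟨c, hcT⟩ : T) : Ω) ∈ φ₀.range := by
    refine hP.2 φ₀.range ⟨φ₀, hφ₀, rfl⟩ (mem_centralizerIn.2 ⟨Subtype.coe_prop _, ?_⟩)
    rintro _ ⟨x, rfl⟩
    have e1 : (⟨φ₀ x, val_mem hφ₀ x⟩ : T) * (α⁻¹ : MulAut T) ⟨c, hcT⟩ =
        (α⁻¹ : MulAut T) ⟨c, hcT⟩ * ⟨φ₀ x, val_mem hφ₀ x⟩ := by
      apply α.injective
      rw [map_mul, map_mul, MulAut.apply_inv_self]
      refine Subtype.ext ?_
      show ((α ⟨φ₀ x, _⟩ : T) : Ω) * c = c * _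
      rw [← he x (val_mem hφ₀ x)]
      exact hcc _ ⟨x, rfl⟩
    exact congrArg Subtype.val e1
  obtain ⟨x, hx⟩ := h1
  exact ⟨x, by rw [he x (val_mem hφ₀ x),
    show (⟨φ₀ x, val_mem hφ₀ x⟩ : T) = (α⁻¹ : MulAut T) ⟨c, hcT⟩ from Subtype.ext hx,
    MulAut.apply_inv_self]⟩

end Basic

theorem gsys_autInvariant (hS : IsPGroup p S) (hF : F.IsSaturated p) (hT : F.StronglyClosed T) :
    AutInvariant (gsys hT) F := by
  intro P P' φ hφ β hβ a ha χ hχ
  have hP' : P' ≤ T := fun y hy => by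
    obtain ⟨x, hx⟩ := a.surjective ⟨y, hy⟩
    rw [← show (a x : Ω) = y from congrArg Subtype.val hx, ha x]
    exact Subtype.coe_prop _
  have haF : IsIso F a := isIso_of_agree hφ.1 ((mem_autGroup hT.1).1 hβ) fun x => ha x
  have hχF : χ ∈ F.Hom P' := by
    refine mem_of_comp (F.comp_mem (haF.symm) hφ.2.1 fun y => (a.symm y).2)
      ((mem_autGroup hT.1).1 hβ) (fun y => hT.2 P hφ.1 φ hφ.2.1 _) fun y => ?_
    obtain ⟨x, rfl⟩ := a.surjective y
    rw [hχ]
    exact congrArg (fun y => ((β : MulAut T) ⟨φ y, val_mem hφ y⟩ : Ω)) (a.symm_apply_apply x).symm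
  refine ⟨hP', hχF, fun R' hR'P hR'c => ?_⟩
  -- pull `R'` back
  obtain ⟨R, e, he, hee, hRP⟩ : ∃ (R : Subgroup Ω) (e : R' ≃* R), IsIso F e ∧
      (∀ y : R', (e y : Ω) = (a.symm ⟨y, hR'P y.2⟩ : Ω)) ∧ R ≤ P := by
    obtain ⟨e, he, hee⟩ := exists_iso_restrict hR'P haF.symm
    exact ⟨_, e, he, hee, by rintro _ ⟨y, -, rfl⟩; exact (a.symm y).2⟩
  have hRc : Cen F T R := by
    have h1 := hR'c.image hT he
    rwa [iso_range] at h1
  obtain ⟨ψ, hψ, hψe, hψc⟩ := hφ.2.2 R hRP hRc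
  -- extend `β` to `C_S(T)`
  let C := centralizerIn S T
  obtain ⟨B₀, hB₀, hB₀e⟩ := receptive_extend (fullyNormalized_props hS hF
    (P := T) ⟨hT.1, fun Q hQ => by
      obtain ⟨θ, hθ, rfl⟩ := hQ
      have := finite_of_le (S := S) hT.1
      rw [eq_of_le_card (show θ.range ≤ T by rintro _ ⟨x, rfl⟩; exact hT.2 T le_rfl θ hθ x)
        (SatCriterion.card_range hθ).ge]⟩).2 ((mem_autGroup hT.1).1 hβ)
  have hTC : T ⊔ C ≤ extender S T (T.subtype.comp (β : T ≃* T).toMonoidHom) :=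
    sup_le (le_extender ((mem_autGroup hT.1).1 hβ)) (centralizerIn_le_extender _ _ _)
  let B := B₀.comp (Subgroup.inclusion hTC)
  have hB : B ∈ F.Hom (T ⊔ C) := restrict_mem hTC hB₀
  have hBT : ∀ x : T, B (Subgroup.inclusion le_sup_left x) = (β x : Ω) := fun x => hB₀e x _
  have hBC : ∀ c : C, B (Subgroup.inclusion le_sup_right c) ∈ C := fun c =>
    extension_centralizer (le_extender ((mem_autGroup hT.1).1 hβ)) (val_mem hB₀) hB₀e c.2
  have : Finite C := finite_of_le (centralizerIn_le S T)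
  have hBsurj : ∀ c' : C, ∃ c : C, B (Subgroup.inclusion le_sup_right c) = c' := fun c' => by
    obtain ⟨c, hc⟩ := (Finite.injective_iff_surjective (f := fun c : C => (⟨_, hBC c⟩ : C))).1
      (fun c d h => Subgroup.inclusion_injective _
        (F.injective_of_mem hB (congrArg Subtype.val h :))) c'
    exact ⟨c, congrArg Subtype.val hc⟩
  obtain ⟨ω, hω, hωe⟩ := F.inv_mem hB
  have hr : R' ⊔ C ≤ B.range := sup_le
    (fun y hy => ⟨Subgroup.inclusion le_sup_left ((β⁻¹ : MulAut T) ⟨y, hP' (hR'P hy)⟩), by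
      rw [hBT, MulAut.apply_inv_self]⟩)
    fun c hc => ⟨_, (hBsurj ⟨c, hc⟩).choose_spec⟩
  have hω' : ∀ (y : R'), ω ⟨y, hr (Subgroup.mem_sup_left y.2)⟩ = (e y : Ω) := fun y => by
    refine (congrArg ω (Subtype.ext ?_)).trans
      (hωe (Subgroup.inclusion le_sup_left ⟨e y, hφ.1 (hRP (e y).2)⟩))
    show (y : Ω) = B _
    rw [hBT]
    obtain ⟨x, hx⟩ := a.surjective ⟨y, hR'P y.2⟩
    have h1 : (e y : Ω) = x := by
      rw [hee]
      rw [← hx, a.symm_apply_apply]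
    refine (congrArg Subtype.val hx).symm.trans ((ha x).trans ?_)
    exact congrArg (fun t : T => (β t : Ω)) (Subtype.ext h1.symm)
  have hω'' : ∀ c : C, ∃ c₀ : C, ω ⟨c, hr (Subgroup.mem_sup_right c.2)⟩ = c₀ ∧
      B (Subgroup.inclusion le_sup_right c₀) = c := fun c => by
    obtain ⟨c₀, hc₀⟩ := hBsurj c
    exact ⟨c₀, (congrArg ω (Subtype.ext hc₀.symm)).trans (hωe (Subgroup.inclusion le_sup_right c₀)), hc₀⟩
  have hval₁ : ∀ y, (ω.comp (Subgroup.inclusion hr)) y ∈ R ⊔ C := by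
    refine fun y => sup_map_le (fun z => ?_) (fun c => ?_) y
    · exact (hω' z).symm ▸ Subgroup.mem_sup_left (e z).2
    · obtain ⟨c₀, hc₀, -⟩ := hω'' c
      exact hc₀.symm ▸ Subgroup.mem_sup_right c₀.2
  have hψT : ∀ r : R, ψ (Subgroup.inclusion le_sup_left r) ∈ T := fun r => by
    rw [hψe]; exact val_mem hφ _
  have hval₂ : ∀ y, ψ y ∈ T ⊔ C := by
    refine fun y => sup_map_le (fun r => Subgroup.mem_sup_left (hψT r)) (fun c => ?_) y
    rw [show ψ (Subgroup.inclusion le_sup_right c) =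
      (c : Ω) * ((c : Ω)⁻¹ * ψ (Subgroup.inclusion le_sup_right c)) by group]
    exact mul_mem (Subgroup.mem_sup_right c.2) (Subgroup.mem_sup_left (hψc c))
  refine ⟨_, F.comp_mem (F.comp_mem (restrict_mem hr hω) hψ hval₁) hB (fun y => hval₂ _),
    fun y => ?_, fun c => ?_⟩
  · show B ⟨ψ ⟨ω ⟨y, _⟩, _⟩, _⟩ = χ ⟨y, hR'P y.2⟩
    obtain ⟨x, hx⟩ := a.surjective ⟨y, hR'P y.2⟩
    have h1 : ω ⟨(y : Ω), hr (Subgroup.mem_sup_left y.2)⟩ = x := by
      rw [hω', hee]
      show (a.symm ⟨y, hR'P y.2⟩ : Ω) = x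
      rw [← hx, a.symm_apply_apply]
    have h2 : ψ ⟨ω ⟨(y : Ω), hr (Subgroup.mem_sup_left y.2)⟩, hval₁ ⟨_, Subgroup.mem_sup_left y.2⟩⟩ =
        φ x := by
      refine (congrArg ψ (Subtype.ext (hω' y))).trans ((hψe (e y)).trans ?_)
      exact congrArg φ (Subtype.ext ((hω' y).symm.trans h1))
    rw [← hx, hχ]
    exact (congrArg B (Subtype.ext h2)).trans (hBT ⟨φ x, val_mem hφ x⟩)
  · obtain ⟨c₀, hc₀, hBc⟩ := hω'' c
    show (c : Ω)⁻¹ * B ⟨ψ ⟨ω ⟨c, _⟩, _⟩, _⟩ ∈ T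
    have h2 : ψ ⟨ω ⟨(c : Ω), hr (Subgroup.mem_sup_right c.2)⟩, hval₁ ⟨_, Subgroup.mem_sup_right c.2⟩⟩
        = (c₀ : Ω) * ((c₀ : Ω)⁻¹ * ψ (Subgroup.inclusion le_sup_right c₀)) := by
      rw [mul_inv_cancel_left]
      exact congrArg ψ (Subtype.ext hc₀)
    have h3 : B ⟨_, hval₂ ⟨ω ⟨(c : Ω), hr (Subgroup.mem_sup_right c.2)⟩,
        hval₁ ⟨_, Subgroup.mem_sup_right c.2⟩⟩⟩ = (c : Ω) * (β ⟨_, hψc c₀⟩ : Ω) := by
      refine (congrArg B (Subtype.ext (a2 := Subgroup.inclusion le_sup_right c₀ *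
        Subgroup.inclusion (le_sup_left : T ≤ T ⊔ C) ⟨_, hψc c₀⟩) h2)).trans ?_
      rw [map_mul, hBc, hBT]
    rw [h3, inv_mul_cancel_left]
    exact Subtype.coe_prop _

/-- `p`-automorphisms of centric subgroups are good. -/
theorem pPart_le_gsys (hS : IsPGroup p S) (hE : E.IsWeaklyNormalIn F p) {P : Subgroup Ω}
    (hP : E.IsCentric P) : IndexPrime.pPart E p P ≤ (gsys hE.2.2.2.1).autGroup P := by
  obtain ⟨hEs, hF, hEi⟩ := hE
  have hT := hEi.2.1
  have hTS := hT.1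
  have : Finite T := finite_of_le hTS
  have hEI := IsInvariantIn.strongInvariant hEi
  refine IndexPrime.pPart_le_of fun γ hγ ⟨k, hk⟩ => ?_
  refine (mem_autGroup hP.1).2 (mem_gsys hT hP.1 ?_)
  obtain ⟨Q, hPQ, hQ⟩ := exists_fullyNormalized (F := F) (hP.1.trans hTS)
  obtain ⟨e₀, he₀⟩ := isConj_iff_iso.1 hPQ
  obtain ⟨γ₀, hγ₀, u, hu, -, hue⟩ := exists_extend_fullyNormalized hS hF hQ he₀
  let e := e₀.trans γ₀
  have he : IsIso F e := he₀.trans ((mem_autGroup hQ.1).1 hγ₀)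
  have hPc := cen_of_isCentric hEi hP
  have hQc : Cen F T Q := by
    have h1 := hPc.image hT he
    rwa [iso_range] at h1
  have hQE : E.IsFullyNormalized Q := by
    refine ⟨hQc.1, fun R hR => ?_⟩
    obtain ⟨f, hf⟩ := isConj_iff_iso.1 (isConj_symm hR)
    obtain ⟨δ, -, v, hv, hvN, -⟩ := exists_extend_fullyNormalized hS hF hQ
      (show IsIso F f from hEi.1 _ hf)
    have hle : normalizerIn T R ≤ normalizerIn S R := inf_le_inf hTS le_rfl
    have : Finite (normalizerIn T Q) := finite_of_le (normalizerIn_le T Q)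
    exact Finite.card_le_of_embedding
      ⟨fun g => ⟨v ⟨g, hle g.2⟩, map_mem_of_stronglyClosed hT hv ⟨g, hle g.2⟩ g.2.1, (hvN _).2⟩,
        fun a b hab => Subtype.ext (congrArg Subtype.val
          (F.injective_of_mem hv (congrArg Subtype.val hab :)) :)⟩
  have := finite_mulAut hQc.1
  obtain ⟨-, hsyl⟩ := isFullyAutomized_iff.1 (fullyNormalized_props (hS.to_le hTS) hEs hQE).1
  have hγ' : MulAut.congr e γ ∈ E.autGroup Q := Residual.congr_mem hEI hP.1 hQc.1 he hγ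
  have hord : orderOf (MulAut.congr e γ) = p ^ k := by
    rw [← hk]
    exact orderOf_injective (MulAut.congr e).toMonoidHom (MulAut.congr e).injective γ
  obtain ⟨c, hc, hcX⟩ := hsyl.exists_conj_le (Subgroup.zpowers_le.2 hγ')
    (IsPGroup.of_card (n := k) (by rw [Nat.card_zpowers, hord]))
  obtain ⟨t, ht, hte⟩ := exists_of_mem_autInducedBy (hcX _ (Subgroup.mem_zpowers _))
  -- lift `c` to `Q ⊔ C_S(Q)`
  set Z := centralizerIn S Q
  set M := Q ⊔ Z
  have : Finite M := finite_of_le (sup_le hQ.1 (centralizerIn_le S Q))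
  have hcF : IsIso F (c : Q ≃* Q) := hEi.1 _ ((mem_autGroup hQc.1).1 hc)
  obtain ⟨K₀, hK₀, hK₀e⟩ := receptive_extend (fullyNormalized_props hS hF hQ).2 hcF
  have hM : M ≤ extender S Q (Q.subtype.comp (c : Q ≃* Q).toMonoidHom) :=
    sup_le (le_extender hcF) (centralizerIn_le_extender _ _ _)
  obtain ⟨K, -, hKe⟩ := exists_aut_of_self_map (restrict_mem hM hK₀)
    (sup_map_le (fun x => Subgroup.mem_sup_left (by
      show K₀ _ ∈ Q
      exact (hK₀e x (hM (Subgroup.mem_sup_left x.2))).symm ▸ (c x).2))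
      fun z => Subgroup.mem_sup_right
        (extension_centralizer (le_extender hcF) (val_mem hK₀) hK₀e z.2))
  have hKQ : ∀ x : Q, ((K (Subgroup.inclusion le_sup_left x) : M) : Ω) = c x := fun x =>
    (hKe _).trans (hK₀e x _)
  have hKZ : ∀ z : Z, ((K (Subgroup.inclusion le_sup_right z) : M) : Ω) ∈ Z := fun z => by
    rw [hKe]
    exact extension_centralizer (le_extender hcF) (val_mem hK₀) hK₀e z.2
  have htS : t ∈ S := hTS ht.1
  have htZ : ∀ z ∈ Z, t * z * t⁻¹ ∈ Z := fun z hz => mem_centralizerIn.2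
    ⟨S.mul_mem (S.mul_mem htS hz.1) (S.inv_mem htS), fun x hx => by
      have h1 : t⁻¹ * x * t ∈ Q := by
        simpa using conj_mem_of_mem_normalizer (inv_mem ht.2) hx
      have h2 := (mem_centralizerIn.1 hz).2 _ h1
      calc x * (t * z * t⁻¹) = t * (t⁻¹ * x * t * z) * t⁻¹ := by group
        _ = t * (z * (t⁻¹ * x * t)) * t⁻¹ := by rw [h2]
        _ = t * z * t⁻¹ * x := by group⟩
  have htM : t ∈ Subgroup.normalizer (M : Set Ω) := by
    refine mem_normalizer_of_conj_mem fun x hx => ?_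
    have h1 : M ≤ M.comap (MulAut.conj t).toMonoidHom := sup_le
      (fun x hx => Subgroup.mem_sup_left (conj_mem_of_mem_normalizer ht.2 hx))
      fun z hz => Subgroup.mem_sup_right (htZ z hz)
    exact h1 hx
  let κ : MulAut M := K⁻¹ * conjAut M htM * K
  have hKF : K ∈ F.autGroup M := by
    refine (mem_autGroup (sup_le hQ.1 (centralizerIn_le S Q))).2 ?_
    exact mem_of_agree hM hK₀ fun x => hKe x
  have hκ : IsIso F (κ : M ≃* M) := (mem_autGroup (sup_le hQ.1 (centralizerIn_le S Q))).1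
    (mul_mem (mul_mem (inv_mem hKF) (autInducedBy_le_autGroup (sup_le hQ.1 (centralizerIn_le S Q))
      (conjAut_mem_autInducedBy htS htM))) hKF)
  have hκQ : ∀ x : Q, κ (Subgroup.inclusion le_sup_left x) =
      Subgroup.inclusion le_sup_left (MulAut.congr e γ x) := fun x => by
    apply K.injective
    refine Subtype.ext ?_
    simp only [κ, MulAut.mul_apply, MulAut.apply_inv_self, conjAut_apply, hKQ]
    rw [← hte, MulAut.mul_apply, MulAut.mul_apply, MulAut.inv_apply_self]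
  have hκZ : ∀ z : Z, ∃ q : Q, κ (Subgroup.inclusion le_sup_right z) =
      Subgroup.inclusion le_sup_right z * Subgroup.inclusion le_sup_left q := fun z => by
    set v : Ω := ((K (Subgroup.inclusion le_sup_right z) : M) : Ω) with hvdef
    have hv : v ∈ Z := hKZ z
    have hq : v⁻¹ * (t * v * t⁻¹) ∈ Q := by
      refine hQc.le hT ⟨?_, (Subgroup.centralizer _).mul_mem (Z.inv_mem hv).2 (htZ v hv).2⟩
      have h1 := conj_mem_of_mem_normalizer
        (le_normalizer_of_stronglyClosed hT (S.inv_mem hv.1)) ht.1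
      rw [inv_inv] at h1
      rw [show v⁻¹ * (t * v * t⁻¹) = v⁻¹ * t * v * t⁻¹ by group]
      exact T.mul_mem h1 (T.inv_mem ht.1)
    refine ⟨(c : Q ≃* Q).symm ⟨_, hq⟩, K.injective (Subtype.ext ?_)⟩
    rw [map_mul, Subgroup.coe_mul, hKQ, ← hvdef, MulEquiv.apply_symm_apply]
    simp only [κ, MulAut.mul_apply, MulAut.apply_inv_self, conjAut_apply, ← hvdef]
    group
  -- pull back
  set C := centralizerIn S T
  have hCP : C ≤ normalizerIn S P := le_trans
    (inf_le_inf le_rfl (Subgroup.centralizer_le hP.1)) (centralizerIn_le_normalizerIn S P)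
  let ψ := u.comp (Subgroup.inclusion (sup_le (le_normalizerIn (hP.1.trans hTS)) hCP :
    P ⊔ C ≤ normalizerIn S P))
  have hψ : ψ ∈ F.Hom (P ⊔ C) := restrict_mem _ hu
  have hψP : ∀ x : P, ψ (Subgroup.inclusion le_sup_left x) = (e x : Ω) := fun x => hue x _
  have hψC : ∀ d : C, ψ (Subgroup.inclusion le_sup_right d) ∈ Z := fun d =>
    extension_centralizer (le_normalizerIn (hP.1.trans hTS)) (val_mem hu)
      (fun x hx => hue x hx) (e := e) (g := ⟨d, hCP d.2⟩)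
      (inf_le_inf le_rfl (Subgroup.centralizer_le hP.1) d.2)
  have hval : ∀ y, ψ y ∈ M := sup_map_le
    (fun x => (hψP x).symm ▸ Subgroup.mem_sup_left (e x).2) fun d => Subgroup.mem_sup_right (hψC d)
  let f : ↥(P ⊔ C) →* Ω := (M.subtype.comp (κ : M ≃* M).toMonoidHom).comp (ψ.codRestrict M hval)
  have hf : f ∈ F.Hom (P ⊔ C) := F.comp_mem hψ hκ hval
  have hfP : ∀ x : P, f (Subgroup.inclusion le_sup_left x) =
      ψ (Subgroup.inclusion le_sup_left (γ x)) := fun x => by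
    show ((κ ⟨ψ _, _⟩ : M) : Ω) = _
    rw [show (⟨ψ (Subgroup.inclusion le_sup_left x), hval _⟩ : M) =
      Subgroup.inclusion le_sup_left (e x) from Subtype.ext (hψP x), hκQ]
    exact (hψP (γ x)).symm ▸ (by simp)
  have hfC : ∀ d : C, ∃ r : P, f (Subgroup.inclusion le_sup_right d) =
      ψ (Subgroup.inclusion le_sup_right d * Subgroup.inclusion le_sup_left r) := fun d => by
    obtain ⟨q, hq⟩ := hκZ ⟨_, hψC d⟩
    refine ⟨e.symm q, ?_⟩
    show ((κ ⟨ψ _, _⟩ : M) : Ω) = _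
    rw [map_mul, hψP, e.apply_symm_apply]
    exact congrArg Subtype.val hq
  obtain ⟨ω, hω, hωe⟩ := F.inv_mem hψ
  have hfr : ∀ y, f y ∈ ψ.range := sup_map_le (fun x => ⟨_, (hfP x).symm⟩)
    fun d => ⟨_, (hfC d).choose_spec.symm⟩
  refine ⟨_, F.comp_mem hf hω hfr, fun x => ?_, fun d => ?_⟩
  · exact (congrArg ω (Subtype.ext (hfP x))).trans
      (hωe (Subgroup.inclusion le_sup_left (γ x)))
  · obtain ⟨r, hr⟩ := hfC d
    have h1 : (ω.comp (f.codRestrict _ hfr)) (Subgroup.inclusion le_sup_right d) = (d : Ω) * r :=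
      (congrArg ω (Subtype.ext hr)).trans
        (hωe (Subgroup.inclusion le_sup_right d * Subgroup.inclusion le_sup_left r))
    rw [h1, inv_mul_cancel_left]
    exact hP.1 r.2

omit [Finite S] [Fact p.Prime] in
theorem mem_normalizer_sup {A B : Subgroup Ω} [Finite ↥(A ⊔ B)] {g : Ω}
    (hA : g ∈ Subgroup.normalizer (A : Set Ω)) (hB : g ∈ Subgroup.normalizer (B : Set Ω)) :
    g ∈ Subgroup.normalizer ((A ⊔ B : Subgroup Ω) : Set Ω) := by
  refine mem_normalizer_of_conj_mem fun x hx => ?_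
  have h1 : A ⊔ B ≤ (A ⊔ B).comap (MulAut.conj g).toMonoidHom := sup_le
    (fun x hx => Subgroup.mem_sup_left (conj_mem_of_mem_normalizer hA hx))
    fun x hx => Subgroup.mem_sup_right (conj_mem_of_mem_normalizer hB hx)
  exact h1 hx

omit [Finite S] [Fact p.Prime] in
theorem mem_normalizer_C {g : Ω} (hg : g ∈ T) :
    g ∈ Subgroup.normalizer ((centralizerIn S T : Subgroup Ω) : Set Ω) :=
  centralizer_le_normalizer' _ fun _ hx => (commute_C hx hg).eq

omit [Finite S] [Fact p.Prime] in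
/-- Automorphisms fixing `A` and trivial modulo `A`. -/
def layer (M A : Subgroup Ω) : Subgroup (MulAut M) where
  carrier := {a | (∀ x : M, (x : Ω) ∈ A → a x = x) ∧ ∀ x : M, ((x⁻¹ * a x : M) : Ω) ∈ A}
  one_mem' := ⟨fun _ _ => rfl, fun x => by simp⟩
  mul_mem' {a b} ha hb := ⟨fun x hx => by rw [MulAut.mul_apply, hb.1 x hx, ha.1 x hx], fun x => by
    rw [MulAut.mul_apply, show x⁻¹ * a (b x) = (x⁻¹ * b x) * ((b x)⁻¹ * a (b x)) by group,
      Subgroup.coe_mul]
    exact A.mul_mem (hb.2 x) (ha.2 _)⟩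
  inv_mem' {a} ha := ⟨fun x hx => by
      conv_lhs => rw [← ha.1 x hx]
      rw [MulAut.inv_apply_self], fun x => by
    have h := A.inv_mem (ha.2 ((a⁻¹ : MulAut M) x))
    rw [MulAut.apply_inv_self, ← Subgroup.coe_inv, mul_inv_rev, inv_inv] at h
    exact h⟩

omit [Finite S] [Fact p.Prime] in
theorem isPGroup_layer {M A : Subgroup Ω} [Finite M] [Fact p.Prime] (hM : IsPGroup p M) :
    IsPGroup p (layer M A) := by
  obtain ⟨k, hk⟩ := hM.exists_card_eq
  rintro ⟨a, ha⟩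
  refine ⟨k, Subtype.ext (MulEquiv.ext fun y => ?_)⟩
  have hpow : ∀ j : ℕ, (a ^ j) y = y * (y⁻¹ * a y) ^ j := by
    intro j
    induction j with
    | zero => simp
    | succ j ih =>
      rw [pow_succ', MulAut.mul_apply, ih, map_mul, map_pow, ha.1 _ (ha.2 y)]
      rw [pow_succ' (y⁻¹ * a y), ← mul_assoc]
      group
  show (a ^ p ^ k) y = y
  rw [hpow, ← hk, pow_card_eq_one', mul_one]

omit [Finite S] [Fact p.Prime] in
theorem conj_layer {M A : Subgroup Ω} {k a : MulAut M} (hk : k ∈ SatCriterion.stab M A)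
    (ha : a ∈ layer M A) : k * a * k⁻¹ ∈ layer M A := by
  refine ⟨fun x hx => ?_, fun x => ?_⟩
  · have h1 : (((k⁻¹ : MulAut M) x : M) : Ω) ∈ A := by
      rw [← hk ((k⁻¹ : MulAut M) x), MulAut.apply_inv_self]
      exact hx
    rw [MulAut.mul_apply, MulAut.mul_apply, ha.1 _ h1, MulAut.apply_inv_self]
  · rw [MulAut.mul_apply, MulAut.mul_apply]
    have h := (hk _).2 (ha.2 ((k⁻¹ : MulAut M) x))
    rw [map_mul, map_inv, MulAut.apply_inv_self] at h
    exact h

/-- A good restriction to a centric subgroup passes to the normalizer, up to a good map. -/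
theorem exists_good_extension (hS : IsPGroup p S) (hF : F.IsSaturated p) (hT : F.StronglyClosed T)
    {α : MulAut T} (hα : α ∈ F.autGroup T) {P : Subgroup Ω} (hPc : Cen F T P)
    (hP : GoodMap F T ((T.subtype.comp α.toMonoidHom).comp (Subgroup.inclusion hPc.1))) :
    ∃ g : ↥(normalizerIn T P) →* Ω, GoodMap F T g ∧
      (∀ (x : P) (hx : (x : Ω) ∈ normalizerIn T P), g ⟨x, hx⟩ = (α ⟨x, hPc.1 x.2⟩ : Ω)) ∧
      ∀ n, g n ∈ autImage α (normalizerIn T P) := by
  have hφ := hP.hom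
  set φ := (T.subtype.comp α.toMonoidHom).comp (Subgroup.inclusion hPc.1) with hφdef
  obtain ⟨ψ, hψ, hψe, hψc⟩ := hP
  let C := centralizerIn S T
  have hP'c : Cen F T φ.range := hPc.image hT hφ
  have hshift := shift_mem hT hPc.1 hP'c hψe
  -- the range of the extension
  have hval : ∀ y, ψ y ∈ φ.range ⊔ C := fun y => sup_map_le
    (fun x => (hψe x).symm ▸ Subgroup.mem_sup_left (show φ x ∈ φ.range from ⟨x, rfl⟩))
    (fun c => by
      rw [show ψ (Subgroup.inclusion le_sup_right c) =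
        (c : Ω) * ((c : Ω)⁻¹ * ψ (Subgroup.inclusion le_sup_right c)) by group]
      exact mul_mem (Subgroup.mem_sup_right c.2) (Subgroup.mem_sup_left (hshift c (hψc c)))) y
  have hrange : ψ.range = φ.range ⊔ C := le_antisymm (by rintro _ ⟨y, rfl⟩; exact hval y) (sup_le
    (by rintro _ ⟨x, rfl⟩; exact ⟨_, hψe x⟩) fun c hc => by
      obtain ⟨r, hr⟩ := hshift ⟨c, hc⟩ (hψc ⟨c, hc⟩)
      refine ⟨Subgroup.inclusion le_sup_right ⟨c, hc⟩ * (Subgroup.inclusion le_sup_left r)⁻¹, ?_⟩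
      rw [map_mul, map_inv, hψe, hr]
      group)
  let ê := toIso ψ hψ hrange
  have hê : IsIso F ê := isIso_toIso ψ hψ hrange
  obtain ⟨M₂, A₂, θ, f, hθ, hf, hadj⟩ := SatCriterion.exists_adjusted (p := p) hS
    (le_sup_left : φ.range ≤ φ.range ⊔ C) (hF _ hê.tgt_le)
  -- make the image of the normalizer act through `S`
  set N := normalizerIn T P with hNdef
  have hNT : N ≤ T := normalizerIn_le T P
  have : Finite ↥(P ⊔ C) := finite_of_le hê.src_le
  have : Finite ↥(φ.range ⊔ C) := finite_of_le hê.tgt_le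
  set H := autImage α N
  have hHT : H ≤ T := autImage_le α N
  have hnpn : ∀ (n : T) (hn : (n : Ω) ∈ N) (x : P), (α n : Ω) * φ x * (α n : Ω)⁻¹ =
      φ ⟨n * x * (n : Ω)⁻¹, conj_mem_of_mem_normalizer hn.2 x.2⟩ := fun n hn x => by
    show (α n : Ω) * (α _ : Ω) * (α n : Ω)⁻¹ = (α _ : Ω)
    rw [← Subgroup.coe_inv, ← Subgroup.coe_mul, ← Subgroup.coe_mul, ← map_inv, ← map_mul, ← map_mul]
    rfl
  have hHP : H ≤ Subgroup.normalizer (φ.range : Set Ω) := by
    rintro _ ⟨n, hn, rfl⟩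
    have : Finite φ.range := finite_of_le (hP'c.1.trans hT.1)
    refine mem_normalizer_of_conj_mem ?_
    rintro _ ⟨x, rfl⟩
    exact ⟨_, (hnpn n hn x).symm⟩
  have hH : H ≤ normalizerIn S (φ.range ⊔ C) := fun y hy =>
    ⟨hT.1 (hHT hy), mem_normalizer_sup (hHP hy) (mem_normalizer_C (hHT hy))⟩
  have hN : N ≤ normalizerIn S (P ⊔ C) := fun y hy =>
    ⟨hT.1 (hNT hy), mem_normalizer_sup hy.2 (mem_normalizer_C (hNT hy))⟩
  have := finite_mulAut hadj.receptive.1
  let X := ((SatCriterion.transported hθ le_sup_left hf hH hHP).range).map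
    (F.autGroup M₂ ⊓ SatCriterion.stab M₂ A₂).subtype
  have hX : IsPGroup p X :=
    (((hS.to_le (hH.trans (normalizerIn_le S _))).of_surjective _
      (MonoidHom.rangeRestrict_surjective (SatCriterion.transported hθ le_sup_left hf hH hHP))).map _)
  obtain ⟨k, hk, hkX⟩ := hadj.sylow.exists_conj_le (Subgroup.map_subtype_le _) hX
  let θ' := θ.trans k
  let f' := f.trans (SatCriterion.restr hadj.le ⟨k, hk.2⟩)
  have hθ' : IsIso F θ' := hθ.trans ((mem_autGroup hadj.receptive.1).1 hk.1)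
  have hf' : ∀ x : φ.range, (f' x : Ω) = θ' ⟨x, (le_sup_left : φ.range ≤ φ.range ⊔ C) x.2⟩ :=
    fun x => by
      show ((k ⟨(f x : Ω), hadj.le (f x).2⟩ : M₂) : Ω) = (k (θ _) : M₂)
      exact congrArg (fun z : M₂ => ((k z : M₂) : Ω)) (Subtype.ext (hf x))
  obtain ⟨-, Θ, hΘ, hΘe⟩ := SatCriterion.extend_into hθ' hadj.receptive hH fun g hg => by
    have h1 := hkX _ ⟨_, ⟨⟨g, hg⟩, rfl⟩, rfl⟩
    have h1' : k * MulAut.congr θ (conjAut _ (hH hg).2) * k⁻¹ ∈ autInducedBy S M₂ := h1.1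
    convert h1' using 1
    ext y
    simp [θ']
  -- the other transport
  let η := ê.trans θ'
  have hη : IsIso F η := hê.trans hθ'
  obtain ⟨T₂, hT₂⟩ := SatCriterion.exists_sylow hadj
  have hêP : ∀ x : P, (ê (Subgroup.inclusion le_sup_left x) : Ω) = φ x := fun x => hψe x
  obtain ⟨-, Ψ, hΨ, hΨe⟩ := SatCriterion.extend_into hη hadj.receptive hN fun g hg => by
    set n : T := ⟨g, hNT hg⟩
    have hαn : (α n : Ω) ∈ H := ⟨n, hg, rfl⟩
    set y := MulAut.congr η (conjAut (P ⊔ C) (hN hg).2) with hydef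
    set x := MulAut.congr θ' (conjAut (φ.range ⊔ C) (hH hαn).2) with hxdef
    let e₁ : P ≃* φ.range := toIso φ hφ rfl
    have hyK : y ∈ F.autGroup M₂ ⊓ SatCriterion.stab M₂ A₂ := ⟨hη.autGroup_map ▸
      ⟨_, autInducedBy_le_autGroup hη.src_le (conjAut_mem_autInducedBy (hN hg).1 (hN hg).2), rfl⟩,
      SatCriterion.congr_mem_stab (θ := η) (f := e₁.trans f') le_sup_left (fun z => by
        show (f' (e₁ z) : Ω) = θ' (ê _)
        rw [hf']
        exact congrArg (fun w : ↥(φ.range ⊔ C) => ((θ' w : M₂) : Ω)) (Subtype.ext (hêP z).symm))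
        (hN hg).2 hg.2⟩
    have hxS : x ∈ autInducedBy S M₂ := by
      obtain ⟨hh, heq⟩ := extension_conj (e := θ') le_sup_left hΘe
        (g := ⟨_, Subgroup.mem_sup_right hαn⟩) (hH hαn).2
      rw [hxdef, heq]
      exact conjAut_mem_autInducedBy (val_mem hΘ _) hh
    have hxK : x ∈ F.autGroup M₂ ⊓ SatCriterion.stab M₂ A₂ := ⟨autInducedBy_le_autGroup
      hadj.receptive.1 hxS, SatCriterion.congr_mem_stab le_sup_left hf' (hH hαn).2 (hHP hαn)⟩
    -- the two actions agree on `P`, and differ by `P'` on `C_S(T)`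
    have key : ∀ v : ↥(P ⊔ C), ∃ q : φ.range,
        ê (conjAut (P ⊔ C) (hN hg).2 v) =
          conjAut (φ.range ⊔ C) (hH hαn).2 (ê v) * Subgroup.inclusion le_sup_left q ∧
        ((v : Ω) ∈ P → q = 1) := by
      intro v
      by_cases hv : (v : Ω) ∈ P
      · refine ⟨1, ?_, fun _ => rfl⟩
        rw [map_one, mul_one]
        apply Subtype.ext
        rw [conjAut_apply]
        obtain ⟨v, rfl⟩ : ∃ w : P, Subgroup.inclusion le_sup_left w = v := ⟨⟨v, hv⟩, rfl⟩
        rw [hêP]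
        refine Eq.trans ?_ (hnpn n hg v).symm
        rw [← hêP]
        exact congrArg (fun w : ↥(P ⊔ C) => (ê w : Ω)) (Subtype.ext (conjAut_apply _ _ _))
      obtain ⟨r, hr, c, hc, hrc⟩ := mem_sup_of_normalizes
        (fun x hx => mem_normalizer_C (hPc.1 hx)) v.2
      obtain ⟨s, hs⟩ := hshift ⟨c, hc⟩ (hψc ⟨c, hc⟩)
      have hq : (φ s) * ((α n : Ω) * φ s * (α n : Ω)⁻¹)⁻¹ ∈ φ.range :=
        φ.range.mul_mem ⟨s, rfl⟩ (φ.range.inv_mem ⟨_, (hnpn n hg s).symm⟩)
      refine ⟨⟨((α n : Ω) * φ s * (α n : Ω)⁻¹)⁻¹ * φ s,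
        φ.range.mul_mem (φ.range.inv_mem ⟨_, (hnpn n hg s).symm⟩) ⟨s, rfl⟩⟩, ?_, fun h => absurd h hv⟩
      have hv' : v = Subgroup.inclusion le_sup_left ⟨r, hr⟩ * Subgroup.inclusion le_sup_right ⟨c, hc⟩ :=
        Subtype.ext hrc.symm
      have hêc : (ê (Subgroup.inclusion le_sup_right ⟨c, hc⟩) : Ω) = c * φ s := by
        rw [hs]; show ψ _ = _; group
      have hcv : conjAut (P ⊔ C) (hN hg).2 v = Subgroup.inclusion le_sup_left
          ⟨g * r * g⁻¹, conj_mem_of_mem_normalizer hg.2 hr⟩ *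
          Subgroup.inclusion le_sup_right ⟨c, hc⟩ := by
        apply Subtype.ext
        rw [conjAut_apply, ← hrc]
        show g * (r * c) * g⁻¹ = g * r * g⁻¹ * c
        rw [show g * (r * c) * g⁻¹ = g * r * (c * g⁻¹) by group,
          (commute_C hc (T.inv_mem (hNT hg))).eq]
        group
      apply Subtype.ext
      rw [hcv, hv', map_mul, map_mul, map_mul, Subgroup.coe_mul, Subgroup.coe_mul, Subgroup.coe_mul,
        conjAut_apply, conjAut_apply, hêP, hêP, hêc]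
      show φ _ * (c * φ s) = (α n : Ω) * φ ⟨r, hr⟩ * (α n : Ω)⁻¹ * ((α n : Ω) * (c * φ s) * (α n : Ω)⁻¹) *
        (((α n : Ω) * φ s * (α n : Ω)⁻¹)⁻¹ * φ s)
      rw [hnpn n hg ⟨r, hr⟩]
      refine Eq.trans ?_ (mul_assoc _ _ _).symm
      congr 1
      rw [show (α n : Ω) * (c * φ s) * (α n : Ω)⁻¹ = ((α n : Ω) * c) * φ s * (α n : Ω)⁻¹ by group,
        (commute_C hc (α n).2).eq.symm]
      group
    have hL : y * x⁻¹ ∈ layer M₂ A₂ := by
      have hyx : ∀ z, ∃ q : φ.range, (y * x⁻¹) z = z * θ' (Subgroup.inclusion le_sup_left q) ∧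
          ((z : Ω) ∈ A₂ → q = 1) := by
        intro z
        obtain ⟨w, rfl⟩ := x.surjective z
        obtain ⟨v, rfl⟩ := η.surjective w
        obtain ⟨q, hq, hq'⟩ := key v
        refine ⟨q, ?_, fun hz => hq' ?_⟩
        · rw [MulAut.mul_apply, MulAut.inv_apply_self]
          simp only [hydef, hxdef, η, MulAut.congr_apply, MulEquiv.trans_apply,
            MulEquiv.symm_trans_apply, MulEquiv.symm_apply_apply]
          rw [hq, map_mul]
        · have h1 : ((η v : M₂) : Ω) ∈ A₂ := (hxK.2 _).1 hz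
          obtain ⟨q₁, hq₁⟩ := f'.surjective ⟨_, h1⟩
          obtain ⟨z₁, hz₁⟩ := q₁.2
          have h2 : θ' ⟨q₁, (le_sup_left : φ.range ≤ φ.range ⊔ C) q₁.2⟩ = θ' (ê v) :=
            Subtype.ext ((hf' q₁).symm.trans (congrArg Subtype.val hq₁))
          have h3 : ê v = ê (Subgroup.inclusion le_sup_left z₁) := Subtype.ext
            ((congrArg Subtype.val (θ'.injective h2)).symm.trans (hz₁.symm.trans (hêP z₁).symm))
          rw [ê.injective h3]
          exact z₁.2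
      refine ⟨fun z hz => ?_, fun z => ?_⟩
      · obtain ⟨q, hq, hq'⟩ := hyx z
        rw [hq, hq' hz, map_one, map_one, mul_one]
      · obtain ⟨q, hq, -⟩ := hyx z
        rw [hq, inv_mul_cancel_left]
        exact hf' q ▸ (f' q).2
    let K := F.autGroup M₂ ⊓ SatCriterion.stab M₂ A₂
    have hLn : ((layer M₂ A₂).subgroupOf K).Normal :=
      ⟨fun l hl b => conj_layer b.2.2 hl⟩
    have : Finite M₂ := finite_of_le hadj.receptive.1
    have hLp : IsPGroup p ((layer M₂ A₂).subgroupOf K) :=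
      isPGroup_subgroupOf (isPGroup_layer (hS.to_le hadj.receptive.1))
    have h1 : ((⟨y * x⁻¹, mul_mem hyK (inv_mem hxK)⟩ : K) : MulAut M₂) ∈ autInducedBy S M₂ :=
      (hT₂ _).1 (IsPGroup.le_sylow_of_normal hLp T₂ (show _ ∈ (layer M₂ A₂).subgroupOf K from hL))
    simpa using mul_mem h1 hxS
  -- compare the images of the normalizer
  obtain ⟨ω, hω, hωe⟩ := F.inv_mem hΘ
  have hA₂ : Cen F T A₂ := by
    have hf'F : IsIso F f' := isIso_of_agree le_sup_left hθ' fun x => hf' x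
    have h1 := hP'c.image hT hf'F
    rwa [iso_range] at h1
  have hΨP : ∀ (x : P), Ψ (Subgroup.inclusion le_sup_left (Subgroup.inclusion le_sup_left x)) =
      Θ (Subgroup.inclusion le_sup_left (Subgroup.inclusion le_sup_left ⟨φ x, x, rfl⟩)) := fun x => by
    rw [show Ψ (Subgroup.inclusion le_sup_left (Subgroup.inclusion le_sup_left x)) = _ from hΨe _ _]
    refine Eq.trans ?_ (hΘe _ _).symm
    exact congrArg (fun w : ↥(φ.range ⊔ C) => ((θ' w : M₂) : Ω)) (Subtype.ext (hêP x))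
  have hΨN : ∀ n : N, ∃ h : H, Ψ (Subgroup.inclusion le_sup_right n) =
      Θ (Subgroup.inclusion le_sup_right h) := by
    intro n
    set m : T := ⟨n, hNT n.2⟩
    have hαn : (α m : Ω) ∈ H := ⟨m, n.2, rfl⟩
    set t₁ := Ψ (Subgroup.inclusion le_sup_right n)
    set t₂ := Θ (Subgroup.inclusion le_sup_right ⟨(α m : Ω), hαn⟩)
    have ht₁ : t₁ ∈ T := map_mem_of_stronglyClosed hT hΨ _ (hNT n.2)
    have ht₂ : t₂ ∈ T := map_mem_of_stronglyClosed hT hΘ _ (hHT hαn)
    have hu : t₂⁻¹ * t₁ ∈ A₂ := by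
      refine hA₂.le hT (mem_centralizerIn.2 ⟨T.mul_mem (T.inv_mem ht₂) ht₁, fun z hz => ?_⟩)
      obtain ⟨q, hq⟩ := f'.surjective ⟨z, hz⟩
      obtain ⟨x, hx⟩ := q.2
      have hz' : z = Θ (Subgroup.inclusion le_sup_left (Subgroup.inclusion le_sup_left ⟨φ x, x, rfl⟩)) := by
        rw [show z = (f' q : Ω) from (congrArg Subtype.val hq).symm, hf']
        refine Eq.trans ?_ (hΘe (Subgroup.inclusion le_sup_left (⟨φ x, x, rfl⟩ : φ.range)) _).symm
        exact congrArg (fun w : ↥(φ.range ⊔ C) => ((θ' w : M₂) : Ω)) (Subtype.ext hx.symm)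
      have h1 : t₁ * z * t₁⁻¹ = t₂ * z * t₂⁻¹ := by
        have h2 : t₁ * z * t₁⁻¹ = Ψ (Subgroup.inclusion le_sup_left (Subgroup.inclusion le_sup_left
            ⟨n * x * (n : Ω)⁻¹, conj_mem_of_mem_normalizer n.2.2 x.2⟩)) := by
          rw [hz', ← hΨP x, ← map_inv Ψ, ← map_mul, ← map_mul]
          exact congrArg Ψ (Subtype.ext rfl)
        rw [h2, hΨP, hz', ← map_inv Θ, ← map_mul, ← map_mul]
        exact congrArg Θ (Subtype.ext (hnpn m n.2 x).symm)
      calc z * (t₂⁻¹ * t₁) = t₂⁻¹ * (t₂ * z * t₂⁻¹) * t₁ := by group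
        _ = t₂⁻¹ * (t₁ * z * t₁⁻¹) * t₁ := by rw [h1]
        _ = t₂⁻¹ * t₁ * z := by group
    obtain ⟨q, hq⟩ := f'.surjective ⟨_, hu⟩
    obtain ⟨x, hx⟩ := q.2
    refine ⟨⟨(α m : Ω), hαn⟩ * ⟨φ x, ⟨⟨x, hPc.1 x.2⟩, le_normalizerIn hPc.1 x.2, rfl⟩⟩, ?_⟩
    rw [map_mul, map_mul]
    have h3 : Θ (Subgroup.inclusion le_sup_right (⟨φ x, ⟨⟨x, hPc.1 x.2⟩, le_normalizerIn hPc.1 x.2,
        rfl⟩⟩ : H)) = t₂⁻¹ * t₁ := by
      rw [← show (f' q : Ω) = t₂⁻¹ * t₁ from congrArg Subtype.val hq, hf']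
      refine Eq.trans ?_ (hΘe ⟨q, (le_sup_left : φ.range ≤ φ.range ⊔ C) q.2⟩
        (Subgroup.mem_sup_left (Subgroup.mem_sup_left q.2)))
      exact congrArg Θ (Subtype.ext hx)
    rw [h3, mul_inv_cancel_left]
  have hΨD : ∀ v : ↥(P ⊔ C), Ψ (Subgroup.inclusion le_sup_left v) =
      Θ (Subgroup.inclusion le_sup_left (ê v)) := fun v => (hΨe v _).trans (hΘe (ê v) _).symm
  have hΨr : ∀ w, Ψ w ∈ Θ.range := fun w => sup_map_le (R := Θ.range) (f := Ψ)
    (fun v => ⟨_, (hΨD v).symm⟩) (fun n => ⟨_, (hΨN n).choose_spec.symm⟩) w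
  let g₀ := ω.comp (Ψ.codRestrict _ hΨr)
  have hg₀ : g₀ ∈ F.Hom _ := F.comp_mem hΨ hω hΨr
  have hg₀D : ∀ v : ↥(P ⊔ C), g₀ (Subgroup.inclusion le_sup_left v) = ψ v := fun v =>
    (congrArg ω (Subtype.ext (hΨD v))).trans (hωe (Subgroup.inclusion le_sup_left (ê v)))
  have hle : N ⊔ C ≤ (P ⊔ C) ⊔ N := sup_le le_sup_right (le_sup_right.trans le_sup_left)
  refine ⟨g₀.comp (Subgroup.inclusion le_sup_right), ⟨_, restrict_mem hle hg₀, fun _ => rfl,
    fun c => ?_⟩, fun x hx => ?_, fun n => ?_⟩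
  · exact (hg₀D (Subgroup.inclusion le_sup_right c)).symm ▸ hψc c
  · exact (hg₀D (Subgroup.inclusion le_sup_left x)).trans (hψe x)
  · obtain ⟨h, hh⟩ := hΨN n
    show ω ⟨Ψ (Subgroup.inclusion le_sup_right n), _⟩ ∈ H
    have h1 : ω ⟨Ψ (Subgroup.inclusion le_sup_right n), hΨr _⟩ = h :=
      (congrArg ω (Subtype.ext hh)).trans (hωe (Subgroup.inclusion le_sup_right h))
    exact h1.symm ▸ h.2

theorem closed_gsys (hS : IsPGroup p S) (hE : E.IsWeaklyNormalIn F p) {α : MulAut T}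
    (hα : α ∈ E.autGroup T) :
    ∀ (P : Subgroup Ω) (hP : E.IsCentric P),
      GoodMap F T ((T.subtype.comp α.toMonoidHom).comp (Subgroup.inclusion hP.1)) →
        α ∈ (gsys hE.2.2.2.1).autGroup T := by
  obtain ⟨hEs, hF, hEi⟩ := hE
  have hT := hEi.2.1
  have hTS := hT.1
  have : Finite T := finite_of_le hTS
  have hTp : IsPGroup p T := hS.to_le hTS
  have hEF := autGroup_mono_of_subsystem hEi.1 T
  intro P
  induction hk : Nat.card T - Nat.card P using Nat.strong_induction_on generalizing P with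
  | _ k ih =>
    subst hk
    intro hP hgood
    rcases hP.1.eq_or_lt with rfl | hlt
    · exact (mem_autGroup le_rfl).2 (mem_gsys hT le_rfl (hgood.mono le_rfl fun x => rfl))
    set N := normalizerIn T P
    have hNT : N ≤ T := normalizerIn_le T P
    have : Finite N := finite_of_le hNT
    have hlt₁ : P < N := lt_normalizer_inf hTp hlt
    have hcard : Nat.card P < Nat.card N :=
      lt_of_not_ge fun hge => hlt₁.ne (eq_of_le_card hlt₁.le hge)
    have hN : E.IsCentric N := isCentric_of_le hP hlt₁.le hNT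
    have hle : Nat.card N ≤ Nat.card T := Subgroup.card_le_of_le hNT
    refine ih _ (by omega) N rfl hN (goodMap_of_gsys hT (cen_of_isCentric hEi hN) ?_)
    obtain ⟨g, hg, hgP, hgN⟩ := exists_good_extension hS hF hT (hEF hα) (cen_of_isCentric hEi hP) hgood
    have hg' := mem_gsys hT hNT hg
    have hgN' : ∀ x : N, (((α⁻¹ : MulAut T) ⟨g x, val_mem hg' x⟩ : T) : Ω) ∈ N := fun x => by
      obtain ⟨y, hy, hyg⟩ := hgN x
      rw [show (⟨g x, val_mem hg' x⟩ : T) = α y from Subtype.ext hyg.symm, MulAut.inv_apply_self]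
      exact hy
    let γ₀ : N →* N := ((T.subtype.comp (α⁻¹ : MulAut T).toMonoidHom).comp
      (g.codRestrict T (val_mem hg'))).codRestrict N hgN'
    have hinj : Function.Injective γ₀ := fun a b hab => F.injective_of_mem hg.hom
      (congrArg Subtype.val ((α⁻¹ : MulAut T).injective (Subtype.ext (congrArg Subtype.val hab :))) :)
    let γ : MulAut N := MulEquiv.ofBijective γ₀ (Finite.injective_iff_bijective.1 hinj)
    have hγe : ∀ x : N, (γ x : Ω) = ((α⁻¹ : MulAut T) ⟨g x, val_mem hg' x⟩ : Ω) := fun x => rfl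
    haveI : (P.subgroupOf N).Normal := Subgroup.normal_subgroupOf_of_le_normalizer inf_le_right
    have hγp : ∃ k : ℕ, γ ^ p ^ k = 1 := by
      refine Residual.fix_pPower (hTp.to_le hNT) (P.subgroupOf N) (fun c hc => ?_) fun x hx => ?_
      · refine centralizer_le_of_isCentric hP (mem_centralizerIn.2 ⟨hNT c.2, fun x hx => ?_⟩)
        exact congrArg Subtype.val (hc ⟨x, hlt₁.le hx⟩ hx)
      · apply Subtype.ext
        rw [hγe, show (⟨g x, val_mem hg' x⟩ : T) = α ⟨x, hNT x.2⟩ from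
          Subtype.ext (hgP ⟨x, hx⟩ x.2), MulAut.inv_apply_self]
    have := finite_mulAut (le_refl T)
    set K := (gsys hT).autGroup T
    set A := E.autGroup T
    have hI := gsys_autInvariant (p := p) hS hF hT
    haveI hKn : (K.subgroupOf A).Normal := by
      refine ⟨fun d hd b => ?_⟩
      refine (mem_autGroup le_rfl).2 ?_
      refine hI T T _ ((mem_autGroup le_rfl).1 hd) b (hEF b.2) (b : MulAut T) (fun x => rfl) _
        fun x => ?_
      show ((((b : MulAut T) * (d : MulAut T) * (b : MulAut T)⁻¹) ((b : MulAut T) x) : T) : Ω) = _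
      rw [MulAut.mul_apply, MulAut.mul_apply, MulAut.inv_apply_self]
      rfl
    have hm : (K.relIndex A).Coprime p := by
      refine ((Fact.out : p.Prime).coprime_iff_not_dvd.2 fun hd => ?_).symm
      exact (fullyAutomized_inn hTp hEs).2.2
        (hd.trans (Subgroup.relIndex_dvd_of_le_left A (inn_le_autGroup le_rfl)))
    have hγG : γ ∈ (gsys hT).autGroup N := Residual.mem_of_root hTS hI hNT hγp
      (hEF (inv_mem hα)) hg' hγe hm
      (Subgroup.mem_subgroupOf.1 ((K.subgroupOf A).pow_index_mem ⟨α⁻¹, inv_mem hα⟩))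
    refine mem_of_comp ((mem_autGroup hNT).1 (inv_mem hγG)) hg' (fun x => Subtype.coe_prop _)
      fun x => ?_
    obtain ⟨y, rfl⟩ := γ.surjective x
    simp only [MonoidHom.coe_comp, Function.comp_apply, Subgroup.coe_subtype,
      MulEquiv.coe_toMonoidHom, MulAut.inv_apply_self]
    rw [show (Subgroup.inclusion hNT (γ y) : T) = (α⁻¹ : MulAut T) ⟨g y, val_mem hg' y⟩ from
      Subtype.ext (hγe y), MulAut.apply_inv_self]

/-- The `p'`-residual subsystem of a weakly normal subsystem is normal. -/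
theorem residual_isNormalIn (hS : IsPGroup p S) (hE : E.IsWeaklyNormalIn F p) {D : FusionSystem T}
    (hD : E.IsPPrimeResidual p D) : D.IsNormalIn F p := by
  have hT := hE.2.2.2.1
  have hTS := hT.1
  have : Finite T := finite_of_le hTS
  have hTp : IsPGroup p T := hS.to_le hTS
  have hres := Residual.isPPrimeResidual hTp hE.1
  obtain rfl : D = Residual.res E p := system_antisymm
    (hD.2.2 _ hres.1 hres.2.1) (hres.2.2 _ hD.1 hD.2.1)
  have hfull := Residual.res_full E p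
  have hI := res_autInvariant hS hE
  have hsub : (Residual.res E p).IsSubsystemOf F := fun P φ h => hE.2.2.1 P h.1
  refine ⟨⟨hres.1, hE.2.1, hsub, hT, ?_, ?_⟩, fun α hα => ?_⟩
  · intro P hPT φ hφ α hα
    obtain ⟨a, -, ha⟩ := exists_iso_restrict (F := F) hPT ((mem_autGroup hTS).1 hα)
    refine ⟨_, transport_mem hI hTS hα hφ a ha, fun x hφx hαx => ?_⟩
    rw [show (⟨_, hαx⟩ : (P.subgroupOf T).map (T.subtype.comp α.toMonoidHom)) = a x from
      Subtype.ext (ha x).symm]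
    exact moved_apply α (val_mem hφ) a x
  · intro P hP φ hφ
    obtain ⟨α, hα, φ₀, hφ₀, he⟩ := IsInvariantIn.decomposes hE.2.2 hP hφ
    obtain ⟨β, hβ, φ₁, hφ₁, he'⟩ := Residual.decomposes hTp hE.1 hfull hφ₀
    refine ⟨α * β, mul_mem hα (autGroup_mono_of_subsystem hE.2.2.1 T hβ), φ₁, hφ₁, fun x hx => ?_⟩
    rw [he x (val_mem hφ₀ x), MulAut.mul_apply]
    exact congrArg (fun t : T => (α t : Ω)) (Subtype.ext (he' x hx))
  have hG : Residual.Full E p (Residual.meet E (gsys hT)) := by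
    refine ⟨fun _ _ h => h.1, fun P hP γ hγ => ?_, fun β hβ P hP h => ?_⟩
    · exact (mem_autGroup hP.1).2 ⟨(mem_autGroup hP.1).1 (IndexPrime.pPart_le E p P hγ),
        (mem_autGroup hP.1).1 (pPart_le_gsys hS hE hP hγ)⟩
    · have h1 := closed_gsys hS hE hβ P hP
        (goodMap_of_gsys hT (cen_of_isCentric hE.2.2 hP) h.2)
      exact (mem_autGroup le_rfl).2 ⟨(mem_autGroup le_rfl).1 hβ, (mem_autGroup le_rfl).1 h1⟩
  have hTc : E.IsCentric T := ⟨le_rfl, fun Q hQ => by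
    rw [eq_of_le_card (isConj_right_le hQ) (isConj_card hQ).le]
    exact inf_le_left⟩
  obtain ⟨ψ, hψ, hψe, hψc⟩ := goodMap_of_gsys hT (cen_of_isCentric hE.2.2 hTc)
    ((Residual.res_le_of_full hG T ((mem_autGroup le_rfl).1 hα)).2)
  let C := centralizerIn S T
  have : Finite ↥(T ⊔ C) := finite_of_le (sup_le hTS (centralizerIn_le S T))
  have hval : ∀ y, ψ y ∈ T ⊔ C := sup_map_le
    (fun x => (hψe x).symm ▸ Subgroup.mem_sup_left (α x).2) fun c => by
      rw [show ψ (Subgroup.inclusion le_sup_right c) =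
        (c : Ω) * ((c : Ω)⁻¹ * ψ (Subgroup.inclusion le_sup_right c)) by group]
      exact mul_mem (Subgroup.mem_sup_right c.2) (Subgroup.mem_sup_left (hψc c))
  obtain ⟨β, hβ, hβe⟩ := exists_aut_of_self_map hψ hval
  refine ⟨β, hβ, fun x => (hβe _).trans (hψe x), fun c hc => ?_⟩
  rw [hβe]
  refine ⟨hψc ⟨c, hc⟩, fun x hx => ?_⟩
  obtain ⟨y, hy⟩ := (α : T ≃* T).surjective ⟨x, hx⟩
  have h1 : Commute (ψ c) x := by
    rw [show x = ψ (Subgroup.inclusion le_sup_left y) from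
      (congrArg Subtype.val hy).symm.trans (hψe y).symm]
    exact Commute.map (Subtype.ext (commute_C hc y.2).eq) ψ
  exact ((commute_C hc hx).inv_left.mul_left h1).eq.symm

end Cfsg.Agent.Lib.Fusion.ResidualNormal
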