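import Cfsg.Agent.Lib.Fusion.PPart
import Cfsg.Agent.Lib.Fusion.NormK
import Cfsg.Agent.Lib.Fusion.ResidualNormal
import Cfsg.Agent.Lib.FusionTransfer.StableTransfer

/-!
Which subgroups of `C_S(T)` are centralized by a normal subsystem over `T`.
-/

set_option autoImplicit false

namespace Cfsg.Agent.Lib.Fusion.CentralizerOfNormal

open Cfsg Cfsg.FusionSystem
open scoped commutatorElement

variable {Ω : Type*} [Group Ω] {S T : Subgroup Ω} {F : FusionSystem S} {E : FusionSystem T}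
  {p : ℕ}

/-! ### Automorphisms of `P C_S(P)` acting trivially modulo `P` -/

theorem stab_map_U {P : Subgroup Ω} (hP : P ≤ S) {a : MulAut ↥(P ⊔ centralizerIn S P)}
    (ha : a ∈ SatCriterion.stab (P ⊔ centralizerIn S P) P) (u : centralizerIn S P) :
    ((a (Subgroup.inclusion le_sup_right u) : ↥(P ⊔ centralizerIn S P)) : Ω) ∈ centralizerIn S P := by
  refine mem_centralizerIn.2
    ⟨sup_le hP (centralizerIn_le S P) (Subtype.coe_prop _), fun x hx => ?_⟩
  obtain ⟨z, hz⟩ := a.surjective (Subgroup.inclusion le_sup_left ⟨x, hx⟩)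
  have hzP : (z : Ω) ∈ P := (ha z).1 (by rw [hz]; exact hx)
  have h1 : z * Subgroup.inclusion le_sup_right u = Subgroup.inclusion le_sup_right u * z :=
    Subtype.ext ((mem_centralizerIn.1 u.2).2 _ hzP)
  have h2 := congrArg (fun w => ((a w : ↥(P ⊔ centralizerIn S P)) : Ω)) h1
  simp only [map_mul, hz, Subgroup.coe_mul] at h2
  exact h2

/-- The automorphisms of `P C_S(P)` in `F` stabilizing `P` and trivial on the quotient by `P`. -/
def Shift (F : FusionSystem S) (P : Subgroup Ω) (hP : P ≤ S) :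
    Subgroup ↥(SatCriterion.stab (P ⊔ centralizerIn S P) P) where
  carrier := {a | (a : MulAut _) ∈ F.autGroup (P ⊔ centralizerIn S P) ∧
    ∀ u : centralizerIn S P, (u : Ω)⁻¹ * ((a.1 (Subgroup.inclusion le_sup_right u) :
      ↥(P ⊔ centralizerIn S P)) : Ω) ∈ P}
  one_mem' := ⟨one_mem _, fun u => by simp⟩
  mul_mem' {a b} ha hb := ⟨mul_mem ha.1 hb.1, fun u => by
    rw [Subgroup.coe_mul, MulAut.mul_apply]
    have h1 := ha.2 ⟨_, stab_map_U hP b.2 u⟩
    have h2 := P.mul_mem (hb.2 u) h1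
    rw [mul_assoc, mul_inv_cancel_left] at h2
    exact h2⟩
  inv_mem' {a} ha := ⟨inv_mem ha.1, fun u => by
    set w : centralizerIn S P := ⟨_, stab_map_U hP (a⁻¹).2 u⟩
    have h1 : a.1 (Subgroup.inclusion le_sup_right w) = Subgroup.inclusion le_sup_right u :=
      MulAut.apply_inv_self _ _ _
    have h2 := P.inv_mem (ha.2 w)
    rw [h1] at h2
    simp only [mul_inv_rev, inv_inv] at h2
    exact h2⟩

/-- The automorphisms of `P` lifting to `Shift`. -/
def Lifts (F : FusionSystem S) (P : Subgroup Ω) (hP : P ≤ S) : Subgroup (MulAut P) :=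
  (Shift F P hP).map (SatCriterion.restr le_sup_left)

theorem exists_pPrime_lift [Finite S] [Fact p.Prime] {P : Subgroup Ω} {hP : P ≤ S} {γ : MulAut P}
    (hγ : γ ∈ Lifts F P hP) (hcop : (orderOf γ).Coprime p) :
    ∃ a ∈ Shift F P hP, (orderOf a).Coprime p ∧ SatCriterion.restr le_sup_left a = γ := by
  obtain ⟨a, ha, rfl⟩ := hγ
  have := finite_mulAut (S := S) (sup_le hP (centralizerIn_le S P))
  obtain ⟨m, hm1, hm2⟩ := exists_pPrime_exponent (p := p) a hcop
  exact ⟨a ^ m, pow_mem ha m, hm1, by rw [map_pow, pow_eq_self_of_modEq hm2]⟩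

theorem shift_central {P : Subgroup Ω} (hP : P ≤ S) {s : Ω} (hsP : s ∈ P)
    (hsU : s ∈ centralizerIn S P) {v : Ω} (hv : v ∈ P ⊔ centralizerIn S P) : Commute s v := by
  have h : P ⊔ centralizerIn S P ≤ Subgroup.centralizer {s} := sup_le
    (fun x hx => Subgroup.mem_centralizer_iff.2 fun y hy => by
      rw [Set.mem_singleton_iff.1 hy]; exact ((mem_centralizerIn.1 hsU).2 x hx).symm)
    fun x hx => Subgroup.mem_centralizer_iff.2 fun y hy => by
      rw [Set.mem_singleton_iff.1 hy]; exact (mem_centralizerIn.1 hx).2 s hsP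
  exact Subgroup.mem_centralizer_iff.1 (h hv) s rfl

theorem shift_mem_both {P : Subgroup Ω} {hP : P ≤ S}
    {a : ↥(SatCriterion.stab (P ⊔ centralizerIn S P) P)} (ha : a ∈ Shift F P hP)
    (u : centralizerIn S P) :
    (u : Ω)⁻¹ * ((a.1 (Subgroup.inclusion le_sup_right u) : ↥(P ⊔ centralizerIn S P)) : Ω) ∈ P ∧
    (u : Ω)⁻¹ * ((a.1 (Subgroup.inclusion le_sup_right u) : ↥(P ⊔ centralizerIn S P)) : Ω) ∈
      centralizerIn S P :=
  ⟨ha.2 u, (centralizerIn S P).mul_mem ((centralizerIn S P).inv_mem u.2) (stab_map_U hP a.2 u)⟩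

/-- The commutator subgroup of `C_S(P)` is fixed. -/
theorem fix_commutator {P : Subgroup Ω} {hP : P ≤ S}
    {a : ↥(SatCriterion.stab (P ⊔ centralizerIn S P) P)} (ha : a ∈ Shift F P hP)
    {w : Ω} (hw : w ∈ ⁅centralizerIn S P, centralizerIn S P⁆) (hwQ : w ∈ P ⊔ centralizerIn S P) :
    ((a.1 ⟨w, hwQ⟩ : ↥(P ⊔ centralizerIn S P)) : Ω) = w := by
  suffices H : ⁅centralizerIn S P, centralizerIn S P⁆ ≤
      ((a.1.toMonoidHom).eqLocus (MonoidHom.id _)).map (P ⊔ centralizerIn S P).subtype by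
    obtain ⟨v, hv, hvw⟩ := H hw
    have h1 : (⟨w, hwQ⟩ : ↥(P ⊔ centralizerIn S P)) = v := Subtype.ext hvw.symm
    rw [h1]
    exact (congrArg Subtype.val hv).trans hvw
  rw [Subgroup.commutator_le]
  intro u hu v hv
  obtain ⟨hsP, hsU⟩ := shift_mem_both ha ⟨u, hu⟩
  obtain ⟨htP, htU⟩ := shift_mem_both ha ⟨v, hv⟩
  set i : ↥(centralizerIn S P) →* ↥(P ⊔ centralizerIn S P) := Subgroup.inclusion le_sup_right
  refine ⟨⁅i ⟨u, hu⟩, i ⟨v, hv⟩⁆, Subtype.ext ?_, rfl⟩
  show ((a.1 ⁅i ⟨u, hu⟩, i ⟨v, hv⟩⁆ : ↥(P ⊔ centralizerIn S P)) : Ω) = ⁅u, v⁆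
  rw [map_commutatorElement]
  show ⁅((a.1 (i ⟨u, hu⟩) : ↥(P ⊔ centralizerIn S P)) : Ω),
    ((a.1 (i ⟨v, hv⟩) : ↥(P ⊔ centralizerIn S P)) : Ω)⁆ = ⁅u, v⁆
  set s := u⁻¹ * ((a.1 (i ⟨u, hu⟩) : ↥(P ⊔ centralizerIn S P)) : Ω)
  set t := v⁻¹ * ((a.1 (i ⟨v, hv⟩) : ↥(P ⊔ centralizerIn S P)) : Ω)
  rw [show ((a.1 (i ⟨u, hu⟩) : ↥(P ⊔ centralizerIn S P)) : Ω) = u * s from (mul_inv_cancel_left _ _).symm,
    show ((a.1 (i ⟨v, hv⟩) : ↥(P ⊔ centralizerIn S P)) : Ω) = v * t from (mul_inv_cancel_left _ _).symm]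
  have h1 : Commute s (v * t) := (shift_central hP hsP hsU (Subgroup.mem_sup_right hv)).mul_right
    (shift_central hP hsP hsU (Subgroup.mem_sup_left htP))
  have h2 : Commute t u⁻¹ := (shift_central hP htP htU (Subgroup.mem_sup_right hu)).inv_right
  simp only [commutatorElement_def, mul_inv_rev]
  calc u * s * (v * t) * (s⁻¹ * u⁻¹) * (t⁻¹ * v⁻¹)
      = u * (s * (v * t) * s⁻¹) * u⁻¹ * (t⁻¹ * v⁻¹) := by group
    _ = u * v * (t * u⁻¹) * (t⁻¹ * v⁻¹) := by rw [h1.eq, mul_inv_cancel_right]; group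
    _ = u * v * u⁻¹ * v⁻¹ := by rw [h2.eq]; group

variable [Finite S] [Fact p.Prime]

/-- An automorphism of order prime to `p` trivial on `C_S(P)` modulo `P` fixes the quotient of two
elements conjugate in `C_F(P)`. -/
theorem fix_div (hS : IsPGroup p S) (hF : F.IsSaturated p) {P : Subgroup Ω}
    (hPc : F.IsFullyCentralized P)
    {a : ↥(SatCriterion.stab (P ⊔ centralizerIn S P) P)} (ha : a ∈ Shift F P hPc.1)
    (hcop : (orderOf a).Coprime p) {y y' : Ω} (hy : y ∈ centralizerIn S P)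
    (hy' : y' ∈ centralizerIn S P) {χ : ↥(P ⊔ Subgroup.zpowers y) →* Ω}
    (hχ : χ ∈ F.Hom (P ⊔ Subgroup.zpowers y))
    (hχP : ∀ x : P, χ (Subgroup.inclusion le_sup_left x) = x)
    (hχy : χ ⟨y, Subgroup.mem_sup_right (Subgroup.mem_zpowers y)⟩ = y') :
    ((a.1 ⟨y⁻¹ * y', Subgroup.mem_sup_right (mul_mem (inv_mem hy) hy')⟩ :
      ↥(P ⊔ centralizerIn S P)) : Ω) = y⁻¹ * y' := by
  have hP := hPc.1
  let U := centralizerIn S P
  let i : U →* ↥(P ⊔ U) := Subgroup.inclusion le_sup_right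
  set s := y⁻¹ * ((a.1 (i ⟨y, hy⟩) : ↥(P ⊔ U)) : Ω) with hs
  set s' := y'⁻¹ * ((a.1 (i ⟨y', hy'⟩) : ↥(P ⊔ U)) : Ω) with hs'
  obtain ⟨hsP, hsU⟩ := shift_mem_both ha ⟨y, hy⟩
  obtain ⟨hs'P, hs'U⟩ := shift_mem_both ha ⟨y', hy'⟩
  have hay : ((a.1 (i ⟨y, hy⟩) : ↥(P ⊔ U)) : Ω) = y * s := by rw [hs, mul_inv_cancel_left]
  have hay' : ((a.1 (i ⟨y', hy'⟩) : ↥(P ⊔ U)) : Ω) = y' * s' := by rw [hs', mul_inv_cancel_left]
  -- the centralizer system
  have hK : ∀ g ∈ U, ∃ h : g ∈ Subgroup.normalizer (P : Set Ω),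
      conjAut P h ∈ (⊥ : Subgroup (MulAut P)) := fun g hg => by
    refine ⟨centralizer_le_normalizer' P hg.2, Subgroup.mem_bot.2 (MulEquiv.ext fun x => Subtype.ext ?_)⟩
    rw [conjAut_apply, ← (mem_centralizerIn.1 hg).2 x x.2, mul_inv_cancel_right]
    rfl
  let D := extSystem F U P ⊥ (centralizerIn_le S P) hP hK
  have hD : F.IsCentralizerSystem P D := fun R => Set.ext fun φ => by
    show (φ ∈ F.Hom R ∧ R ≤ U ∧ (∀ x, φ x ∈ U) ∧ ExtendsOver F P ⊥ φ) ↔ _
    rw [extendsOver_bot_iff]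
    rfl
  have hDs := centralizerSystem_saturated hS hF hPc D hD
  -- the map `y' s ↦ y' s'`
  have hQS : P ⊔ U ≤ S := sup_le hP (centralizerIn_le S P)
  have haF : IsIso F (a.1 : ↥(P ⊔ U) ≃* ↥(P ⊔ U)) := (mem_autGroup hQS).1 ha.1
  have hy'Q : P ⊔ Subgroup.zpowers y' ≤ χ.range := sup_le
    (fun x hx => ⟨_, hχP ⟨x, hx⟩⟩) (Subgroup.zpowers_le.2 ⟨_, hχy⟩)
  obtain ⟨ω, hω, hωe⟩ := F.inv_mem hχ
  have hinQ : P ⊔ Subgroup.zpowers y ≤ P ⊔ U := sup_le_sup_left (Subgroup.zpowers_le.2 hy) P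
  have hainv : ∀ w : ↥(P ⊔ Subgroup.zpowers y),
      (((a.1⁻¹ : MulAut ↥(P ⊔ U)) (Subgroup.inclusion hinQ w) : ↥(P ⊔ U)) : Ω) ∈
        P ⊔ Subgroup.zpowers y := by
    refine sup_induction (fun x => Subgroup.mem_sup_left ?_) (fun x => ?_) (fun b c hb hc => ?_)
      fun b hb => ?_
    · exact (((a⁻¹ : ↥(SatCriterion.stab (P ⊔ U) P))).2 _).2 x.2
    · obtain ⟨n, hn⟩ := x.2
      simp only at hn
      have h1 := shift_mem_both (inv_mem ha) ⟨y, hy⟩
      have h2 : (((a.1⁻¹ : MulAut ↥(P ⊔ U)) (i ⟨y, hy⟩) : ↥(P ⊔ U)) : Ω) ∈ P ⊔ Subgroup.zpowers y := by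
        have h3 := mul_mem (Subgroup.mem_sup_right (S := P) (Subgroup.mem_zpowers y))
          (Subgroup.mem_sup_left (T := Subgroup.zpowers y) h1.1)
        simp only [mul_inv_cancel_left] at h3
        exact h3
      rw [show Subgroup.inclusion hinQ (Subgroup.inclusion le_sup_right x) = i ⟨y, hy⟩ ^ n from
        Subtype.ext (by simp [i, hn]), map_zpow, Subgroup.coe_zpow]
      exact zpow_mem h2 n
    · rw [map_mul, map_mul, Subgroup.coe_mul]
      exact mul_mem hb hc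
    · rw [map_inv, map_inv, Subgroup.coe_inv]
      exact inv_mem hb
  have hω' : ∀ w : ↥(P ⊔ Subgroup.zpowers y'), ω ⟨w, hy'Q w.2⟩ ∈ P ⊔ U := fun w => by
    obtain ⟨v, hv⟩ := hy'Q w.2
    rw [show (⟨(w : Ω), hy'Q w.2⟩ : χ.range) = ⟨χ v, v, rfl⟩ from Subtype.ext hv.symm, hωe]
    exact hinQ v.2
  let g₁ : ↥(P ⊔ Subgroup.zpowers y') →* Ω :=
    ((P ⊔ U).subtype.comp (a.1⁻¹ : MulAut ↥(P ⊔ U)).toMonoidHom).comp
      ((ω.comp (Subgroup.inclusion hy'Q)).codRestrict _ hω')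
  have hg₁v : ∀ w, g₁ w ∈ P ⊔ Subgroup.zpowers y := fun w => by
    obtain ⟨v, hv⟩ := hy'Q w.2
    have h1 : (ω.comp (Subgroup.inclusion hy'Q)).codRestrict _ hω' w = Subgroup.inclusion hinQ v :=
      Subtype.ext (by
        show ω ⟨w, hy'Q w.2⟩ = (v : Ω)
        rw [show (⟨(w : Ω), hy'Q w.2⟩ : χ.range) = ⟨χ v, v, rfl⟩ from Subtype.ext hv.symm, hωe])
    show (((a.1⁻¹ : MulAut ↥(P ⊔ U)) _ : ↥(P ⊔ U)) : Ω) ∈ _
    rw [h1]
    exact hainv v
  have hg₁ : g₁ ∈ F.Hom _ := F.comp_mem (restrict_mem hy'Q hω) haF.symm hω'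
  let g₂ := χ.comp (g₁.codRestrict _ hg₁v)
  have hg₂ : g₂ ∈ F.Hom _ := F.comp_mem hg₁ hχ hg₁v
  have hχU : ∀ v, χ v ∈ P ⊔ U := fun v => sup_map_le
    (fun x => (hχP x).symm ▸ Subgroup.mem_sup_left x.2) (fun x => by
      obtain ⟨n, hn⟩ := x.2
      simp only at hn
      have h : Subgroup.inclusion (le_sup_right : Subgroup.zpowers y ≤ P ⊔ Subgroup.zpowers y) x =
          ⟨y, Subgroup.mem_sup_right (Subgroup.mem_zpowers y)⟩ ^ n := Subtype.ext (by simp [hn])
      rw [h, map_zpow, hχy]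
      exact Subgroup.mem_sup_right (zpow_mem hy' n)) v
  let ρ := ((P ⊔ U).subtype.comp (a.1 : MulAut ↥(P ⊔ U)).toMonoidHom).comp
    (g₂.codRestrict _ fun w => hχU _)
  have hρ : ρ ∈ F.Hom _ := F.comp_mem hg₂ haF fun w => hχU _
  have hρP : ∀ x : P, ρ (Subgroup.inclusion le_sup_left x) = x := by
    intro x
    have h1 : ω ⟨(x : Ω), hy'Q (Subgroup.mem_sup_left x.2)⟩ = x :=
      (congrArg ω (Subtype.ext (hχP x).symm)).trans (hωe (Subgroup.inclusion le_sup_left x))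
    set x₁ : P := ⟨_, ((a⁻¹ : ↥(SatCriterion.stab (P ⊔ U) P)).2
      (Subgroup.inclusion le_sup_left x)).2 x.2⟩
    have h2 : g₁ (Subgroup.inclusion le_sup_left x) = x₁ :=
      congrArg (fun w => (((a.1⁻¹ : MulAut ↥(P ⊔ U)) w : ↥(P ⊔ U)) : Ω))
        (Subtype.ext h1 : (⟨_, hω' (Subgroup.inclusion le_sup_left x)⟩ : ↥(P ⊔ U)) =
          Subgroup.inclusion le_sup_left x)
    have h3 : g₂ (Subgroup.inclusion le_sup_left x) = x₁ :=
      (congrArg χ (Subtype.ext h2)).trans (hχP x₁)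
    refine (congrArg (fun w => ((a.1 w : ↥(P ⊔ U)) : Ω))
      (Subtype.ext h3 : (⟨_, hχU _⟩ : ↥(P ⊔ U)) = Subgroup.inclusion le_sup_left x₁)).trans ?_
    exact congrArg Subtype.val (MulAut.apply_inv_self _ a.1 (Subgroup.inclusion le_sup_left x))
  have hz : y' * s ∈ P ⊔ Subgroup.zpowers y' :=
    mul_mem (Subgroup.mem_sup_right (Subgroup.mem_zpowers y')) (Subgroup.mem_sup_left hsP)
  have hρz : ρ ⟨y' * s, hz⟩ = y' * s' := by
    have h1 : ω ⟨y' * s, hy'Q hz⟩ = y * s := by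
      refine (congrArg ω (Subtype.ext ?_)).trans (hωe ⟨y * s,
        mul_mem (Subgroup.mem_sup_right (Subgroup.mem_zpowers y)) (Subgroup.mem_sup_left hsP)⟩)
      show y' * s = χ (⟨y, Subgroup.mem_sup_right (Subgroup.mem_zpowers y)⟩ *
        Subgroup.inclusion le_sup_left ⟨s, hsP⟩)
      rw [map_mul, hχy, hχP]
    have h2 : g₁ ⟨y' * s, hz⟩ = y :=
      (congrArg (fun w => (((a.1⁻¹ : MulAut ↥(P ⊔ U)) w : ↥(P ⊔ U)) : Ω))
        (Subtype.ext (h1.trans hay.symm) : (⟨_, hω' ⟨y' * s, hz⟩⟩ : ↥(P ⊔ U)) = a.1 (i ⟨y, hy⟩))).trans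
        (congrArg Subtype.val (MulAut.inv_apply_self _ a.1 (i ⟨y, hy⟩)))
    have h3 : g₂ ⟨y' * s, hz⟩ = y' := (congrArg χ (Subtype.ext h2)).trans hχy
    exact (congrArg (fun w => ((a.1 w : ↥(P ⊔ U)) : Ω))
      (Subtype.ext h3 : (⟨_, hχU _⟩ : ↥(P ⊔ U)) = i ⟨y', hy'⟩)).trans hay'
  -- `z` is focal in the centralizer system
  set z := s⁻¹ * s' with hzdef
  have hzP : z ∈ P := P.mul_mem (P.inv_mem hsP) hs'P
  have hzU : z ∈ U := U.mul_mem (U.inv_mem hsU) hs'U
  have hyU : y' * s ∈ U := U.mul_mem hy' hsU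
  have hdom : Subgroup.zpowers (y' * s) ⊔ P ≤ P ⊔ Subgroup.zpowers y' :=
    sup_le (Subgroup.zpowers_le.2 hz) le_sup_left
  have hmem : ρ.comp (Subgroup.inclusion (Subgroup.zpowers_le.2 hz)) ∈ D.Hom (Subgroup.zpowers (y' * s)) := by
    refine ⟨restrict_mem _ hρ, Subgroup.zpowers_le.2 hyU, fun x => ?_,
      extendsOver_bot_iff.2 ⟨_, restrict_mem hdom hρ, fun _ => rfl, fun x => hρP x⟩⟩
    obtain ⟨n, hn⟩ := x.2
    simp only at hn
    show ρ (Subgroup.inclusion _ x) ∈ U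
    rw [show Subgroup.inclusion (Subgroup.zpowers_le.2 hz) x = (⟨y' * s, hz⟩ : ↥(P ⊔ Subgroup.zpowers y')) ^ n
      from Subtype.ext (by simp [hn]), map_zpow, hρz]
    exact zpow_mem (U.mul_mem hy' hs'U) n
  have hfoc : z ∈ D.focalSubgroup := by
    refine Subgroup.subset_closure ⟨_, _, ⟨_, Subgroup.mem_zpowers _⟩, hmem, ?_⟩
    show z = (y' * s)⁻¹ * ρ ⟨y' * s, hz⟩
    rw [hρz, hzdef]
    group
  have : Finite U := finite_of_le (centralizerIn_le S P)
  have hzC : z ∈ ⁅U, U⁆ := FusionTransfer.mem_of_stable_transfer (hS.to_le (centralizerIn_le S P)) hDs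
    le_rfl hzU (fun R φ hφ w hw => by
      obtain ⟨-, -, -, hext⟩ := hφ
      obtain ⟨ψ, -, hψR, hψP⟩ := extendsOver_bot_iff.1 hext
      have hwP : (w : Ω) ∈ P := Subgroup.zpowers_le.2 hzP hw
      rw [← hψR w, show Subgroup.inclusion (le_sup_left : R ≤ R ⊔ P) w =
        Subgroup.inclusion le_sup_right ⟨(w : Ω), hwP⟩ from rfl, hψP]
      show (w : Ω)⁻¹ * w ∈ _
      rw [inv_mul_cancel]
      exact one_mem _) hfoc
  have haz := fix_commutator ha hzC (Subgroup.mem_sup_right hzU)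
  -- iterate
  let Y := i ⟨y, hy⟩
  let Y' := i ⟨y', hy'⟩
  let s₁ : ↥(P ⊔ U) := ⟨s, Subgroup.mem_sup_left hsP⟩
  let z₁ : ↥(P ⊔ U) := ⟨z, Subgroup.mem_sup_right hzU⟩
  have hY : a.1 Y = Y * s₁ := Subtype.ext hay
  have hY' : a.1 Y' = Y' * s₁ * z₁ := Subtype.ext (hay'.trans (by
    show y' * s' = y' * s * (s⁻¹ * s')
    group))
  have hz₁ : a.1 z₁ = z₁ := Subtype.ext haz
  have hiter : ∀ j : ℕ, Y'⁻¹ * (a.1 ^ j) Y' = (Y⁻¹ * (a.1 ^ j) Y) * z₁ ^ j := by
    intro j
    induction j with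
    | zero => simp
    | succ j ih =>
      have h1 := congrArg a.1 ih
      rw [map_mul, map_mul, map_mul, map_pow, map_inv, map_inv, hY, hY', hz₁, ← MulAut.mul_apply,
        ← MulAut.mul_apply, ← pow_succ'] at h1
      have hc : ∀ v, Commute z₁ v := fun v =>
        Subtype.ext (shift_central hP hzP hzU v.2).eq
      calc Y'⁻¹ * (a.1 ^ (j + 1)) Y'
          = s₁ * z₁ * ((Y' * s₁ * z₁)⁻¹ * (a.1 ^ (j + 1)) Y') := by group
        _ = s₁ * z₁ * ((Y * s₁)⁻¹ * (a.1 ^ (j + 1)) Y * z₁ ^ j) := by rw [h1]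
        _ = s₁ * (z₁ * (s₁⁻¹ * Y⁻¹ * (a.1 ^ (j + 1)) Y)) * z₁ ^ j := by group
        _ = s₁ * ((s₁⁻¹ * Y⁻¹ * (a.1 ^ (j + 1)) Y) * z₁) * z₁ ^ j := by rw [(hc _).eq]
        _ = Y⁻¹ * (a.1 ^ (j + 1)) Y * z₁ ^ (j + 1) := by rw [pow_succ' z₁]; group
  have h1 := hiter (orderOf a)
  rw [show a.1 ^ orderOf a = 1 from congrArg Subtype.val (pow_orderOf_eq_one a)] at h1
  simp only [MulAut.one_apply, inv_mul_cancel, one_mul] at h1
  have hzm : z ^ orderOf a = 1 := congrArg Subtype.val h1.symm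
  obtain ⟨k, hk⟩ := hS ⟨z, (centralizerIn_le S P) hzU⟩
  have hz1 : z = 1 := eq_one_of_pGroup_coprime ⟨k, congrArg Subtype.val hk⟩ hzm hcop
  have hss : s' = s := by
    rw [hzdef, inv_mul_eq_one] at hz1
    exact hz1.symm
  show ((a.1 (Y⁻¹ * Y') : ↥(P ⊔ U)) : Ω) = y⁻¹ * y'
  rw [map_mul, map_inv, Subgroup.coe_mul, Subgroup.coe_inv, hay, hay', hss, mul_inv_rev,
    show s⁻¹ * y⁻¹ * (y' * s) = s⁻¹ * ((y⁻¹ * y') * s) by group,
    ← (shift_central hP hsP hsU (Subgroup.mem_sup_right (mul_mem (inv_mem hy) hy'))).eq,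
    inv_mul_cancel_left]

/-- An element fixed by some extension is fixed by every lift of order prime to `p`. -/
theorem fix_of_ext (hS : IsPGroup p S) (hF : F.IsSaturated p) {P : Subgroup Ω}
    (hPc : F.IsFullyCentralized P)
    {a : ↥(SatCriterion.stab (P ⊔ centralizerIn S P) P)} (ha : a ∈ Shift F P hPc.1)
    (hcop : (orderOf a).Coprime p) {y : Ω} (hy : y ∈ centralizerIn S P)
    {ψ : ↥(P ⊔ Subgroup.zpowers y) →* Ω} (hψ : ψ ∈ F.Hom (P ⊔ Subgroup.zpowers y))
    (hψP : ∀ x : P, ψ (Subgroup.inclusion le_sup_left x) =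
      ((a.1 (Subgroup.inclusion le_sup_left x) : ↥(P ⊔ centralizerIn S P)) : Ω))
    (hψy : ψ ⟨y, Subgroup.mem_sup_right (Subgroup.mem_zpowers y)⟩ = y) :
    ((a.1 ⟨y, Subgroup.mem_sup_right hy⟩ : ↥(P ⊔ centralizerIn S P)) : Ω) = y := by
  have hP := hPc.1
  let Q := P ⊔ centralizerIn S P
  have hQS : Q ≤ S := sup_le hP (centralizerIn_le S P)
  let D := P ⊔ Subgroup.zpowers y
  have hDQ : D ≤ Q := sup_le_sup_left (Subgroup.zpowers_le.2 hy) P
  obtain ⟨ω, hω, hωe⟩ := F.inv_mem hψ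
  have hPr : ∀ x : P, ∃ x₀ : P, ψ (Subgroup.inclusion le_sup_left x₀) = x := fun x =>
    ⟨⟨_, ((a⁻¹ : ↥(SatCriterion.stab Q P)).2 (Subgroup.inclusion le_sup_left x)).2 x.2⟩,
      (hψP _).trans (congrArg Subtype.val
        (MulAut.apply_inv_self _ a.1 (Subgroup.inclusion (le_sup_left : P ≤ Q) x)))⟩
  have hDr : D ≤ ψ.range := sup_le (fun x hx => ⟨_, (hPr ⟨x, hx⟩).choose_spec⟩)
    (Subgroup.zpowers_le.2 ⟨_, hψy⟩)
  have hval : ∀ w : D, (ω.comp (Subgroup.inclusion hDr)) w ∈ Q := fun w => by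
    obtain ⟨v, hv⟩ := hDr w.2
    show ω ⟨w, hDr w.2⟩ ∈ Q
    rw [show (⟨(w : Ω), hDr w.2⟩ : ψ.range) = ⟨ψ v, v, rfl⟩ from Subtype.ext hv.symm, hωe]
    exact hDQ v.2
  let χ := (Q.subtype.comp (a.1 : MulAut Q).toMonoidHom).comp
    ((ω.comp (Subgroup.inclusion hDr)).codRestrict Q hval)
  have hχ : χ ∈ F.Hom D :=
    F.comp_mem (restrict_mem hDr hω) ((mem_autGroup hQS).1 ha.1) hval
  obtain ⟨hsP, hsU⟩ := shift_mem_both ha ⟨y, hy⟩
  set y' := ((a.1 (Subgroup.inclusion le_sup_right ⟨y, hy⟩) : Q) : Ω)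
  have h := fix_div hS hF hPc ha hcop hy (stab_map_U hP a.2 ⟨y, hy⟩) hχ (fun x => by
    obtain ⟨x₀, hx₀⟩ := hPr x
    refine (congrArg (fun w => ((a.1 w : Q) : Ω)) (Subtype.ext (?_ : _ = (x₀ : Ω)) :
      (⟨_, hval (Subgroup.inclusion le_sup_left x)⟩ : Q) = Subgroup.inclusion le_sup_left x₀)).trans
      ((hψP x₀).symm.trans hx₀)
    exact (congrArg ω (Subtype.ext hx₀.symm)).trans (hωe (Subgroup.inclusion le_sup_left x₀)))
    (congrArg (fun w => ((a.1 w : Q) : Ω)) (Subtype.ext ((congrArg ω (Subtype.ext hψy.symm)).trans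
      (hωe ⟨y, _⟩)) : (⟨_, hval ⟨y, _⟩⟩ : Q) = Subgroup.inclusion le_sup_right ⟨y, hy⟩))
  set Y : Q := ⟨y, Subgroup.mem_sup_right hy⟩
  set s : Q := Y⁻¹ * a.1 Y
  have hs : a.1 s = s := Subtype.ext h
  have hiter : ∀ j : ℕ, (a.1 ^ j) Y = Y * s ^ j := by
    intro j
    induction j with
    | zero => simp
    | succ j ih =>
      rw [pow_succ', MulAut.mul_apply, ih, map_mul, map_pow, hs, pow_succ']
      simp [s, mul_assoc]
  have h1 := hiter (orderOf a)
  rw [show a.1 ^ orderOf a = 1 from congrArg Subtype.val (pow_orderOf_eq_one a), MulAut.one_apply] at h1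
  have hsm : s ^ orderOf a = 1 := mul_eq_left.1 h1.symm
  obtain ⟨k, hk⟩ := (hS.to_le hQS) s
  have hs1 : s = 1 := eq_one_of_pGroup_coprime ⟨k, hk⟩ hsm hcop
  exact congrArg Subtype.val (inv_mul_eq_one.1 hs1).symm

/-- Data transporting an automorphism `γ` of `P` to a fully centralized subgroup where it lifts. -/
structure Data (F : FusionSystem S) (T : Subgroup Ω) (p : ℕ) {P : Subgroup Ω} (γ : MulAut P) where
  P₀ : Subgroup Ω
  e : P ≃* P₀
  map : ↥(P ⊔ centralizerIn S T) →* Ω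
  map_mem : map ∈ F.Hom (P ⊔ centralizerIn S T)
  map_left : ∀ x : P, map (Subgroup.inclusion le_sup_left x) = (e x : Ω)
  fc : F.IsFullyCentralized P₀
  map_right : ∀ c : centralizerIn S T,
    map (Subgroup.inclusion le_sup_right c) ∈ centralizerIn S P₀
  a : ↥(SatCriterion.stab (P₀ ⊔ centralizerIn S P₀) P₀)
  a_mem : a ∈ Shift F P₀ fc.1
  cop : (orderOf a).Coprime p
  agree : SatCriterion.restr le_sup_left a = MulAut.congr e γ

/-- The lift fixes `c`. -/
def Data.Fixes {P : Subgroup Ω} {γ : MulAut P} (d : Data F T p γ) (c : centralizerIn S T) : Prop :=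
  ((d.a.1 ⟨_, Subgroup.mem_sup_right (d.map_right c)⟩ : ↥(d.P₀ ⊔ centralizerIn S d.P₀)) : Ω) =
    d.map (Subgroup.inclusion le_sup_right c)

/-- The fixed points of the lift in `C_S(T)`. -/
def Data.fixed {P : Subgroup Ω} {γ : MulAut P} (d : Data F T p γ) : Subgroup Ω :=
  ((MonoidHom.eqLocus
    ((d.P₀ ⊔ centralizerIn S d.P₀).subtype.comp (d.a.1.toMonoidHom.comp
      ((d.map.comp (Subgroup.inclusion le_sup_right)).codRestrict _
        fun c => Subgroup.mem_sup_right (d.map_right c))))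
    (d.map.comp (Subgroup.inclusion le_sup_right))).map (centralizerIn S T).subtype)

theorem Data.mem_fixed {P : Subgroup Ω} {γ : MulAut P} (d : Data F T p γ) {y : Ω} :
    y ∈ d.fixed ↔ ∃ h : y ∈ centralizerIn S T, d.Fixes ⟨y, h⟩ := by
  constructor
  · rintro ⟨⟨z, hz⟩, hf, rfl⟩
    exact ⟨hz, hf⟩
  · rintro ⟨h, hf⟩
    exact ⟨⟨y, h⟩, hf, rfl⟩

theorem Data.a_coe {P : Subgroup Ω} {γ : MulAut P} (d : Data F T p γ) (x : P) :
    ((d.a.1 (Subgroup.inclusion le_sup_left (d.e x)) : ↥(d.P₀ ⊔ centralizerIn S d.P₀)) : Ω) =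
      (d.e (γ x) : Ω) := by
  have h := congrArg (fun b : MulAut d.P₀ => ((b (d.e x) : d.P₀) : Ω)) d.agree
  simp only [SatCriterion.restr_coe, MulAut.congr_apply, MulEquiv.trans_apply,
    MulEquiv.symm_apply_apply] at h
  exact h

theorem Data.map_mem_sup {P : Subgroup Ω} {γ : MulAut P} (d : Data F T p γ)
    (w : ↥(P ⊔ centralizerIn S T)) : d.map w ∈ d.P₀ ⊔ centralizerIn S d.P₀ :=
  sup_map_le (fun x => (d.map_left x).symm ▸ Subgroup.mem_sup_left (d.e x).2)
    (fun c => Subgroup.mem_sup_right (d.map_right c)) w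

theorem sup_zpowers_le {P X : Subgroup Ω} {y : Ω} (hy : y ∈ X) :
    P ⊔ Subgroup.zpowers y ≤ P ⊔ X :=
  sup_le_sup_left (Subgroup.zpowers_le.2 hy) P

/-- An element fixed by the lift is fixed by an extension. -/
theorem Data.ext_of_fixed {P : Subgroup Ω} {γ : MulAut P} (d : Data F T p γ) {Y : Subgroup Ω}
    (hY : Y ≤ d.fixed) : ExtendsOver F Y ⊥ (P.subtype.comp γ.toMonoidHom) := by
  have hYC : Y ≤ centralizerIn S T := fun y hy => (d.mem_fixed.1 (hY hy)).1
  have hle : P ⊔ Y ≤ P ⊔ centralizerIn S T := sup_le_sup_left hYC P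
  let f := ((d.P₀ ⊔ centralizerIn S d.P₀).subtype.comp d.a.1.toMonoidHom).comp
    ((d.map.comp (Subgroup.inclusion hle)).codRestrict _ fun w => d.map_mem_sup _)
  have hQS : d.P₀ ⊔ centralizerIn S d.P₀ ≤ S := sup_le d.fc.1 (centralizerIn_le S d.P₀)
  have hf : f ∈ F.Hom (P ⊔ Y) := F.comp_mem (restrict_mem hle d.map_mem)
    ((mem_autGroup hQS).1 d.a_mem.1) fun w => d.map_mem_sup _
  have hfP : ∀ x : P, f (Subgroup.inclusion le_sup_left x) =
      d.map (Subgroup.inclusion le_sup_left (γ x)) := fun x => by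
    rw [d.map_left, ← d.a_coe]
    exact congrArg (fun w => ((d.a.1 w : ↥(d.P₀ ⊔ centralizerIn S d.P₀)) : Ω))
      (Subtype.ext (d.map_left x))
  have hfY : ∀ y : Y, f (Subgroup.inclusion le_sup_right y) =
      d.map (Subgroup.inclusion le_sup_right ⟨(y : Ω), hYC y.2⟩) := fun y =>
    (d.mem_fixed.1 (hY y.2)).2
  obtain ⟨ω, hω, hωe⟩ := F.inv_mem d.map_mem
  have hr : ∀ w, f w ∈ d.map.range := fun w =>
    sup_map_le (R := d.map.range) (f := f) (fun x => ⟨_, (hfP x).symm⟩) (fun y => ⟨_, (hfY y).symm⟩) w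
  exact extendsOver_bot_iff.2 ⟨_, F.comp_mem hf hω hr,
    fun x => (congrArg ω (Subtype.ext (hfP x))).trans (hωe (Subgroup.inclusion le_sup_left (γ x))),
    fun y => (congrArg ω (Subtype.ext (hfY y))).trans
      (hωe (Subgroup.inclusion le_sup_right ⟨(y : Ω), hYC y.2⟩))⟩

theorem zpowers_hom {y : Ω} {D : Subgroup Ω} (f : D →* Ω) (hD : y ∈ D) {n : ℤ} {x : D}
    (hx : (x : Ω) = y ^ n) : f x = f ⟨y, hD⟩ ^ n := by
  rw [show x = (⟨y, hD⟩ : D) ^ n from Subtype.ext (by simp [hx]), map_zpow]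

/-- A map on `P ⊔ ⟨y⟩` moved to the fully centralized conjugate. -/
theorem Data.transport {P : Subgroup Ω} {γ δ : MulAut P} (d : Data F T p γ) {y y' : Ω}
    (hy : y ∈ centralizerIn S T) (hy' : y' ∈ P ⊔ centralizerIn S T)
    {χ : ↥(P ⊔ Subgroup.zpowers y) →* Ω} (hχ : χ ∈ F.Hom (P ⊔ Subgroup.zpowers y))
    (hχP : ∀ x : P, χ (Subgroup.inclusion le_sup_left x) = (δ x : Ω))
    (hχy : χ ⟨y, Subgroup.mem_sup_right (Subgroup.mem_zpowers y)⟩ = y') :
    ∃ χ₀ ∈ F.Hom (d.P₀ ⊔ Subgroup.zpowers (d.map (Subgroup.inclusion le_sup_right ⟨y, hy⟩))),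
      (∀ x : P, χ₀ (Subgroup.inclusion le_sup_left (d.e x)) = (d.e (δ x) : Ω)) ∧
      χ₀ ⟨_, Subgroup.mem_sup_right (Subgroup.mem_zpowers _)⟩ = d.map ⟨y', hy'⟩ := by
  obtain ⟨ω, hω, hωe⟩ := F.inv_mem d.map_mem
  set y₀ := d.map (Subgroup.inclusion le_sup_right ⟨y, hy⟩)
  have hP₀r : ∀ x : d.P₀, d.map (Subgroup.inclusion le_sup_left (d.e.symm x)) = (x : Ω) := fun x =>
    (d.map_left _).trans (congrArg Subtype.val (d.e.apply_symm_apply x))
  have hle : d.P₀ ⊔ Subgroup.zpowers y₀ ≤ d.map.range :=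
    sup_le (fun x hx => ⟨_, hP₀r ⟨x, hx⟩⟩) (Subgroup.zpowers_le.2 ⟨_, rfl⟩)
  have hωP : ∀ x : P, ω ⟨(d.e x : Ω), hle (Subgroup.mem_sup_left (d.e x).2)⟩ = (x : Ω) := fun x =>
    (congrArg ω (Subtype.ext (d.map_left x).symm)).trans (hωe (Subgroup.inclusion le_sup_left x))
  have hωy : ω ⟨y₀, hle (Subgroup.mem_sup_right (Subgroup.mem_zpowers y₀))⟩ = y :=
    hωe (Subgroup.inclusion le_sup_right ⟨y, hy⟩)
  have hval : ∀ w, (ω.comp (Subgroup.inclusion hle)) w ∈ P ⊔ Subgroup.zpowers y := fun w => by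
    refine sup_map_le (fun x => ?_) (fun x => ?_) w
    · obtain ⟨z, rfl⟩ := d.e.surjective x
      show ω ⟨(d.e z : Ω), _⟩ ∈ _
      exact (hωP z).symm ▸ Subgroup.mem_sup_left z.2
    · obtain ⟨n, hn⟩ := x.2
      rw [zpowers_hom (ω.comp (Subgroup.inclusion hle))
        (Subgroup.mem_sup_right (Subgroup.mem_zpowers y₀)) (n := n)
        (x := Subgroup.inclusion le_sup_right x) hn.symm]
      exact zpow_mem ((show ω ⟨y₀, _⟩ = y from hωy).symm ▸
        Subgroup.mem_sup_right (Subgroup.mem_zpowers y)) n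
  have hvalχ : ∀ v, χ v ∈ P ⊔ centralizerIn S T := fun v => by
    refine sup_map_le (fun x => ?_) (fun x => ?_) v
    · rw [hχP]; exact Subgroup.mem_sup_left (δ x).2
    · obtain ⟨n, hn⟩ := x.2
      rw [zpowers_hom χ (Subgroup.mem_sup_right (Subgroup.mem_zpowers y)) (n := n)
        (x := Subgroup.inclusion le_sup_right x) hn.symm, hχy]
      exact zpow_mem hy' n
  refine ⟨_, F.comp_mem (F.comp_mem (restrict_mem hle hω) hχ hval) d.map_mem (fun w => hvalχ _),
    fun x => ?_, ?_⟩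
  · refine (congrArg d.map (Subtype.ext ?_)).trans (d.map_left (δ x))
    exact (congrArg χ (Subtype.ext (hωP x))).trans (hχP x)
  · exact congrArg d.map (Subtype.ext ((congrArg χ (Subtype.ext hωy)).trans hχy))

/-- An element fixed by an extension is fixed by the lift. -/
theorem Data.fixed_of_ext (hS : IsPGroup p S) (hF : F.IsSaturated p) {P : Subgroup Ω}
    {γ : MulAut P} (d : Data F T p γ) {y : Ω} (hy : y ∈ centralizerIn S T)
    (h : ExtendsOver F (Subgroup.zpowers y) ⊥ (P.subtype.comp γ.toMonoidHom)) : y ∈ d.fixed := by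
  obtain ⟨ψ, hψ, hψP, hψy⟩ := extendsOver_bot_iff.1 h
  obtain ⟨χ, hχ, hχP, hχy⟩ := d.transport hy (Subgroup.mem_sup_right hy) hψ hψP (hψy ⟨y, Subgroup.mem_zpowers y⟩)
  refine d.mem_fixed.2 ⟨hy, fix_of_ext hS hF d.fc d.a_mem d.cop (d.map_right ⟨y, hy⟩) hχ
    (fun x => ?_) hχy⟩
  obtain ⟨x, rfl⟩ := d.e.surjective x
  rw [hχP, ← d.a_coe]

/-- Quotients of elements conjugate in `C_F(T)` are fixed by the lift. -/
theorem Data.fixed_div (hS : IsPGroup p S) (hF : F.IsSaturated p) {P : Subgroup Ω}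
    {γ : MulAut P} (d : Data F T p γ) {y y' : Ω} (hy : y ∈ centralizerIn S T)
    (hy' : y' ∈ centralizerIn S T) (hP : P ≤ T) {ψ : ↥(Subgroup.zpowers y ⊔ T) →* Ω}
    (hψ : ψ ∈ F.Hom (Subgroup.zpowers y ⊔ T))
    (hψT : ∀ x : T, ψ (Subgroup.inclusion le_sup_right x) = (x : Ω))
    (hψy : ψ ⟨y, Subgroup.mem_sup_left (Subgroup.mem_zpowers y)⟩ = y') :
    y⁻¹ * y' ∈ d.fixed := by
  have hle : P ⊔ Subgroup.zpowers y ≤ Subgroup.zpowers y ⊔ T :=
    sup_le (hP.trans le_sup_right) le_sup_left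
  obtain ⟨χ, hχ, hχP, hχy⟩ := d.transport (δ := 1) hy (Subgroup.mem_sup_right hy') (restrict_mem hle hψ)
    (fun x => hψT ⟨x, hP x.2⟩) hψy
  have h1 := fix_div hS hF d.fc d.a_mem d.cop (d.map_right ⟨y, hy⟩) (d.map_right ⟨y', hy'⟩) hχ
    (fun x => by
      obtain ⟨x, rfl⟩ := d.e.surjective x
      rw [hχP]
      rfl) hχy
  refine d.mem_fixed.2 ⟨mul_mem (inv_mem hy) hy', ?_⟩
  have h2 : d.map (Subgroup.inclusion le_sup_right (⟨y⁻¹ * y', mul_mem (inv_mem hy) hy'⟩ :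
      centralizerIn S T)) = (d.map (Subgroup.inclusion le_sup_right ⟨y, hy⟩))⁻¹ *
        d.map (Subgroup.inclusion le_sup_right ⟨y', hy'⟩) := by
    rw [← map_inv, ← map_mul]
    exact congrArg d.map (Subtype.ext rfl)
  unfold Data.Fixes
  simp only [h2]
  exact h1

/-! ### Lifts on fully normalized subgroups -/

theorem pPart_le_lifts (hS : IsPGroup p S) (hE : E.IsWeaklyNormalIn F p) {Q : Subgroup Ω}
    (hQS : Q ≤ S) (hQ : F.IsFullyNormalized Q) (hQc : ResidualNormal.Cen F T Q)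
    (hQE : E.IsFullyNormalized Q) : IndexPrime.pPart E p Q ≤ Lifts F Q hQS := by
  obtain ⟨hEs, hF, hEi⟩ := hE
  have hT := hEi.2.1
  have hTS := hT.1
  have : Finite T := finite_of_le hTS
  refine IndexPrime.pPart_le_of fun γ hγ ⟨k, hk⟩ => ?_
  have := finite_mulAut hQc.1
  obtain ⟨-, hsyl⟩ := isFullyAutomized_iff.1 (fullyNormalized_props (hS.to_le hTS) hEs hQE).1
  obtain ⟨c, hc, hcX⟩ := hsyl.exists_conj_le (Subgroup.zpowers_le.2 hγ)
    (IsPGroup.of_card (n := k) (by rw [Nat.card_zpowers, hk]))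
  obtain ⟨t, ht, hte⟩ := exists_of_mem_autInducedBy (hcX _ (Subgroup.mem_zpowers _))
  let Z := centralizerIn S Q
  let M := Q ⊔ Z
  have hMS : M ≤ S := sup_le hQS (centralizerIn_le S Q)
  have : Finite ↥(Q ⊔ centralizerIn S Q) := finite_of_le hMS
  have hcF : IsIso F (c : Q ≃* Q) := hEi.1 _ ((mem_autGroup hQc.1).1 hc)
  obtain ⟨K₀, hK₀, hK₀e⟩ := receptive_extend (fullyNormalized_props hS hF hQ).2 hcF
  have hM : M ≤ extender S Q (Q.subtype.comp (c : Q ≃* Q).toMonoidHom) :=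
    sup_le (le_extender hcF) (centralizerIn_le_extender _ _ _)
  obtain ⟨K, hKF, hKe⟩ := exists_aut_of_self_map (restrict_mem hM hK₀)
    (sup_map_le (fun x => Subgroup.mem_sup_left (by
      show K₀ _ ∈ Q
      exact (hK₀e x (hM (Subgroup.mem_sup_left x.2))).symm ▸ (c x).2))
      fun z => Subgroup.mem_sup_right
        (extension_centralizer (le_extender hcF) (val_mem hK₀) hK₀e z.2))
  have hKQ : ∀ x : Q, ((K (Subgroup.inclusion le_sup_left x) : M) : Ω) = c x := fun x =>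
    (hKe _).trans (hK₀e x _)
  have htS : t ∈ S := hTS ht.1
  have htZ : ∀ z ∈ Z, t * z * t⁻¹ ∈ Z := fun z hz => mem_centralizerIn.2
    ⟨S.mul_mem (S.mul_mem htS hz.1) (S.inv_mem htS), fun x hx => by
      have h1 : t⁻¹ * x * t ∈ Q := by
        simpa using conj_mem_of_mem_normalizer (inv_mem ht.2) hx
      have h2 := (mem_centralizerIn.1 hz).2 _ h1
      calc x * (t * z * t⁻¹) = t * (t⁻¹ * x * t * z) * t⁻¹ := by group
        _ = t * (z * (t⁻¹ * x * t)) * t⁻¹ := by rw [h2]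
        _ = t * z * t⁻¹ * x := by group⟩
  have htM : t ∈ Subgroup.normalizer (M : Set Ω) :=
    mem_normalizer_of_conj_mem fun x hx => by
      have h1 : M ≤ M.comap (MulAut.conj t).toMonoidHom := sup_le
        (fun x hx => Subgroup.mem_sup_left (conj_mem_of_mem_normalizer ht.2 hx))
        fun z hz => Subgroup.mem_sup_right (htZ z hz)
      exact h1 hx
  let κ : MulAut M := K⁻¹ * conjAut M htM * K
  have hκF : κ ∈ F.autGroup M := mul_mem (mul_mem (inv_mem hKF)
    (autInducedBy_le_autGroup hMS (conjAut_mem_autInducedBy htS htM))) hKF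
  have hκQ : ∀ x : Q, κ (Subgroup.inclusion le_sup_left x) = Subgroup.inclusion le_sup_left (γ x) :=
    fun x => by
    apply K.injective
    refine Subtype.ext ?_
    simp only [κ, MulAut.mul_apply, MulAut.apply_inv_self, conjAut_apply, hKQ]
    rw [← hte, MulAut.mul_apply, MulAut.mul_apply, MulAut.inv_apply_self]
  have hκs : κ ∈ SatCriterion.stab (Q ⊔ centralizerIn S Q) Q := by
    intro x
    constructor
    · intro hx
      obtain ⟨z, hz⟩ := (γ : Q ≃* Q).surjective ⟨_, hx⟩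
      have h1 : κ x = κ (Subgroup.inclusion le_sup_left z) := by
        rw [hκQ, hz]
        exact Subtype.ext rfl
      rw [κ.injective h1]
      exact z.2
    · intro hx
      rw [show x = Subgroup.inclusion le_sup_left ⟨(x : Ω), hx⟩ from Subtype.ext rfl, hκQ]
      exact (γ _).2
  refine ⟨⟨κ, hκs⟩, ⟨hκF, fun u => ?_⟩, MulEquiv.ext fun x => Subtype.ext ?_⟩
  · set v : Ω := ((K (Subgroup.inclusion le_sup_right u) : M) : Ω) with hvdef
    have hv : v ∈ Z := by
      rw [hvdef, hKe]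
      exact extension_centralizer (le_extender hcF) (val_mem hK₀) hK₀e u.2
    have hq : v⁻¹ * (t * v * t⁻¹) ∈ Q := by
      refine hQc.le hT ⟨?_, (Subgroup.centralizer _).mul_mem (Z.inv_mem hv).2 (htZ v hv).2⟩
      have h1 := conj_mem_of_mem_normalizer
        (le_normalizer_of_stronglyClosed hT (S.inv_mem hv.1)) ht.1
      rw [inv_inv] at h1
      rw [show v⁻¹ * (t * v * t⁻¹) = v⁻¹ * t * v * t⁻¹ by group]
      exact T.mul_mem h1 (T.inv_mem ht.1)
    have h1 : κ (Subgroup.inclusion le_sup_right u) =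
        Subgroup.inclusion le_sup_right u * Subgroup.inclusion le_sup_left ((c : Q ≃* Q).symm ⟨_, hq⟩) := by
      refine K.injective (Subtype.ext ?_)
      rw [map_mul, Subgroup.coe_mul, hKQ, ← hvdef, MulEquiv.apply_symm_apply]
      simp only [κ, MulAut.mul_apply, MulAut.apply_inv_self, conjAut_apply, ← hvdef]
      group
    show (u : Ω)⁻¹ * ((κ (Subgroup.inclusion le_sup_right u) : M) : Ω) ∈ Q
    rw [h1, Subgroup.coe_mul]
    simp
  · rw [SatCriterion.restr_coe]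
    exact congrArg Subtype.val (hκQ x)

/-- The automorphisms for which extensions are needed. -/
def Gen (E : FusionSystem T) (p : ℕ) {P : Subgroup Ω} (γ : MulAut P) : Prop :=
  E.IsCentric P ∧ E.IsFullyNormalized P ∧ (orderOf γ).Coprime p ∧
    ((P = T ∧ γ ∈ E.autGroup P) ∨ γ ∈ IndexPrime.pPart E p P)

theorem exists_data' (hS : IsPGroup p S) (hE : E.IsNormalIn F p) {P : Subgroup Ω} {γ : MulAut P}
    (hP : E.IsCentric P) (hcop : (orderOf γ).Coprime p)
    (hcase : (P = T ∧ γ ∈ E.autGroup P) ∨ γ ∈ IndexPrime.pPart E p P) :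
    Nonempty (Data F T p γ) := by
  obtain ⟨hE', hext⟩ := hE
  obtain ⟨hEs, hF, hEi⟩ := id hE'
  have hT := hEi.2.1
  have hTS := hT.1
  have : Finite T := finite_of_le hTS
  rcases hcase with ⟨rfl, hγE⟩ | hγP
  · obtain ⟨β, hβ, hβT, hβC⟩ := hext γ hγE
    have hfn : F.IsFullyNormalized P := ⟨hTS, fun Q hQ => by
      obtain ⟨θ, hθ, rfl⟩ := hQ
      rw [eq_of_le_card (show θ.range ≤ P by rintro _ ⟨x, rfl⟩; exact hT.2 P le_rfl θ hθ x)
        (SatCriterion.card_range hθ).ge]⟩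
    have hs : β ∈ SatCriterion.stab (P ⊔ centralizerIn S P) P := by
      intro x
      constructor
      · intro hx
        obtain ⟨z, hz⟩ := (γ : P ≃* P).surjective ⟨_, hx⟩
        have h1 : β x = β (Subgroup.inclusion le_sup_left z) :=
          Subtype.ext (((hβT z).trans (congrArg Subtype.val hz)).symm)
        rw [β.injective h1]
        exact z.2
      · intro hx
        rw [show x = Subgroup.inclusion le_sup_left ⟨(x : Ω), hx⟩ from Subtype.ext rfl, hβT]
        exact (γ _).2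
    have hmem : γ ∈ Lifts F P hTS := ⟨⟨β, hs⟩,
      ⟨hβ, fun u => (hβC (Subgroup.inclusion le_sup_right u) u.2).1⟩,
      MulEquiv.ext fun x => Subtype.ext ((SatCriterion.restr_coe _ _ x).trans (hβT x))⟩
    obtain ⟨a, ha, hac, har⟩ := exists_pPrime_lift hmem hcop
    exact ⟨{
      P₀ := P
      e := MulEquiv.refl P
      map := (P ⊔ centralizerIn S P).subtype
      map_mem := subtype_mem (sup_le hTS (centralizerIn_le S P))
      map_left := fun x => rfl
      fc := fullyNormalized_fullyCentralized hS hF hfn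
      map_right := fun c => c.2
      a := a
      a_mem := ha
      cop := hac
      agree := har.trans (MulEquiv.ext fun x => rfl) }⟩
  · obtain ⟨Q, hPQ, hQ⟩ := exists_fullyNormalized (F := F) (hP.1.trans hTS)
    obtain ⟨e₀, he₀⟩ := isConj_iff_iso.1 hPQ
    obtain ⟨γ₀, hγ₀, u, hu, -, hue⟩ := exists_extend_fullyNormalized hS hF hQ he₀
    let e := e₀.trans γ₀
    have he : IsIso F e := he₀.trans ((mem_autGroup hQ.1).1 hγ₀)
    have hQc : ResidualNormal.Cen F T Q := by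
      have h1 := (ResidualNormal.cen_of_isCentric hEi hP).image hT he
      rwa [iso_range] at h1
    have hQE : E.IsFullyNormalized Q := by
      refine ⟨hQc.1, fun R hR => ?_⟩
      obtain ⟨f, hf⟩ := isConj_iff_iso.1 (isConj_symm hR)
      obtain ⟨δ, -, v, hv, hvN, -⟩ := exists_extend_fullyNormalized hS hF hQ
        (show IsIso F f from hEi.1 _ hf)
      have hle : normalizerIn T R ≤ normalizerIn S R := inf_le_inf hTS le_rfl
      have : Finite (normalizerIn T Q) := finite_of_le (normalizerIn_le T Q)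
      exact Finite.card_le_of_embedding
        ⟨fun g => ⟨v ⟨g, hle g.2⟩, map_mem_of_stronglyClosed hT hv ⟨g, hle g.2⟩ g.2.1, (hvN _).2⟩,
          fun a b hab => Subtype.ext (congrArg Subtype.val
            (F.injective_of_mem hv (congrArg Subtype.val hab :)) :)⟩
    have hγ' : MulAut.congr e γ ∈ IndexPrime.pPart E p Q := by
      have h : IndexPrime.pPart E p P ≤
          (IndexPrime.pPart E p Q).comap (MulAut.congr e).toMonoidHom := by
        refine IndexPrime.pPart_le_of fun δ hδ ⟨k, hk⟩ => ?_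
        refine IndexPrime.mem_pPart (Residual.congr_mem (IsInvariantIn.strongInvariant hEi)
          hP.1 hQc.1 he hδ) ⟨k, ?_⟩
        rw [← hk]
        exact orderOf_injective (MulAut.congr e).toMonoidHom (MulAut.congr e).injective δ
      exact h hγP
    obtain ⟨a, ha, hac, har⟩ := exists_pPrime_lift (p := p)
      (pPart_le_lifts hS hE' hQ.1 hQ hQc hQE hγ') (by
        rw [show orderOf (MulAut.congr e γ) = orderOf γ from
          orderOf_injective (MulAut.congr e).toMonoidHom (MulAut.congr e).injective γ]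
        exact hcop)
    have hCP : centralizerIn S T ≤ normalizerIn S P := le_trans
      (inf_le_inf le_rfl (Subgroup.centralizer_le hP.1)) (centralizerIn_le_normalizerIn S P)
    exact ⟨{
      P₀ := Q
      e := e
      map := u.comp (Subgroup.inclusion (sup_le (le_normalizerIn (hP.1.trans hTS)) hCP))
      map_mem := restrict_mem _ hu
      map_left := fun x => hue x _
      fc := fullyNormalized_fullyCentralized hS hF hQ
      map_right := fun c => extension_centralizer (le_normalizerIn (hP.1.trans hTS)) (val_mem hu)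
        (fun x hx => hue x hx) (e := e) (g := ⟨c, hCP c.2⟩)
        (inf_le_inf le_rfl (Subgroup.centralizer_le hP.1) c.2)
      a := a
      a_mem := ha
      cop := hac
      agree := har }⟩

theorem exists_data (hS : IsPGroup p S) (hE : E.IsNormalIn F p) {P : Subgroup Ω} {γ : MulAut P}
    (hγ : Gen E p γ) : Nonempty (Data F T p γ) :=
  exists_data' hS hE hγ.1 hγ.2.2.1 hγ.2.2.2

/-! ### The reduction to these automorphisms -/

omit [Finite S] in
/-- A group with normal subgroups is generated by its elements of order prime to `p` and a Sylow subgroup. -/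
theorem le_of_coprime_sylow {G : Type*} [Group G] {B P K : Subgroup G} [Finite B]
    (hP : IsSylowIn p P B) (hK : ∀ b ∈ B, (orderOf b).Coprime p → b ∈ K) (hPK : P ≤ K) : B ≤ K := by
  let H : Subgroup B := Subgroup.closure {b : B | (orderOf b).Coprime p}
  haveI hHn : H.Normal := by
    refine ⟨fun h hh g => ?_⟩
    have hle : H ≤ H.comap (MulAut.conj g).toMonoidHom := by
      refine (Subgroup.closure_le _).2 fun b hb => Subgroup.subset_closure ?_
      have h1 : orderOf ((MulAut.conj g) b) = orderOf b :=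
        orderOf_injective (MulAut.conj g).toMonoidHom (MulAut.conj g).injective b
      show (orderOf ((MulAut.conj g) b)).Coprime p
      rw [h1]
      exact hb
    exact hle hh
  have hpg : IsPGroup p (B ⧸ H) := by
    intro x
    obtain ⟨b, rfl⟩ := QuotientGroup.mk_surjective x
    obtain ⟨k, n, hn, hkn⟩ :=
      Nat.exists_eq_pow_mul_and_not_dvd (orderOf_pos b).ne' p (Fact.out : p.Prime).ne_one
    refine ⟨k, ?_⟩
    rw [← QuotientGroup.mk_pow, QuotientGroup.eq_one_iff]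
    refine Subgroup.subset_closure ?_
    refine Nat.Coprime.coprime_dvd_left (orderOf_dvd_of_pow_eq_one ?_)
      ((Fact.out : p.Prime).coprime_iff_not_dvd.2 hn).symm
    rw [← pow_mul, ← hkn, pow_orderOf_eq_one]
  obtain ⟨k, hk⟩ := IsPGroup.iff_card.1 hpg
  have hHK : H ≤ K.subgroupOf B := (Subgroup.closure_le _).2 fun b hb => by
    refine hK b b.2 ?_
    rw [Subgroup.orderOf_coe]
    exact hb
  have h1 : K.relIndex B ∣ p ^ k := hk ▸ Subgroup.index_dvd_of_le hHK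
  obtain ⟨j, -, hj⟩ := (Nat.dvd_prime_pow (Fact.out : p.Prime)).1 h1
  have h2 : j = 0 := by
    by_contra h0
    exact hP.2.2 ((hj ▸ dvd_pow_self p h0 : p ∣ K.relIndex B).trans
      (Subgroup.relIndex_dvd_of_le_left B hPK))
  rw [h2, pow_zero, Subgroup.relIndex_eq_one] at hj
  exact hj

/-- `E` centralizes `Y` as soon as these automorphisms do. -/
theorem le_centralizer (hS : IsPGroup p S) (hE : E.IsNormalIn F p) {Y : Subgroup Ω}
    (hY : Y ≤ centralizerIn S T)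
    (h : ∀ (P : Subgroup Ω) (γ : MulAut P), Gen E p γ →
      ExtendsOver F Y ⊥ (P.subtype.comp γ.toMonoidHom)) (P : Subgroup Ω) :
    E.Hom P ⊆ F.centralizerHom Y P := by
  obtain ⟨hEs, hF, hEi⟩ := hE.1
  have hT := hEi.2.1
  have hTS := hT.1
  have : Finite T := finite_of_le hTS
  have hTp : IsPGroup p T := hS.to_le hTS
  have hYS : Y ≤ S := hY.trans (centralizerIn_le S T)
  have hTY : T ≤ centralizerIn S Y := fun t ht => mem_centralizerIn.2
    ⟨hTS ht, fun y hy => ((mem_centralizerIn.1 (hY hy)).2 t ht).symm⟩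
  have hK : ∀ g ∈ T, ∃ h : g ∈ Subgroup.normalizer (Y : Set Ω),
      conjAut Y h ∈ (⊥ : Subgroup (MulAut Y)) := fun g hg => by
    refine ⟨centralizer_le_normalizer' Y (hTY hg).2, Subgroup.mem_bot.2 (MulEquiv.ext fun x => Subtype.ext ?_)⟩
    rw [conjAut_apply, ← (mem_centralizerIn.1 (hTY hg)).2 x x.2, mul_inv_cancel_right]
    rfl
  let G := extSystem F T Y ⊥ hTS hYS hK
  have hmain : ∀ n (R : Subgroup Ω), E.IsCentric R → Nat.card T - Nat.card R = n →
      E.Hom R ⊆ G.Hom R := by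
    intro n
    induction n using Nat.strong_induction_on with
    | _ n ih =>
      intro R hR hn φ hφ
      obtain ⟨Q, hRQ, hQ⟩ := exists_fullyNormalized (F := E) hR.1
      have hQc : E.IsCentric Q := conj_of_isCentric hR hRQ
      have := finite_mulAut hQ.1
      obtain ⟨hA, hrec⟩ := fullyNormalized_props hTp hEs hQ
      obtain ⟨-, hsyl⟩ := isFullyAutomized_iff.1 hA
      have hcard : Nat.card Q = Nat.card R := (isConj_card hRQ).symm
      have hstep : ∀ R' : Subgroup Ω, E.IsCentric R' → Nat.card R' = Nat.card R → R' ≠ T →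
          ∀ (χ : ↥(normalizerIn T R') →* Ω), χ ∈ E.Hom (normalizerIn T R') → χ ∈ G.Hom _ := by
        intro R' hR' hc hne χ hχ
        have hlt : R' < normalizerIn T R' :=
          lt_normalizer_inf hTp (lt_of_le_of_ne hR'.1 hne)
        have : Finite (normalizerIn T R') := finite_of_le (normalizerIn_le T R')
        have h1 : Nat.card R' < Nat.card (normalizerIn T R') :=
          lt_of_not_ge fun hge => hlt.ne (eq_of_le_card hlt.le hge)
        have h2 : Nat.card (normalizerIn T R') ≤ Nat.card T :=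
          Subgroup.card_le_of_le (normalizerIn_le T R')
        exact ih _ (by omega) _ (isCentric_of_le hR' hlt.le (normalizerIn_le T R')) rfl hχ
      -- the automorphisms of `Q`
      have haut : E.autGroup Q ≤ G.autGroup Q := by
        have hgen : ∀ B : Subgroup (MulAut Q), B ≤ E.autGroup Q → autInducedBy T Q ≤ B →
            (∀ b ∈ B, (Q = T ∧ b ∈ E.autGroup Q) ∨ b ∈ IndexPrime.pPart E p Q) →
              B ≤ G.autGroup Q := by
          intro B hB hTB hcase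
          refine le_of_coprime_sylow (hsyl.mono_right hTB hB) (fun b hb hcop => ?_)
            (autInducedBy_le_autGroup hQ.1)
          refine (mem_autGroup hQ.1).2 ⟨hEi.1 _ ((mem_autGroup hQ.1).1 (hB hb)), hQ.1,
            fun x => hQ.1 (b x).2, h Q b ⟨hQc, hQ, hcop, hcase b hb⟩⟩
        by_cases hQT : Q = T
        · exact hgen _ le_rfl hsyl.1 fun b hb => Or.inl ⟨hQT, hb⟩
        have hB := hgen _ (IndexPrime.pPart_le E p Q) (IndexPrime.autInducedBy_le_pPart hTp E hQ.1)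
          fun b hb => Or.inr hb
        intro γ hγ
        obtain ⟨b, hb, hbx⟩ := hsyl.exists_frattini (IndexPrime.pPart_le E p Q)
          IndexPrime.normalizes_pPart hγ
        have hγ' : IsIso E ((b * γ : MulAut Q) : Q ≃* Q) :=
          (mem_autGroup hQ.1).1 (mul_mem (IndexPrime.pPart_le E p Q hb) hγ)
        obtain ⟨χ, hχ, -, hχe⟩ := exists_extend_of_congr_le hrec hγ' (by
          rintro _ ⟨x, hx, rfl⟩
          show MulAut.congr (b * γ : MulAut Q) x ∈ autInducedBy T Q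
          rw [congr_eq_conj]
          exact (hbx x ⟨hx, IndexPrime.autInducedBy_le_pPart hTp E hQ.1 hx⟩).1)
        have h1 : b * γ ∈ G.autGroup Q := (mem_autGroup hQ.1).2
          (mem_of_agree (le_normalizerIn hQ.1) (hstep Q hQc hcard hQT χ hχ) fun x =>
            (hχe x _).symm)
        simpa using mul_mem (inv_mem (hB hb)) h1
      -- the general map
      have hiso : ∀ R' : Subgroup Ω, E.IsCentric R' → E.IsConj R' Q →
          ∃ e : R' ≃* Q, IsIso E e ∧ IsIso G e := by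
        intro R' hR' hR'Q
        obtain ⟨e₀, he₀⟩ := isConj_iff_iso.1 hR'Q
        by_cases hT' : R' = T
        · have hQT : Q = T := eq_of_le_card hQ.1 (by rw [← isConj_card hR'Q, hT'])
          subst hT'
          subst hQT
          exact ⟨e₀, he₀, (mem_autGroup hQ.1).1 (haut ((mem_autGroup hQ.1).2 he₀))⟩
        · obtain ⟨δ, hδ, χ, hχ, -, hχe⟩ := exists_extend_fullyNormalized hTp hEs hQ he₀
          exact ⟨e₀.trans δ, he₀.trans ((mem_autGroup hQ.1).1 hδ),
            mem_of_agree (le_normalizerIn hR'.1)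
              (hstep R' hR' ((isConj_card hR'Q).trans hcard) hT' χ hχ) fun x => (hχe x _).symm⟩
      obtain ⟨e, heE, heG⟩ := hiso R hR hRQ
      let f := toIso φ hφ (rfl : φ.range = φ.range)
      have hf : IsIso E f := isIso_toIso φ hφ rfl
      obtain ⟨e', he'E, he'G⟩ := hiso φ.range (conj_of_isCentric hR ⟨φ, hφ, rfl⟩)
        (isConj_trans (isConj_symm ⟨φ, hφ, rfl⟩) hRQ)
      have hm : ((e.symm.trans f).trans e' : MulAut Q) ∈ G.autGroup Q :=
        haut ((mem_autGroup hQ.1).2 ((heE.symm.trans hf).trans he'E))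
      have h3 := (heG.trans ((mem_autGroup hQ.1).1 hm)).trans he'G.symm
      refine mem_of_agree le_rfl h3 fun x => ?_
      show φ x = ((e'.symm (((e.symm.trans f).trans e') (e x)) : φ.range) : Ω)
      simp [f]
  intro φ hφ
  have hG : φ ∈ (Residual.meet E G).Hom P := by
    refine alperin hTp hEs (Residual.meet E G) (fun R hR γ hγ => ?_) P hφ
    have hc := (centric_radical_of_top_or_essential hTp hEs hR).1
    have h1 := (mem_autGroup hc.1).1 hγ
    exact (mem_autGroup hc.1).2 ⟨h1, hmain _ R hc rfl h1⟩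
  obtain ⟨hφF, hPT, hval, hext⟩ := hG.2
  exact ⟨hφF, hPT.trans hTY, fun x => hTY (hval x), extendsOver_bot_iff.1 hext⟩

theorem extendsOver_of_centralized {Y : Subgroup Ω} (h : ∀ P, E.Hom P ⊆ F.centralizerHom Y P)
    {P : Subgroup Ω} {γ : MulAut P} (hγ : Gen E p γ) {y : Ω} (hy : y ∈ Y) :
    ExtendsOver F (Subgroup.zpowers y) ⊥ (P.subtype.comp γ.toMonoidHom) := by
  obtain ⟨hP, -, -, hcase⟩ := hγ
  have h1 : γ ∈ E.autGroup P := by
    rcases hcase with h | h
    · exact h.2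
    · exact IndexPrime.pPart_le E p P h
  obtain ⟨-, -, -, ψ, hψ, hψP, hψY⟩ := h P ((mem_autGroup hP.1).1 h1)
  have hle : P ⊔ Subgroup.zpowers y ≤ P ⊔ Y := sup_le_sup_left (Subgroup.zpowers_le.2 hy) P
  exact extendsOver_bot_iff.2 ⟨_, restrict_mem hle hψ, fun x => hψP x,
    fun x => hψY ⟨x, Subgroup.zpowers_le.2 hy x.2⟩⟩

/-- The subgroups centralized by `E` have a largest member. -/
theorem sSup_centralized (hS : IsPGroup p S) (hE : E.IsNormalIn F p) (P : Subgroup Ω) :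
    E.Hom P ⊆ F.centralizerHom (sSup {X : Subgroup Ω | X ≤ centralizerIn S T ∧
      ∀ P : Subgroup Ω, E.Hom P ⊆ F.centralizerHom X P}) P := by
  refine le_centralizer hS hE (sSup_le fun X hX => hX.1) (fun R γ hγ => ?_) P
  obtain ⟨d⟩ := exists_data hS hE hγ
  exact d.ext_of_fixed (sSup_le fun X hX y hy =>
    d.fixed_of_ext hS hE.1.2.1 (hX.1 hy) (extendsOver_of_centralized hX.2 hγ hy))

/-- The focal subgroup of `C_F(T)` is centralized by `E`. -/
theorem focal_centralized (hS : IsPGroup p S) (hE : E.IsNormalIn F p)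
    {D : FusionSystem (centralizerIn S T)} (hD : F.IsCentralizerSystem T D) :
    D.focalSubgroup ≤ sSup {X : Subgroup Ω | X ≤ centralizerIn S T ∧
      ∀ P : Subgroup Ω, E.Hom P ⊆ F.centralizerHom X P} := by
  refine (Subgroup.closure_le _).2 ?_
  rintro _ ⟨R, φ, x, hφ, rfl⟩
  have hφ' : φ ∈ F.centralizerHom T R := hD R ▸ hφ
  obtain ⟨-, hR, hval, ψ, hψ, hψR, hψT⟩ := hφ'
  have hy : (x : Ω) ∈ centralizerIn S T := hR x.2
  have hy' : φ x ∈ centralizerIn S T := hval x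
  have hw : (x : Ω)⁻¹ * φ x ∈ centralizerIn S T := mul_mem (inv_mem hy) hy'
  suffices hX : Subgroup.zpowers ((x : Ω)⁻¹ * φ x) ∈ {X : Subgroup Ω | X ≤ centralizerIn S T ∧
      ∀ P : Subgroup Ω, E.Hom P ⊆ F.centralizerHom X P} from
    (le_sSup hX) (Subgroup.mem_zpowers _)
  refine ⟨Subgroup.zpowers_le.2 hw, le_centralizer hS hE (Subgroup.zpowers_le.2 hw) fun P γ hγ => ?_⟩
  obtain ⟨d⟩ := exists_data hS hE hγ
  have hle : Subgroup.zpowers (x : Ω) ⊔ T ≤ R ⊔ T := sup_le_sup_right (Subgroup.zpowers_le.2 x.2) T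
  exact d.ext_of_fixed (Subgroup.zpowers_le.2 (d.fixed_div hS hE.1.2.1 hy hy' hγ.1.1
    (restrict_mem hle hψ) (fun t => hψT t) (hψR x)))

end Cfsg.Agent.Lib.Fusion.CentralizerOfNormal
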