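import Cfsg.Agent.S5201
import Cfsg.Agent.Lib.Fusion.PSolvableModel
import Cfsg.Agent.Lib.Fusion.Solvable
import Cfsg.Agent.Lib.GenStruct.PHall
import Cfsg.Prelude.Def_FusionComponents

/-!
Terminating residual series and constrained systems with `p`-soluble models.
-/

set_option autoImplicit false

universe u

namespace Cfsg.Agent.Lib.Fusion.SolvableSeries

open Cfsg Cfsg.FusionSystem Cfsg.Agent.Lib.Fusion.PSolvableModel

/-! ### Group theory -/

theorem relIndex_of_exponent {p : ℕ} [Fact p.Prime] {G : Type*} [Group G] [Finite G] {A B : Subgroup G}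
    [A.Normal] :
    ((∀ x ∈ B, ∃ m : ℕ, x ^ p ^ m ∈ A) → ∃ m : ℕ, A.relIndex B = p ^ m) ∧
      ((∀ x ∈ B, ∃ d : ℕ, d.Coprime p ∧ x ^ d ∈ A) → (A.relIndex B).Coprime p) := by
  have hcard : A.relIndex B = Nat.card (B ⧸ A.subgroupOf B) := Subgroup.index_eq_card _
  refine ⟨fun h => ?_, fun h => ?_⟩
  · rw [hcard]
    refine IsPGroup.iff_card.1 fun q => ?_
    obtain ⟨x, rfl⟩ := QuotientGroup.mk_surjective q
    obtain ⟨m, hm⟩ := h x x.2
    exact ⟨m, by rw [← QuotientGroup.mk_pow, QuotientGroup.eq_one_iff]; exact hm⟩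
  · rw [hcard, Nat.coprime_comm, (Fact.out : p.Prime).coprime_iff_not_dvd]
    intro hdvd
    obtain ⟨q, hq⟩ := exists_prime_orderOf_dvd_card' p hdvd
    obtain ⟨x, rfl⟩ := QuotientGroup.mk_surjective q
    obtain ⟨d, hd, hxd⟩ := h x x.2
    have h1 : (QuotientGroup.mk x : B ⧸ A.subgroupOf B) ^ d = 1 := by
      rw [← QuotientGroup.mk_pow, QuotientGroup.eq_one_iff]
      exact hxd
    have h2 := orderOf_dvd_of_pow_eq_one h1
    rw [hq] at h2
    exact (Fact.out : p.Prime).coprime_iff_not_dvd.1 (Nat.coprime_comm.1 hd) h2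

/-- An extension of a `p`-soluble normal subgroup by a `p`-group or a `p'`-group is `p`-soluble. -/
theorem isPSolvable_of_normal {p : ℕ} [Fact p.Prime] {G : Type*} [Group G] [Finite G] (N : Subgroup G)
    [N.Normal] (hN : IsPSolvable p N)
    (h : (∀ x : G, ∃ m : ℕ, x ^ p ^ m ∈ N) ∨ ∀ x : G, ∃ d : ℕ, d.Coprime p ∧ x ^ d ∈ N) :
    IsPSolvable p G := by
  obtain ⟨n, H, h0, hl, hmono, hnorm, hi⟩ := hN
  let C : Fin (n + 1) → Subgroup G := fun i => ((H i).map N.subtype).normalCore
  have hCl : C (Fin.last n) = N := by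
    show ((H (Fin.last n)).map N.subtype).normalCore = N
    rw [hl, ← MonoidHom.range_eq_map, Subgroup.range_subtype, Subgroup.normalCore_eq_self]
  let K : Fin (n + 2) → Subgroup G := Fin.snoc C ⊤
  have hKc : ∀ i : Fin (n + 1), K i.castSucc = C i := fun i => by simp only [K, Fin.snoc_castSucc]
  have hKl : K (Fin.last (n + 1)) = ⊤ := by simp only [K, Fin.snoc_last]
  refine ⟨n + 1, K, ?_, hKl, Fin.monotone_iff_le_succ.2 ?_, ?_, ?_⟩
  · rw [← Fin.castSucc_zero, hKc]
    show ((H 0).map N.subtype).normalCore = ⊥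
    rw [h0, Subgroup.map_bot, Subgroup.normalCore_eq_self]
  · refine Fin.lastCases ?_ fun i => ?_
    · rw [Fin.succ_last, hKl]; exact le_top
    · rw [hKc, show i.castSucc.succ = i.succ.castSucc from rfl, hKc]
      exact Subgroup.normalCore_mono (Subgroup.map_mono (hmono (Fin.castSucc_le_succ i)))
  · refine Fin.lastCases ?_ fun i => ?_
    · rw [hKl]; infer_instance
    · rw [hKc]; exact Subgroup.normalCore_normal _
  · refine Fin.lastCases ?_ fun i => ?_
    · rw [hKc, Fin.succ_last, hKl, hCl]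
      rcases h with h | h
      · exact Or.inl (relIndex_of_exponent.1 fun x _ => h x)
      · exact Or.inr (relIndex_of_exponent.2 fun x _ => h x)
    · rw [hKc, show i.castSucc.succ = i.succ.castSucc from rfl, hKc]
      haveI : (C i.castSucc).Normal := Subgroup.normalCore_normal _
      have hpow : ∀ x ∈ C i.succ, x ^ (H i.castSucc).relIndex (H i.succ) ∈ C i.castSucc := by
        intro x hx g
        obtain ⟨y, hy, hye⟩ := hx g
        refine ⟨y ^ (H i.castSucc).relIndex (H i.succ), ?_, by rw [map_pow, hye, conj_pow]⟩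
        haveI := hnorm i.castSucc
        exact Subgroup.pow_index_mem ((H i.castSucc).subgroupOf (H i.succ)) (⟨y, hy⟩ : H i.succ)
      rcases hi i with ⟨m, hm⟩ | hd
      · exact Or.inl (relIndex_of_exponent.1 fun x hx => ⟨m, hm ▸ hpow x hx⟩)
      · exact Or.inr (relIndex_of_exponent.2 fun x hx => ⟨_, hd, hpow x hx⟩)

theorem eq_one_of_coprime_fix {p : ℕ} [Fact p.Prime] {X : Type*} [Group X] (hX : IsPGroup p X)
    {γ : MulAut X} (hcop : (orderOf γ).Coprime p) {x c : X} (hc : γ c = c) (hx : γ x = x * c) :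
    c = 1 := by
  have h : ∀ n : ℕ, (γ ^ n) x = x * c ^ n := by
    intro n
    induction n with
    | zero => simp
    | succ n ih => rw [pow_succ', MulAut.mul_apply, ih, map_mul, map_pow, hx, hc, pow_succ', mul_assoc]
  have h1 := h (orderOf γ)
  rw [pow_orderOf_eq_one, MulAut.one_apply, left_eq_mul] at h1
  exact eq_one_of_pGroup_coprime (hX c) h1 hcop

/-! ### Climbing the series -/

variable {Ω : Type u} [Group Ω] {S T : Subgroup Ω} {F : FusionSystem S} {D : FusionSystem T} {p : ℕ}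

/-- A saturated constrained system with `p`-soluble automiser of a centric normal subgroup. -/
def PSolv (F : FusionSystem S) (p : ℕ) : Prop :=
  F.IsSaturated p ∧ ∃ Q : Subgroup Ω, F.IsNormal Q ∧ F.IsCentric Q ∧ IsPSolvable p (F.autGroup Q)

variable [Finite S] [Fact p.Prime]

/-- The automorphisms of a normal centric subgroup are a quotient of a model. -/
theorem exists_action (hS : IsPGroup p S) {Q : Subgroup Ω} (hKn : F.IsNormal Q) (hKc : F.IsCentric Q)
    {G : Type u} [Group G] {ι : S →* G} (hG : F.IsModel p G ι) :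
    ∃ χ : G →* F.autGroup Q, Function.Surjective χ ∧ IsPGroup p χ.ker := by
  have hKS := hKn.1
  have hn := model_normal hKn hG
  have hc := fun g => model_centralizer hKn hKc hG (g := g)
  obtain ⟨hfin, hr, -, -⟩ := hG
  have htop : ∀ g : G, g ∈ Subgroup.normalizer (img ι Q : Set G) := fun g => by
    refine mem_normalizer_of_conj_mem ?_
    rintro _ ⟨q, hq, rfl⟩
    obtain ⟨q', hq', e⟩ := hn g q hq
    exact e ▸ ⟨q', hq', rfl⟩
  let θ : G →* MulAut Q := (autHom hr.1 hKS).comp ((MonoidHom.id G).codRestrict _ htop)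
  have hθ : ∀ g (x : Q), ι ⟨(θ g x : Ω), hKS (θ g x).2⟩ = g * ι ⟨x, hKS x.2⟩ * g⁻¹ := fun g x =>
    autHom_spec hr.1 hKS ⟨g, htop g⟩ x
  have hmem : ∀ g, θ g ∈ F.autGroup Q := fun g =>
    (mem_autGroup hKS).2 ((realized_iso_iff hr hKS hKS).2 ⟨g, hθ g⟩)
  refine ⟨θ.codRestrict _ hmem, ?_, ?_⟩
  · rintro ⟨α, hα⟩
    obtain ⟨g, hg⟩ := (realized_iso_iff hr hKS hKS).1 ((mem_autGroup hKS).1 hα)
    refine ⟨g, Subtype.ext (MulEquiv.ext fun x => Subtype.ext ?_)⟩
    exact (congrArg Subtype.val (hr.1 ((hθ g x).trans (hg x).symm)) :)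
  · rintro ⟨g, hg⟩
    have hg' : θ g = 1 := congrArg Subtype.val hg
    obtain ⟨z, -, rfl⟩ := hc g fun q hq => by
      have h := hθ g ⟨q, hq⟩
      rw [hg'] at h
      exact h.symm
    obtain ⟨k, hk⟩ := hS z
    exact ⟨k, Subtype.ext (by simpa using congrArg ι hk)⟩

theorem PSolv.isConstrained (h : PSolv F p) : F.IsConstrained p :=
  ⟨h.1, h.2.choose, h.2.choose_spec.1, h.2.choose_spec.2.1⟩

theorem PSolv.model (hS : IsPGroup p S) (h : PSolv F p) {G : Type u} [Group G] {ι : S →* G}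
    (hG : F.IsModel p G ι) : IsPSolvable p G := by
  obtain ⟨-, Q, hQn, hQc, hA⟩ := h
  obtain ⟨χ, hχ, hk⟩ := exists_action hS hQn hQc hG
  have := hG.1
  exact isPSolvable_of_pKer hχ hk hA

theorem PSolv.core (hS : IsPGroup p S) (h : PSolv F p) : IsPSolvable p (F.autGroup F.core) := by
  have hc := h.isConstrained
  obtain ⟨G, _, ι, hG⟩ := exists_model hS hc
  obtain ⟨χ, hχ, -⟩ := exists_action hS isNormal_core (core_centric hc) hG
  have := hG.1
  exact isPSolvable_of_surjective hχ (h.model hS hG)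

/-- The core of a weakly normal subsystem is normal. -/
theorem core_normal (hS : IsPGroup p S) (hD : D.IsWeaklyNormalIn F p) : F.IsNormal D.core := by
  obtain ⟨hDs, hF, hI⟩ := id hD
  have hTS : T ≤ S := hI.2.1.1
  have := finite_of_le hTS
  have hK : D.IsNormal D.core := isNormal_core
  have hsc : F.StronglyClosed D.core :=
    map_mem_of_invariant hI (stronglyClosed_of_isNormal hK) fun α hα x hx =>
      le_core (isNormal_autImage (IsInvariantIn.autInvariant hI) hTS hα hK) ⟨x, hx, rfl⟩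
  have h := isNormal_closure_images hS hD hK
  have heq : Subgroup.closure {x : Ω | ∃ φ ∈ F.Hom D.core, ∃ r : D.core, x = φ r} = D.core := by
    refine le_antisymm ((Subgroup.closure_le _).2 ?_) fun x hx =>
      Subgroup.subset_closure ⟨_, subtype_mem hsc.1, ⟨x, hx⟩, rfl⟩
    rintro _ ⟨φ, hφ, r, rfl⟩
    exact hsc.2 _ le_rfl φ hφ r
  rwa [heq] at h

theorem isCentric_of_normal {Q : Subgroup Ω} (hQ : F.IsNormal Q) (hc : centralizerIn S Q ≤ Q) :
    F.IsCentric Q := by
  refine ⟨hQ.1, ?_⟩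
  rintro _ ⟨φ, hφ, rfl⟩
  have : Finite Q := finite_of_le hQ.1
  rw [eq_of_le_card (show φ.range ≤ Q by rintro _ ⟨x, rfl⟩; exact map_mem_of_normal hQ hφ x x.2)
    (SatCriterion.card_range hφ).ge]
  exact hc

theorem aut_subgroupOf_normal (hI : D.IsInvariantIn F) {R : Subgroup Ω} (hR : R ≤ T) :
    ((D.autGroup R).subgroupOf (F.autGroup R)).Normal := by
  have := finite_mulAut (hR.trans hI.2.1.1)
  exact Subgroup.normal_subgroupOf_of_le_normalizer
    (Residual.aut_normal (IsInvariantIn.strongInvariant hI) hI.2.1.1 hR)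

theorem aut_isPSolvable (hDF : D.IsSubsystemOf F) {R : Subgroup Ω} (hR : R ≤ S)
    (hn : ((D.autGroup R).subgroupOf (F.autGroup R)).Normal) (hA : IsPSolvable p (D.autGroup R))
    (h : (∀ x : F.autGroup R, ∃ m : ℕ, (x : MulAut R) ^ p ^ m ∈ D.autGroup R) ∨
      ∀ x : F.autGroup R, ∃ d : ℕ, d.Coprime p ∧ (x : MulAut R) ^ d ∈ D.autGroup R) :
    IsPSolvable p (F.autGroup R) := by
  have := finite_mulAut hR
  exact isPSolvable_of_normal ((D.autGroup R).subgroupOf (F.autGroup R))
    (isPSolvable_of_surjective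
      (Subgroup.subgroupOfEquivOfLe (autGroup_mono_of_subsystem hDF R)).symm.surjective
      (f := (Subgroup.subgroupOfEquivOfLe (autGroup_mono_of_subsystem hDF R)).symm.toMonoidHom) hA) h

/-- Climbing a step of index prime to `p`. -/
theorem up_p' {R : FusionSystem S} (hS : IsPGroup p S) (hR : R.IsWeaklyNormalIn F p)
    (hi : R.HasPrimeToPIndexIn F p) (h : PSolv R p) : PSolv F p := by
  have hn := core_normal hS hR
  have hc := core_centric h.isConstrained
  have hKS : R.core ≤ S := hn.1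
  refine ⟨hR.2.1, R.core, hn, isCentric_of_normal hn (centralizer_le_of_isCentric hc), ?_⟩
  have := finite_mulAut hKS
  refine aut_isPSolvable hi.1 hKS (aut_subgroupOf_normal hR.2.2 hKS) (h.core hS) (Or.inr fun x => ?_)
  obtain ⟨k, n, hn', hkn⟩ :=
    Nat.exists_eq_pow_mul_and_not_dvd (orderOf_pos x).ne' p (Fact.out : p.Prime).ne_one
  refine ⟨n, ((Fact.out : p.Prime).coprime_iff_not_dvd.2 hn').symm, hi.2 _ hKS ⟨x ^ n, ?_, rfl⟩⟩
  have h1 : (x ^ n) ^ p ^ k = 1 := by rw [← pow_mul, mul_comm n, ← hkn, pow_orderOf_eq_one]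
  obtain ⟨j, -, hj⟩ := (Nat.dvd_prime_pow Fact.out).1 (orderOf_dvd_of_pow_eq_one h1)
  exact Subgroup.subset_closure ⟨j, hj⟩

/-- Climbing a step of `p`-power index. -/
theorem up_p (hS : IsPGroup p S) (hD : D.IsWeaklyNormalIn F p) (hi : D.HasPPowerIndexIn F p)
    (h : PSolv D p) : PSolv F p := by
  obtain ⟨hDs, hF, hI⟩ := id hD
  have hTS : T ≤ S := hI.2.1.1
  have := finite_of_le hTS
  set K := D.core
  have hKn : F.IsNormal K := core_normal hS hD
  have hKc := core_centric h.isConstrained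
  have hKT : K ≤ T := (isNormal_core (F := D)).1
  have hKS : K ≤ S := hKn.1
  set C := centralizerIn S K
  -- automorphisms of order prime to `p` fixing `K` are trivial
  have key : ∀ R : Subgroup Ω, R ≤ S → K ≤ R → ∀ γ ∈ F.autGroup R, (orderOf γ).Coprime p →
      (∀ x : R, (x : Ω) ∈ K → γ x = x) → γ = 1 := by
    intro R hRS hKR γ hγ hcop hfix
    have hhyp : ∀ x : R, (x : Ω)⁻¹ * (γ x : Ω) ∈ T := fun x =>
      hi.2.1 (inv_mul_mem_hyperfocal hRS (α := ⟨γ, hγ⟩) (coprime_mem_pResidual hcop) x)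
    have hC : ∀ c : R, (c : Ω) ∈ C → γ c = c := by
      intro c hc
      have hm : ((c⁻¹ * γ c : R) : Ω) ∈ K := by
        refine centralizer_le_of_isCentric hKc (mem_centralizerIn.2 ⟨hhyp c, fun k hk => ?_⟩)
        have h1 : (⟨k, hKR hk⟩ : R) * c = c * ⟨k, hKR hk⟩ :=
          Subtype.ext ((mem_centralizerIn.1 hc).2 k hk)
        have h2 := congrArg γ h1
        rw [map_mul, map_mul, hfix ⟨k, hKR hk⟩ hk] at h2
        have h3 : Commute (⟨k, hKR hk⟩ : R) (c⁻¹ * γ c) :=
          Commute.mul_right (Commute.inv_right h1) h2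
        exact congrArg Subtype.val h3.eq
      exact (inv_mul_eq_one.1 (eq_one_of_coprime_fix (hS.to_le hRS) hcop (hfix _ hm)
        (by rw [mul_inv_cancel_left]))).symm
    refine MulEquiv.ext fun x => ?_
    have hm : ((x⁻¹ * γ x : R) : Ω) ∈ C := by
      refine mem_centralizerIn.2 ⟨hRS (Subtype.coe_prop _), fun k hk => ?_⟩
      have hxk : ((x : Ω) * k * (x : Ω)⁻¹) ∈ K :=
        conj_mem_of_mem_normalizer (le_normalizer_of_stronglyClosed
          (stronglyClosed_of_isNormal hKn) (hRS x.2)) hk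
      have h1 := hfix (x * ⟨k, hKR hk⟩ * x⁻¹) hxk
      rw [map_mul, map_mul, map_inv, hfix ⟨k, hKR hk⟩ hk] at h1
      have h2 : (γ x : Ω) * k * (γ x : Ω)⁻¹ = x * k * (x : Ω)⁻¹ := congrArg Subtype.val h1
      show k * ((x : Ω)⁻¹ * (γ x : Ω)) = (x : Ω)⁻¹ * (γ x : Ω) * k
      calc k * ((x : Ω)⁻¹ * (γ x : Ω)) = (x : Ω)⁻¹ * ((x : Ω) * k * (x : Ω)⁻¹) * (γ x : Ω) := by group
        _ = (x : Ω)⁻¹ * ((γ x : Ω) * k * (γ x : Ω)⁻¹) * (γ x : Ω) := by rw [h2]
        _ = (x : Ω)⁻¹ * (γ x : Ω) * k := by group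
    exact (inv_mul_eq_one.1 (eq_one_of_coprime_fix (hS.to_le hRS) hcop (hC _ hm)
      (by rw [mul_inv_cancel_left]))).symm
  have pker : ∀ R : Subgroup Ω, R ≤ S → K ≤ R → ∀ γ ∈ F.autGroup R,
      (∀ x : R, (x : Ω) ∈ K → γ x = x) → ∃ k : ℕ, γ ^ p ^ k = 1 := by
    intro R hRS hKR γ hγ hfix
    have := finite_mulAut hRS
    obtain ⟨k, n, hn', hkn⟩ :=
      Nat.exists_eq_pow_mul_and_not_dvd (orderOf_pos γ).ne' p (Fact.out : p.Prime).ne_one
    refine ⟨k, key R hRS hKR _ (pow_mem hγ _) ?_ fun x hx => ?_⟩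
    · refine Nat.Coprime.coprime_dvd_left (orderOf_dvd_of_pow_eq_one ?_)
        ((Fact.out : p.Prime).coprime_iff_not_dvd.2 hn').symm
      rw [← pow_mul, ← hkn, pow_orderOf_eq_one]
    · induction p ^ k with
      | zero => rfl
      | succ j ih => rw [pow_succ', MulAut.mul_apply, ih, hfix x hx]
  have hCn : S ≤ Subgroup.normalizer (C : Set Ω) := by
    intro g hg
    have : Finite C := finite_of_le (centralizerIn_le S K)
    refine mem_normalizer_of_conj_mem fun c hc => mem_centralizerIn.2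
      ⟨S.mul_mem (S.mul_mem hg hc.1) (S.inv_mem hg), fun k hk => ?_⟩
    have hk' : g⁻¹ * k * g ∈ K := by
      have h1 := conj_mem_of_mem_normalizer (le_normalizer_of_stronglyClosed
        (stronglyClosed_of_isNormal hKn) (S.inv_mem hg)) hk
      simpa using h1
    calc k * (g * c * g⁻¹) = g * (g⁻¹ * k * g * c) * g⁻¹ := by group
      _ = g * (c * (g⁻¹ * k * g)) * g⁻¹ := by rw [(mem_centralizerIn.1 hc).2 _ hk']
      _ = g * c * g⁻¹ * k := by group
  have hQn : F.IsNormal (K ⊔ C) := by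
    refine isNormal_of_essential hS hF fun P hP => ?_
    obtain ⟨hc, hr, -⟩ := centric_radical_of_top_or_essential hS hF hP
    have hPS := hc.1
    have := finite_mulAut hPS
    have hKP : K ≤ P := le_of_isNormal hS hKn hc hr
    have hCP : C ≤ P := by
      refine le_of_centric_radical_aux hS hPS (centralizerIn_le S K) (hPS.trans hCn) fun g hg hgN => ?_
      let A : Subgroup (F.autGroup P) :=
        { carrier := {γ | ∀ x : P, (x : Ω) ∈ K → (γ : MulAut P) x = x}
          one_mem' := fun x _ => rfl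
          mul_mem' := fun {a b} ha hb x hx => by
            rw [Subgroup.coe_mul, MulAut.mul_apply, hb x hx, ha x hx]
          inv_mem' := fun {a} ha x hx => by
            rw [Subgroup.coe_inv]
            conv_lhs => rw [← ha x hx]
            rw [MulAut.inv_apply_self] }
      have hAn : A.Normal := by
        refine ⟨fun a ha b x hx => ?_⟩
        have hb : ((((b : MulAut P)⁻¹ : MulAut P) x : P) : Ω) ∈ K :=
          map_mem_of_normal hKn ((mem_autGroup hPS).1 (inv_mem b.2)) x hx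
        rw [Subgroup.coe_mul, Subgroup.coe_mul, Subgroup.coe_inv, MulAut.mul_apply, MulAut.mul_apply,
          ha _ hb, MulAut.apply_inv_self]
      have hAp : IsPGroup p A := fun a => by
        obtain ⟨k, hk⟩ := pker P hPS hKP _ a.1.2 a.2
        exact ⟨k, Subtype.ext (Subtype.ext (by simpa using hk))⟩
      have h1 := conjAut_mem_autInducedBy hg.1 hgN
      have h2 := mem_inn_of_radical hr hAn hAp
        (α := ⟨conjAut P hgN, autInducedBy_le_autGroup hPS h1⟩) fun x hx => Subtype.ext (by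
          rw [conjAut_apply, ← (mem_centralizerIn.1 hg).2 x hx, mul_inv_cancel_right])
      exact mem_of_induced_inn (centralizer_le_of_isCentric hc) hPS ⟨hg.1, hgN⟩ h2
    refine ⟨sup_le hKP hCP, fun α hα x hx => ?_⟩
    obtain ⟨c, hc', k, hk, hck⟩ :=
      mem_sup_of_normalizes ((centralizerIn_le S K).trans
        (le_normalizer_of_stronglyClosed (stronglyClosed_of_isNormal hKn)))
        (show (x : Ω) ∈ C ⊔ K by rw [sup_comm]; exact hx)
    have hαK : ∀ y : P, (y : Ω) ∈ K → (α y : Ω) ∈ K := fun y hy =>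
      map_mem_of_normal hKn ((mem_autGroup hPS).1 hα) y hy
    have hαC : (α ⟨c, hCP hc'⟩ : Ω) ∈ C := by
      refine mem_centralizerIn.2 ⟨hPS (α _).2, fun y hy => ?_⟩
      obtain ⟨z, hz⟩ := (α : P ≃* P).surjective ⟨y, hKP hy⟩
      have hzK : (z : Ω) ∈ K := by
        have h1 := map_mem_of_normal hKn ((mem_autGroup hPS).1 (inv_mem hα)) ⟨y, hKP hy⟩ hy
        simp only [← hz] at h1
        simpa using h1
      rw [← show (α z : Ω) = y from congrArg Subtype.val hz]
      have hcom : z * (⟨c, hCP hc'⟩ : P) = ⟨c, hCP hc'⟩ * z :=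
        Subtype.ext ((mem_centralizerIn.1 hc').2 z hzK)
      have h3 := congrArg α hcom
      rw [map_mul, map_mul] at h3
      exact congrArg Subtype.val h3
    rw [show x = ⟨c, hCP hc'⟩ * ⟨k, hKP hk⟩ from Subtype.ext hck.symm, map_mul, Subgroup.coe_mul]
    exact mul_mem (Subgroup.mem_sup_right hαC) (Subgroup.mem_sup_left (hαK _ hk))
  have hQS : K ⊔ C ≤ S := hQn.1
  refine ⟨hF, K ⊔ C, hQn, isCentric_of_normal hQn
    ((centralizerIn_antitone le_sup_left).trans le_sup_right), ?_⟩
  have : Finite K := finite_of_le hKS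
  have := finite_mulAut hQS
  have := finite_mulAut hKS
  have hA : IsPSolvable p (F.autGroup K) := by
    refine aut_isPSolvable hi.1 hKS (aut_subgroupOf_normal hI hKT) (h.core (hS.to_le hTS))
      (Or.inl fun x => ?_)
    obtain ⟨k, n, hn', hkn⟩ :=
      Nat.exists_eq_pow_mul_and_not_dvd (orderOf_pos x).ne' p (Fact.out : p.Prime).ne_one
    refine ⟨k, hi.2.2 _ hKT ⟨x ^ p ^ k, coprime_mem_pResidual ?_, rfl⟩⟩
    refine Nat.Coprime.coprime_dvd_left (orderOf_dvd_of_pow_eq_one ?_)
      ((Fact.out : p.Prime).coprime_iff_not_dvd.2 hn').symm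
    rw [Subgroup.coe_pow, ← pow_mul, ← hkn, ← Subgroup.coe_pow, pow_orderOf_eq_one, Subgroup.coe_one]
  have hres : ∀ α : F.autGroup (K ⊔ C), ∃ β : F.autGroup K,
      ∀ x : K, ((β : MulAut K) x : Ω) = ((α : MulAut ↥(K ⊔ C)) ⟨x, Subgroup.mem_sup_left x.2⟩ : Ω) := by
    intro α
    obtain ⟨β, hβ⟩ := exists_restrict_aut (le_sup_left : K ≤ K ⊔ C) (β := (α : MulAut ↥(K ⊔ C)))
      fun x => map_mem_of_normal hKn ((mem_autGroup hQS).1 α.2) ⟨x, Subgroup.mem_sup_left x.2⟩ x.2
    exact ⟨⟨β, (mem_autGroup hKS).2 (mem_of_agree le_sup_left ((mem_autGroup hQS).1 α.2) hβ)⟩, hβ⟩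
  choose r hr using hres
  let rh : F.autGroup (K ⊔ C) →* F.autGroup K := MonoidHom.mk' r fun a b =>
    Subtype.ext (MulEquiv.ext fun x => Subtype.ext (by
      rw [hr, Subgroup.coe_mul, Subgroup.coe_mul, MulAut.mul_apply, MulAut.mul_apply, hr]
      exact congrArg (fun y : ↥(K ⊔ C) => ((a : MulAut ↥(K ⊔ C)) y : Ω)) (Subtype.ext (hr b x).symm)))
  refine isPSolvable_of_pKer (f := rh.rangeRestrict) rh.rangeRestrict_surjective ?_
    (GenStruct.PHall.isPSolvable_subgroup hA _)
  rintro ⟨a, ha⟩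
  have ha' : rh a = 1 := congrArg Subtype.val ha
  obtain ⟨k, hk⟩ := pker _ hQS le_sup_left _ a.2 fun x hx => Subtype.ext (by
    refine (hr a ⟨x, hx⟩).symm.trans ?_
    rw [show r a = 1 from ha']
    rfl)
  exact ⟨k, Subtype.ext (Subtype.ext (by simpa using hk))⟩

omit [Finite S] in
theorem self_weaklyNormal [Finite S] (hS : IsPGroup p S) (hF : F.IsSaturated p) :
    F.IsWeaklyNormalIn F p := by
  refine ⟨hF, hF, isInvariantIn_of_strongInvariant hS hF (fun _ => subset_rfl)
    ⟨le_rfl, fun R _ φ hφ x => val_mem hφ x⟩ fun P Q P' hPQ _ φ hφ hφQ ψ hψ a ha χ hχ => ?_⟩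
  have ha' : IsIso F a := mem_of_agree hPQ hψ ha
  refine mem_of_comp ha'.symm (F.comp_mem hφ hψ hφQ) (fun y => (a.symm y).2) fun y => ?_
  obtain ⟨x, rfl⟩ := a.surjective y
  show χ (a x) = ψ ⟨φ ⟨(a.symm (a x) : Ω), _⟩, _⟩
  rw [hχ]
  exact congrArg ψ (Subtype.ext (congrArg φ (a.symm_apply_apply x).symm))

end Cfsg.Agent.Lib.Fusion.SolvableSeries

namespace Cfsg.Agent.Lib.Fusion.SolvableSeries

open Cfsg Cfsg.FusionSystem Cfsg.Agent.Lib.Fusion.PSolvableModel

variable {Ω : Type u} [Group Ω] {S : Subgroup Ω} {F : FusionSystem S} {p : ℕ}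

theorem psolv_of_series (h : F.HasTerminatingResidualSeries p) :
    Fact p.Prime → Finite S → IsPGroup p S → F.IsSaturated p → PSolv F p := by
  induction h with
  | @trivial S F q hbot =>
    intro _ _ _ hF
    have hK : F.core ≤ ⊥ := hbot ▸ (isNormal_core (F := F)).1
    have : Subsingleton F.core := ⟨fun a b => Subtype.ext
      ((Subgroup.mem_bot.1 (hK a.2)).trans (Subgroup.mem_bot.1 (hK b.2)).symm)⟩
    have : Subsingleton (MulAut F.core) := ⟨fun a b => MulEquiv.ext fun x => Subsingleton.elim _ _⟩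
    exact ⟨hF, F.core, isNormal_core,
      isCentric_of_normal isNormal_core ((centralizerIn_le S _).trans (hbot.le.trans bot_le)),
      0, fun _ => ⊥, rfl, Subsingleton.elim _ _, monotone_const, fun _ => inferInstance, fun i => i.elim0⟩
  | @step S F R q D hR hD _ ih =>
    intro hp _ hS hF
    have hle := hyperfocal_le_base (p := q) R
    have := finite_of_le hle
    have hRw : R.IsWeaklyNormalIn F q :=
      (ResidualNormal.residual_isNormalIn hS (self_weaklyNormal hS hF) hR).1
    have hDn := Cfsg.Agent.S5120.normal_of_ppower hS hR.1 hle (le_normalizer_hyperfocal R) le_rfl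
      hD.1 hD.2
    exact up_p' hS hRw hR.2.1 (up_p hS hDn.1 hD.2 (ih hp this (hS.to_le hle) hD.1))

variable [Fact p.Prime]

theorem limit_hyp {U : Subgroup Ω} {L : FusionSystem U} (h : L.IsResidualLimitOf F p) :
    L.hyperfocalSubgroup p = U := by
  induction h with
  | stable _ _ hh _ => exact hh
  | step _ _ _ _ _ _ _ ih => exact ih

theorem limit_inner [Finite S] (hS : IsPGroup p S) {U : Subgroup Ω} {L : FusionSystem U}
    (h : L.IsResidualLimitOf (innerFusionSystem S) p) : U = ⊥ := by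
  rw [← limit_hyp h, eq_bot_iff]
  refine hyperfocal_le fun P hP α hα hcop x => ?_
  obtain ⟨hPS, g, hg, hge⟩ := LimitPrime.le_system h P ((mem_autGroup hP).1 hα)
  obtain ⟨k, hk⟩ := hS ⟨g, hg⟩
  have hk' : g ^ p ^ k = 1 := congrArg Subtype.val hk
  have hpow : ∀ (n : ℕ) (y : P), (((α ^ n) y : P) : Ω) = g ^ n * y * (g ^ n)⁻¹ := by
    intro n
    induction n with
    | zero => intro y; simp
    | succ n ih =>
      intro y
      rw [pow_succ', MulAut.mul_apply]
      refine (hge ((α ^ n) y)).trans ?_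
      rw [ih, pow_succ', mul_inv_rev]
      group
  have h1 : α = 1 := eq_one_of_pGroup_coprime ⟨k, MulEquiv.ext fun y => Subtype.ext (by
    rw [hpow, hk', inv_one, one_mul, mul_one]; rfl)⟩ (pow_orderOf_eq_one α) hcop
  rw [Subgroup.mem_bot, h1, MulAut.one_apply, inv_mul_cancel]

theorem base_eq {U V : Subgroup Ω} {A : FusionSystem U} {B : FusionSystem V}
    (h : ∀ P, A.Hom P = B.Hom P) : U = V :=
  le_antisymm (src_le (show U.subtype ∈ B.Hom U from h U ▸ subtype_mem le_rfl))
    (src_le (show V.subtype ∈ A.Hom V from (h V).symm ▸ subtype_mem le_rfl))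

/-- A system with trivial residual limit has a terminating series. -/
theorem series_of_limit {S : Subgroup Ω} [Finite S] (hS : IsPGroup p S) {F : FusionSystem S}
    (hF : F.IsSaturated p) {L : FusionSystem (⊥ : Subgroup Ω)} (hL : L.IsResidualLimitOf F p) :
    F.HasTerminatingResidualSeries p := by
  induction hn : Nat.card S using Nat.strong_induction_on generalizing S L with
  | _ n ih =>
    subst hn
    by_cases hbot : S = ⊥
    · exact .trivial F p hbot
    have hR := Residual.isPPrimeResidual hS hF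
    have hRw := (ResidualNormal.residual_isNormalIn hS (self_weaklyNormal hS hF) hR).1
    obtain ⟨W, LR, hLR⟩ := LimitPrime.exists_limit hS hR.1
    obtain rfl : W = ⊥ := base_eq (LimitPrime.limit_prime hS hRw hR.2.1 hL hLR)
    have hne : (Residual.res F p).hyperfocalSubgroup p ≠ S := fun hh => hbot
      (base_eq (ResidualLimit.limit_unique hLR ‹_› ‹_› hS rfl (fun _ => rfl)
        (.stable _ p hh (LimitPrime.residual_self hS hF hR))))
    have hle := hyperfocal_le_base (p := p) (Residual.res F p)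
    have := finite_of_le hle
    obtain ⟨D, hD, hDi⟩ := PPowerIndex.exists_sys hS hR.1 _ hle le_rfl
    have hlt : Nat.card ((Residual.res F p).hyperfocalSubgroup p) < Nat.card S :=
      lt_of_not_ge fun hge => hne (eq_of_le_card hle hge)
    exact .step F _ p D hR ⟨hD, hDi⟩
      (ih _ hlt (hS.to_le hle) hD (LimitPrime.transfer hS hR.1 hle hD hDi hLR) rfl)

theorem series_of_psolv [Finite S] (hS : IsPGroup p S) (h : PSolv F p) :
    F.HasTerminatingResidualSeries p := by
  obtain ⟨hF, Q, hQn, hQc, hA⟩ := h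
  have hQS := hQn.1
  have := finite_of_le hQS
  have := finite_mulAut hQS
  have hE := (isNormal_iff_inner_weaklyNormal hS hF hQS).1 hQn
  have hc := centralizer_le_of_isCentric hQc
  have hEn : (innerFusionSystem Q).IsNormalIn F p := Envelope.normal_of_weakly hE hc
  have hn := aut_subgroupOf_normal hE.2.2 (le_refl Q)
  obtain ⟨U, LF, hLF⟩ := LimitPrime.exists_limit hS hF
  obtain ⟨V, LE, hLE⟩ := LimitPrime.exists_limit (hS.to_le hQS) hE.1
  have heq := Cfsg.Agent.S5201.result p hS F hF (innerFusionSystem Q) hEn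
    (fun Y hY _ => hY.trans hc) (hn := hn)
    (isPSolvable_of_surjective (QuotientGroup.mk'_surjective _) hA) LF hLF LE hLE
  obtain rfl : U = ⊥ := (base_eq heq).trans (limit_inner (hS.to_le hQS) hLE)
  exact series_of_limit hS hF hLF

end Cfsg.Agent.Lib.Fusion.SolvableSeries
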