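import Cfsg.Agent.Lib.Fusion.CentralizerOfNormal
import Cfsg.Agent.Lib.Fusion.CentralizerSub
import Cfsg.Agent.Lib.Fusion.SolvableSeries
import Cfsg.Agent.S5148
import Cfsg.Agent.S5256

/-!
Components centralize the largest normal subgroup.
-/

set_option autoImplicit false

universe u

namespace Cfsg.Agent.Lib.Fusion.ComponentCore

open Cfsg Cfsg.FusionSystem

variable {Ω : Type u} [Group Ω] {S U : Subgroup Ω} {F : FusionSystem S} {E : FusionSystem U} {p : ℕ}

theorem exists_coprime_power {M : Type*} [Group M] [Finite M] [Fact p.Prime] (b : M) {N : ℕ}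
    (hN : N.Coprime p) : ∃ j : ℕ, (orderOf (b ^ j)).Coprime p ∧ ∀ {M' : Type*} [Group M'] (a : M'),
      orderOf a = N → a ^ j = a := by
  obtain ⟨j, hj, hjN⟩ := exists_pPrime_exponent b hN
  refine ⟨j, hj, fun a ha => ?_⟩
  have h := (pow_eq_pow_iff_modEq (x := a)).2 (ha ▸ hjN)
  rwa [pow_one] at h

/-! ### Quasisimple systems -/

theorem inner_hyperfocal [Finite S] [Fact p.Prime] (hS : IsPGroup p S)
    (hin : ∀ P, F.Hom P ⊆ (innerFusionSystem S).Hom P) : F.hyperfocalSubgroup p ≤ ⊥ := by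
  refine hyperfocal_le fun P hP α hα hcop x => ?_
  obtain ⟨hPS, g, hg, hge⟩ := hin P ((mem_autGroup hP).1 hα)
  obtain ⟨k, hk⟩ := hS ⟨g, hg⟩
  have hk' : g ^ p ^ k = 1 := congrArg Subtype.val hk
  have hpow : ∀ (n : ℕ) (y : P), (((α ^ n) y : P) : Ω) = g ^ n * y * (g ^ n)⁻¹ := by
    intro n
    induction n with
    | zero => intro y; simp
    | succ n ih =>
      intro y
      rw [pow_succ', MulAut.mul_apply]
      refine (hge ((α ^ n) y)).trans ?_
      rw [ih, pow_succ', mul_inv_rev]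
      group
  have h1 : α = 1 := eq_one_of_pGroup_coprime ⟨k, MulEquiv.ext fun y => Subtype.ext (by
    rw [hpow, hk', inv_one, one_mul, mul_one]; rfl)⟩ (pow_orderOf_eq_one α) hcop
  rw [Subgroup.mem_bot, h1, MulAut.one_apply, inv_mul_cancel]

theorem imageAlong_normal [Finite S] {Ω' : Type*} [Group Ω'] {S' : Subgroup Ω'} {θ : S →* Ω'}
    {Z : Subgroup Ω} (hZ : F.StronglyClosed Z) {D : FusionSystem S'} (hD : F.IsFactorSystem Z θ D)
    {Q : Subgroup Ω} (hQ : F.IsNormal Q) : D.IsNormal (imageAlong θ Q) := by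
  obtain ⟨-, hker, hrange, hh⟩ := hD
  refine isNormal_iff.2 ⟨hrange ▸ imageAlong_le_range θ Q, fun P' φ' hφ' => ?_⟩
  obtain ⟨hP', φ, hφ, a₁, a₂, a₃, ae⟩ := (hh P' φ').1 hφ'
  obtain ⟨ψ, hψ, hψP, κ, hκ, hψQ⟩ := isNormal_aut hQ hφ
  have hX : P' ⊔ imageAlong θ Q ≤ θ.range := sup_le (hrange ▸ hP') (imageAlong_le_range θ Q)
  have hle : preimageAlong θ (P' ⊔ imageAlong θ Q) ≤ preimageAlong θ P' ⊔ Q := by
    intro x hx
    obtain ⟨hxS, hxi⟩ := mem_preimageAlong.1 hx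
    have h1 : P' ⊔ imageAlong θ Q ≤ imageAlong θ (preimageAlong θ P' ⊔ Q) := by
      refine sup_le (fun y hy => ?_) fun y hy => ?_
      · obtain ⟨z, hz⟩ := Fusion.exists_lift (hrange ▸ hP') (⟨y, hy⟩ : P')
        exact ⟨⟨z, preimageAlong_le θ P' z.2⟩, Subgroup.mem_sup_left z.2, hz⟩
      · obtain ⟨z, hz, hzy⟩ := mem_imageAlong.1 hy
        exact ⟨z, Subgroup.mem_sup_right hz, hzy⟩
    have h2 := preimage_imageAlong_le hker _ (mem_preimageAlong.2 ⟨hxS, h1 hxi⟩)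
    exact sup_le le_rfl ((kernel_le_preimage hker hZ.1 P').trans le_sup_left) h2
  obtain ⟨χ, hχ⟩ := exists_induced hZ hker hX (restrict_mem hle hψ)
  have hDχ : χ ∈ D.Hom _ := (hh _ χ).2 ⟨hrange ▸ hX, _, restrict_mem hle hψ, hχ⟩
  obtain ⟨b₁, b₂, b₃, be⟩ := hχ
  have hfinQ : Finite Q := finite_of_le hQ.1
  have hXin : ∀ y : imageAlong θ Q, χ (Subgroup.inclusion le_sup_right y) ∈ imageAlong θ Q := by
    intro y
    obtain ⟨z, hz, hzy⟩ := mem_imageAlong.1 y.2
    have hm : (z : Ω) ∈ preimageAlong θ (P' ⊔ imageAlong θ Q) :=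
      mem_preimageAlong.2 ⟨z.2, Subgroup.mem_sup_right (hzy ▸ y.2)⟩
    rw [show Subgroup.inclusion le_sup_right y = ⟨_, b₃ ⟨z, hm⟩⟩ from Subtype.ext hzy.symm, be]
    refine ⟨⟨_, b₂ _⟩, ?_, rfl⟩
    show ψ _ ∈ Q
    refine (congrArg (· ∈ Q) ((congrArg ψ (Subtype.ext rfl)).trans (hψQ ⟨z, hz⟩))).mpr (κ _).2
  have hXfin : Finite (imageAlong θ Q) :=
    Finite.of_surjective (fun z : ↥(Q.subgroupOf S) => (⟨θ z, z, z.2, rfl⟩ : imageAlong θ Q))
      (by rintro ⟨_, z, hz, rfl⟩; exact ⟨⟨z, hz⟩, rfl⟩)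
  obtain ⟨δ, -, hδ⟩ := exists_aut_of_self_map (restrict_mem le_sup_right hDχ) hXin
  refine ⟨χ, hDχ, fun y => ?_, δ, Subgroup.mem_top _, fun y => (hδ y).symm⟩
  obtain ⟨z, hz⟩ := Fusion.exists_lift (hrange ▸ hP') y
  have hm : (z : Ω) ∈ preimageAlong θ (P' ⊔ imageAlong θ Q) :=
    mem_preimageAlong.2 ⟨preimageAlong_le θ P' z.2, Subgroup.mem_sup_left (hz ▸ y.2)⟩
  rw [show Subgroup.inclusion le_sup_left y = ⟨_, b₃ ⟨z, hm⟩⟩ from Subtype.ext hz.symm, be]
  refine Eq.trans ?_ ((ae z).symm.trans (congrArg φ' (Subtype.ext hz)))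
  exact congrArg θ (Subtype.ext (hψP z))

theorem inner_isNormalIn [Finite S] [Fact p.Prime] (hS : IsPGroup p S) (hF : F.IsSaturated p)
    {Q : Subgroup Ω} (hQ : F.IsNormal Q) : (innerFusionSystem Q).IsNormalIn F p := by
  refine ⟨(isNormal_iff_inner_weaklyNormal hS hF hQ.1).1 hQ, fun α hα => ?_⟩
  obtain ⟨hQQ, g, hg, hge⟩ := (mem_autGroup le_rfl).1 hα
  have hn : g ∈ Subgroup.normalizer ((Q ⊔ centralizerIn S Q : Subgroup Ω) : Set Ω) :=
    Subgroup.le_normalizer (Subgroup.mem_sup_left hg)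
  refine ⟨conjAut _ hn, autInducedBy_le_autGroup (sup_le hQ.1 (centralizerIn_le S Q))
    (conjAut_mem_autInducedBy (hQ.1 hg) hn), fun x => ?_, fun c hc => ?_⟩
  · rw [conjAut_apply]
    exact (hge x).symm
  · rw [conjAut_apply, (mem_centralizerIn.1 hc).2 g hg, mul_inv_cancel_right, inv_mul_cancel]
    exact one_mem _

/-- A subgroup normal in a quasisimple system is central. -/
theorem normal_le_center [Finite S] [Fact p.Prime] (hS : IsPGroup p S) (hq : F.Quasisimple p)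
    {Q : Subgroup Ω} (hQ : F.IsNormal Q) : Q ≤ F.center := by
  obtain ⟨hF, hhyp, hfac⟩ := hq
  set Z := F.center
  have hZ := stronglyClosed_of_isNormal (isNormal_of_isCentral (isCentral_center (F := F)))
  set θ := QuotientGroup.mk' (Z.subgroupOf S)
  have hker : ∀ s : S, θ s = 1 ↔ (s : Ω) ∈ Z := fun s => QuotientGroup.eq_one_iff s
  have hr := MonoidHom.range_eq_top.2 (QuotientGroup.mk'_surjective (Z.subgroupOf S))
  set D := factorSystem F hZ θ hker ⊤ hr
  have hfs : F.IsFactorSystem Z θ D := isFactorSystem_factorSystem hZ θ hker ⊤ hr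
  obtain ⟨hDs, hD1, hsimple⟩ := hfac D hfs
  have hpQ : IsPGroup p (⊤ : Subgroup (S ⧸ Z.subgroupOf S)) := (hS.to_quotient _).to_subgroup _
  have hX := imageAlong_normal hZ hfs hQ
  rcases hsimple _ _ (inner_isNormalIn hpQ hDs hX) with h | ⟨h, h'⟩
  · intro x hx
    refine (hker ⟨x, hQ.1 hx⟩).1 ?_
    have : θ ⟨x, hQ.1 hx⟩ ∈ imageAlong θ Q := ⟨⟨x, hQ.1 hx⟩, hx, rfl⟩
    rwa [h, Subgroup.mem_bot] at this
  · exfalso
    have hbot : D.hyperfocalSubgroup p ≤ ⊥ := inner_hyperfocal hpQ fun P φ hφ => by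
      rw [← h' P] at hφ
      exact (show (innerFusionSystem (imageAlong θ Q)).Hom P ⊆ (innerFusionSystem ⊤).Hom P from
        fun ψ ⟨hP, g, _, hge⟩ => ⟨le_top, g, Subgroup.mem_top g, hge⟩) hφ
    rw [Cfsg.Agent.S5256.result p hS F hF Z hZ θ D hfs, hhyp, Subgroup.subgroupOf_self,
      ← MonoidHom.range_eq_map, hr] at hbot
    exact hD1 (le_bot_iff.1 hbot)

/-! ### Shifts into the group of a normal subsystem -/

variable [Finite S] [Fact p.Prime]

theorem inter_normal (hS : IsPGroup p S) (hE : E.IsWeaklyNormalIn F p) {Q : Subgroup Ω}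
    (hQ : F.IsNormal Q) : E.IsNormal (Q ⊓ U) := by
  obtain ⟨hEs, hF, hI⟩ := hE
  have hU := hI.2.1
  have := finite_of_le hU.1
  have hQc := stronglyClosed_of_isNormal hQ
  have hRc : F.StronglyClosed (Q ⊓ U) := ⟨inf_le_left.trans hQ.1, fun R hR φ hφ x =>
    ⟨hQc.2 R (hR.trans inf_le_left) φ hφ x, hU.2 R (hR.trans inf_le_right) φ hφ x⟩⟩
  refine isNormal_of_le_radical (hS.to_le hU.1) hEs
    ⟨inf_le_right, fun R hR φ hφ => hRc.2 R hR φ (hI.1 R hφ)⟩ fun P hc hr _ => ?_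
  have hPU := hc.1
  have hPS := hPU.trans hU.1
  refine le_of_centric_radical_aux (hS.to_le hU.1) hPU inf_le_right
    (hPS.trans (le_normalizer_of_stronglyClosed hRc)) fun g hg hgN => ?_
  let M := (autInducedBy (Q ⊓ U) P).subgroupOf (E.autGroup P)
  have hM : M.Normal := by
    constructor
    intro a ha b
    obtain ⟨r, hr', hra⟩ := exists_of_mem_autInducedBy (show (a : MulAut P) ∈ _ from ha)
    obtain ⟨ψ, hψ, hψP, κ, -, hψQ⟩ :=
      isNormal_aut hQ (hI.1 _ ((mem_autGroup hPU).1 b.2))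
    have hr1 : ψ (Subgroup.inclusion le_sup_right (⟨r, hr'.1.1⟩ : Q)) ∈ Q ⊓ U :=
      ⟨(hψQ _).symm ▸ (κ _).2, map_mem_of_stronglyClosed hU hψ _ hr'.1.2⟩
    refine mem_autInducedBy.2 ⟨_, hr1, fun x => ?_⟩
    simp only [Subgroup.subtype_apply, Subgroup.coe_mul, Subgroup.coe_inv, MulAut.mul_apply, hra]
    set y := ((b : MulAut P)⁻¹ : MulAut P) x
    rw [show (a : MulAut P) y = conjAut P hr'.2 y from Subtype.ext ((hra y).trans (conjAut_apply P hr'.2 y).symm)]
    refine (hψP (conjAut P hr'.2 y)).symm.trans ?_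
    rw [show Subgroup.inclusion le_sup_left (conjAut P hr'.2 y) =
      Subgroup.inclusion le_sup_right (⟨r, hr'.1.1⟩ : Q) * Subgroup.inclusion le_sup_left y *
        (Subgroup.inclusion le_sup_right (⟨r, hr'.1.1⟩ : Q))⁻¹ from Subtype.ext (conjAut_apply P hr'.2 y),
      map_mul, map_mul, map_inv]
    refine congrArg (fun w => _ * w * _) ((hψP y).trans ?_)
    show ((b : MulAut P) (((b : MulAut P)⁻¹ : MulAut P) x) : Ω) = x
    rw [MulAut.apply_inv_self]
  have hMp : IsPGroup p M :=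
    isPGroup_subgroupOf (isPGroup_autInducedBy (hS.to_le (inf_le_left.trans hQ.1)) P)
  have h1 := conjAut_mem_autInducedBy hg hgN
  exact mem_of_induced_inn (centralizer_le_of_isCentric hc) hPU ⟨hg.2, hgN⟩
    (mem_inn_of_radical hr hM hMp (α := ⟨conjAut P hgN, autInducedBy_le_autGroup hPU
      (autInducedBy_mono inf_le_right P h1)⟩) h1)

/-- `φ` extends over `Q` moving every element of `Q` by an element of `U`. -/
def Shifts (F : FusionSystem S) (Q U : Subgroup Ω) {P : Subgroup Ω} (φ : P →* Ω) : Prop :=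
  ∃ ψ ∈ F.Hom (P ⊔ Q), (∀ x : P, ψ (Subgroup.inclusion le_sup_left x) = φ x) ∧
    ∀ q : Q, ψ (Subgroup.inclusion le_sup_right q) ∈ Q ∧
      (q : Ω)⁻¹ * ψ (Subgroup.inclusion le_sup_right q) ∈ U

/-- The maps of `E` extending over `Q` with shifts in `U`. -/
def shiftSys (hE : E.IsWeaklyNormalIn F p) {Q : Subgroup Ω} (hQ : F.IsNormal Q) : FusionSystem U where
  Hom P := {φ | φ ∈ E.Hom P ∧ Shifts F Q U φ}
  le_of_mem h := E.le_of_mem h.1
  injective_of_mem h := E.injective_of_mem h.1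
  conj_mem := by
    intro P g hP hg
    have hU := hE.2.2.2.1
    have hgS := hU.1 hg
    have hnQ := le_normalizer_of_stronglyClosed (stronglyClosed_of_isNormal hQ) hgS
    refine ⟨E.conj_mem hP hg, conjHom _ g, F.conj_mem (sup_le (hP.trans hU.1) hQ.1) hgS,
      fun x => rfl, fun q => ⟨conj_mem_of_mem_normalizer hnQ q.2, ?_⟩⟩
    show (q : Ω)⁻¹ * (g * q * g⁻¹) ∈ U
    have h1 : (q : Ω)⁻¹ * g * q ∈ U := by
      simpa using conj_mem_of_mem_normalizer
        (le_normalizer_of_stronglyClosed hU (S.inv_mem (hQ.1 q.2))) hg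
    simpa [mul_assoc] using U.mul_mem h1 (U.inv_mem hg)
  comp_mem := by
    intro P R φ χ ⟨hφ, ψ, hψ, hψP, hψQ⟩ ⟨hχ, ψ', hψ', hψ'R, hψ'Q⟩ h
    have hle : ∀ w, ψ w ∈ R ⊔ Q := fun w => sup_map_le (f := ψ)
      (fun x => Subgroup.mem_sup_left ((hψP x).symm ▸ h x)) (fun q => Subgroup.mem_sup_right (hψQ q).1) w
    refine ⟨E.comp_mem hφ hχ h, _, F.comp_mem hψ hψ' hle, fun x => ?_, fun q => ?_⟩
    · show ψ' ⟨ψ _, _⟩ = χ ⟨φ x, h x⟩
      rw [← hψ'R ⟨φ x, h x⟩]
      exact congrArg ψ' (Subtype.ext (hψP x))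
    · set q' : Q := ⟨_, (hψQ q).1⟩
      have h1 : ψ' ⟨ψ (Subgroup.inclusion le_sup_right q), hle _⟩ =
          ψ' (Subgroup.inclusion le_sup_right q') := congrArg ψ' (Subtype.ext rfl)
      show ψ' ⟨ψ (Subgroup.inclusion le_sup_right q), hle _⟩ ∈ Q ∧
        (q : Ω)⁻¹ * ψ' ⟨ψ (Subgroup.inclusion le_sup_right q), hle _⟩ ∈ U
      rw [h1]
      refine ⟨(hψ'Q q').1, ?_⟩
      have h2 := U.mul_mem (hψQ q).2 (hψ'Q q').2
      simpa [q', mul_assoc] using h2
  inv_mem := by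
    intro P φ ⟨hφ, ψ, hψ, hψP, hψQ⟩
    obtain ⟨ω, hω, hωe⟩ := E.inv_mem hφ
    obtain ⟨θ, hθ, hθe⟩ := F.inv_mem hψ
    have : Finite Q := finite_of_le hQ.1
    obtain ⟨κ, -, hκ⟩ := exists_aut_of_self_map (restrict_mem (le_sup_right : Q ≤ P ⊔ Q) hψ)
      fun q => (hψQ q).1
    have hQr : ∀ q : Q, ∃ q₀ : Q, ψ (Subgroup.inclusion le_sup_right q₀) = q := fun q => by
      obtain ⟨q₀, hq₀⟩ := κ.surjective q
      exact ⟨q₀, (hκ q₀).symm.trans (congrArg Subtype.val hq₀)⟩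
    have hle : φ.range ⊔ Q ≤ ψ.range := sup_le (by rintro _ ⟨x, rfl⟩; exact ⟨_, hψP x⟩)
      fun q hq => ⟨_, (hQr ⟨q, hq⟩).choose_spec⟩
    refine ⟨ω, ⟨hω, _, restrict_mem hle hθ, ?_, fun q => ?_⟩, hωe⟩
    · rintro ⟨_, x, rfl⟩
      rw [hωe x]
      exact (congrArg θ (Subtype.ext (hψP x).symm)).trans (hθe (Subgroup.inclusion le_sup_left x))
    · obtain ⟨q₀, hq₀⟩ := hQr q
      have h1 : θ (Subgroup.inclusion hle (Subgroup.inclusion le_sup_right q)) = (q₀ : Ω) :=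
        (congrArg θ (Subtype.ext hq₀.symm)).trans (hθe (Subgroup.inclusion le_sup_right q₀))
      show θ (Subgroup.inclusion hle (Subgroup.inclusion le_sup_right q)) ∈ Q ∧
        (q : Ω)⁻¹ * θ (Subgroup.inclusion hle (Subgroup.inclusion le_sup_right q)) ∈ U
      rw [h1]
      refine ⟨q₀.2, ?_⟩
      have h2 := U.inv_mem (hψQ q₀).2
      rw [hq₀] at h2
      simpa using h2

/-- The generating automorphisms shift `Q` into `U`. -/
theorem gen_shifts (hS : IsPGroup p S) (hE : E.IsNormalIn F p) {Q : Subgroup Ω} (hQ : F.IsNormal Q)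
    {P : Subgroup Ω} (hr : E.IsRadical p P) {γ : MulAut P}
    (hγ : CentralizerOfNormal.Gen E p γ) : Shifts F Q U (P.subtype.comp γ.toMonoidHom) := by
  obtain ⟨d⟩ := CentralizerOfNormal.exists_data hS hE hγ
  have : Finite U := finite_of_le hE.1.2.2.2.1.1
  obtain ⟨hPc, -, hcop, hcase⟩ := hγ
  obtain ⟨⟨hEs, hF, hI⟩, -⟩ := hE
  have hU := hI.2.1
  have hQc := stronglyClosed_of_isNormal hQ
  have hPU : P ≤ U := hPc.1
  have hPS : P ≤ S := hPU.trans hU.1
  have hγE : γ ∈ E.autGroup P := by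
    rcases hcase with h | h
    · exact h.2
    · exact IndexPrime.pPart_le E p P h
  have hR : Q ⊓ U ≤ P :=
    le_of_isNormal (hS.to_le hU.1) (inter_normal hS ⟨hEs, hF, hI⟩ hQ) hPc hr
  have he : IsIso F d.e := mem_of_agree le_sup_left d.map_mem fun x => (d.map_left x).symm
  have hP₀U : d.P₀ ≤ U := fun y hy => by
    obtain ⟨x, hx⟩ := d.e.surjective ⟨y, hy⟩
    rw [← show (d.e x : Ω) = y from congrArg Subtype.val hx]
    exact hU.2 P hPU _ he x
  have hP₀S := d.fc.1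
  have := finite_of_le hP₀S
  set N₀ := d.P₀ ⊔ centralizerIn S d.P₀
  have hN₀ : N₀ ≤ S := sup_le hP₀S (centralizerIn_le S d.P₀)
  have hW : N₀ ⊔ Q ≤ S := sup_le hN₀ hQ.1
  have := finite_of_le hW
  have := finite_mulAut hW
  have := finite_mulAut hN₀
  obtain ⟨b, hb, hbN, κ, -, hbQ⟩ := isNormal_aut hQ ((mem_autGroup hN₀).1 d.a_mem.1)
  obtain ⟨β, hβ, hβe⟩ := exists_aut_of_self_map hb fun w => sup_map_le (f := b)
    (fun x => Subgroup.mem_sup_left ((hbN x).symm ▸ (d.a.1 x).2))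
    (fun q => Subgroup.mem_sup_right ((hbQ q).symm ▸ (κ q).2)) w
  have hcopa : (orderOf d.a.1).Coprime p := by rw [Subgroup.orderOf_coe]; exact d.cop
  obtain ⟨j, hj, hja⟩ := exists_coprime_power (p := p) β hcopa
  set c := β ^ j
  have hcN : ∀ x : N₀, ((c (Subgroup.inclusion le_sup_left x) : ↥(N₀ ⊔ Q)) : Ω) = (d.a.1 x : Ω) := by
    have h : ∀ (n : ℕ) (x : N₀), (β ^ n) (Subgroup.inclusion le_sup_left x) =
        Subgroup.inclusion le_sup_left ((d.a.1 ^ n) x) := by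
      intro n
      induction n with
      | zero => intro x; rfl
      | succ n ih =>
        intro x
        rw [pow_succ', MulAut.mul_apply, ih, pow_succ', MulAut.mul_apply]
        exact Subtype.ext ((hβe _).trans (hbN _))
    intro x
    rw [h j x, hja d.a.1 rfl]
    rfl
  have hcQ : ∀ q : ↥(N₀ ⊔ Q), (q : Ω) ∈ Q → (c q : Ω) ∈ Q := fun q hq =>
    map_mem_of_stronglyClosed hQc ((mem_autGroup hW).1 (pow_mem hβ j)) q hq
  have hcU : ∀ q : ↥(N₀ ⊔ Q), (q : Ω) ∈ U → (c q : Ω) ∈ U := fun q hq =>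
    map_mem_of_stronglyClosed hU ((mem_autGroup hW).1 (pow_mem hβ j)) q hq
  have hnU : (N₀ ⊔ Q : Subgroup Ω) ≤ Subgroup.normalizer (U : Set Ω) :=
    hW.trans (le_normalizer_of_stronglyClosed hU)
  haveI : (U.subgroupOf (N₀ ⊔ Q)).Normal := Subgroup.normal_subgroupOf_of_le_normalizer hnU
  let π := QuotientGroup.mk' (U.subgroupOf (N₀ ⊔ Q))
  have hπ : ∀ {v w : ↥(N₀ ⊔ Q)}, π v = π w → π (c v) = π (c w) := fun {v w} h => by
    have h1 : v⁻¹ * w ∈ U.subgroupOf (N₀ ⊔ Q) := QuotientGroup.eq.1 h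
    refine QuotientGroup.eq.2 ?_
    show ((((c v)⁻¹ * c w) : ↥(N₀ ⊔ Q)) : Ω) ∈ U
    rw [← map_inv, ← map_mul]
    exact hcU _ h1
  -- the shifts on `Q ∩ N₀`
  have hshift₀ : ∀ w : ↥(N₀ ⊔ Q), (w : Ω) ∈ N₀ → π (c w) = π w := by
    intro w hw
    refine (QuotientGroup.eq.2 ?_).symm
    show (w : Ω)⁻¹ * (c w : Ω) ∈ U
    obtain ⟨u, hu, z, hz, huz⟩ := mem_sup_of_normalizes
      (fun g (hg : g ∈ centralizerIn S d.P₀) => (centralizerIn_le_normalizerIn S d.P₀ hg).2)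
      (show (w : Ω) ∈ centralizerIn S d.P₀ ⊔ d.P₀ by rw [sup_comm]; exact hw)
    rw [show w = Subgroup.inclusion le_sup_left
      (Subgroup.inclusion le_sup_right (⟨u, hu⟩ : centralizerIn S d.P₀) *
        Subgroup.inclusion le_sup_left (⟨z, hz⟩ : d.P₀) : N₀) from Subtype.ext huz.symm, hcN, map_mul, map_mul]
    have h1 : u⁻¹ * ((d.a.1 (Subgroup.inclusion le_sup_right ⟨u, hu⟩) : N₀) : Ω) ∈ U :=
      hP₀U (d.a_mem.2 ⟨u, hu⟩)
    have h2 : ((d.a.1 (Subgroup.inclusion le_sup_left ⟨z, hz⟩) : N₀) : Ω) ∈ U :=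
      hP₀U ((d.a.2 _).2 hz)
    show (u * z)⁻¹ * (((d.a.1 (Subgroup.inclusion le_sup_right ⟨u, hu⟩) : N₀) : Ω) *
      ((d.a.1 (Subgroup.inclusion le_sup_left ⟨z, hz⟩) : N₀) : Ω)) ∈ U
    rw [show (u * z)⁻¹ * (((d.a.1 (Subgroup.inclusion le_sup_right ⟨u, hu⟩) : N₀) : Ω) *
      ((d.a.1 (Subgroup.inclusion le_sup_left ⟨z, hz⟩) : N₀) : Ω)) =
      z⁻¹ * (u⁻¹ * ((d.a.1 (Subgroup.inclusion le_sup_right ⟨u, hu⟩) : N₀) : Ω)) *
      ((d.a.1 (Subgroup.inclusion le_sup_left ⟨z, hz⟩) : N₀) : Ω) by group]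
    exact U.mul_mem (U.mul_mem (U.inv_mem (hP₀U hz)) h1) h2
  -- all shifts lie in `N₀`
  obtain ⟨η, hη, hηP, μ, -, hηQ⟩ := isNormal_aut hQ he
  have hPQn : ∀ q ∈ Q, q ∈ Subgroup.normalizer (P : Set Ω) := fun q hq => by
    have : Finite P := finite_of_le hPS
    refine mem_normalizer_of_conj_mem fun x hx => ?_
    have h1 : q * x * q⁻¹ * x⁻¹ ∈ Q ⊓ U := by
      refine ⟨?_, U.mul_mem (conj_mem_of_mem_normalizer (le_normalizer_of_stronglyClosed hU (hQ.1 hq))
        (hPU hx)) (U.inv_mem (hPU hx))⟩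
      have h2 := conj_mem_of_mem_normalizer (le_normalizer_of_stronglyClosed hQc (hPS hx)) (Q.inv_mem hq)
      rw [show q * x * q⁻¹ * x⁻¹ = q * (x * q⁻¹ * x⁻¹) by group]
      exact Q.mul_mem hq h2
    simpa using P.mul_mem (hR h1) hx
  have hηC : ∀ z : Q, ∀ hz : (z : Ω) ∈ Subgroup.normalizer (P : Set Ω),
      ∃ h : (μ z : Ω) ∈ Subgroup.normalizer (d.P₀ : Set Ω),
        MulAut.congr d.e (conjAut P hz) = conjAut d.P₀ h := by
    intro z hz
    obtain ⟨h, hh⟩ := extension_conj (N := P ⊔ Q) le_sup_left (fun x hx => hηP x)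
      (g := Subgroup.inclusion le_sup_right z) hz
    exact ⟨hηQ z ▸ h, hh.trans (by ext y; simp [hηQ z])⟩
  have hμN : ∀ q : Q, (q : Ω) ∈ Subgroup.normalizer (d.P₀ : Set Ω) := fun q => by
    obtain ⟨z, rfl⟩ := μ.surjective q
    exact (hηC z (hPQn z z.2)).1
  let γ₀ : MulAut d.P₀ := MulAut.congr d.e γ
  have hγ₀ : ∀ (x : d.P₀) (hx : (x : Ω) ∈ N₀ ⊔ Q), (c ⟨x, hx⟩ : Ω) = (γ₀ x : Ω) := fun x hx =>
    (hcN (Subgroup.inclusion le_sup_left x)).trans
      ((SatCriterion.restr_coe _ _ x).symm.trans (congrArg (fun f : MulAut d.P₀ => (f x : Ω)) d.agree))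
  have hγ₀E : γ₀ ∈ E.autGroup d.P₀ :=
    Residual.congr_mem (IsInvariantIn.strongInvariant hI) hPU hP₀U he hγE
  have hyN : ∀ w : ↥(N₀ ⊔ Q), (w : Ω) ∈ Q → (c w : Ω) * (w : Ω)⁻¹ ∈ N₀ := by
    intro w hw
    set y : Q := ⟨(c w : Ω) * (w : Ω)⁻¹, Q.mul_mem (hcQ w hw) (Q.inv_mem hw)⟩
    obtain ⟨z, hz⟩ := μ.surjective y
    obtain ⟨hzn, hzc⟩ := hηC z (hPQn z z.2)
    have hw' : (w : Ω) ∈ Subgroup.normalizer (d.P₀ : Set Ω) := hμN ⟨w, hw⟩
    set cw := conjAut d.P₀ hw'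
    -- `c_y` is a commutator of `γ₀` and `c_w`
    have hcy : conjAut d.P₀ hzn = γ₀ * (cw * γ₀⁻¹ * cw⁻¹) := by
      have h1 : conjAut d.P₀ hzn * cw = γ₀ * cw * γ₀⁻¹ := by
        refine MulEquiv.ext fun x => Subtype.ext ?_
        rw [MulAut.mul_apply, MulAut.mul_apply, MulAut.mul_apply, conjAut_apply, conjAut_apply]
        set x₀ := (γ₀⁻¹ : MulAut d.P₀) x
        have hx0 : (x₀ : Ω) ∈ N₀ ⊔ Q := Subgroup.mem_sup_left (Subgroup.mem_sup_left x₀.2)
        have hx : (x : Ω) = (c ⟨x₀, hx0⟩ : Ω) := by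
          rw [hγ₀ x₀ hx0, MulAut.apply_inv_self]
        rw [show ((μ z : Q) : Ω) = (c w : Ω) * (w : Ω)⁻¹ from congrArg Subtype.val hz,
          ← hγ₀ (cw x₀) (Subgroup.mem_sup_left (Subgroup.mem_sup_left (cw x₀).2)), hx,
          show (⟨(cw x₀ : Ω), _⟩ : ↥(N₀ ⊔ Q)) = w * ⟨x₀, hx0⟩ * w⁻¹ from
            Subtype.ext (conjAut_apply d.P₀ hw' x₀), map_mul, map_mul, map_inv,
          Subgroup.coe_mul, Subgroup.coe_mul, Subgroup.coe_inv]
        group
      rw [← mul_inv_cancel_right (conjAut d.P₀ hzn) cw, h1]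
      group
    have hcyE : conjAut d.P₀ hzn ∈ E.autGroup d.P₀ := by
      rw [hcy]
      refine mul_mem hγ₀E ?_
      have := finite_mulAut hP₀S
      have hn := Residual.aut_normal (IsInvariantIn.strongInvariant hI) hU.1 hP₀U
        (autInducedBy_le_autGroup hP₀S (conjAut_mem_autInducedBy (hW w.2) hw'))
      exact conj_mem_of_mem_normalizer hn (inv_mem hγ₀E)
    have hzE : conjAut P (hPQn z z.2) ∈ E.autGroup P := by
      have h := Residual.congr_mem (IsInvariantIn.strongInvariant hI) hP₀U hPU he.symm hcyE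
      rw [← hzc] at h
      convert h using 1
      ext x
      simp
    let M := (autInducedBy Q P).subgroupOf (E.autGroup P)
    have hM : M.Normal := by
      constructor
      intro a ha g
      obtain ⟨r, hr', hra⟩ := exists_of_mem_autInducedBy (show (a : MulAut P) ∈ _ from ha)
      obtain ⟨ψ, hψ, hψP, κ', -, hψQ⟩ := isNormal_aut hQ (hI.1 _ ((mem_autGroup hPU).1 g.2))
      refine mem_autInducedBy.2 ⟨(κ' ⟨r, hr'.1⟩ : Ω), (κ' _).2, fun x => ?_⟩
      simp only [Subgroup.subtype_apply, Subgroup.coe_mul, Subgroup.coe_inv, MulAut.mul_apply, hra]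
      set v := ((g : MulAut P)⁻¹ : MulAut P) x
      rw [show (a : MulAut P) v = conjAut P hr'.2 v from Subtype.ext ((hra v).trans (conjAut_apply P hr'.2 v).symm)]
      refine (hψP (conjAut P hr'.2 v)).symm.trans ?_
      rw [show Subgroup.inclusion le_sup_left (conjAut P hr'.2 v) =
        Subgroup.inclusion le_sup_right (⟨r, hr'.1⟩ : Q) * Subgroup.inclusion le_sup_left v *
          (Subgroup.inclusion le_sup_right (⟨r, hr'.1⟩ : Q))⁻¹ from Subtype.ext (conjAut_apply P hr'.2 v),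
        map_mul, map_mul, map_inv, hψQ]
      refine congrArg (fun w => _ * w * _) ((hψP v).trans ?_)
      show ((g : MulAut P) (((g : MulAut P)⁻¹ : MulAut P) x) : Ω) = x
      rw [MulAut.apply_inv_self]
    have hMp : IsPGroup p M := isPGroup_subgroupOf (isPGroup_autInducedBy (hS.to_le hQ.1) P)
    have hinn : conjAut P (hPQn z z.2) ∈ Inn P := mem_inn_of_radical hr hM hMp
      (α := ⟨_, hzE⟩) (conjAut_mem_autInducedBy z.2 (hPQn z z.2))
    have hinn₀ : conjAut d.P₀ hzn ∈ Inn d.P₀ := by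
      rw [← hzc, ← inn_map d.e]
      exact ⟨_, hinn, rfl⟩
    obtain ⟨u, hu⟩ := hinn₀
    have hyS : (μ z : Ω) ∈ S := hQ.1 (μ z).2
    have hC : (u : Ω)⁻¹ * (μ z : Ω) ∈ centralizerIn S d.P₀ := by
      refine mem_centralizerIn.2 ⟨S.mul_mem (S.inv_mem (hP₀S u.2)) hyS, fun x hx => ?_⟩
      have h3 := congrArg (fun f : MulAut d.P₀ => (f ⟨x, hx⟩ : Ω)) hu
      simp only [MulAut.conj_apply, Subgroup.coe_mul, Subgroup.coe_inv, conjAut_apply] at h3
      calc x * ((u : Ω)⁻¹ * (μ z : Ω)) = (u : Ω)⁻¹ * ((u : Ω) * x * (u : Ω)⁻¹) * (μ z : Ω) := by group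
        _ = (u : Ω)⁻¹ * ((μ z : Ω) * x * (μ z : Ω)⁻¹) * (μ z : Ω) := by rw [h3]
        _ = (u : Ω)⁻¹ * (μ z : Ω) * x := by group
    rw [show (c w : Ω) * (w : Ω)⁻¹ = (μ z : Ω) from (congrArg Subtype.val hz).symm]
    simpa using Subgroup.mul_mem_sup u.2 hC
  have hshift : ∀ w : ↥(N₀ ⊔ Q), (w : Ω) ∈ Q → π (c w) = π w := by
    intro w hw
    obtain ⟨y, hy⟩ : ∃ y : ↥(N₀ ⊔ Q), y = c w * w⁻¹ := ⟨_, rfl⟩
    have hyπ : π (c y) = π y := hshift₀ y (by rw [hy]; exact hyN w hw)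
    have hiter : ∀ n : ℕ, π ((c ^ n) w) = π y ^ n * π w := by
      intro n
      induction n with
      | zero => simp
      | succ n ih =>
        have h1 := hπ (show π ((c ^ n) w) = π (y ^ n * w) by rw [ih, map_mul, map_pow])
        rw [pow_succ' c, MulAut.mul_apply, h1, map_mul, map_mul, map_pow, map_pow, hyπ, pow_succ,
          mul_assoc]
        congr 1
        rw [← map_mul, hy]
        simp
    have h1 := hiter (orderOf c)
    rw [pow_orderOf_eq_one, MulAut.one_apply] at h1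
    replace h1 : π y ^ orderOf c = 1 := mul_eq_right.1 h1.symm
    have h2 : π y = 1 := by
      obtain ⟨k, hk⟩ := (hS.to_le hW) y
      exact eq_one_of_pGroup_coprime ⟨k, by rw [← map_pow, hk, map_one]⟩ h1 hj
    rw [show c w = y * w by simp [hy], map_mul, h2, one_mul]
  -- transport back
  obtain ⟨θ, hθ, hθe⟩ := F.inv_mem hη
  have hηval : ∀ v : ↥(P ⊔ Q), η v ∈ N₀ ⊔ Q := fun v => sup_map_le (f := η)
    (fun x => Subgroup.mem_sup_left (Subgroup.mem_sup_left ((hηP x).symm ▸ (d.e x).2)))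
    (fun q => Subgroup.mem_sup_right ((hηQ q).symm ▸ (μ q).2)) v
  let f := ((N₀ ⊔ Q : Subgroup Ω).subtype.comp (c : ↥(N₀ ⊔ Q) ≃* ↥(N₀ ⊔ Q)).toMonoidHom).comp
    (η.codRestrict _ hηval)
  have hf : f ∈ F.Hom (P ⊔ Q) := F.comp_mem hη ((mem_autGroup hW).1 (pow_mem hβ j)) hηval
  have hfP : ∀ x : P, f (Subgroup.inclusion le_sup_left x) = η (Subgroup.inclusion le_sup_left (γ x)) := by
    intro x
    refine Eq.trans ?_ (hηP (γ x)).symm
    show (c ⟨η (Subgroup.inclusion le_sup_left x), _⟩ : Ω) = (d.e (γ x) : Ω)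
    rw [show (⟨η (Subgroup.inclusion le_sup_left x), hηval _⟩ : ↥(N₀ ⊔ Q)) =
      ⟨(d.e x : Ω), Subgroup.mem_sup_left (Subgroup.mem_sup_left (d.e x).2)⟩ from Subtype.ext (hηP x),
      hγ₀]
    simp [γ₀]
  have hfQ : ∀ q : Q, ∃ q' : Q, f (Subgroup.inclusion le_sup_right q) =
      η (Subgroup.inclusion le_sup_right q') ∧ (q : Ω)⁻¹ * q' ∈ U := by
    intro q
    set w : ↥(N₀ ⊔ Q) := ⟨η (Subgroup.inclusion le_sup_right q), hηval _⟩
    have hwQ : (w : Ω) ∈ Q := (congrArg (· ∈ Q) (hηQ q)).mpr (μ q).2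
    obtain ⟨q', hq'⟩ := μ.surjective ⟨(c w : Ω), hcQ w hwQ⟩
    have heq : (c w : Ω) = η (Subgroup.inclusion le_sup_right q') := by
      rw [hηQ, hq']
    refine ⟨q', heq, ?_⟩
    have hmem : (w : Ω)⁻¹ * (c w : Ω) ∈ U := (QuotientGroup.eq (s := U.subgroupOf (N₀ ⊔ Q))).1
      (hshift w hwQ).symm
    have hm : η (Subgroup.inclusion le_sup_right (q⁻¹ * q')) ∈ U := by
      rwa [map_mul, map_inv, map_mul, map_inv, ← heq]
    have h3 := map_mem_of_stronglyClosed hU hθ ⟨_, _, rfl⟩ hm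
    rwa [hθe] at h3
  have hr' : ∀ v, f v ∈ η.range := fun v => sup_map_le (f := f) (R := η.range)
    (fun x => ⟨_, (hfP x).symm⟩) (fun q => ⟨_, (hfQ q).choose_spec.1.symm⟩) v
  refine ⟨_, F.comp_mem hf hθ hr', fun x => ?_, fun q => ?_⟩
  · show θ ⟨f (Subgroup.inclusion le_sup_left x), hr' _⟩ = (γ x : Ω)
    refine Eq.trans (congrArg θ (Subtype.ext ?_)) (hθe (Subgroup.inclusion le_sup_left (γ x)))
    exact hfP x
  · obtain ⟨q', hq', hqU⟩ := hfQ q
    have h1 : θ ⟨f (Subgroup.inclusion le_sup_right q), hr' _⟩ = (q' : Ω) :=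
      Eq.trans (congrArg θ (Subtype.ext hq' : (⟨_, hr' _⟩ : η.range) = ⟨_, _, rfl⟩))
        (hθe (Subgroup.inclusion le_sup_right q'))
    show θ ⟨f (Subgroup.inclusion le_sup_right q), hr' _⟩ ∈ Q ∧
      (q : Ω)⁻¹ * θ ⟨f (Subgroup.inclusion le_sup_right q), hr' _⟩ ∈ U
    rw [h1]
    exact ⟨q'.2, hqU⟩

/-- Every map of a normal subsystem shifts a normal subgroup into the group of the subsystem. -/
theorem le_shifts (hS : IsPGroup p S) (hE : E.IsNormalIn F p) {Q : Subgroup Ω} (hQ : F.IsNormal Q)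
    (P : Subgroup Ω) : E.Hom P ⊆ (shiftSys hE.1 hQ).Hom P := by
  obtain ⟨hEs, hF, hI⟩ := hE.1
  have hUS := hI.2.1.1
  have : Finite U := finite_of_le hUS
  have hUp : IsPGroup p U := hS.to_le hUS
  set G := shiftSys hE.1 hQ
  -- all maps out of centric subgroups
  have hmain : ∀ n (R : Subgroup Ω), E.IsCentric R → Nat.card U - Nat.card R = n →
      E.Hom R ⊆ G.Hom R := by
    intro n
    induction n using Nat.strong_induction_on with
    | _ n ih =>
      intro R hR hn φ hφ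
      obtain ⟨K, hRK, hK⟩ := exists_fullyNormalized (F := E) hR.1
      have hKc : E.IsCentric K := conj_of_isCentric hR hRK
      have := finite_mulAut hK.1
      obtain ⟨hA, hrec⟩ := fullyNormalized_props hUp hEs hK
      obtain ⟨-, hsyl⟩ := isFullyAutomized_iff.1 hA
      have hcard : Nat.card K = Nat.card R := (isConj_card hRK).symm
      have hstep : ∀ R' N : Subgroup Ω, E.IsCentric R' → Nat.card R' = Nat.card R → R' < N →
          ∀ (χ : N →* Ω), χ ∈ E.Hom N → χ ∈ G.Hom _ := by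
        intro R' N hR' hc hlt χ hχ
        have hNU := src_le hχ
        have : Finite N := finite_of_le hNU
        have h1 : Nat.card R' < Nat.card N :=
          lt_of_not_ge fun hge => hlt.ne (eq_of_le_card hlt.le hge)
        have h2 : Nat.card N ≤ Nat.card U := Subgroup.card_le_of_le hNU
        exact ih _ (by omega) _ (isCentric_of_le hR' hlt.le hNU) rfl hχ
      have haut : E.autGroup K ≤ G.autGroup K := by
        by_cases htop : K = U ∨ E.IsEssential p K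
        swap
        · -- generated by extendable automorphisms
          push Not at htop
          rcases extGroup_dichotomy hUp hEs (lt_of_le_of_ne hK.1 htop.1) hK with ⟨-, h⟩ | ⟨h, -⟩
          · rw [← h]
            refine (Subgroup.closure_le _).2 ?_
            rintro α ⟨N, hKN, χ, hχ, hχe⟩
            exact (mem_autGroup hK.1).2 (mem_of_agree hKN.le (hstep K N hKc hcard hKN χ hχ)
              fun x => (hχe x).symm)
          · exact absurd h htop.2
        obtain ⟨-, hrad, -⟩ := centric_radical_of_top_or_essential hUp hEs htop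
        have hgen : ∀ B : Subgroup (MulAut K), B ≤ E.autGroup K → autInducedBy U K ≤ B →
            (∀ b ∈ B, (K = U ∧ b ∈ E.autGroup K) ∨ b ∈ IndexPrime.pPart E p K) →
              B ≤ G.autGroup K := by
          intro B hB hTB hcase
          refine CentralizerOfNormal.le_of_coprime_sylow (hsyl.mono_right hTB hB) (fun b hb hcop => ?_)
            (autInducedBy_le_autGroup hK.1)
          exact (mem_autGroup hK.1).2 ⟨(mem_autGroup hK.1).1 (hB hb),
            gen_shifts hS hE hQ hrad ⟨hKc, hK, hcop, hcase b hb⟩⟩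
        by_cases hKU : K = U
        · exact hgen _ le_rfl hsyl.1 fun b hb => Or.inl ⟨hKU, hb⟩
        have hB := hgen _ (IndexPrime.pPart_le E p K) (IndexPrime.autInducedBy_le_pPart hUp E hK.1)
          fun b hb => Or.inr hb
        intro γ hγ
        obtain ⟨b, hb, hbx⟩ := hsyl.exists_frattini (IndexPrime.pPart_le E p K)
          IndexPrime.normalizes_pPart hγ
        have hγ' : IsIso E ((b * γ : MulAut K) : K ≃* K) :=
          (mem_autGroup hK.1).1 (mul_mem (IndexPrime.pPart_le E p K hb) hγ)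
        obtain ⟨χ, hχ, -, hχe⟩ := exists_extend_of_congr_le hrec hγ' (by
          rintro _ ⟨x, hx, rfl⟩
          show MulAut.congr (b * γ : MulAut K) x ∈ autInducedBy U K
          rw [congr_eq_conj]
          exact (hbx x ⟨hx, IndexPrime.autInducedBy_le_pPart hUp E hK.1 hx⟩).1)
        have h1 : b * γ ∈ G.autGroup K := (mem_autGroup hK.1).2
          (mem_of_agree (le_normalizerIn hK.1) (hstep K _ hKc hcard
            (lt_normalizer_inf hUp (lt_of_le_of_ne hK.1 hKU)) χ hχ) fun x => (hχe x _).symm)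
        simpa using mul_mem (inv_mem (hB hb)) h1
      have hiso : ∀ R' : Subgroup Ω, E.IsCentric R' → E.IsConj R' K →
          ∃ e : R' ≃* K, IsIso E e ∧ IsIso G e := by
        intro R' hR' hR'K
        obtain ⟨e₀, he₀⟩ := isConj_iff_iso.1 hR'K
        by_cases hT' : R' = U
        · have hKU : K = U := eq_of_le_card hK.1 (by rw [← isConj_card hR'K, hT'])
          subst hT'
          subst hKU
          exact ⟨e₀, he₀, (mem_autGroup hK.1).1 (haut ((mem_autGroup hK.1).2 he₀))⟩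
        · obtain ⟨δ, hδ, χ, hχ, -, hχe⟩ := exists_extend_fullyNormalized hUp hEs hK he₀
          exact ⟨e₀.trans δ, he₀.trans ((mem_autGroup hK.1).1 hδ),
            mem_of_agree (le_normalizerIn hR'.1)
              (hstep R' _ hR' ((isConj_card hR'K).trans hcard)
                (lt_normalizer_inf hUp (lt_of_le_of_ne hR'.1 hT')) χ hχ) fun x => (hχe x _).symm⟩
      obtain ⟨e, heE, heG⟩ := hiso R hR hRK
      let f := toIso φ hφ (rfl : φ.range = φ.range)
      have hf : IsIso E f := isIso_toIso φ hφ rfl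
      obtain ⟨e', he'E, he'G⟩ := hiso φ.range (conj_of_isCentric hR ⟨φ, hφ, rfl⟩)
        (isConj_trans (isConj_symm ⟨φ, hφ, rfl⟩) hRK)
      have hm : ((e.symm.trans f).trans e' : MulAut K) ∈ G.autGroup K :=
        haut ((mem_autGroup hK.1).2 ((heE.symm.trans hf).trans he'E))
      have h3 := (heG.trans ((mem_autGroup hK.1).1 hm)).trans he'G.symm
      refine mem_of_agree le_rfl h3 fun x => ?_
      show φ x = ((e'.symm (((e.symm.trans f).trans e') (e x)) : φ.range) : Ω)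
      simp [f]
  intro φ hφ
  refine alperin hUp hEs G (fun R hR γ hγ => ?_) P hφ
  have hc := (centric_radical_of_top_or_essential hUp hEs hR).1
  exact (mem_autGroup hc.1).2 (hmain _ R hc rfl ((mem_autGroup hc.1).1 hγ))

/-! ### Components -/

/-- A perfect subsystem of a normal subsystem that centralizes the intersection with a normal
subgroup centralizes that subgroup. -/
theorem perfect_centralizes (hS : IsPGroup p S) (hE : E.IsNormalIn F p) {T : Subgroup Ω}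
    {C : FusionSystem T} (hC : C.IsSaturated p) (hhyp : C.hyperfocalSubgroup p = T)
    {Q : Subgroup Ω} (hQ : F.IsNormal Q) (hCE : ∀ P, C.Hom P ⊆ E.centralizerHom (Q ⊓ U) P)
    (P : Subgroup Ω) : C.Hom P ⊆ F.centralizerHom Q P := by
  have hUc : F.StronglyClosed U := hE.1.2.2.2.1
  have hUS := hUc.1
  have hTU : T ≤ U := src_le (hCE T (subtype_mem le_rfl)).1
  have hTS := hTU.trans hUS
  have := finite_of_le hTS
  have hQS := hQ.1
  -- coprime automorphisms extend fixing `Q`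
  have key : ∀ P₀ : Subgroup Ω, P₀ ≤ T → ∀ γ ∈ C.autGroup P₀, (orderOf γ).Coprime p →
      ExtendsOver F Q ⊥ (P₀.subtype.comp γ.toMonoidHom) := by
    intro P₀ hP₀ γ hγ hcop
    obtain ⟨-, -, -, ψ, hψ, hψP, hψR⟩ := hCE P₀ ((mem_autGroup hP₀).1 hγ)
    obtain ⟨-, b, hb, hbP, hbQ⟩ := le_shifts hS hE hQ _ hψ
    have hle : P₀ ⊔ Q ≤ (P₀ ⊔ Q ⊓ U) ⊔ Q := sup_le_sup_right le_sup_left Q
    have hW : P₀ ⊔ Q ≤ S := sup_le (hP₀.trans hTS) hQS
    have := finite_of_le hW
    have := finite_mulAut hW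
    have hbP' : ∀ x : P₀, b (Subgroup.inclusion hle (Subgroup.inclusion le_sup_left x)) = (γ x : Ω) :=
      fun x => (hbP (Subgroup.inclusion le_sup_left x)).trans (hψP x)
    obtain ⟨β, hβ, hβe⟩ := exists_aut_of_self_map (restrict_mem hle hb) fun w =>
      sup_map_le (f := b.comp (Subgroup.inclusion hle))
        (fun x => Subgroup.mem_sup_left ((hbP' x).symm ▸ (γ x).2))
        (fun q => Subgroup.mem_sup_right (hbQ q).1) w
    obtain ⟨j, hj, hja⟩ := exists_coprime_power (p := p) β hcop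
    have hβP : ∀ (n : ℕ) (x : P₀), (β ^ n) (Subgroup.inclusion le_sup_left x) =
        Subgroup.inclusion le_sup_left ((γ ^ n) x) := by
      intro n
      induction n with
      | zero => intro x; rfl
      | succ n ih =>
        intro x
        rw [pow_succ', MulAut.mul_apply, ih, pow_succ', MulAut.mul_apply]
        exact Subtype.ext ((hβe _).trans (hbP' _))
    have hfixR : ∀ (n : ℕ) (w : ↥(P₀ ⊔ Q)), (w : Ω) ∈ Q ⊓ U → (β ^ n) w = w := by
      intro n
      induction n with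
      | zero => intro w _; rfl
      | succ n ih =>
        intro w hw
        rw [pow_succ', MulAut.mul_apply, ih w hw]
        refine Subtype.ext ((hβe w).trans ?_)
        exact (congrArg b (Subtype.ext rfl)).trans
          ((hbP (Subgroup.inclusion le_sup_right ⟨w, hw⟩)).trans (hψR ⟨w, hw⟩))
    have hsh : ∀ (n : ℕ) (w : ↥(P₀ ⊔ Q)), (w : Ω) ∈ Q →
        ((w⁻¹ * (β ^ n) w : ↥(P₀ ⊔ Q)) : Ω) ∈ Q ⊓ U := by
      intro n
      induction n with
      | zero => intro w _; simp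
      | succ n ih =>
        intro w hw
        set v := (β ^ n) w
        have hv : (v : Ω) ∈ Q := by
          have h := Q.mul_mem hw (ih w hw).1
          simpa using h
        have h1 : ((v⁻¹ * β v : ↥(P₀ ⊔ Q)) : Ω) ∈ Q ⊓ U := by
          obtain ⟨h2, h3⟩ := hbQ ⟨v, hv⟩
          have he : (β v : Ω) = b (Subgroup.inclusion le_sup_right ⟨v, hv⟩) :=
            (hβe v).trans (congrArg b (Subtype.ext rfl))
          rw [Subgroup.coe_mul, Subgroup.coe_inv, he]
          exact ⟨Q.mul_mem (Q.inv_mem hv) h2, h3⟩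
        rw [pow_succ', MulAut.mul_apply,
          show w⁻¹ * β v = (w⁻¹ * v) * (v⁻¹ * β v) by group, Subgroup.coe_mul]
        exact mul_mem (ih w hw) h1
    refine extendsOver_bot_iff.2 ⟨_, (mem_autGroup hW).1 (pow_mem hβ j), fun x => ?_, fun q => ?_⟩
    · show (((β ^ j) _ : ↥(P₀ ⊔ Q)) : Ω) = γ x
      rw [hβP, hja γ rfl]
      rfl
    · set w : ↥(P₀ ⊔ Q) := Subgroup.inclusion le_sup_right q
      have hr := hsh j w q.2
      have h1 : w⁻¹ * (β ^ j) w = 1 :=
        SolvableSeries.eq_one_of_coprime_fix (hS.to_le hW) hj (hfixR j _ hr)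
          (by rw [mul_inv_cancel_left])
      exact congrArg Subtype.val (inv_mul_eq_one.1 h1).symm
  -- `T` centralizes `Q`
  have hTQ : T ≤ centralizerIn S Q := by
    rw [← hhyp]
    refine hyperfocal_le fun P₀ hP₀ γ hγ hcop t => mem_centralizerIn.2
      ⟨hTS (T.mul_mem (T.inv_mem (hP₀ t.2)) (hP₀ (γ t).2)), fun q hq => ?_⟩
    obtain ⟨ψ, hψ, hψP, hψQ⟩ := extendsOver_bot_iff.1 (key P₀ hP₀ γ hγ hcop)
    -- the commutator with `q` lies in `Q ∩ U`
    have hR : q * t * q⁻¹ * (t : Ω)⁻¹ ∈ Q ⊓ U := by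
      refine ⟨?_, U.mul_mem (conj_mem_of_mem_normalizer (le_normalizer_of_stronglyClosed hUc
        (hQS hq)) (hTU (hP₀ t.2))) (U.inv_mem (hTU (hP₀ t.2)))⟩
      have h2 := conj_mem_of_mem_normalizer (le_normalizer_of_stronglyClosed
        (stronglyClosed_of_isNormal hQ) (hTS (hP₀ t.2))) (Q.inv_mem hq)
      rw [show q * t * q⁻¹ * (t : Ω)⁻¹ = q * (t * q⁻¹ * (t : Ω)⁻¹) by group]
      exact Q.mul_mem hq h2
    set qq : ↥(P₀ ⊔ Q) := Subgroup.inclusion le_sup_right ⟨q, hq⟩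
    set tt : ↥(P₀ ⊔ Q) := Subgroup.inclusion le_sup_left t
    have hfix : ψ (qq * tt * qq⁻¹ * tt⁻¹) = q * t * q⁻¹ * (t : Ω)⁻¹ :=
      (congrArg ψ (Subtype.ext rfl)).trans (hψQ ⟨_, hR.1⟩)
    rw [map_mul, map_mul, map_mul, map_inv, map_inv, hψQ, hψP] at hfix
    change q * (γ t : Ω) * q⁻¹ * (γ t : Ω)⁻¹ = _ at hfix
    have h3 : (γ t : Ω) * q⁻¹ * (γ t : Ω)⁻¹ = (t : Ω) * q⁻¹ * (t : Ω)⁻¹ := by
      have h4 := congrArg (fun z => q⁻¹ * z) hfix
      simpa [mul_assoc] using h4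
    have h5 : (γ t : Ω) * q * (γ t : Ω)⁻¹ = (t : Ω) * q * (t : Ω)⁻¹ := by
      have h6 := congrArg (fun z : Ω => z⁻¹) h3
      simpa [mul_assoc] using h6
    calc q * ((t : Ω)⁻¹ * (γ t : Ω)) = (t : Ω)⁻¹ * ((t : Ω) * q * (t : Ω)⁻¹) * (γ t : Ω) := by group
      _ = (t : Ω)⁻¹ * ((γ t : Ω) * q * (γ t : Ω)⁻¹) * (γ t : Ω) := by rw [h5]
      _ = (t : Ω)⁻¹ * (γ t : Ω) * q := by group
  have hK : ∀ g ∈ T, ∃ h : g ∈ Subgroup.normalizer (Q : Set Ω),
      conjAut Q h ∈ (⊥ : Subgroup (MulAut Q)) := fun g hg =>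
    ⟨(centralizerIn_le_normalizerIn S Q (hTQ hg)).2,
      Subgroup.mem_bot.2 ((conjAut_eq_one_iff _).2 (hTQ hg).2)⟩
  let G := extSystem F T Q ⊥ hTS hQS hK
  intro φ hφ
  have h : φ ∈ G.Hom P := by
    refine alperin (hS.to_le hTS) hC G (fun R hR => ?_) P hφ
    obtain ⟨-, -, hn⟩ := centric_radical_of_top_or_essential (hS.to_le hTS) hC hR
    refine autGroup_le_of_coprime (hS.to_le hTS) hC hn _ (autInducedBy_le_autGroup hn.1)
      fun γ hγ hcop => (mem_autGroup hn.1).2 ⟨?_, hn.1, fun x => hn.1 (γ x).2, key R hn.1 γ hγ hcop⟩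
    exact hE.1.2.2.1 _ ((hCE R) ((mem_autGroup hn.1).1 hγ)).1
  obtain ⟨h1, h2, h3, h4⟩ := h
  exact ⟨h1, h2.trans hTQ, fun x => hTQ (h3 x), extendsOver_bot_iff.1 h4⟩

end Cfsg.Agent.Lib.Fusion.ComponentCore

namespace Cfsg.Agent.Lib.Fusion.ComponentCore

open Cfsg Cfsg.FusionSystem

variable {Ω : Type u} [Group Ω] {S : Subgroup Ω} {F : FusionSystem S} {p : ℕ}

/-- Components centralize the largest normal subgroup. -/
theorem component_centralizes {T : Subgroup Ω} {C : FusionSystem T} (hC : C.IsSubnormalIn F p) :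
    Fact p.Prime → Finite S → IsPGroup p S → C.Quasisimple p →
      ∀ P, C.Hom P ⊆ F.centralizerHom F.core P := by
  induction hC with
  | @refl F p =>
    intro _ _ hS hq P φ hφ
    rename' T => S
    have hZ := isCentral_center (F := F)
    have hc := normal_le_center hS hq (isNormal_core (F := F))
    have hS' : S ≤ centralizerIn S F.core := fun s hs => mem_centralizerIn.2 ⟨hs, fun q hq' =>
      (F.center_le_centralizer (hc hq') s hs).symm⟩
    obtain ⟨ψ, hψ, hψP, hψZ⟩ := hZ.2 P φ hφ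
    exact ⟨hφ, (src_le hφ).trans hS', fun x => hS' (val_mem hφ x), _,
      restrict_mem (sup_le_sup_left hc P) hψ, fun x => hψP x, fun q => hψZ ⟨q, hc q.2⟩⟩
  | @step U S C E F p hCE hE ih =>
    intro hp _ hS hq P
    have hU := hE.1.2.2.2.1.1
    have := finite_of_le hU
    refine perfect_centralizes hS hE hq.1 hq.2.1 isNormal_core (fun R φ hφ => ?_) P
    have hle : F.core ⊓ U ≤ E.core := le_core (inter_normal hS hE.1 isNormal_core)
    obtain ⟨h1, h2, h3, ψ, hψ, hψP, hψQ⟩ := ih hp this (hS.to_le hU) hq R hφ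
    exact ⟨h1, h2.trans (centralizerIn_antitone hle), fun x => centralizerIn_antitone hle (h3 x), _,
      restrict_mem (sup_le_sup_left hle R) hψ, fun x => hψP x, fun q => hψQ ⟨q, hle q.2⟩⟩

/-- The centralizer system of a normal subgroup is a normal subsystem. -/
theorem centralizer_isNormalIn [Finite S] [Fact p.Prime] (hS : IsPGroup p S) (hF : F.IsSaturated p)
    {Q : Subgroup Ω} (hQ : F.IsNormal Q) :
    (CentralizerSub.cent F hQ.1).IsNormalIn F p := by
  have hC : F.StronglyClosed (centralizerIn S Q) := by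
    refine ⟨centralizerIn_le _ _, fun P hP ψ hψ x => mem_centralizerIn.2 ⟨val_mem hψ x, ?_⟩⟩
    obtain ⟨χ, -, hχP, κ, -, hχQ⟩ := (isNormal_iff.1 hQ).2 P ψ hψ
    intro q hq
    obtain ⟨q', hq'⟩ := κ.surjective ⟨q, hq⟩
    have hq2 : χ (Subgroup.inclusion le_sup_right q') = q :=
      (hχQ q').trans (congrArg Subtype.val hq')
    rw [← hχP x, ← hq2, ← map_mul, ← map_mul]
    congr 1
    exact Subtype.ext ((mem_centralizerIn.1 (hP x.2)).2 q' q'.2)
  have h : CentralizerSub.Base F Q (centralizerIn S Q) p :=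
    ⟨hS, hF, stronglyClosed_of_isNormal hQ, hC, le_rfl⟩
  exact h.isNormalIn (hyperfocal_le_base _) h.cent_saturated
    ⟨fun _ => subset_rfl, hyperfocal_le_base _, fun P _ => Subgroup.map_subtype_le _⟩

end Cfsg.Agent.Lib.Fusion.ComponentCore
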