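import Cfsg.Agent.Lib.Fusion.Simple
import Cfsg.Agent.Lib.PGroupFrattini
import Cfsg.Agent.Lib.GenStruct.Basic

/-!
A criterion for `Aut_F(S) = Inn(S)` at the prime 2: invariants of cosets of the subgroup of squares.
-/

set_option autoImplicit false

namespace Cfsg.Agent.Lib.Fusion

open Cfsg Cfsg.FusionSystem

/-- An automorphism of odd prime order of a finite 2-group fixing the cosets of the squares in a
normal subgroup below the Frattini subgroup is trivial. -/
theorem eq_one_of_fix_cosets {T : Type*} [Group T] [Finite T] (hT : IsPGroup 2 T) {α : MulAut T}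
    {q : ℕ} (hq : q.Prime) (hq2 : q ≠ 2) (hα : α ^ q = 1) {N : Subgroup T}
    (hN : N ≤ frattini T) (hfix : ∀ x : T, x⁻¹ * α x ∈ N)
    (hNα : ∀ x ∈ N, α x ∈ N) : α = 1 := by
  classical
  have : Fact q.Prime := ⟨hq⟩
  let C : Subgroup T :=
    { carrier := {x | α x = x}
      one_mem' := map_one α
      mul_mem' := fun {a b} ha hb => by
        show α (a * b) = a * b
        rw [map_mul, ha, hb]
      inv_mem' := fun {a} ha => by
        show α a⁻¹ = a⁻¹
        rw [map_inv, ha] }
  suffices hC : C = ⊤ by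
    ext x
    exact (hC.ge (Subgroup.mem_top x) : α x = x)
  refine frattini_nongenerating (top_le_iff.1 ?_)
  intro x _
  have : IsPGroup q (Subgroup.zpowers α) := by
    rintro ⟨z, k, rfl⟩
    refine ⟨1, Subtype.ext ?_⟩
    show (α ^ k) ^ q ^ 1 = 1
    rw [pow_one, ← zpow_natCast (α ^ k), ← zpow_mul, mul_comm, zpow_mul, zpow_natCast, hα, one_zpow]
  -- the coset `x N` as a set stable under `α`
  let A := {y : T // x⁻¹ * y ∈ N}
  have hA : ∀ y : T, x⁻¹ * y ∈ N → x⁻¹ * α y ∈ N := fun y hy => by
    have h1 := N.mul_mem (hfix x) (hNα _ hy)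
    simpa [mul_assoc] using h1
  let a : A → A := fun y => ⟨α y, hA y y.2⟩
  have hinj : Function.Injective a := fun u v h => Subtype.ext (α.injective (congrArg Subtype.val h))
  let σ : Equiv.Perm A := Equiv.ofBijective a (Finite.injective_iff_bijective.1 hinj)
  have hpow : ∀ (n : ℕ) (y : A), (((σ ^ n) y : A) : T) = (α ^ n) (y : T) := by
    intro n
    induction n with
    | zero => intro y; rfl
    | succ n ih =>
      intro y
      rw [pow_succ', Equiv.Perm.mul_apply]
      show α _ = _
      rw [ih, pow_succ', MulAut.mul_apply]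
  have hσ : σ ^ q ^ 1 = 1 := Equiv.ext fun y => Subtype.ext (by rw [hpow, pow_one, hα]; rfl)
  have hcard : ¬ q ∣ Nat.card A := by
    have e : A ≃ N := ⟨fun y => ⟨_, y.2⟩, fun m => ⟨x * m, by simp⟩,
      fun y => Subtype.ext (by simp), fun m => Subtype.ext (by simp)⟩
    rw [Nat.card_congr e]
    obtain ⟨k, hk⟩ := IsPGroup.iff_card.1 (hT.to_subgroup N)
    rw [hk]
    exact fun hd => hq2 ((Nat.prime_dvd_prime_iff_eq hq Nat.prime_two).1 (hq.dvd_of_dvd_pow hd))
  have := Fintype.ofFinite A
  rw [Nat.card_eq_fintype_card] at hcard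
  obtain ⟨y, hy⟩ := Equiv.Perm.exists_fixed_point_of_prime hcard hσ
  have hyC : (y : T) ∈ C := congrArg Subtype.val hy
  have h2 := (C ⊔ frattini T).mul_mem (Subgroup.mem_sup_left hyC)
    (Subgroup.mem_sup_right ((frattini T).inv_mem (hN y.2)))
  simpa using h2

/-- If the cosets of `N` in `T` with a given invariant are at most two in number then automorphisms
of odd prime order preserving the invariant are trivial. -/
theorem eq_one_of_invariant {T : Type*} [Group T] [Finite T] (hT : IsPGroup 2 T) {α : MulAut T}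
    {q : ℕ} (hq : q.Prime) (hq2 : q ≠ 2) (hα : α ^ q = 1) {N : Subgroup T}
    (hN : N ≤ frattini T) (hNα : ∀ x ∈ N, α x ∈ N) {β : Type*} (f : T → β)
    (hf : ∀ x, f (α x) = f x)
    (hsep : ∀ x y z : T, f x = f y → f x = f z → x⁻¹ * y ∈ N ∨ x⁻¹ * z ∈ N ∨ y⁻¹ * z ∈ N) :
    α = 1 := by
  refine eq_one_of_fix_cosets hT hq hq2 hα hN (fun x => ?_) hNα
  -- `N` is normal in `T`, so `x⁻¹ α x ∈ N` is the relation of being in one coset
  let R : T → T → Prop := fun u v => u⁻¹ * v ∈ N
  have Rtrans : ∀ {u v w : T}, R u v → R v w → R u w := fun {u v w} h1 h2 => by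
    have := N.mul_mem h1 h2
    simpa [R, mul_assoc] using this
  have Rα : ∀ {u v : T}, R u v → R (α u) (α v) := fun {u v} h => by
    have := hNα _ h
    simpa [R] using this
  have Rαi : ∀ {u v : T}, R (α u) (α v) → R u v := fun {u v} h => by
    have h1 : ∀ k : ℕ, R ((α ^ (k + 1)) u) ((α ^ (k + 1)) v) := by
      intro k
      induction k with
      | zero => simpa using h
      | succ k ih => rw [pow_succ' α (k + 1), MulAut.mul_apply, MulAut.mul_apply]; exact Rα ih
    have h2 := h1 (q - 1)
    rw [Nat.sub_add_cancel hq.pos, hα] at h2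
    exact h2
  have h2case : R x (α (α x)) → R x (α x) := by
    intro h
    have h1 : ∀ k : ℕ, R x ((α ^ (2 * k)) x) := by
      intro k
      induction k with
      | zero => simp [R]
      | succ k ih =>
        refine Rtrans h ?_
        rw [show 2 * (k + 1) = (2 * k + 1) + 1 by ring, pow_succ' α (2 * k + 1), MulAut.mul_apply,
          pow_succ' α (2 * k), MulAut.mul_apply]
        exact Rα (Rα ih)
    obtain ⟨k, hk⟩ := hq.odd_of_ne_two hq2
    have h2 := h1 (k + 1)
    rw [show 2 * (k + 1) = q + 1 by omega, pow_succ α q, hα, one_mul] at h2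
    exact h2
  rcases hsep x (α x) (α (α x)) (hf x).symm ((hf _).trans (hf x)).symm with h | h | h
  · exact h
  · exact h2case h
  · exact Rαi h

end Cfsg.Agent.Lib.Fusion
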