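import Cfsg.Agent.Lib.Fusion.Simple
import Cfsg.Agent.Lib.Fusion.Criteria
import Cfsg.Agent.Lib.Fusion.Realized
import Cfsg.Agent.Lib.GenStruct.Basic
import Mathlib.GroupTheory.Perm.Cycle.Type
import Mathlib.GroupTheory.GroupAction.Quotient

/-!
Thompson's transfer lemma and simple groups with a Sylow 2-subgroup of dihedral type.
-/

set_option autoImplicit false

namespace Cfsg.Agent.Lib.Fusion

open Cfsg Cfsg.FusionSystem

variable {G : Type*} [Group G]

/-- Thompson's transfer lemma: in a nonabelian simple group an involution is conjugate into every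
subgroup of twice odd index. -/
theorem exists_conj_mem_of_twice_odd_index [Finite G] (hs : IsSimpleGroup G)
    (hna : ∃ a b : G, a * b ≠ b * a) (C : Subgroup G) (hC : ∃ m, C.index = 2 * m ∧ Odd m) {x : G}
    (hx : x ^ 2 = 1) : ∃ g : G, g * x * g⁻¹ ∈ C := by
  classical
  have := Fintype.ofFinite (G ⧸ C)
  let s : G →* ℤˣ := Equiv.Perm.sign.comp (MulAction.toPermHom G (G ⧸ C))
  have hs1 : s.ker = ⊤ := by
    rcases hs.eq_bot_or_eq_top_of_normal s.ker inferInstance with h | h
    · exfalso
      obtain ⟨a, b, hab⟩ := hna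
      exact hab ((MonoidHom.ker_eq_bot_iff s).1 h (by rw [map_mul, map_mul, mul_comm]))
    · exact h
  by_contra hno
  push Not at hno
  set σ := MulAction.toPermHom G (G ⧸ C) x
  have hfix : Fintype.card (Function.fixedPoints σ) = 0 := by
    rw [Fintype.card_eq_zero_iff]
    refine ⟨fun ⟨q, hq⟩ => ?_⟩
    obtain ⟨g, rfl⟩ := QuotientGroup.mk_surjective q
    have h2 : ((x * g : G) : G ⧸ C) = g := hq
    refine hno g⁻¹ ?_
    have h3 := QuotientGroup.eq.1 h2.symm
    rwa [inv_inv, mul_assoc]
  have h1 : Equiv.Perm.sign σ = 1 := MonoidHom.mem_ker.1 (hs1 ▸ Subgroup.mem_top x : x ∈ s.ker)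
  rw [Equiv.Perm.sign_of_pow_two_eq_one (by rw [← map_pow, hx, map_one]), hfix, Nat.sub_zero,
    ← Nat.card_eq_fintype_card, show Nat.card (G ⧸ C) = C.index from rfl] at h1
  obtain ⟨m, hm, hmo⟩ := hC
  rw [hm, Nat.mul_div_cancel_left _ (by norm_num : 0 < 2), hmo.neg_one_pow] at h1
  exact absurd h1 (by decide)

/-- A 2-fusion system of a nonabelian simple group is simple when a Sylow 2-subgroup has a cyclic
subgroup of index two and order at least 4 outside which all elements are involutions. -/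
theorem isSimple_dihedralType [Finite G] (hs : IsSimpleGroup G) (S : Sylow 2 G) (C : Subgroup G)
    (hCS : C ≤ S) [IsCyclic C] (h4 : 4 ≤ Nat.card C)
    (hinv : ∀ x ∈ (S : Subgroup G), x ∉ C → x ^ 2 = 1)
    (hmul : ∀ x ∈ (S : Subgroup G), ∀ y ∈ (S : Subgroup G), x ∉ C → y ∉ C → x * y ∈ C)
    (hne : ∃ x ∈ (S : Subgroup G), x ∉ C) :
    (groupFusionSystem (S : Subgroup G)).IsSimple 2 := by
  have : Fact (Nat.Prime 2) := ⟨Nat.prime_two⟩
  set T₂ := (S : Subgroup G)
  obtain ⟨x₀, hx₀S, hx₀⟩ := hne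
  have hF := groupFusionSystem_saturated S
  -- the index of `C`
  have hrel : C.relIndex T₂ = 2 := by
    rw [Subgroup.relIndex, Subgroup.index_eq_two_iff]
    refine ⟨⟨x₀, hx₀S⟩, fun b => ?_⟩
    simp only [Subgroup.mem_subgroupOf, Subgroup.coe_mul]
    by_cases hb : (b : G) ∈ C
    · exact Or.inr ⟨hb, fun h => hx₀ ((Subgroup.mul_mem_cancel_left C hb).1 h)⟩
    · exact Or.inl ⟨hmul _ b.2 _ hx₀S hb hx₀, hb⟩
  have hidx : ∃ m, C.index = 2 * m ∧ Odd m :=
    ⟨T₂.index, by rw [← Subgroup.relIndex_mul_index hCS, hrel],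
      Nat.not_even_iff_odd.1 fun h => S.not_dvd_index (even_iff_two_dvd.1 h)⟩
  have hna : ∃ a b : G, a * b ≠ b * a := by
    obtain ⟨c, hc⟩ := IsCyclic.exists_ofOrder_eq_natCard (α := C)
    refine ⟨x₀, (c : G), fun h => ?_⟩
    have h5 : (c : G) * x₀ ∉ C := fun h' => hx₀ ((Subgroup.mul_mem_cancel_left C c.2).1 h')
    have h6 := hinv _ (T₂.mul_mem (hCS c.2) hx₀S) h5
    rw [(show Commute (c : G) x₀ from h.symm).mul_pow, hinv _ hx₀S hx₀, mul_one] at h6
    have := orderOf_dvd_of_pow_eq_one h6
    rw [Subgroup.orderOf_coe, hc] at this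
    have := Nat.le_of_dvd two_pos this
    omega
  -- the unique involution of `C`
  have huniq : ∀ a ∈ C, ∀ b ∈ C, a ^ 2 = 1 → b ^ 2 = 1 → a ≠ 1 → b ≠ 1 → a = b := by
    intro a ha b hb ha2 hb2 ha1 hb1
    classical
    have := Fintype.ofFinite C
    have hcard := IsCyclic.card_pow_eq_one_le (α := C) two_pos
    by_contra hab
    have : ({1, ⟨a, ha⟩, ⟨b, hb⟩} : Finset C) ⊆ Finset.univ.filter fun c => c ^ 2 = 1 := by
      intro c hc
      simp only [Finset.mem_insert, Finset.mem_singleton] at hc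
      rcases hc with rfl | rfl | rfl <;> simp [Subtype.ext_iff, ha2, hb2]
    have := (Finset.card_le_card this).trans hcard
    rw [Finset.card_insert_of_notMem, Finset.card_insert_of_notMem, Finset.card_singleton] at this
    · omega
    · simp [hab]
    · simp [Subtype.ext_iff, eq_comm (a := (1 : G)), ha1, hb1]
  refine isSimple_of_autS_inn hF ?_ ?_ ?_
  · intro h
    exact hx₀ ((Subgroup.mem_bot.1 (h ▸ hx₀S)) ▸ C.one_mem)
  · -- strongly closed subgroups
    intro T hT
    by_cases hT1 : T = ⊥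
    · exact Or.inl hT1
    refine Or.inr (le_antisymm hT.1 ?_)
    have : (T.subgroupOf T₂).Normal :=
      Subgroup.normal_subgroupOf_of_le_normalizer (le_normalizer_of_stronglyClosed hT)
    obtain ⟨c, hcT, hcc, hc1⟩ := GenStruct.exists_mem_center S.2 (T.subgroupOf T₂)
      (fun h => hT1 ((Subgroup.subgroupOf_eq_bot.1 h).eq_bot_of_le hT.1))
    -- an involution of `C ∩ T`
    obtain ⟨z, hzT, hzC, hz2, hz1⟩ : ∃ z ∈ T, z ∈ C ∧ z ^ 2 = 1 ∧ z ≠ 1 := by
      have hc1' : (c : G) ≠ 1 := fun h => hc1 (Subtype.ext h)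
      by_cases hcC : (c : G) ∈ C
      · obtain ⟨j, hj⟩ := (IsPGroup.iff_orderOf.1 S.2) ⟨c, c.2⟩
        rw [Subgroup.orderOf_mk] at hj
        rcases j with _ | j
        · exact absurd (orderOf_eq_one_iff.1 (by simpa using hj)) hc1'
        refine ⟨(c : G) ^ 2 ^ j, T.pow_mem hcT _, C.pow_mem hcC _, ?_, ?_⟩
        · rw [← pow_mul, ← pow_succ, ← hj, pow_orderOf_eq_one]
        · exact pow_ne_one_of_lt_orderOf (by positivity)
            (by rw [hj]; exact Nat.pow_lt_pow_succ (by norm_num))
      · exfalso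
        obtain ⟨d, hd⟩ := IsCyclic.exists_ofOrder_eq_natCard (α := C)
        have h5 : (c : G) * d ∉ C := fun h => hcC ((Subgroup.mul_mem_cancel_right C d.2).1 h)
        have hcd : Commute (c : G) d :=
          congrArg Subtype.val (Subgroup.mem_center_iff.1 hcc ⟨d, hCS d.2⟩) |>.symm
        have h6 := hinv _ (T₂.mul_mem c.2 (hCS d.2)) h5
        rw [hcd.mul_pow, hinv _ c.2 hcC, one_mul] at h6
        have := orderOf_dvd_of_pow_eq_one h6
        rw [Subgroup.orderOf_coe, hd] at this
        have := Nat.le_of_dvd two_pos this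
        omega
    have hout : ∀ x ∈ T₂, x ∉ C → x ∈ T := by
      intro x hx hxC
      have hx1 : x ≠ 1 := fun h => hxC (h ▸ C.one_mem)
      obtain ⟨g, hg⟩ := exists_conj_mem_of_twice_odd_index hs hna C hidx (hinv x hx hxC)
      have he : g * x * g⁻¹ = z := huniq _ hg _ hzC
        (by rw [conj_pow, hinv x hx hxC, mul_one, mul_inv_cancel]) hz2
        (fun h => hx1 (by simpa using h)) hz1
      have hzx : g⁻¹ * z * g = x := by rw [← he]; group
      have hmem : conjHom (Subgroup.zpowers z) g⁻¹ ∈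
          (groupFusionSystem T₂).Hom (Subgroup.zpowers z) := by
        refine ⟨Subgroup.zpowers_le.2 (hCS hzC), fun w => ?_, g⁻¹, fun w => rfl⟩
        obtain ⟨w, k, rfl⟩ := w
        show g⁻¹ * z ^ k * g⁻¹⁻¹ ∈ T₂
        rw [← conj_zpow, inv_inv, hzx]
        exact zpow_mem hx k
      have h2 := hT.2 _ (Subgroup.zpowers_le.2 hzT) _ hmem ⟨z, Subgroup.mem_zpowers z⟩
      have h3 : g⁻¹ * z * g⁻¹⁻¹ = x := by rw [inv_inv, hzx]
      exact h3 ▸ h2
    intro y hy
    by_cases hyC : y ∈ C
    · have h1 : y * x₀ ∉ C := fun h => hx₀ ((Subgroup.mul_mem_cancel_left C hyC).1 h)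
      simpa using T.mul_mem (hout _ (T₂.mul_mem hy hx₀S) h1) (T.inv_mem (hout _ hx₀S hx₀))
    · exact hout y hy hyC
  · -- the automorphism group of `S` is inner
    have := finite_mulAut (le_refl T₂)
    have hsyl := (isFullyAutomized_iff.1 (saturated_autS S.2 hF)).2
    rw [autInducedBy_self] at hsyl
    suffices hp : IsPGroup 2 ((groupFusionSystem T₂).autGroup T₂) from
      hsyl.eq_of_le (inn_le_autGroup le_rfl) le_rfl hp
    have key : ∀ α : MulAut T₂, ∀ k, Odd k → α ^ k = 1 → α = 1 := by
      intro α k hk hαk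
      -- elements of order at least 4 lie in `C`
      obtain ⟨c, hc⟩ := IsCyclic.exists_ofOrder_eq_natCard (α := C)
      have hgen : ∀ y : C, y ∈ Subgroup.zpowers c := fun y => by
        rw [show Subgroup.zpowers c = ⊤ from
          Subgroup.eq_top_of_card_eq _ (by rw [Nat.card_zpowers, hc])]
        trivial
      set c' : T₂ := ⟨c, hCS c.2⟩
      have hαc : ((α c' : T₂) : G) ∈ C := by
        by_contra h
        have h2 : (α c') ^ 2 = 1 := Subtype.ext (by simpa using hinv _ (α c').2 h)
        rw [← map_pow, map_eq_one_iff α α.injective] at h2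
        have h3 : (c : G) ^ 2 = 1 := congrArg Subtype.val h2
        have := orderOf_dvd_of_pow_eq_one h3
        rw [Subgroup.orderOf_coe, hc] at this
        have := Nat.le_of_dvd two_pos this
        omega
      have hC' : ∀ y : T₂, (y : G) ∈ C → ((α y : T₂) : G) ∈ C := by
        intro y hy
        obtain ⟨i, hi⟩ := hgen ⟨y, hy⟩
        have : y = c' ^ i := Subtype.ext (by
          have := congrArg Subtype.val hi
          simpa [c'] using this.symm)
        rw [this, map_zpow, Subgroup.coe_zpow]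
        exact C.zpow_mem hαc i
      -- the restriction to `C` is trivial
      obtain ⟨β, hβ⟩ := exists_restrict_aut hCS (β := α) fun y => hC' _ y.2
      have hβk : β ^ k = 1 := by
        ext y
        rw [pow_apply_eq hCS hβ k y, hαk]
        rfl
      obtain ⟨j, hj⟩ := (IsPGroup.iff_card.1 (S.2.to_le hCS))
      have hβ1 : β = 1 := by
        have h1 : orderOf β ∣ k := orderOf_dvd_of_pow_eq_one hβk
        have h2 : orderOf β ∣ Nat.card (MulAut C) := orderOf_dvd_natCard β
        have h3 : Nat.card (MulAut C) ∣ 2 ^ j := by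
          rw [IsCyclic.card_mulAut, hj]
          rcases j with _ | j
          · simp
          · rw [Nat.totient_prime_pow_succ Nat.prime_two]; simp [pow_succ]
        exact orderOf_eq_one_iff.1 (Nat.eq_one_of_dvd_coprimes
          ((Nat.Coprime.pow_right j hk.coprime_two_right)) h1 (h2.trans h3))
      have hfix : ∀ y : T₂, (y : G) ∈ C → α y = y := by
        intro y hy
        have := hβ ⟨y, hy⟩
        rw [hβ1] at this
        exact Subtype.ext this.symm
      ext y
      by_cases hy : (y : G) ∈ C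
      · rw [hfix y hy]; rfl
      have hyα : ((α y : T₂) : G) ∉ C := fun h => by
        have h1 := hfix _ h
        exact hy ((α.injective h1).symm ▸ h)
      set d : T₂ := y⁻¹ * α y
      have hd : (d : G) ∈ C := by
        have h1 := hmul _ (T₂.inv_mem y.2) _ (α y).2 (fun h => hy (by simpa using C.inv_mem h)) hyα
        simpa [d] using h1
      have hiter : ∀ i : ℕ, (α ^ i) y = y * d ^ i := by
        intro i
        induction i with
        | zero => simp
        | succ i ih =>
          rw [pow_succ', MulAut.mul_apply, ih, map_mul, map_pow, hfix d hd,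
            show α y = y * d by simp [d], mul_assoc, ← pow_succ']
      have hdk : d ^ k = 1 := by
        have := hiter k
        rw [hαk] at this
        simpa using this.symm
      obtain ⟨e, he⟩ := (IsPGroup.iff_orderOf.1 S.2) d
      have hd1 : d = 1 := orderOf_eq_one_iff.1 (Nat.eq_one_of_dvd_coprimes
        ((Nat.Coprime.pow_right e hk.coprime_two_right)) (orderOf_dvd_of_pow_eq_one hdk)
        (by rw [← he]))
      have h1 : α y = y * d := by simp [d]
      rw [h1, hd1, mul_one]; rfl
    intro α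
    obtain ⟨e, k, hk, hek⟩ :=
      Nat.exists_eq_pow_mul_and_not_dvd (n := orderOf α) (orderOf_pos α).ne' 2 (by norm_num)
    refine ⟨e, Subtype.ext (key _ k (Nat.not_even_iff_odd.1 fun h => hk (even_iff_two_dvd.1 h)) ?_)⟩
    rw [← Subgroup.coe_pow, ← pow_mul, ← hek, pow_orderOf_eq_one, Subgroup.coe_one]

end Cfsg.Agent.Lib.Fusion
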