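import Cfsg.Agent.Lib.Fusion.ResidualNormal

/-!
The subsystem of index prime to `p` attached to a weakly normal subsystem `E` over `T` and a
normal subgroup of `Aut_F(T)` containing `Aut_E(T)` with `p'`-quotient.
-/

set_option autoImplicit false

namespace Cfsg.Agent.Lib.Fusion.PPrimeKernel

open Cfsg Cfsg.FusionSystem
open Cfsg.Agent.Lib.Fusion.ResidualNormal (Cen)

variable {Ω : Type*} [Group Ω] {S T : Subgroup Ω} {F : FusionSystem S} {E : FusionSystem T}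
  {p : ℕ} {K : Subgroup (MulAut T)}

/-- A normal subgroup of `Aut_F(T)` containing `Aut_E(T)` with quotient of order prime to `p`. -/
structure Data (F : FusionSystem S) (E : FusionSystem T) (p : ℕ) (K : Subgroup (MulAut T)) :
    Prop where
  weak : E.IsWeaklyNormalIn F p
  le : K ≤ F.autGroup T
  norm : ∀ β ∈ F.autGroup T, ∀ k ∈ K, β * k * β⁻¹ ∈ K
  autE : E.autGroup T ≤ K
  root : ∀ x ∈ F.autGroup T, ∀ a : ℕ, x ^ p ^ a ∈ K → x ∈ K

theorem Data.closed (hd : Data F E p K) : F.StronglyClosed T := hd.weak.2.2.2.1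

/-- `φ` is `α` composed with a map of `E`. -/
def Cls (F : FusionSystem S) (E : FusionSystem T) {P : Subgroup Ω} (φ : P →* Ω) (α : MulAut T) :
    Prop :=
  α ∈ F.autGroup T ∧ ∃ φ₀, ∃ h : φ₀ ∈ E.Hom P, ∀ x : P, φ x = (α ⟨φ₀ x, val_mem h x⟩ : Ω)

/-- `φ` is an element of `K` composed with a map of `E`. -/
def InK (F : FusionSystem S) (E : FusionSystem T) (K : Subgroup (MulAut T)) {P : Subgroup Ω}
    (φ : P →* Ω) : Prop :=
  ∃ α ∈ K, Cls F E φ α

theorem Cls.src_le {P : Subgroup Ω} {φ : P →* Ω} {α : MulAut T} (h : Cls F E φ α) : P ≤ T := by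
  obtain ⟨-, φ₀, hφ₀, -⟩ := h
  exact Fusion.src_le hφ₀

theorem Cls.restrict {P R : Subgroup Ω} {φ : P →* Ω} {α : MulAut T} (h : Cls F E φ α) (hle : R ≤ P)
    {χ : R →* Ω} (hχ : ∀ x : R, χ x = φ ⟨x, hle x.2⟩) : Cls F E χ α := by
  obtain ⟨hα, φ₀, hφ₀, he⟩ := h
  exact ⟨hα, _, restrict_mem hle hφ₀, fun x => (hχ x).trans (he _)⟩

theorem cls_of_mem {P : Subgroup Ω} {φ : P →* Ω} (hφ : φ ∈ E.Hom P) : Cls F E φ 1 :=
  ⟨one_mem _, φ, hφ, fun _ => rfl⟩

theorem cls_of_aut {P : Subgroup Ω} (hP : P ≤ T) {α : MulAut T} (hα : α ∈ F.autGroup T)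
    {φ : P →* Ω} (hφ : ∀ x : P, φ x = (α ⟨x, hP x.2⟩ : Ω)) : Cls F E φ α :=
  ⟨hα, P.subtype, subtype_mem hP, hφ⟩

theorem cls_exists (hd : Data F E p K) {P : Subgroup Ω} (hP : P ≤ T) {φ : P →* Ω}
    (hφ : φ ∈ F.Hom P) : ∃ α, Cls F E φ α := by
  obtain ⟨α, hα, φ₀, hφ₀, h⟩ := hd.weak.2.2.2.2.2 P hP φ hφ
  exact ⟨α, hα, φ₀, hφ₀, fun x => h x _⟩

theorem Cls.comp (hd : Data F E p K) {P Q : Subgroup Ω} {φ χ : P →* Ω} {ψ : Q →* Ω}
    {α β : MulAut T} (h₁ : Cls F E φ α) (h₂ : Cls F E ψ β) (hPQ : ∀ x, φ x ∈ Q)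
    (hχ : ∀ x, χ x = ψ ⟨φ x, hPQ x⟩) : Cls F E χ (β * α) := by
  obtain ⟨hα, e₁, he₁, h₁⟩ := h₁
  obtain ⟨hβ, e₂, he₂, h₂⟩ := h₂
  obtain ⟨c, hc, hce⟩ := (IsInvariantIn.autInvariant hd.weak.2.2).exists_transport hd.closed.1
    (inv_mem hα) he₂
  have hy : ∀ x : P, ∃ hm : e₁ x ∈ autImage α⁻¹ Q,
      c ⟨e₁ x, hm⟩ = ((α⁻¹ : MulAut T) ⟨e₂ ⟨φ x, hPQ x⟩, val_mem he₂ _⟩ : Ω) := by
    intro x
    set y : T := α ⟨e₁ x, val_mem he₁ x⟩
    have hy1 : φ x = (y : Ω) := h₁ x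
    have hy2 : (y : Ω) ∈ Q := hy1 ▸ hPQ x
    have hy3 : (((α⁻¹ : MulAut T) y : T) : Ω) = e₁ x := by simp [y]
    have hm : e₁ x ∈ autImage α⁻¹ Q := ⟨y, hy2, hy3⟩
    refine ⟨hm, ?_⟩
    have h := hce y hy2 ⟨y, hy2, rfl⟩
    refine (congrArg c (Subtype.ext hy3.symm)).trans (h.trans ?_)
    exact congrArg (fun t : T => (((α⁻¹ : MulAut T) t : T) : Ω))
      (Subtype.ext (congrArg e₂ (Subtype.ext hy1.symm)))
  refine ⟨mul_mem hβ hα, _, E.comp_mem he₁ hc fun x => (hy x).1, fun x => ?_⟩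
  rw [hχ, h₂, MulAut.mul_apply]
  refine congrArg (fun t : T => (β t : Ω)) ((α⁻¹ : MulAut T).injective ?_)
  rw [MulAut.inv_apply_self]
  exact Subtype.ext (hy x).2.symm

theorem isCentric_of_cen (hd : Data F E p K) {R : Subgroup Ω} (hR : Cen F T R) : E.IsCentric R := by
  refine ⟨hR.1, ?_⟩
  rintro Q ⟨φ, hφ, rfl⟩
  exact hR.2 φ (hd.weak.2.2.1 R hφ)

theorem cen_self [Finite S] (hT : F.StronglyClosed T) : Cen F T T := by
  refine ⟨le_rfl, fun φ hφ => ?_⟩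
  have : Finite T := finite_of_le hT.1
  rw [eq_of_le_card (show φ.range ≤ T by rintro _ ⟨x, rfl⟩; exact hT.2 T le_rfl φ hφ x)
    (SatCriterion.card_range hφ).ge]
  exact inf_le_left

variable [Finite S] [Fact p.Prime]

/-- An automorphism of `T` whose restriction to a centric subgroup is in `E` lies in `K`. -/
theorem mem_K_of_restrict (hS : IsPGroup p S) (hd : Data F E p K) :
    ∀ (R : Subgroup Ω) (hR : Cen F T R) (β : MulAut T), β ∈ F.autGroup T →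
      (T.subtype.comp β.toMonoidHom).comp (Subgroup.inclusion hR.1) ∈ E.Hom R → β ∈ K := by
  have hT := hd.closed
  have : Finite T := finite_of_le hT.1
  have hTp : IsPGroup p T := hS.to_le hT.1
  intro R
  induction hk : Nat.card T - Nat.card R using Nat.strong_induction_on generalizing R with
  | _ k ih =>
    subst hk
    intro hR β hβ hmem
    rcases hR.1.eq_or_lt with rfl | hlt
    · exact hd.autE ((mem_autGroup le_rfl).2 (mem_of_agree le_rfl hmem fun x => rfl))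
    have hP := isCentric_of_cen hd hR
    set N := normalizerIn T R
    have hNT : N ≤ T := normalizerIn_le T R
    have : Finite N := finite_of_le hNT
    have hlt₁ : R < N := lt_normalizer_inf hTp hlt
    have hcard : Nat.card R < Nat.card N :=
      lt_of_not_ge fun hge => hlt₁.ne (eq_of_le_card hlt₁.le hge)
    have hle : Nat.card N ≤ Nat.card T := Subgroup.card_le_of_le hNT
    set φ := (T.subtype.comp β.toMonoidHom).comp (Subgroup.inclusion hP.1)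
    let e := toIso φ hmem (rfl : φ.range = φ.range)
    have he : IsIso E e := isIso_toIso φ hmem rfl
    have hQ : E.IsCentric φ.range := conj_of_isCentric hP ⟨φ, hmem, rfl⟩
    obtain ⟨θ, hθ, hθe⟩ := receptive_extend (fullyCentralized_receptive hTp hd.weak.1
      (fullyCentralized_of_centric (show E ≤ E from fun _ => subset_rfl) hQ)) he
    let βN := (T.subtype.comp β.toMonoidHom).comp (Subgroup.inclusion hNT)
    have hβe : ∀ (x : R) (hx : (x : Ω) ∈ N), βN ⟨x, hx⟩ = (e x : Ω) := fun x hx => rfl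
    have hext : N ≤ extender T R (φ.range.subtype.comp e.toMonoidHom) := fun g hg => by
      refine (mem_extender_iso e).2 ⟨hg, ?_⟩
      obtain ⟨hh, heq⟩ := extension_conj (e := e) hlt₁.le hβe (g := ⟨g, hg⟩) hg.2
      rw [heq]
      exact conjAut_mem_autInducedBy (Subtype.coe_prop _) hh
    let ψ := θ.comp (Subgroup.inclusion hext)
    have hψ : ψ ∈ E.Hom N := restrict_mem hext hθ
    have hψe : ∀ (x : R) (hx : (x : Ω) ∈ N), ψ ⟨x, hx⟩ = (e x : Ω) := fun x hx => hθe x _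
    have hrange : ∀ g : N, ∃ g' : N, βN g' = ψ g := by
      intro g
      obtain ⟨hh, heq⟩ := extension_conj (e := e) hlt₁.le hψe (g := g) g.2.2
      obtain ⟨hh', heq'⟩ := extension_conj (e := e) hlt₁.le hβe (g := g) g.2.2
      have hc : (βN g)⁻¹ * ψ g ∈ φ.range := by
        refine centralizer_le_of_isCentric hQ (mem_centralizerIn.2
          ⟨T.mul_mem (T.inv_mem (Subtype.coe_prop _)) (val_mem hψ g), fun x hx => ?_⟩)
        have h2 := congrArg Subtype.val (DFunLike.congr_fun (heq'.symm.trans heq) ⟨x, hx⟩)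
        rw [conjAut_apply, conjAut_apply] at h2
        calc x * ((βN g)⁻¹ * ψ g) = (βN g)⁻¹ * (βN g * x * (βN g)⁻¹) * ψ g := by group
          _ = (βN g)⁻¹ * (ψ g * x * (ψ g)⁻¹) * ψ g := by rw [h2]
          _ = (βN g)⁻¹ * ψ g * x := by group
      obtain ⟨x, hx⟩ := hc
      refine ⟨g * ⟨x, hlt₁.le x.2⟩, ?_⟩
      rw [map_mul, show βN ⟨x, hlt₁.le x.2⟩ = φ x from rfl, hx, mul_inv_cancel_left]
    have hval : ∀ g : N, (((β⁻¹ : MulAut T) ⟨ψ g, val_mem hψ g⟩ : T) : Ω) ∈ N := fun g => by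
      obtain ⟨g', hg'⟩ := hrange g
      rw [show (⟨ψ g, val_mem hψ g⟩ : T) = β ⟨g', hNT g'.2⟩ from Subtype.ext hg'.symm,
        MulAut.inv_apply_self]
      exact g'.2
    let γ₀ : N →* N := ((T.subtype.comp (β⁻¹ : MulAut T).toMonoidHom).comp
      (ψ.codRestrict T (val_mem hψ))).codRestrict N hval
    have hinj : Function.Injective γ₀ := fun a b hab => E.injective_of_mem hψ
      (congrArg Subtype.val ((β⁻¹ : MulAut T).injective (Subtype.ext (congrArg Subtype.val hab :))) :)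
    let γ : MulAut N := MulEquiv.ofBijective γ₀ (Finite.injective_iff_bijective.1 hinj)
    haveI : (R.subgroupOf N).Normal := Subgroup.normal_subgroupOf_of_le_normalizer inf_le_right
    obtain ⟨a, ha⟩ : ∃ a : ℕ, γ ^ p ^ a = 1 := by
      refine Residual.fix_pPower (hTp.to_le hNT) (R.subgroupOf N) (fun c hc => ?_) fun x hx => ?_
      · refine centralizer_le_of_isCentric hP (mem_centralizerIn.2 ⟨hNT c.2, fun x hx => ?_⟩)
        exact congrArg Subtype.val (hc ⟨x, hlt₁.le hx⟩ hx)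
      · apply Subtype.ext
        show (((β⁻¹ : MulAut T) ⟨ψ x, val_mem hψ x⟩ : T) : Ω) = x
        rw [show (⟨ψ x, val_mem hψ x⟩ : T) = β ⟨x, hNT x.2⟩ from
          Subtype.ext ((hψe ⟨x, hx⟩ x.2).trans rfl), MulAut.inv_apply_self]
    have hpow : ∀ j : ℕ, Cls F E (N.subtype.comp (γ ^ j : MulAut N).toMonoidHom) (β⁻¹ ^ j) := by
      intro j
      induction j with
      | zero => exact cls_of_mem (subtype_mem hNT)
      | succ j ihj =>
        rw [pow_succ' (β⁻¹)]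
        refine ihj.comp hd (⟨inv_mem hβ, ψ, hψ, fun x => rfl⟩ :
          Cls F E (N.subtype.comp γ.toMonoidHom) β⁻¹) (fun x => ((γ ^ j) x).2) fun x => ?_
        show (((γ ^ (j + 1)) x : N) : Ω) = (γ ((γ ^ j) x) : Ω)
        rw [pow_succ', MulAut.mul_apply]
    obtain ⟨-, g, hg, hge⟩ := hpow (p ^ a)
    refine hd.root β hβ a (ih _ (by omega) N rfl (hR.mono hlt₁.le hNT) _ (pow_mem hβ _) ?_)
    refine mem_of_agree le_rfl hg fun x => ?_
    have h1 : (⟨x, hNT x.2⟩ : T) = (β⁻¹ ^ p ^ a) ⟨g x, val_mem hg x⟩ := by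
      refine Subtype.ext (Eq.trans ?_ (hge x))
      rw [ha]
      rfl
    show (((β ^ p ^ a) ⟨x, hNT x.2⟩ : T) : Ω) = g x
    rw [h1, inv_pow, MulAut.apply_inv_self]

theorem cls_unique (hS : IsPGroup p S) (hd : Data F E p K) {R : Subgroup Ω} (hR : Cen F T R)
    {φ : R →* Ω} {α α' : MulAut T} (h : Cls F E φ α) (h' : Cls F E φ α') (hα : α ∈ K) :
    α' ∈ K := by
  obtain ⟨hαF, φ₀, hφ₀, he⟩ := h
  obtain ⟨hα'F, φ₁, hφ₁, he'⟩ := h'
  have hR₀ : Cen F T φ₀.range := hR.image hd.closed (hd.weak.2.2.1 R hφ₀)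
  have hmem : α'⁻¹ * α ∈ K := by
    refine mem_K_of_restrict hS hd φ₀.range hR₀ _ (mul_mem (inv_mem hα'F) hαF) ?_
    obtain ⟨ω, hω, hωe⟩ := E.inv_mem hφ₀
    refine mem_of_comp hω hφ₁ (fun y => ?_) fun y => ?_
    · obtain ⟨_, x, rfl⟩ := y
      rw [hωe]
      exact x.2
    · obtain ⟨_, x, rfl⟩ := y
      show (((α'⁻¹ * α) ⟨φ₀ x, _⟩ : T) : Ω) = _
      rw [show φ₁ ⟨ω ⟨φ₀ x, x, rfl⟩, _⟩ = φ₁ x from congrArg φ₁ (Subtype.ext (hωe x)),
        MulAut.mul_apply,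
        show α ⟨φ₀ x, _⟩ = α' ⟨φ₁ x, val_mem hφ₁ x⟩ from
          Subtype.ext ((he x).symm.trans (he' x)), MulAut.inv_apply_self]
  have h2 : α' = α * (α'⁻¹ * α)⁻¹ := by group
  exact h2 ▸ mul_mem hα (inv_mem hmem)

theorem InK.mem (hS : IsPGroup p S) (hd : Data F E p K) {R : Subgroup Ω} (hR : Cen F T R)
    {φ : R →* Ω} {α : MulAut T} (h : InK F E K φ) (hα : Cls F E φ α) : α ∈ K := by
  obtain ⟨β, hβ, hβc⟩ := h
  exact cls_unique hS hd hR hβc hα hβ

/-- Membership propagates upwards. -/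
theorem InK.up (hS : IsPGroup p S) (hd : Data F E p K) {R N : Subgroup Ω} (hR : Cen F T R)
    (hle : R ≤ N) (hN : N ≤ T) {φ : N →* Ω} (hφ : φ ∈ F.Hom N)
    (h : InK F E K (φ.comp (Subgroup.inclusion hle))) : InK F E K φ := by
  obtain ⟨α, hα⟩ := cls_exists hd hN hφ
  exact ⟨α, h.mem hS hd hR (hα.restrict hle fun x => rfl), hα⟩

/-- Elements of `S` act on `T` through `K`. -/
theorem autInducedBy_le_K (hS : IsPGroup p S) (hd : Data F E p K) : autInducedBy S T ≤ K := by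
  intro x hx
  obtain ⟨a, ha⟩ := isPGroup_autInducedBy hS T ⟨x, hx⟩
  refine hd.root x (autInducedBy_le_autGroup hd.closed.1 hx) a ?_
  rw [show x ^ p ^ a = 1 from congrArg Subtype.val ha]
  exact one_mem _

/-- The maps of class in `K`. -/
def kerSys (hS : IsPGroup p S) (hd : Data F E p K) : FusionSystem S where
  Hom P := {φ | φ ∈ F.Hom P ∧
    ∀ (R : Subgroup Ω) (h : R ≤ P), Cen F T R → InK F E K (φ.comp (Subgroup.inclusion h))}
  le_of_mem h := F.le_of_mem h.1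
  injective_of_mem h := F.injective_of_mem h.1
  conj_mem := by
    intro P g hP hg
    have hgN : g ∈ Subgroup.normalizer (T : Set Ω) := le_normalizer_of_stronglyClosed hd.closed hg
    have h1 := conjAut_mem_autInducedBy hg hgN
    refine ⟨F.conj_mem hP hg, fun R h hR =>
      ⟨_, autInducedBy_le_K hS hd h1, cls_of_aut hR.1 (autInducedBy_le_autGroup hd.closed.1 h1)
        fun x => ?_⟩⟩
    rw [conjAut_apply]
    rfl
  comp_mem := by
    intro P Q φ ψ h h' hm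
    refine ⟨F.comp_mem h.1 h'.1 hm, fun R hR hRc => ?_⟩
    obtain ⟨α, hα, hαc⟩ := h.2 R hR hRc
    have hle : (φ.comp (Subgroup.inclusion hR)).range ≤ Q := by
      rintro _ ⟨x, rfl⟩; exact hm _
    obtain ⟨β, hβ, hβc⟩ := h'.2 _ hle (hRc.image hd.closed (restrict_mem hR h.1))
    exact ⟨β * α, mul_mem hβ hα, hαc.comp hd hβc (fun x => ⟨x, rfl⟩) fun x => rfl⟩
  inv_mem := by
    intro P φ h
    obtain ⟨ψ, hψ, hψe⟩ := F.inv_mem h.1
    refine ⟨ψ, ⟨hψ, fun R hR hRc => ?_⟩, hψe⟩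
    have h1 := hRc.image hd.closed (restrict_mem hR hψ)
    have hle : (ψ.comp (Subgroup.inclusion hR)).range ≤ P := by
      rintro _ ⟨x, rfl⟩
      obtain ⟨z, hz⟩ := hR x.2
      show ψ (Subgroup.inclusion hR x) ∈ P
      rw [show Subgroup.inclusion hR x = ⟨φ z, z, rfl⟩ from Subtype.ext hz.symm, hψe]
      exact z.2
    obtain ⟨β, hβ⟩ := cls_exists hd hRc.1 (restrict_mem hR hψ)
    obtain ⟨α, hα, hαc⟩ := h.2 _ hle h1
    have h2 : Cls F E R.subtype (α * β) := hβ.comp hd hαc (fun x => ⟨x, rfl⟩) fun x => by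
      obtain ⟨z, hz⟩ := hR x.2
      show (x : Ω) = φ ⟨ψ (Subgroup.inclusion hR x), _⟩
      rw [← hz]
      refine congrArg φ (Subtype.ext ?_)
      show (z : Ω) = ψ (Subgroup.inclusion hR x)
      rw [show Subgroup.inclusion hR x = ⟨φ z, z, rfl⟩ from Subtype.ext hz.symm, hψe]
    have h3 := cls_unique hS hd hRc (cls_of_mem (subtype_mem hRc.1)) h2 (one_mem K)
    have h4 : β = α⁻¹ * (α * β) := by group
    exact ⟨β, h4 ▸ mul_mem (inv_mem hα) h3, hβ⟩

/-- The subgroups meeting `T` in a centric subgroup. -/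
def H (F : FusionSystem S) (T : Subgroup Ω) : Set (Subgroup Ω) :=
  {P | P ≤ S ∧ Cen F T (P ⊓ T)}

omit [Finite S] in
theorem mem_H_of_conj (hT : F.StronglyClosed T) {P : Subgroup Ω} (hP : P ∈ H F T) {φ : P →* Ω}
    (hφ : φ ∈ F.Hom P) : φ.range ∈ H F T := by
  have h1 := hP.2.image hT (restrict_mem (inf_le_left : P ⊓ T ≤ P) hφ)
  refine ⟨range_le hφ, h1.mono (fun y hy => ?_) inf_le_right⟩
  obtain ⟨x, rfl⟩ := id hy
  exact ⟨⟨_, rfl⟩, h1.1 hy⟩

theorem mem_kerSys (hS : IsPGroup p S) (hd : Data F E p K) {P : Subgroup Ω} (hP : P ∈ H F T)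
    {φ : P →* Ω} (hφ : φ ∈ F.Hom P)
    (h : InK F E K (φ.comp (Subgroup.inclusion (inf_le_left : P ⊓ T ≤ P)))) :
    φ ∈ (kerSys hS hd).Hom P := by
  obtain ⟨α, hα, hαc⟩ := h
  exact ⟨hφ, fun R hR hRc => ⟨α, hα, hαc.restrict (le_inf hR hRc.1) fun x => rfl⟩⟩

/-- The subsystem generated by the maps of class in `K` on the members of `H`. -/
def sub₀ (hS : IsPGroup p S) (hd : Data F E p K) : FusionSystem S where
  Hom P := {φ | φ ∈ (kerSys hS hd).Hom P ∧ ∀ E' : FusionSystem S,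
    (∀ Q ∈ H F T, (kerSys hS hd).Hom Q ⊆ E'.Hom Q) → φ ∈ E'.Hom P}
  le_of_mem h := F.le_of_mem h.1.1
  injective_of_mem h := F.injective_of_mem h.1.1
  conj_mem hP hg := ⟨(kerSys hS hd).conj_mem hP hg, fun E' _ => E'.conj_mem hP hg⟩
  comp_mem h h' hm := ⟨(kerSys hS hd).comp_mem h.1 h'.1 hm,
    fun E' hE' => E'.comp_mem (h.2 E' hE') (h'.2 E' hE') hm⟩
  inv_mem := by
    intro P φ h
    obtain ⟨ψ, hψ, hψe⟩ := (kerSys hS hd).inv_mem h.1
    refine ⟨ψ, ⟨hψ, fun E' hE' => ?_⟩, hψe⟩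
    obtain ⟨ψ', hψ', hψe'⟩ := E'.inv_mem (h.2 E' hE')
    refine mem_of_agree le_rfl hψ' ?_
    rintro ⟨_, x, rfl⟩
    rw [hψe x, hψe' x]

variable (hS : IsPGroup p S) (hd : Data F E p K)

theorem sub₀_sub : (sub₀ hS hd).IsSubsystemOf F := fun _ _ h => h.1.1

theorem mem_sub₀ {P : Subgroup Ω} (hP : P ∈ H F T) {φ : P →* Ω} (hφ : φ ∈ F.Hom P)
    (h : InK F E K (φ.comp (Subgroup.inclusion (inf_le_left : P ⊓ T ≤ P)))) :
    φ ∈ (sub₀ hS hd).Hom P :=
  ⟨mem_kerSys hS hd hP hφ h, fun _ hE' => hE' P hP (mem_kerSys hS hd hP hφ h)⟩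

include hd in
theorem exists_restrict (α : MulAut S) (hα : α ∈ F.autGroup S) :
    ∃ β : MulAut T, β ∈ F.autGroup T ∧ ∀ t : T, (β t : Ω) = (α ⟨t, hd.closed.1 t.2⟩ : Ω) := by
  have hT := hd.closed
  have : Finite T := finite_of_le hT.1
  obtain ⟨β, hβ⟩ := exists_restrict_aut hT.1 (β := α) fun x =>
    map_mem_of_stronglyClosed hT ((mem_autGroup le_rfl).1 hα) ⟨x, hT.1 x.2⟩ x.2
  exact ⟨β, (mem_autGroup hT.1).2 (mem_of_agree hT.1 ((mem_autGroup le_rfl).1 hα) hβ), hβ⟩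

include hS hd in
/-- Every class is realized on `S`. -/
theorem exists_lift {β : MulAut T} (hβ : β ∈ F.autGroup T) :
    ∃ α ∈ F.autGroup S, ∃ n ∈ K, ∀ t : T, ((n * β) t : Ω) = (α ⟨t, hd.closed.1 t.2⟩ : Ω) := by
  have hT := hd.closed
  have : Finite T := finite_of_le hT.1
  have := finite_mulAut hT.1
  have hSN : S ≤ Subgroup.normalizer (T : Set Ω) := le_normalizer_of_stronglyClosed hT
  have : Finite (normalizerIn S T) := finite_of_le (normalizerIn_le S T)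
  have hTn : F.IsFullyNormalized T := ⟨hT.1, fun Q hQ => Subgroup.card_le_of_le
    ((normalizerIn_le S Q).trans (le_inf le_rfl hSN)) ⟩
  obtain ⟨hA, hrec⟩ := fullyNormalized_props hS hd.weak.2.1 hTn
  obtain ⟨-, hsyl⟩ := isFullyAutomized_iff.1 hA
  obtain ⟨n, hn, hnx⟩ := hsyl.exists_frattini hd.le
    (fun a ha => mem_normalizer_of_conj_mem fun k hk => hd.norm a ha k hk) hβ
  have hnβ : IsIso F ((n * β : MulAut T) : T ≃* T) :=
    (mem_autGroup hT.1).1 (mul_mem (hd.le hn) hβ)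
  obtain ⟨ψ, hψ, hψe⟩ := receptive_extend hrec hnβ
  have hle : S ≤ extender S T (T.subtype.comp ((n * β : MulAut T) : T ≃* T).toMonoidHom) := by
    intro g hg
    refine (mem_extender_iso _).2 ⟨⟨hg, hSN hg⟩, ?_⟩
    rw [congr_eq_conj]
    exact (hnx _ ⟨conjAut_mem_autInducedBy hg (hSN hg),
      autInducedBy_le_K hS hd (conjAut_mem_autInducedBy hg (hSN hg))⟩).1
  obtain ⟨α, hα, hαe⟩ := exists_aut_of_self_map (restrict_mem hle hψ) fun x => val_mem hψ _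
  exact ⟨α, hα, n, hn, fun t => ((hαe _).trans (hψe t _)).symm⟩

include hS in
theorem decomposes_H {P : Subgroup Ω} (hP : P ∈ H F T) {φ : P →* Ω} (hφ : φ ∈ F.Hom P) :
    Decomposes (sub₀ hS hd) F φ := by
  obtain ⟨β, hβc⟩ := cls_exists hd (inf_le_right : P ⊓ T ≤ T) (restrict_mem inf_le_left hφ)
  obtain ⟨α, hα, n, hn, hαe⟩ := exists_lift hS hd hβc.1
  let φ₁ := (S.subtype.comp (α⁻¹ : MulAut S).toMonoidHom).comp (φ.codRestrict S (val_mem hφ))
  have hφ₁ : φ₁ ∈ F.Hom P :=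
    F.comp_mem hφ ((mem_autGroup le_rfl).1 (inv_mem hα)) (val_mem hφ)
  have hc : Cls F E ((T.subtype.comp ((n * β)⁻¹ : MulAut T).toMonoidHom)) (n * β)⁻¹ :=
    cls_of_aut le_rfl (inv_mem (mul_mem (hd.le hn) hβc.1)) fun x => rfl
  have hmem : ∀ x : ↥(P ⊓ T), φ (Subgroup.inclusion inf_le_left x) ∈ T := fun x =>
    map_mem_of_stronglyClosed hd.closed hφ _ x.2.2
  have hcls : Cls F E (φ₁.comp (Subgroup.inclusion (inf_le_left : P ⊓ T ≤ P))) ((n * β)⁻¹ * β) := by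
    refine hβc.comp hd hc hmem fun x => ?_
    show ((α⁻¹ : MulAut S) ⟨φ _, _⟩ : Ω) =
      (((n * β)⁻¹ : MulAut T) ⟨φ (Subgroup.inclusion inf_le_left x), hmem x⟩ : Ω)
    obtain ⟨t, ht⟩ := (n * β : MulAut T).surjective ⟨_, hmem x⟩
    rw [← ht, MulAut.inv_apply_self,
      show (⟨φ (Subgroup.inclusion inf_le_left x), _⟩ : S) = α ⟨t, hd.closed.1 t.2⟩ from
        Subtype.ext ((congrArg Subtype.val ht).symm.trans (hαe t)), MulAut.inv_apply_self]
  have hK : (n * β)⁻¹ * β ∈ K := by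
    have h := hd.norm _ (inv_mem hβc.1) _ (inv_mem hn)
    simpa [mul_assoc] using h
  refine ⟨α, hα, φ₁, mem_sub₀ hS hd hP hφ₁ ⟨_, hK, hcls⟩, fun x hx => ?_⟩
  show φ x = (α ((α⁻¹ : MulAut S) ⟨φ x, val_mem hφ x⟩) : Ω)
  rw [MulAut.apply_inv_self]

theorem kerSys_autInvariant : AutInvariant (kerSys hS hd) F := by
  intro P P' φ hφ α hα a ha χ hχ
  have hP := src_le hφ
  have hP' : P' ≤ S := fun y hy => by
    obtain ⟨x, hx⟩ := a.surjective ⟨y, hy⟩
    rw [← show (a x : Ω) = y from congrArg Subtype.val hx, ha x]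
    exact Subtype.coe_prop _
  have haF : IsIso F a := isIso_of_agree hP ((mem_autGroup le_rfl).1 hα) fun x => ha x
  have hχF : χ ∈ F.Hom P' := by
    refine mem_of_comp (F.comp_mem (haF.symm) hφ.1 fun y => (a.symm y).2)
      ((mem_autGroup le_rfl).1 hα) (fun y => val_mem hφ.1 _) fun y => ?_
    obtain ⟨x, rfl⟩ := a.surjective y
    rw [hχ]
    exact congrArg (fun y => ((α : MulAut S) ⟨φ y, val_mem hφ y⟩ : Ω)) (a.symm_apply_apply x).symm
  refine ⟨hχF, fun R' hR'P hR'c => ?_⟩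
  obtain ⟨β, hβ, hβe⟩ := exists_restrict hd α hα
  obtain ⟨R, e, he, hee⟩ : ∃ (R : Subgroup Ω) (e : R' ≃* R), IsIso F e ∧
      ∀ y : R', (e y : Ω) = (a.symm ⟨y, hR'P y.2⟩ : Ω) := by
    obtain ⟨e, he, hee⟩ := exists_iso_restrict hR'P haF.symm
    exact ⟨_, e, he, hee⟩
  have hRP : R ≤ P := fun y hy => by
    obtain ⟨x, hx⟩ := e.surjective ⟨y, hy⟩
    rw [← show (e x : Ω) = y from congrArg Subtype.val hx, hee]
    exact Subtype.coe_prop _
  have hRc : Cen F T R := by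
    have h1 := hR'c.image hd.closed he
    rwa [iso_range] at h1
  obtain ⟨δ, hδ, hδc⟩ := hφ.2 R hRP hRc
  have hα' : Cls F E (R.subtype.comp e.toMonoidHom) β⁻¹ := by
    refine cls_of_aut hR'c.1 (inv_mem hβ) fun y => ?_
    obtain ⟨x, hx⟩ := a.surjective ⟨y, hR'P y.2⟩
    have h1 : (e y : Ω) = x := by rw [hee, ← hx, a.symm_apply_apply]
    have hxT : (x : Ω) ∈ T := h1 ▸ hRc.1 (e y).2
    show (e y : Ω) = _
    rw [h1, show (⟨(y : Ω), hR'c.1 y.2⟩ : T) = β ⟨x, hxT⟩ from Subtype.ext (by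
      rw [hβe]; exact (congrArg Subtype.val hx).symm.trans (ha x)), MulAut.inv_apply_self]
  have hmid := hα'.comp hd hδc (fun y => (e y).2)
    (χ := (φ.comp (Subgroup.inclusion hRP)).comp e.toMonoidHom) fun y => rfl
  have hT' : Cls F E (T.subtype.comp β.toMonoidHom) β := cls_of_aut le_rfl hβ fun _ => rfl
  have hmem : ∀ y : R', φ (Subgroup.inclusion hRP (e y)) ∈ T := fun y =>
    map_mem_of_stronglyClosed hd.closed hφ.1 _ (hRc.1 (e y).2)
  refine ⟨β * δ * β⁻¹, hd.norm β hβ δ hδ, ?_⟩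
  rw [mul_assoc]
  refine hmid.comp hd hT' hmem fun y => ?_
  obtain ⟨x, hx⟩ := a.surjective ⟨y, hR'P y.2⟩
  show χ ⟨y, hR'P y.2⟩ = (β ⟨φ (Subgroup.inclusion hRP (e y)), hmem y⟩ : Ω)
  rw [← hx, hχ, hβe]
  refine congrArg (fun t : S => (α t : Ω)) (Subtype.ext (congrArg φ (Subtype.ext ?_)))
  show (x : Ω) = e y
  rw [hee, ← hx, a.symm_apply_apply]

include hd in
theorem autImage_mem_H {α : MulAut S} (hα : α ∈ F.autGroup S) {P : Subgroup Ω} (hP : P ∈ H F T) :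
    autImage α P ∈ H F T := by
  obtain ⟨e, he, -⟩ := exists_iso_restrict (F := F) hP.1 ((mem_autGroup le_rfl).1 hα)
  have h := mem_H_of_conj hd.closed hP he
  rwa [iso_range] at h

theorem sub₀_autInvariant : AutInvariant (sub₀ hS hd) F := by
  intro P P' φ hφ α hα a ha χ hχ
  have hP := src_le hφ
  refine ⟨kerSys_autInvariant hS hd P P' φ hφ.1 α hα a ha χ hχ, fun E' hE' => ?_⟩
  have hP' : P' ≤ S := fun y hy => by
    obtain ⟨x, hx⟩ := a.surjective ⟨y, hy⟩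
    rw [← show (a x : Ω) = y from congrArg Subtype.val hx, ha x]
    exact Subtype.coe_prop _
  obtain ⟨E'', hE'', -⟩ := exists_push (e := (α : S ≃* S).symm) E' le_rfl (α : S ≃* S).symm
    fun x => rfl
  refine hE''.2 P φ (hφ.2 E'' fun Q hQ ψ hψ => ?_) P' χ hP' fun y => ?_
  · have hQS : Q ≤ S := hQ.1
    obtain ⟨χ₁, hχ₁, hχ₁e⟩ := (kerSys_autInvariant hS hd).exists_transport le_rfl hα hψ
    refine hE''.1 _ χ₁ (hE' _ (autImage_mem_H hd hα hQ) hχ₁) Q ψ hQS fun y => ?_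
    have hm : (α ⟨y, hQS y.2⟩ : Ω) ∈ autImage α Q := ⟨⟨y, hQS y.2⟩, y.2, rfl⟩
    exact ⟨α ⟨y, hQS y.2⟩, α ⟨ψ y, val_mem hψ y⟩, hm, by simp, (hχ₁e ⟨y, hQS y.2⟩ y.2 hm).symm,
      by simp⟩
  · obtain ⟨x, rfl⟩ := a.surjective y
    exact ⟨⟨x, hP x.2⟩, ⟨φ x, val_mem hφ x⟩, x.2, (ha x).symm, rfl, hχ x⟩

include hd in
theorem sub₀_restrict_mem {P : Subgroup Ω} (hP : P ∈ H F T) {φ : P →* Ω}
    (hφ : φ ∈ (sub₀ hS hd).Hom P) :
    InK F E K (φ.comp (Subgroup.inclusion (inf_le_left : P ⊓ T ≤ P))) :=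
  hφ.1.2 _ inf_le_left hP.2

include hS hd in
/-- A subgroup outside `H` has a conjugate meeting `T` in a subgroup with a larger centralizer. -/
theorem exists_conj_notLe {P : Subgroup Ω} (hP : P ≤ S) (hPH : P ∉ H F T) :
    ∃ Q, F.IsConj P Q ∧ ¬ centralizerIn T (Q ⊓ T) ≤ Q := by
  have hF := hd.weak.2.1
  have hT := hd.closed
  set R := P ⊓ T
  have hRS : R ≤ S := inf_le_left.trans hP
  obtain ⟨R₀, hRR₀, hR₀⟩ := exists_fullyNormalized (F := F) hRS
  obtain ⟨e₀, he₀⟩ := isConj_iff_iso.1 hRR₀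
  obtain ⟨γ, hγ, ψ, hψ, -, hψe⟩ := exists_extend_fullyNormalized hS hF hR₀ he₀
  let e := e₀.trans γ
  have he : IsIso F e := he₀.trans ((mem_autGroup hR₀.1).1 hγ)
  have hR₀T : R₀ ≤ T := fun y hy => by
    obtain ⟨x, hx⟩ := e.surjective ⟨y, hy⟩
    rw [← show (e x : Ω) = y from congrArg Subtype.val hx]
    exact hT.2 R inf_le_right _ he x
  have hPN : P ≤ normalizerIn S R := fun g hg => ⟨hP hg, by
    have : Finite R := finite_of_le hRS
    refine mem_normalizer_of_conj_mem fun x hx => ⟨?_, ?_⟩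
    · exact P.mul_mem (P.mul_mem hg hx.1) (P.inv_mem hg)
    · exact conj_mem_of_mem_normalizer (le_normalizer_of_stronglyClosed hT (hP hg)) hx.2⟩
  have hψ' := restrict_mem hPN hψ
  refine ⟨_, ⟨_, hψ', rfl⟩, fun hle => hPH ⟨hP, inf_le_right, fun φ hφ => ?_⟩⟩
  have hR₀le : centralizerIn T R₀ ≤ R₀ := by
    intro c hc
    obtain ⟨hcT, hcc⟩ := mem_centralizerIn.1 hc
    have hsub : ∀ y ∈ (ψ.comp (Subgroup.inclusion hPN)).range ⊓ T, y ∈ R₀ := by
      rintro _ ⟨⟨x, rfl⟩, hxT⟩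
      obtain ⟨ω, hω, hωe⟩ := F.inv_mem hψ'
      have hx1 : ω ⟨_, x, rfl⟩ ∈ T := map_mem_of_stronglyClosed hT hω ⟨_, x, rfl⟩ hxT
      rw [hωe x] at hx1
      show ψ ⟨(x : Ω), hPN x.2⟩ ∈ R₀
      rw [show ψ ⟨(x : Ω), hPN x.2⟩ = (e ⟨x, x.2, hx1⟩ : Ω) from hψe ⟨x, x.2, hx1⟩ _]
      exact Subtype.coe_prop _
    have hc' : c ∈ (ψ.comp (Subgroup.inclusion hPN)).range :=
      hle (mem_centralizerIn.2 ⟨hcT, fun y hy => hcc y (hsub y hy)⟩)
    exact hsub c ⟨hc', hcT⟩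
  let f := toIso φ hφ (rfl : φ.range = φ.range)
  obtain ⟨γ', hγ', ψ₁, hψ₁, -, hψ₁e⟩ := exists_extend_fullyNormalized hS hF hR₀
    ((isIso_toIso φ hφ rfl).symm.trans he : IsIso F (f.symm.trans e))
  intro c hc
  have hle' : φ.range ≤ normalizerIn S φ.range := le_normalizerIn (range_le hφ)
  have hcN : c ∈ normalizerIn S φ.range :=
    centralizerIn_le_normalizerIn S _ (mem_centralizerIn.2 ⟨hT.1 hc.1, (mem_centralizerIn.1 hc).2⟩)
  have h1 : ψ₁ ⟨c, hcN⟩ ∈ R₀ := hR₀le (mem_centralizerIn.2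
    ⟨map_mem_of_stronglyClosed hT hψ₁ _ hc.1, (mem_centralizerIn.1 (extension_centralizer hle'
      (val_mem hψ₁) (e := (f.symm.trans e).trans γ') (fun x hx => hψ₁e x hx)
      (g := ⟨c, hcN⟩) (mem_centralizerIn.2 ⟨hT.1 hc.1, (mem_centralizerIn.1 hc).2⟩))).2⟩)
  obtain ⟨y, hy⟩ := ((f.symm.trans e).trans γ').surjective ⟨_, h1⟩
  have h2 : ψ₁ ⟨y, hle' y.2⟩ = ψ₁ ⟨c, hcN⟩ :=
    (hψ₁e y _).trans (congrArg Subtype.val hy)
  have h3 := congrArg Subtype.val (F.injective_of_mem hψ₁ h2)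
  simp only at h3
  exact h3 ▸ y.2

include hS hd in
/-- Such a subgroup has an element outside it acting as an element of the core. -/
theorem exists_core_elt {G : FusionSystem S} (hG : G.IsSubsystemOf F) {Q : Subgroup Ω} (hQ : Q ≤ S)
    (h : ¬ centralizerIn T (Q ⊓ T) ≤ Q) :
    ∃ g, ∃ hg : g ∈ normalizerIn S Q, g ∉ Q ∧ conjAut Q hg.2 ∈ SatCriterion.core G p Q := by
  have hT := hd.closed
  have hSN : S ≤ Subgroup.normalizer (T : Set Ω) := le_normalizer_of_stronglyClosed hT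
  have hTS := hT.1
  have hn : Q ≤ Subgroup.normalizer ((centralizerIn T (Q ⊓ T) : Subgroup Ω) : Set Ω) := by
    intro x hx
    have : Finite (centralizerIn T (Q ⊓ T)) :=
      finite_of_le ((centralizerIn_le T _).trans hTS)
    refine mem_normalizer_of_conj_mem fun c hc => mem_centralizerIn.2
      ⟨conj_mem_of_mem_normalizer (hSN (hQ hx)) hc.1, fun y hy => ?_⟩
    have h1 : x⁻¹ * y * x ∈ Q ⊓ T := ⟨Q.mul_mem (Q.mul_mem (Q.inv_mem hx) hy.1) hx, by
      simpa using conj_mem_of_mem_normalizer (hSN (S.inv_mem (hQ hx))) hy.2⟩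
    have h2 := (mem_centralizerIn.1 hc).2 _ h1
    calc y * (x * c * x⁻¹) = x * (x⁻¹ * y * x * c) * x⁻¹ := by group
      _ = x * (c * (x⁻¹ * y * x)) * x⁻¹ := by rw [h2]
      _ = x * c * x⁻¹ * y := by group
  obtain ⟨g, hgU, hgN, hgQ⟩ : ∃ g, g ∈ centralizerIn T (Q ⊓ T) ∧
      g ∈ Subgroup.normalizer (Q : Set Ω) ∧ g ∉ Q := by
    by_contra hne
    push Not at hne
    exact h (le_of_centric_radical_aux hS hQ ((centralizerIn_le T _).trans hTS) hn hne)
  have hgS : g ∈ S := hTS hgU.1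
  refine ⟨g, ⟨hgS, hgN⟩, hgQ, ?_⟩
  have hl : conjAut Q hgN ∈ ResidualNormal.layer Q (Q ⊓ T) := by
    refine ⟨fun x hx => Subtype.ext ?_, fun x => ⟨Subtype.coe_prop _, ?_⟩⟩
    · rw [conjAut_apply, ← (mem_centralizerIn.1 hgU).2 x hx, mul_inv_cancel_right]
    · rw [Subgroup.coe_mul, Subgroup.coe_inv, conjAut_apply,
        show (x : Ω)⁻¹ * (g * x * g⁻¹) = (x : Ω)⁻¹ * g * x * g⁻¹ by group]
      refine T.mul_mem ?_ (T.inv_mem hgU.1)
      simpa using conj_mem_of_mem_normalizer (hSN (S.inv_mem (hQ x.2))) hgU.1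
  have hstab : ∀ a ∈ G.autGroup Q, a ∈ SatCriterion.stab Q (Q ⊓ T) := by
    intro a ha x
    have h1 := ((mem_autGroup hQ).1 ha)
    constructor
    · intro hx
      have h2 := map_mem_of_stronglyClosed hT (hG _ (IsIso.symm (F := G) h1)) (a x) hx.2
      refine ⟨x.2, ?_⟩
      show (x : Ω) ∈ T
      simpa using h2
    · intro hx
      exact ⟨(a x).2, map_mem_of_stronglyClosed hT (hG _ h1) x hx.2⟩
  have : Finite Q := finite_of_le hQ
  refine ⟨⟨conjAut Q hgN, autInducedBy_le_autGroup hQ (conjAut_mem_autInducedBy hgS hgN)⟩, ?_, rfl⟩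
  refine le_pCore (N := (ResidualNormal.layer Q (Q ⊓ T)).subgroupOf (G.autGroup Q))
    ⟨fun l hl b => ResidualNormal.conj_layer (hstab b b.2) hl⟩
    (isPGroup_subgroupOf (ResidualNormal.isPGroup_layer (hS.to_le hQ))) hl

include hS hd in
/-- Centric radical subgroups meet `T` in a centric subgroup. -/
theorem mem_H_of_radical {P : Subgroup Ω} (hc : F.IsCentric P) (hr : F.IsRadical p P) :
    P ∈ H F T := by
  by_contra hPH
  obtain ⟨Q, hPQ, hQ⟩ := exists_conj_notLe hS hd hc.1 hPH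
  have hQS := isConj_right_le hPQ
  obtain ⟨g, hg, hgQ, hgc⟩ := exists_core_elt hS hd (G := F) (fun _ => subset_rfl) hQS hQ
  obtain ⟨e, he⟩ := isConj_iff_iso.1 hPQ
  have := finite_mulAut hQS
  have h1 : MulAut.congr e.symm (conjAut Q hg.2) ∈ Inn P := hr.2.le (SatCriterion.congr_core he.symm hgc)
  have h2 : conjAut Q hg.2 ∈ Inn Q := by
    rw [← inn_map e]
    exact ⟨_, h1, by ext x; simp⟩
  exact hgQ (mem_of_induced_inn (hc.2 Q hPQ) hQS hg h2)

/-- Every map of `F` is an automorphism of `S` composed with a map of the subsystem. -/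
theorem decomposes {P : Subgroup Ω} {φ : P →* Ω} (hφ : φ ∈ F.Hom P) :
    Decomposes (sub₀ hS hd) F φ := by
  have hI := sub₀_autInvariant hS hd
  let G : FusionSystem S :=
    { Hom := fun P => {φ | φ ∈ F.Hom P ∧ Decomposes (sub₀ hS hd) F φ}
      le_of_mem := fun h => F.le_of_mem h.1
      injective_of_mem := fun h => F.injective_of_mem h.1
      conj_mem := fun hP hg => ⟨F.conj_mem hP hg,
        decomposes_of_mem ((sub₀ hS hd).conj_mem hP hg)⟩
      comp_mem := fun h h' hm => ⟨F.comp_mem h.1 h'.1 hm,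
        h.2.comp le_rfl hI h'.2 hm fun x => rfl⟩
      inv_mem := by
        intro P φ h
        let e := toIso φ h.1 (rfl : φ.range = φ.range)
        refine ⟨P.subtype.comp e.symm.toMonoidHom, ⟨(isIso_toIso φ h.1 rfl).symm,
          Decomposes.symm le_rfl hI (e := e) h.2⟩, fun x => ?_⟩
        show ((e.symm (e x) : P) : Ω) = x
        rw [e.symm_apply_apply] }
  refine (alperin hS hd.weak.2.1 G (fun R hR => ?_) P hφ).2
  obtain ⟨hc, hr, -⟩ := centric_radical_of_top_or_essential hS hd.weak.2.1 hR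
  have hRH := mem_H_of_radical hS hd hc hr
  intro α hα
  have h1 := (mem_autGroup hc.1).1 hα
  exact (mem_autGroup hc.1).2 ⟨h1, decomposes_H hS hd hRH h1⟩

theorem isSaturated : (sub₀ hS hd).IsSaturated p := by
  have hF := hd.weak.2.1
  have hT := hd.closed
  refine SatCriterion.isSaturated hS (ℋ := H F T)
    (fun P hP Q ⟨φ, hφ, hr⟩ => hr ▸ mem_H_of_conj hT hP (sub₀_sub hS hd _ hφ)) (fun P hP => ?_)
    (fun E' hE' => ?_) fun P hPc hPH => ?_
  · obtain ⟨Q, hPQ, hQ⟩ := exists_fullyNormalized (F := sub₀ hS hd) hP.1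
    obtain ⟨e, he⟩ := isConj_iff_iso.1 hPQ
    have hQF : F.IsFullyNormalized Q := by
      refine ⟨hQ.1, fun R ⟨φ, hφ, hr⟩ => ?_⟩
      obtain ⟨α, hα, φ₀, hφ₀, hφe⟩ := decomposes hS hd hφ
      refine le_trans (Residual.card_normalizer_aut α (range_le hφ₀) (hr ▸ range_le hφ) fun x => ?_)
        (hQ.2 φ₀.range ⟨φ₀, hφ₀, rfl⟩)
      rw [← hr]
      constructor
      · rintro ⟨y, hy⟩
        exact ⟨y, congrArg Subtype.val (α.injective (Subtype.ext
          ((hφe y (val_mem hφ₀ y)).symm.trans hy) : α ⟨φ₀ y, val_mem hφ₀ y⟩ = α x))⟩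
      · rintro ⟨y, hy⟩
        exact ⟨y, (hφe y (val_mem hφ₀ y)).trans
          (congrArg (fun z : S => ((α z : S) : Ω)) (Subtype.ext hy))⟩
    obtain ⟨hA, hrec⟩ := fullyNormalized_props hS hF hQF
    have := finite_mulAut hQ.1
    refine ⟨Q, hPQ, isFullyAutomized_iff.2 ⟨hQ.1,
      (isFullyAutomized_iff.1 hA).2.mono_right (autInducedBy_le_autGroup hQ.1)
        (autGroup_mono_of_subsystem (sub₀_sub hS hd) Q)⟩,
      isReceptive_of_extend hQ.1 fun R f hf => ?_⟩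
    have hfF : IsIso F f := sub₀_sub hS hd _ hf
    obtain ⟨ψ, hψ, hψe⟩ := receptive_extend hrec hfF
    refine ⟨ψ, ?_, hψe⟩
    have hQH : Q ∈ H F T := by
      have h := mem_H_of_conj hT hP (sub₀_sub hS hd _ he)
      rwa [iso_range] at h
    have hRH : R ∈ H F T := by
      have h := mem_H_of_conj hT hQH hfF.symm
      rwa [iso_range] at h
    set N := extender S R (Q.subtype.comp f.toMonoidHom)
    have hRN : R ≤ N := le_extender hf
    have hle : R ⊓ T ≤ N ⊓ T := inf_le_inf hRN le_rfl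
    refine mem_sub₀ hS hd ⟨src_le hψ, hRH.2.mono hle inf_le_right⟩ hψ
      (InK.up hS hd hRH.2 hle inf_le_right (restrict_mem inf_le_left hψ) ?_)
    obtain ⟨α, hα, hαc⟩ := sub₀_restrict_mem hS hd hRH hf
    exact ⟨α, hα, hαc.restrict le_rfl fun x => hψe ⟨x, x.2.1⟩ (hRN x.2.1)⟩
  · intro P φ hφ
    refine hφ.2 E' fun Q hQ ψ hψ => hE' Q hQ ⟨hψ, fun E'' hE'' => hE'' Q hQ hψ⟩
  · obtain ⟨Q, ⟨φ, hφ, rfl⟩, hQ⟩ := exists_conj_notLe hS hd hPc.1 hPH
    obtain ⟨α, hα, φ₀, hφ₀, he⟩ := decomposes hS hd hφ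
    refine ⟨φ₀.range, ⟨φ₀, hφ₀, rfl⟩, fun hle => ?_⟩
    have hne : ¬ centralizerIn T (φ₀.range ⊓ T) ≤ φ₀.range := fun hle' => hQ fun c hc => by
      obtain ⟨hcT, hcc⟩ := mem_centralizerIn.1 hc
      set c₀ : S := (α⁻¹ : MulAut S) ⟨c, hT.1 hcT⟩
      have h1 : (c₀ : Ω) ∈ centralizerIn T (φ₀.range ⊓ T) := by
        refine mem_centralizerIn.2 ⟨map_mem_of_stronglyClosed hT
          ((mem_autGroup le_rfl).1 (inv_mem hα)) ⟨c, hT.1 hcT⟩ hcT, ?_⟩
        rintro _ ⟨⟨x, rfl⟩, hxT⟩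
        have h2 : φ x * c = c * φ x := hcc _ ⟨⟨x, rfl⟩, by
          rw [he x (val_mem hφ₀ x)]
          exact map_mem_of_stronglyClosed hT ((mem_autGroup le_rfl).1 hα) _ hxT⟩
        have h3 : (⟨φ₀ x, val_mem hφ₀ x⟩ : S) * c₀ = c₀ * ⟨φ₀ x, val_mem hφ₀ x⟩ := by
          apply α.injective
          rw [map_mul, map_mul, MulAut.apply_inv_self]
          refine Subtype.ext ?_
          show (α _ : Ω) * c = c * (α _ : Ω)
          rw [← he x (val_mem hφ₀ x)]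
          exact h2
        exact congrArg Subtype.val h3
      obtain ⟨x, hx⟩ := hle' h1
      refine ⟨x, ?_⟩
      rw [he x (val_mem hφ₀ x), show (⟨φ₀ x, val_mem hφ₀ x⟩ : S) = c₀ from Subtype.ext hx,
        MulAut.apply_inv_self]
    obtain ⟨g, hg, hgQ, hgc⟩ :=
      exists_core_elt hS hd (sub₀_sub hS hd) (range_le hφ₀) hne
    exact hgQ (mem_of_induced_inn (hPc.2 _ ⟨φ₀, hφ₀, rfl⟩) (range_le hφ₀) hg
      (hle ⟨conjAut_mem_autInducedBy hg.1 hg.2, hgc⟩))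

theorem mem_autGroup_sub₀ (α : MulAut S) :
    α ∈ (sub₀ hS hd).autGroup S ↔ α ∈ F.autGroup S ∧
      ∃ β ∈ K, ∀ t : T, (β t : Ω) = (α ⟨t, hd.closed.1 t.2⟩ : Ω) := by
  have hT := hd.closed
  constructor
  · intro h
    have h1 := (mem_autGroup le_rfl).1 h
    have hα : α ∈ F.autGroup S := (mem_autGroup le_rfl).2 (sub₀_sub hS hd _ h1)
    obtain ⟨β, hβ, hβe⟩ := exists_restrict hd α hα
    refine ⟨hα, β, ?_, hβe⟩
    exact InK.mem hS hd (cen_self hT) (h1.1.2 T hT.1 (cen_self hT))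
      (cls_of_aut le_rfl hβ fun t => (hβe t).symm)
  · rintro ⟨hα, β, hβ, hβe⟩
    refine (mem_autGroup le_rfl).2 (mem_sub₀ hS hd ⟨le_rfl, (cen_self hT).mono
      (le_inf hT.1 le_rfl) inf_le_right⟩ ((mem_autGroup le_rfl).1 hα) ⟨β, hβ, ?_⟩)
    exact cls_of_aut inf_le_right (hd.le hβ) fun t => (hβe ⟨t, t.2.2⟩).symm

theorem isNormalIn : (sub₀ hS hd).IsNormalIn F p := by
  have hI := sub₀_autInvariant hS hd
  refine ⟨⟨isSaturated hS hd, hd.weak.2.1, sub₀_sub hS hd, ⟨le_rfl, fun R _ φ hφ x => val_mem hφ x⟩,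
    ?_, fun P _ φ hφ => decomposes hS hd hφ⟩, fun α hα => ?_⟩
  · intro P hPT φ hφ α hα
    obtain ⟨a, -, ha⟩ := exists_iso_restrict (F := F) hPT ((mem_autGroup le_rfl).1 hα)
    refine ⟨_, ResidualNormal.transport_mem hI le_rfl hα hφ a ha, fun x hφx hαx => ?_⟩
    rw [show (⟨_, hαx⟩ : (P.subgroupOf S).map (S.subtype.comp α.toMonoidHom)) = a x from
      Subtype.ext (ha x).symm]
    exact ResidualNormal.moved_apply α (val_mem hφ) a x
  · have hle : S ⊔ centralizerIn S S ≤ S := sup_le le_rfl (centralizerIn_le S S)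
    have : Finite ↥(S ⊔ centralizerIn S S) := finite_of_le hle
    have hαS := (mem_autGroup le_rfl).1 (autGroup_mono_of_subsystem (sub₀_sub hS hd) S hα)
    obtain ⟨β, hβ, hβe⟩ := exists_aut_of_self_map (restrict_mem hle hαS)
      fun x => Subgroup.mem_sup_left (Subtype.coe_prop _)
    refine ⟨β, hβ, fun x => hβe _, fun c hc => ?_⟩
    rw [hβe]
    refine ⟨S.mul_mem (S.inv_mem hc.1) (Subtype.coe_prop _), fun x hx => ?_⟩
    obtain ⟨y, hy⟩ := (α : S ≃* S).surjective ⟨x, hx⟩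
    have hcy : (⟨c, hle c.2⟩ : S) * y = y * ⟨c, hle c.2⟩ :=
      Subtype.ext ((mem_centralizerIn.1 hc).2 y y.2).symm
    have h1 : Commute ((α ⟨c, hle c.2⟩ : S) : Ω) x := by
      rw [← show ((α y : S) : Ω) = x from congrArg Subtype.val hy]
      exact congrArg Subtype.val ((map_mul α _ _).symm.trans ((congrArg α hcy).trans (map_mul α _ _)))
    exact (((mem_centralizerIn.1 hc).2 x hx).symm |> fun h : Commute (c : Ω) x =>
      (h.inv_left.mul_left h1).eq.symm)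

/-- The subsystem `E` is contained in the subsystem. -/
theorem le_sub₀ : E.IsSubsystemOf (sub₀ hS hd) := by
  obtain ⟨hEs, -, hEi⟩ := hd.weak
  have hT := hd.closed
  have : Finite T := finite_of_le hT.1
  let G : FusionSystem T :=
    { Hom := fun P => {φ | φ ∈ E.Hom P ∧ φ ∈ (sub₀ hS hd).Hom P}
      le_of_mem := fun h => E.le_of_mem h.1
      injective_of_mem := fun h => E.injective_of_mem h.1
      conj_mem := fun hP hg => ⟨E.conj_mem hP hg,
        (sub₀ hS hd).conj_mem (hP.trans hT.1) (hT.1 hg)⟩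
      comp_mem := fun h h' hm => ⟨E.comp_mem h.1 h'.1 hm, (sub₀ hS hd).comp_mem h.2 h'.2 hm⟩
      inv_mem := by
        intro P φ h
        obtain ⟨ψ, hψ, hψe⟩ := E.inv_mem h.1
        obtain ⟨ψ', hψ', hψe'⟩ := (sub₀ hS hd).inv_mem h.2
        refine ⟨ψ, ⟨hψ, mem_of_agree le_rfl hψ' ?_⟩, hψe⟩
        rintro ⟨_, x, rfl⟩
        rw [hψe x, hψe' x] }
  refine fun P φ hφ => (alperin (hS.to_le hT.1) hEs G (fun R hR => ?_) P hφ).2
  have hc := (centric_radical_of_top_or_essential (hS.to_le hT.1) hEs hR).1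
  have hcen := ResidualNormal.cen_of_isCentric hEi hc
  intro γ hγ
  have h1 := (mem_autGroup hc.1).1 hγ
  refine (mem_autGroup hc.1).2 ⟨h1, mem_sub₀ hS hd ⟨hc.1.trans hT.1,
    hcen.mono (le_inf le_rfl hc.1) inf_le_right⟩ (hEi.1 _ h1) ?_⟩
  exact ⟨1, one_mem _, (cls_of_mem h1).restrict inf_le_left fun x => rfl⟩

/-- The subsystem has index prime to `p`. -/
theorem hasPrimeToPIndexIn : (sub₀ hS hd).HasPrimeToPIndexIn F p :=
  ⟨sub₀_sub hS hd, fun _ hP => Residual.pPart_le_invariant hS hd.weak.2.1 (fun _ => subset_rfl)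
    (IsInvariantIn.strongInvariant (isNormalIn hS hd).1.2.2) hP⟩

theorem residual_le {R : FusionSystem S} (hR : F.IsPPrimeResidual p R) :
    R.IsSubsystemOf (sub₀ hS hd) :=
  hR.2.2 _ (isSaturated hS hd) (hasPrimeToPIndexIn hS hd)

include hS hd in
theorem exists_not_mem (hK : K ≠ F.autGroup T) :
    ∃ α ∈ F.autGroup S, α ∉ (sub₀ hS hd).autGroup S := by
  obtain ⟨β, hβ, hβK⟩ := SetLike.exists_of_lt (lt_of_le_of_ne hd.le hK)
  obtain ⟨α, hα, n, hn, he⟩ := exists_lift hS hd hβ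
  refine ⟨α, hα, fun h => hβK ?_⟩
  obtain ⟨-, δ, hδ, hδe⟩ := (mem_autGroup_sub₀ hS hd α).1 h
  have h1 : n * β = δ := MulEquiv.ext fun t => Subtype.ext ((he t).trans (hδe t).symm)
  have h2 : β = n⁻¹ * δ := by rw [← h1]; group
  exact h2 ▸ mul_mem (inv_mem hn) hδ

end Cfsg.Agent.Lib.Fusion.PPrimeKernel
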