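import Cfsg.Agent.Lib.Fusion.LimitPrime
import Cfsg.Agent.Lib.Fusion.PPrimeKernel
import Cfsg.Agent.Lib.Fusion.Factor

/-!
The normal subsystem over `T C_S(T)` attached to a normal subsystem with `p`-soluble automiser
quotient.
-/

set_option autoImplicit false

namespace Cfsg.Agent.Lib.Fusion.Envelope

open Cfsg Cfsg.FusionSystem
open Cfsg.Agent.Lib.Fusion.ResidualNormal (Cen)

variable {Ω : Type*} [Group Ω] {S T : Subgroup Ω} {F : FusionSystem S} {E : FusionSystem T} {p : ℕ}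

/-- The elements of `S` acting on `T` as an element of `K`. -/
noncomputable def usub (hTn : S ≤ Subgroup.normalizer (T : Set Ω)) (K : Subgroup (MulAut T)) :
    Subgroup Ω :=
  (K.comap (actHom hTn)).map S.subtype

theorem mem_usub {hTn : S ≤ Subgroup.normalizer (T : Set Ω)} {K : Subgroup (MulAut T)} {g : Ω} :
    g ∈ usub hTn K ↔ ∃ h : g ∈ S, actHom hTn ⟨g, h⟩ ∈ K :=
  ⟨fun ⟨y, hy, hyg⟩ => hyg ▸ ⟨y.2, hy⟩, fun ⟨h, hg⟩ => ⟨⟨g, h⟩, hg, rfl⟩⟩

theorem usub_le (hTn : S ≤ Subgroup.normalizer (T : Set Ω)) (K : Subgroup (MulAut T)) :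
    usub hTn K ≤ S := fun _ hg => (mem_usub.1 hg).1

theorem sup_centralizer_le {hTn : S ≤ Subgroup.normalizer (T : Set Ω)} (hTS : T ≤ S)
    {K : Subgroup (MulAut T)} (hInn : Inn T ≤ K) : T ⊔ centralizerIn S T ≤ usub hTn K := by
  refine sup_le (fun t ht => mem_usub.2 ⟨hTS ht, hInn ⟨⟨t, ht⟩, ?_⟩⟩) fun c hc =>
    mem_usub.2 ⟨hc.1, ?_⟩
  · ext x
    simp
  · convert K.one_mem
    ext x
    rw [actHom_apply, MulAut.one_apply]
    show c * x * c⁻¹ = (x : Ω)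
    rw [← (mem_centralizerIn.1 hc).2 x x.2, mul_inv_cancel_right]

/-- A weakly normal subsystem over a group containing its centralizer is normal. -/
theorem normal_of_weakly [Finite S] {U : Subgroup Ω} {G : FusionSystem U}
    (hG : G.IsWeaklyNormalIn F p) (hC : centralizerIn S U ≤ U) : G.IsNormalIn F p := by
  have hU : U ≤ S := hG.2.2.2.1.1
  refine ⟨hG, fun α hα => ?_⟩
  have hle : U ⊔ centralizerIn S U ≤ U := sup_le le_rfl hC
  have : Finite ↥(U ⊔ centralizerIn S U) := finite_of_le (hle.trans hU)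
  have hαU := (mem_autGroup hU).1 (autGroup_mono_of_subsystem hG.2.2.1 U hα)
  obtain ⟨β, hβ, hβe⟩ := exists_aut_of_self_map (restrict_mem hle hαU)
    fun x => Subgroup.mem_sup_left (Subtype.coe_prop _)
  refine ⟨β, hβ, fun x => hβe _, fun c hc => ?_⟩
  rw [hβe]
  refine ⟨U.mul_mem (U.inv_mem (hC hc)) (Subtype.coe_prop _), fun x hx => ?_⟩
  obtain ⟨y, hy⟩ := (α : U ≃* U).surjective ⟨x, hx⟩
  have hcy : (⟨c, hle c.2⟩ : U) * y = y * ⟨c, hle c.2⟩ :=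
    Subtype.ext ((mem_centralizerIn.1 hc).2 y y.2).symm
  have h1 : Commute ((α ⟨c, hle c.2⟩ : U) : Ω) x := by
    rw [← show ((α y : U) : Ω) = x from congrArg Subtype.val hy]
    exact congrArg Subtype.val ((map_mul α _ _).symm.trans ((congrArg α hcy).trans (map_mul α _ _)))
  exact (((mem_centralizerIn.1 hc).2 x hx).symm |> fun h : Commute (c : Ω) x =>
    (h.inv_left.mul_left h1).eq.symm)

theorem invariant_mk {U : Subgroup Ω} {D : FusionSystem U} (hsub : D.IsSubsystemOf F)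
    (hc : F.StronglyClosed U) (hI : AutInvariant D F)
    (hdec : ∀ (P : Subgroup Ω), P ≤ U → ∀ φ ∈ F.Hom P, Decomposes D F φ) :
    D.IsInvariantIn F := by
  refine ⟨hsub, hc, fun P hP φ hφ α hα => ?_, fun P hP φ hφ => hdec P hP φ hφ⟩
  obtain ⟨a, -, ha⟩ := exists_iso_restrict (F := F) hP ((mem_autGroup hc.1).1 hα)
  refine ⟨_, ResidualNormal.transport_mem hI hc.1 hα hφ a ha, fun x hφx hαx => ?_⟩
  rw [show (⟨_, hαx⟩ : (P.subgroupOf U).map (U.subtype.comp α.toMonoidHom)) = a x from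
    Subtype.ext (ha x).symm]
  exact ResidualNormal.moved_apply α (val_mem hφ) a x

theorem mem_of_pow_pair {G : Type*} [Group G] {K : Subgroup G} {x : G} {a b : ℕ} (h : a.Coprime b)
    (ha : x ^ a ∈ K) (hb : x ^ b ∈ K) : x ∈ K := by
  have h2 := Nat.gcd_eq_gcd_ab a b
  rw [h.gcd_eq_one, Nat.cast_one] at h2
  rw [← zpow_one x, h2, zpow_add, zpow_mul, zpow_mul, zpow_natCast, zpow_natCast]
  exact K.mul_mem (K.zpow_mem ha _) (K.zpow_mem hb _)

variable [Finite S] [Fact p.Prime]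

/-! ### Quotients of `p`-power exponent -/

theorem hyperfocal_le_usub (hS : IsPGroup p S) {hTn : S ≤ Subgroup.normalizer (T : Set Ω)}
    {U : Subgroup Ω} (hU : U ≤ S) {G : FusionSystem U} (hG : G.IsSaturated p)
    (hT : G.StronglyClosed T) {K : Subgroup (MulAut T)} (hInn : Inn T ≤ K)
    (hnorm : ∀ δ ∈ G.autGroup T, ∀ k ∈ K, δ * k * δ⁻¹ ∈ K) {m : ℕ}
    (hpow : ∀ δ ∈ G.autGroup T, δ ^ p ^ m ∈ K) : G.hyperfocalSubgroup p ≤ usub hTn K := by
  have := finite_of_le hU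
  have hAG : ∀ g : S, (g : Ω) ∈ U → actHom hTn g ∈ G.autGroup T := fun g hg =>
    autInducedBy_le_autGroup hT.1 (mem_autInducedBy.2 ⟨g, hg, fun x => actHom_apply hTn g x⟩)
  haveI hKn : (K.subgroupOf (G.autGroup T)).Normal := ⟨fun k hk δ => hnorm δ δ.2 k hk⟩
  refine hyperfocal_le fun P hP α hα hcop x => ?_
  have hmem : (x : Ω)⁻¹ * (α x : Ω) ∈ U := U.mul_mem (U.inv_mem (hP x.2)) (hP (α x).2)
  refine mem_usub.2 ⟨hU hmem, ?_⟩
  obtain ⟨ψ, hψ, hψe⟩ := approxMod (hS.to_le hU) hG hT ((mem_autGroup hP).1 hα)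
  have : Finite T := finite_of_le (hT.1.trans hU)
  obtain ⟨δ, hδ, hδe⟩ := exists_aut_of_self_map (restrict_mem (le_sup_right : T ≤ P ⊔ T) hψ)
    fun t => map_mem_of_stronglyClosed hT hψ _ t.2
  let q := QuotientGroup.mk' (K.subgroupOf (G.autGroup T))
  let f : P →* G.autGroup T ⧸ K.subgroupOf (G.autGroup T) :=
    q.comp (((actHom hTn).comp (Subgroup.inclusion (hP.trans hU))).codRestrict (G.autGroup T)
      fun y => hAG _ (hP y.2))
  let d := q ⟨δ, hδ⟩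
  have hstep : ∀ y : P, f (α y) = d * f y * d⁻¹ := by
    intro y
    set y' := Subgroup.inclusion (le_sup_left : P ≤ P ⊔ T) y
    have hψU : ψ y' ∈ S := hU (val_mem hψ y')
    have h1 : actHom hTn ⟨ψ y', hψU⟩ = δ * actHom hTn ⟨y, hU (hP y.2)⟩ * δ⁻¹ := by
      refine eq_mul_inv_iff_mul_eq.2 (MulEquiv.ext fun t => Subtype.ext ?_)
      rw [MulAut.mul_apply, MulAut.mul_apply, actHom_apply, hδe, hδe]
      show ψ y' * ψ (Subgroup.inclusion le_sup_right t) * (ψ y')⁻¹ = ψ (Subgroup.inclusion le_sup_right _)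
      rw [← map_inv, ← map_mul, ← map_mul]
      exact congrArg ψ (Subtype.ext (actHom_apply hTn ⟨y, hU (hP y.2)⟩ t).symm)
    have h2 : (⟨α y, hU (hP (α y).2)⟩ : S) =
        ⟨ψ y', hψU⟩ * ⟨_, (hT.1.trans hU) (hψe y)⟩ := by
      refine Subtype.ext ?_
      show ((α y : P) : Ω) = ψ y' * ((ψ y')⁻¹ * (α y : Ω))
      rw [mul_inv_cancel_left]
    show q ⟨actHom hTn ⟨α y, hU (hP (α y).2)⟩, _⟩ =
      q ⟨δ, hδ⟩ * q ⟨actHom hTn ⟨y, hU (hP y.2)⟩, _⟩ * (q ⟨δ, hδ⟩)⁻¹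
    rw [← map_inv, ← map_mul, ← map_mul]
    refine QuotientGroup.eq.2 ?_
    show (actHom hTn ⟨α y, hU (hP (α y).2)⟩)⁻¹ *
      (δ * actHom hTn ⟨y, hU (hP y.2)⟩ * δ⁻¹) ∈ K
    rw [← h1, h2, map_mul, mul_inv_rev, inv_mul_cancel_right]
    exact K.inv_mem (hInn ⟨⟨_, hψe y⟩, by ext t; simp⟩)
  have hiter : ∀ (j : ℕ) (y : P), f ((α ^ j) y) = d ^ j * f y * (d ^ j)⁻¹ := by
    intro j
    induction j with
    | zero => intro y; simp
    | succ j ih =>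
      intro y
      rw [pow_succ' α, MulAut.mul_apply, hstep, ih, pow_succ' d, mul_inv_rev]
      group
  have hd : d ^ p ^ m = 1 :=
    (map_pow q _ _).symm.trans ((QuotientGroup.eq_one_iff _).2 (hpow δ hδ))
  obtain ⟨k, hk⟩ := exists_pow_eq_self_of_coprime ((Nat.Coprime.pow_right m hcop).symm)
  have hfix : f (α x) = f x := by
    conv_lhs => rw [← hk, ← pow_mul, hiter, pow_mul, hd]
    simp
  have h3 : f (x⁻¹ * α x) = 1 := by rw [map_mul, map_inv, hfix, inv_mul_cancel]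
  have h4 : _ ∈ K.subgroupOf (G.autGroup T) := (QuotientGroup.eq_one_iff _).1 h3
  exact h4

/-- The subsystem of `p`-power index attached to a normal subgroup with quotient of `p`-power
exponent. -/
theorem step_p (hS : IsPGroup p S) (hTn : S ≤ Subgroup.normalizer (T : Set Ω))
    (hE : E.IsWeaklyNormalIn F p) {K K' : Subgroup (MulAut T)}
    (hK'F : ∀ β ∈ F.autGroup T, ∀ k ∈ K', β * k * β⁻¹ ∈ K') (hK'K : K' ≤ K)
    (hEK : E.autGroup T ≤ K') {m : ℕ} (hpow : ∀ x ∈ K, x ^ p ^ m ∈ K')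
    {G : FusionSystem (usub hTn K)} (hG : G.IsNormalIn F p) (hEG : E.IsSubsystemOf G)
    (hGK : G.autGroup T = K) :
    ∃ D : FusionSystem (usub hTn K'), D.IsNormalIn F p ∧ E.IsSubsystemOf D ∧ D.autGroup T = K' ∧
      D.HasPPowerIndexIn G p := by
  obtain ⟨⟨hGs, hF, hGI⟩, -⟩ := hG
  obtain ⟨hEs, -, hEI⟩ := hE
  have hT : F.StronglyClosed T := hEI.2.1
  have : Finite T := finite_of_le hT.1
  have hInn : Inn T ≤ K' := (inn_le_autGroup le_rfl).trans hEK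
  have hU : (usub hTn K) ≤ S := usub_le hTn K
  have hU'U : (usub hTn K') ≤ (usub hTn K) := fun g hg => by
    obtain ⟨h, hgK⟩ := mem_usub.1 hg
    exact mem_usub.2 ⟨h, hK'K hgK⟩
  have hTU' : T ≤ (usub hTn K') := le_sup_left.trans (sup_centralizer_le hT.1 hInn)
  have hTG : G.StronglyClosed T :=
    ⟨hTU'.trans hU'U, fun R hR φ hφ => hT.2 R hR φ (hGI.1 R hφ)⟩
  have := finite_of_le hU
  have := finite_of_le (hU'U.trans hU)
  have := finite_mulAut hT.1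
  have hnormG : ∀ δ ∈ G.autGroup T, ∀ k ∈ K', δ * k * δ⁻¹ ∈ K' := fun δ hδ k hk =>
    hK'F δ (autGroup_mono_of_subsystem hGI.1 T hδ) k hk
  have hhyp : G.hyperfocalSubgroup p ≤ (usub hTn K') :=
    hyperfocal_le_usub hS hU hGs hTG hInn hnormG fun δ hδ => hpow δ (hGK ▸ hδ)
  have hn : (usub hTn K) ≤ Subgroup.normalizer ((usub hTn K') : Set Ω) := by
    intro u hu
    refine mem_normalizer_of_conj_mem fun g hg => ?_
    obtain ⟨hgS, hgK⟩ := mem_usub.1 hg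
    refine mem_usub.2 ⟨S.mul_mem (S.mul_mem (hU hu) hgS) (S.inv_mem (hU hu)), ?_⟩
    show actHom hTn (⟨u, hU hu⟩ * ⟨g, hgS⟩ * ⟨u, hU hu⟩⁻¹) ∈ K'
    rw [map_mul, map_mul, map_inv]
    exact hK'F _ (autInducedBy_le_autGroup hT.1
      (mem_autInducedBy.2 ⟨u, hU hu, fun x => actHom_apply hTn ⟨u, hU hu⟩ x⟩)) _ hgK
  obtain ⟨D, hDs, hDi⟩ := PPowerIndex.exists_sys (hS.to_le hU) hGs (usub hTn K') hU'U hhyp
  have hHF : F.StronglyClosed (usub hTn K') := by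
    refine ⟨hU'U.trans hU, fun R hR φ hφ x => ?_⟩
    obtain ⟨α, hα, φ₀, hφ₀, he⟩ := hGI.2.2.2 R (hR.trans hU'U) φ hφ
    have h1 : φ₀ x ∈ (usub hTn K') := (map_mem_of_gen (hS.to_le hU) hGs hn (fun R' hR' γ hγ hc y =>
      hhyp (inv_mul_mem_hyperfocal hR' (α := ⟨γ, hγ⟩) (coprime_mem_pResidual hc) y)) hφ₀ x).2
        (hR x.2)
    rw [he x (val_mem hφ₀ x)]
    obtain ⟨hS₀, hK₀⟩ := mem_usub.1 h1
    obtain ⟨β, hβ⟩ := exists_restrict_aut (hTU'.trans hU'U) (β := α) fun t =>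
      map_mem_of_stronglyClosed hT ((mem_autGroup hU).1 hα) ⟨t, (hTU'.trans hU'U) t.2⟩ t.2
    have hβF : β ∈ F.autGroup T :=
      (mem_autGroup hT.1).2 (mem_of_agree (hTU'.trans hU'U) ((mem_autGroup hU).1 hα) hβ)
    set z : (usub hTn K) := ⟨φ₀ x, val_mem hφ₀ x⟩
    refine mem_usub.2 ⟨hU (α z).2, ?_⟩
    have h2 : actHom hTn ⟨α z, hU (α z).2⟩ = β * actHom hTn ⟨φ₀ x, hS₀⟩ * β⁻¹ := by
      refine eq_mul_inv_iff_mul_eq.2 (MulEquiv.ext fun t => Subtype.ext ?_)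
      rw [MulAut.mul_apply, MulAut.mul_apply, actHom_apply, hβ, hβ]
      have h3 : ((α (z * ⟨t, (hTU'.trans hU'U) t.2⟩ * z⁻¹) : (usub hTn K)) : Ω) =
          (α z : Ω) * (α ⟨t, (hTU'.trans hU'U) t.2⟩ : Ω) * (α z : Ω)⁻¹ := by simp
      refine h3.symm.trans (congrArg (fun w : (usub hTn K) => (α w : Ω)) (Subtype.ext ?_))
      simp [z]
    rw [h2]
    exact hK'F β hβF _ hK₀
  have hDI := LimitPrime.invariant_of_index hS ⟨hGs, hF, hGI⟩ hU'U hn hHF hDs hDi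
  refine ⟨D, normal_of_weakly ⟨hDs, hF, hDI⟩ ?_, ?_, ?_, hDi⟩
  · exact (centralizerIn_antitone hTU').trans (le_sup_right.trans (sup_centralizer_le hT.1 hInn))
  · -- `E` lies in `D`
    let W : FusionSystem T :=
      { Hom := fun P => E.Hom P ∩ D.Hom P
        le_of_mem := fun h => E.le_of_mem h.1
        injective_of_mem := fun h => E.injective_of_mem h.1
        conj_mem := fun {P g} hP hg => ⟨E.conj_mem hP hg, D.conj_mem (hP.trans hTU') (hTU' hg)⟩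
        comp_mem := fun hφ hψ h => ⟨E.comp_mem hφ.1 hψ.1 h, D.comp_mem hφ.2 hψ.2 h⟩
        inv_mem := fun {P φ} hφ => by
          obtain ⟨ψ, hψ, hψe⟩ := E.inv_mem hφ.1
          obtain ⟨ψ', hψ', hψ'e⟩ := D.inv_mem hφ.2
          refine ⟨ψ, ⟨hψ, mem_of_agree le_rfl hψ' ?_⟩, hψe⟩
          rintro ⟨_, x, rfl⟩
          exact (hψe x).trans (hψ'e x).symm }
    have hTp : IsPGroup p T := hS.to_le hT.1
    have hle : E ≤ W := by
      refine alperin hTp hEs W fun R hR => ?_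
      obtain ⟨-, -, hR'⟩ := centric_radical_of_top_or_essential hTp hEs hR
      refine autGroup_le_of_coprime hTp hEs hR' _ (autInducedBy_le_autGroup hR'.1)
        fun γ hγ hcop => ?_
      have h1 : γ ∈ D.autGroup R := hDi.2.2 R (hR'.1.trans hTU')
        ⟨⟨γ, autGroup_mono_of_subsystem hEG R hγ⟩, coprime_mem_pResidual hcop, rfl⟩
      exact (mem_autGroup hR'.1).2
        ⟨(mem_autGroup hR'.1).1 hγ, (mem_autGroup (hR'.1.trans hTU')).1 h1⟩
    exact fun P φ hφ => (hle P hφ).2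
  · -- the automizer of `T`
    have := finite_of_le ((normalizerIn_le (usub hTn K') T).trans (hU'U.trans hU))
    have := finite_of_le ((normalizerIn_le (usub hTn K) T).trans hU)
    have hDn : D.IsFullyNormalized T := ⟨hTU', fun Q _ => Subgroup.card_le_of_le
      ((normalizerIn_le (usub hTn K') Q).trans (le_inf le_rfl ((hU'U.trans hU).trans hTn)))⟩
    have hGn : G.IsFullyNormalized T := ⟨hTU'.trans hU'U, fun Q _ => Subgroup.card_le_of_le
      ((normalizerIn_le (usub hTn K) Q).trans (le_inf le_rfl (hU.trans hTn)))⟩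
    have hact : ∀ {g : Ω} (hg : g ∈ S) {β : MulAut T},
        (∀ x : T, (β x : Ω) = g * x * g⁻¹) → β = actHom hTn ⟨g, hg⟩ := fun hg β hβ =>
      MulEquiv.ext fun x => Subtype.ext ((hβ x).trans (actHom_apply hTn ⟨_, hg⟩ x).symm)
    have h₁ : D.autGroup T ≤ K' := by
      refine autGroup_le_of_coprime ((hS.to_le hU).to_le hU'U) hDs hDn K' ?_ fun α hα hc => ?_
      · intro β hβ
        obtain ⟨g, hg, hge⟩ := mem_autInducedBy.1 hβ
        obtain ⟨hgS, hgK⟩ := mem_usub.1 hg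
        exact hact hgS hge ▸ hgK
      · exact mem_of_pow_pair (Nat.Coprime.pow_right m hc) (by rw [pow_orderOf_eq_one]; exact one_mem _)
          (hpow α (hGK ▸ autGroup_mono_of_subsystem hDi.1 T hα))
    refine le_antisymm h₁ fun k hk => ?_
    have hsub : autInducedBy (usub hTn K) T ≤ Subgroup.normalizer (D.autGroup T : Set (MulAut T)) := by
      have hDIs := IsInvariantIn.strongInvariant hDI
      exact ((autInducedBy_mono hU T).trans (autInducedBy_le_autGroup hT.1)).trans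
        (Residual.aut_normal hDIs hHF.1 hTU')
    have hGle : G.autGroup T ≤ autInducedBy (usub hTn K) T ⊔ D.autGroup T :=
      autGroup_le_of_coprime (hS.to_le hU) hGs hGn _ le_sup_left fun α hα hc =>
        Subgroup.mem_sup_right (hDi.2.2 T hTU' ⟨⟨α, hα⟩, coprime_mem_pResidual hc, rfl⟩)
    obtain ⟨a, ha, d, hd, rfl⟩ := mem_sup_of_normalizes hsub (hGle (hGK ▸ hK'K hk))
    refine mul_mem ?_ hd
    obtain ⟨g, hg, hge⟩ := mem_autInducedBy.1 ha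
    have haK : a ∈ K' := by simpa using K'.mul_mem hk (K'.inv_mem (h₁ hd))
    have hgS := hU hg
    refine autInducedBy_le_autGroup hTU'
      (mem_autInducedBy.2 ⟨g, mem_usub.2 ⟨hgS, hact hgS hge ▸ haK⟩, hge⟩)

/-! ### Quotients of order prime to `p` -/

/-- Automorphisms in `F` of the group of a weakly normal subsystem preserve `Cen`. -/
theorem cen_map {U : Subgroup Ω} {G : FusionSystem U} (hU : U ≤ S) (hI : AutInvariant G F)
    (hT : F.StronglyClosed T) (hTU : T ≤ U) {α : MulAut U} (hα : α ∈ F.autGroup U)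
    {R R' : Subgroup Ω} (hR : Cen G T R) (a : R ≃* R')
    (ha : ∀ x : R, (a x : Ω) = (α ⟨x, hTU (hR.1 x.2)⟩ : Ω)) : Cen G T R' := by
  have hstab : ∀ (γ : MulAut U), γ ∈ F.autGroup U → ∀ (y : U), (y : Ω) ∈ T → (γ y : Ω) ∈ T :=
    fun γ hγ y hy => map_mem_of_stronglyClosed hT ((mem_autGroup hU).1 hγ) y hy
  have hR'T : R' ≤ T := fun y hy => by
    obtain ⟨x, hx⟩ := a.surjective ⟨y, hy⟩
    rw [← show (a x : Ω) = y from congrArg Subtype.val hx, ha]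
    exact hstab α hα _ (hR.1 x.2)
  refine ⟨hR'T, fun φ hφ => ?_⟩
  have hb : ∀ y : R', (a.symm y : Ω) =
      ((α⁻¹ : MulAut U) ⟨y, src_le hφ y.2⟩ : Ω) := by
    intro y
    obtain ⟨x, rfl⟩ := a.surjective y
    rw [a.symm_apply_apply,
      show (⟨(a x : Ω), src_le hφ (a x).2⟩ : U) = α ⟨x, hTU (hR.1 x.2)⟩ from Subtype.ext (ha x),
      MulAut.inv_apply_self]
  let χ : R →* Ω := (U.subtype.comp (α⁻¹ : MulAut U).toMonoidHom).comp
    ((φ.codRestrict U (val_mem hφ)).comp a.toMonoidHom)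
  have hχ : χ ∈ G.Hom R := hI R' R φ hφ α⁻¹ (inv_mem hα) a.symm hb χ fun y => by
    show ((α⁻¹ : MulAut U) ⟨φ (a (a.symm y)), _⟩ : Ω) = _
    congr 3
    exact congrArg φ (a.apply_symm_apply y)
  intro c hc
  obtain ⟨hcT, hcc⟩ := mem_centralizerIn.1 hc
  set c₀ : U := (α⁻¹ : MulAut U) ⟨c, hTU hcT⟩
  have h1 : (c₀ : Ω) ∈ centralizerIn T χ.range := by
    refine mem_centralizerIn.2 ⟨hstab _ (inv_mem hα) _ hcT, ?_⟩
    rintro _ ⟨x, rfl⟩
    have h2 : (⟨φ (a x), val_mem hφ _⟩ : U) * ⟨c, hTU hcT⟩ =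
        ⟨c, hTU hcT⟩ * ⟨φ (a x), val_mem hφ _⟩ := Subtype.ext (hcc _ ⟨a x, rfl⟩)
    have h3 := congrArg (α⁻¹ : MulAut U) h2
    rw [map_mul, map_mul] at h3
    exact congrArg Subtype.val h3
  obtain ⟨x, hx⟩ := hR.2 χ hχ h1
  exact ⟨a x, congrArg Subtype.val ((α⁻¹ : MulAut U).injective (Subtype.ext hx))⟩

variable {U : Subgroup Ω} [Finite U] {G : FusionSystem U} {K' : Subgroup (MulAut T)}

theorem kerSys_inv (hUp : IsPGroup p U) (hd : PPrimeKernel.Data G E p K')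
    (hI : AutInvariant G F) (hIE : AutInvariant E F) (hU : U ≤ S) (hT : F.StronglyClosed T)
    (hK'F : ∀ β ∈ F.autGroup T, ∀ k ∈ K', β * k * β⁻¹ ∈ K') :
    AutInvariant (PPrimeKernel.kerSys hUp hd) F := by
  intro P P' φ hφ α hα a ha χ hχ
  have hTU : T ≤ U := hd.closed.1
  have := finite_of_le hT.1
  refine ⟨hI P P' φ hφ.1 α hα a ha χ hχ, fun R' hR'P hR'c => ?_⟩
  have hP : P ≤ U := src_le hφ
  have hP' : P' ≤ U := fun y hy => by
    obtain ⟨x, hx⟩ := a.surjective ⟨y, hy⟩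
    rw [← show (a x : Ω) = y from congrArg Subtype.val hx, ha x]
    exact Subtype.coe_prop _
  obtain ⟨β, hβ⟩ := exists_restrict_aut hTU (β := α) fun t =>
    map_mem_of_stronglyClosed hT ((mem_autGroup hU).1 hα) ⟨t, hTU t.2⟩ t.2
  have hβF : β ∈ F.autGroup T :=
    (mem_autGroup hT.1).2 (mem_of_agree hTU ((mem_autGroup hU).1 hα) hβ)
  obtain ⟨R, e, he, hRP⟩ : ∃ (R : Subgroup Ω) (e : R' ≃* R),
      (∀ y : R', (e y : Ω) = (a.symm ⟨y, hR'P y.2⟩ : Ω)) ∧ R ≤ P := by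
    have haF : IsIso F a :=
      isIso_of_agree hP ((mem_autGroup hU).1 hα) fun x => ha x
    obtain ⟨e, -, hee⟩ := exists_iso_restrict hR'P haF.symm
    refine ⟨_, e, hee, ?_⟩
    rintro y hy
    obtain ⟨z, hz⟩ := e.surjective ⟨y, hy⟩
    rw [← show (e z : Ω) = y from congrArg Subtype.val hz, hee]
    exact Subtype.coe_prop _
  have heb : ∀ y : R', (e y : Ω) = ((α⁻¹ : MulAut U) ⟨y, hP' (hR'P y.2)⟩ : Ω) := by
    intro y
    obtain ⟨x, hx⟩ := a.surjective ⟨y, hR'P y.2⟩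
    rw [he, ← hx, a.symm_apply_apply,
      show (⟨(y : Ω), hP' (hR'P y.2)⟩ : U) = α ⟨x, hP x.2⟩ from
        Subtype.ext ((congrArg Subtype.val hx).symm.trans (ha x)), MulAut.inv_apply_self]
  have hRc : Cen G T R := cen_map hU hI hT hTU (inv_mem hα) hR'c e heb
  obtain ⟨δ, hδK, hδG, φ₀, hφ₀, hφe⟩ := hφ.2 R hRP hRc
  have hes : ∀ x : R, (e.symm x : Ω) = (β ⟨x, src_le hφ₀ x.2⟩ : Ω) := by
    intro x
    obtain ⟨y, rfl⟩ := e.surjective x
    rw [e.symm_apply_apply, hβ]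
    simp only [heb, Subtype.coe_eta, MulAut.apply_inv_self]
  let χ₀ : R' →* Ω := (T.subtype.comp β.toMonoidHom).comp
    ((φ₀.codRestrict T (val_mem hφ₀)).comp e.toMonoidHom)
  have hχ₀ : χ₀ ∈ E.Hom R' := hIE R R' φ₀ hφ₀ β hβF e.symm hes χ₀ fun x => by
    show (β ⟨φ₀ (e (e.symm x)), _⟩ : Ω) = _
    congr 3
    exact congrArg φ₀ (e.apply_symm_apply x)
  have hK : β * δ * β⁻¹ ∈ K' := hK'F β hβF δ hδK
  refine ⟨_, hK, hd.le hK, χ₀, hχ₀, fun y => ?_⟩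
  show χ ⟨y, hR'P y.2⟩ =
    (((β * δ * β⁻¹ : MulAut T) ⟨(β ⟨φ₀ (e y), val_mem hφ₀ _⟩ : Ω), _⟩ : T) : Ω)
  change _ = ((β (δ ((β⁻¹ : MulAut T) (β ⟨φ₀ (e y), val_mem hφ₀ _⟩))) : T) : Ω)
  rw [MulAut.inv_apply_self, hβ]
  obtain ⟨x, hx⟩ := a.surjective ⟨y, hR'P y.2⟩
  rw [← hx, hχ]
  refine congrArg (fun w : U => (α w : Ω)) (Subtype.ext ?_)
  have h := hφe (e y)
  refine Eq.trans ?_ h
  show φ x = φ ⟨(e y : Ω), hRP (e y).2⟩
  refine congrArg φ (Subtype.ext ?_)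
  show (x : Ω) = e y
  rw [he, ← hx, a.symm_apply_apply]

theorem image_mem_H (hI : AutInvariant G F) (hU : U ≤ S) (hT : F.StronglyClosed T) (hTU : T ≤ U)
    {α : MulAut U} (hα : α ∈ F.autGroup U) {P : Subgroup Ω} (hP : P ∈ PPrimeKernel.H G T) :
    autImage α P ∈ PPrimeKernel.H G T := by
  have hle : P ⊓ T ≤ U := inf_le_left.trans hP.1
  obtain ⟨a, -, ha⟩ := exists_iso_restrict (F := F) hle ((mem_autGroup hU).1 hα)
  have h := cen_map hU hI hT hTU hα hP.2 a fun x => ha x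
  refine ⟨autImage_le α P, h.mono (fun y hy => ⟨?_, h.1 hy⟩) inf_le_right⟩
  obtain ⟨x, hx⟩ := a.surjective ⟨y, hy⟩
  rw [← show (a x : Ω) = y from congrArg Subtype.val hx, ha]
  exact ⟨⟨x, hle x.2⟩, x.2.1, rfl⟩

theorem sub₀_inv (hUp : IsPGroup p U) (hd : PPrimeKernel.Data G E p K')
    (hI : AutInvariant G F) (hIE : AutInvariant E F) (hU : U ≤ S) (hT : F.StronglyClosed T)
    (hK'F : ∀ β ∈ F.autGroup T, ∀ k ∈ K', β * k * β⁻¹ ∈ K') :
    AutInvariant (PPrimeKernel.sub₀ hUp hd) F := by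
  intro P P' φ hφ α hα a ha χ hχ
  have hker := kerSys_inv hUp hd hI hIE hU hT hK'F
  have hP := src_le hφ
  refine ⟨hker P P' φ hφ.1 α hα a ha χ hχ, fun E' hE' => ?_⟩
  have hP' : P' ≤ U := fun y hy => by
    obtain ⟨x, hx⟩ := a.surjective ⟨y, hy⟩
    rw [← show (a x : Ω) = y from congrArg Subtype.val hx, ha x]
    exact Subtype.coe_prop _
  obtain ⟨E'', hE'', -⟩ := exists_push (e := (α : U ≃* U).symm) E' le_rfl (α : U ≃* U).symm
    fun x => rfl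
  refine hE''.2 P φ (hφ.2 E'' fun Q hQ ψ hψ => ?_) P' χ hP' fun y => ?_
  · have hQS : Q ≤ U := hQ.1
    obtain ⟨χ₁, hχ₁, hχ₁e⟩ := hker.exists_transport hU hα hψ
    refine hE''.1 _ χ₁ (hE' _ (image_mem_H hI hU hT hd.closed.1 hα hQ) hχ₁) Q ψ hQS fun y => ?_
    have hm : (α ⟨y, hQS y.2⟩ : Ω) ∈ autImage α Q := ⟨⟨y, hQS y.2⟩, y.2, rfl⟩
    exact ⟨α ⟨y, hQS y.2⟩, α ⟨ψ y, val_mem hψ y⟩, hm, by simp, (hχ₁e ⟨y, hQS y.2⟩ y.2 hm).symm,
      by simp⟩
  · obtain ⟨x, rfl⟩ := a.surjective y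
    exact ⟨⟨x, hP x.2⟩, ⟨φ x, val_mem hφ x⟩, x.2, (ha x).symm, rfl, hχ x⟩

/-- The subsystem of index prime to `p` attached to a normal subgroup with quotient of exponent
prime to `p`. -/
theorem step_p' (hS : IsPGroup p S) (hE : E.IsWeaklyNormalIn F p) {K : Subgroup (MulAut T)}
    (hK'F : ∀ β ∈ F.autGroup T, ∀ k ∈ K', β * k * β⁻¹ ∈ K') (hK'K : K' ≤ K)
    (hEK : E.autGroup T ≤ K') {d : ℕ} (hd : d.Coprime p) (hpow : ∀ x ∈ K, x ^ d ∈ K')
    (hG : G.IsNormalIn F p) (hEG : E.IsSubsystemOf G) (hTU : T ⊔ centralizerIn S T ≤ U)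
    (hGK : G.autGroup T = K) :
    ∃ D : FusionSystem U, D.IsNormalIn F p ∧ E.IsSubsystemOf D ∧ D.autGroup T = K' ∧
      D.IsWeaklyNormalIn G p ∧ D.HasPrimeToPIndexIn G p := by
  obtain ⟨⟨hGs, hF, hGI⟩, -⟩ := hG
  obtain ⟨hEs, -, hEI⟩ := hE
  have hU : U ≤ S := hGI.2.1.1
  have hT : F.StronglyClosed T := hEI.2.1
  have hTG : G.StronglyClosed T :=
    ⟨le_sup_left.trans hTU, fun R hR φ hφ => hT.2 R hR φ (hGI.1 R hφ)⟩
  have hUp : IsPGroup p U := hS.to_le hU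
  have hEwG : E.IsWeaklyNormalIn G p := ⟨hEs, hGs, isInvariantIn_of_strongInvariant hUp hGs hEG hTG
    fun P Q P' hPQ hQ φ hφ hφQ ψ hψ a ha χ hχ =>
      IsInvariantIn.strongInvariant hEI P Q P' hPQ hQ φ hφ hφQ ψ (hGI.1 Q hψ) a ha χ hχ⟩
  have hdat : PPrimeKernel.Data G E p K' :=
    ⟨hEwG, hGK ▸ hK'K,
      fun β hβ k hk => hK'F β (autGroup_mono_of_subsystem hGI.1 T hβ) k hk, hEK,
      fun x hx a hxa => mem_of_pow_pair (Nat.Coprime.pow_right a hd) (hpow x (hGK ▸ hx)) hxa⟩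
  have hN := PPrimeKernel.isNormalIn hUp hdat
  have hI := IsInvariantIn.autInvariant hGI
  refine ⟨_, normal_of_weakly ⟨hN.1.1, hF, ?_⟩
    ((centralizerIn_antitone hTG.1).trans (le_sup_right.trans hTU)),
    PPrimeKernel.le_sub₀ hUp hdat, ?_, hN.1, PPrimeKernel.hasPrimeToPIndexIn hUp hdat⟩
  · refine invariant_mk (fun P φ hφ => hGI.1 P (hN.1.2.2.1 P hφ)) hGI.2.1
      (sub₀_inv hUp hdat hI (IsInvariantIn.autInvariant hEI) hU hT hK'F) fun P hP φ hφ => ?_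
    obtain ⟨α, hα, φ₀, hφ₀, he⟩ := hGI.2.2.2 P hP φ hφ
    obtain ⟨γ, hγ, φ₁, hφ₁, he'⟩ := hN.1.2.2.2.2.2 P hP φ₀ hφ₀
    refine ⟨α * γ, mul_mem hα (autGroup_mono_of_subsystem hGI.1 U hγ), φ₁, hφ₁, fun x hx => ?_⟩
    rw [MulAut.mul_apply, he x (val_mem hφ₀ x)]
    exact congrArg (fun s : U => (α s : Ω)) (Subtype.ext (he' x hx))
  · have hTc := PPrimeKernel.cen_self (F := G) hTG
    have hTH : T ∈ PPrimeKernel.H G T := ⟨hTG.1, hTc.mono (le_inf le_rfl le_rfl) inf_le_right⟩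
    refine le_antisymm (fun k hk => ?_) fun k hk => ?_
    · have h1 := (mem_autGroup hTG.1).1 hk
      exact PPrimeKernel.InK.mem hUp hdat hTc (h1.1.2 T le_rfl hTc)
        (PPrimeKernel.cls_of_aut le_rfl ((mem_autGroup hTG.1).2 h1.1.1) fun _ => rfl)
    · exact (mem_autGroup hTG.1).2 (PPrimeKernel.mem_sub₀ hUp hdat hTH
        ((mem_autGroup hTG.1).1 (hdat.le hk)) ⟨k, hk,
          PPrimeKernel.cls_of_aut inf_le_right (hdat.le hk) fun _ => rfl⟩)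

end Cfsg.Agent.Lib.Fusion.Envelope
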