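import Cfsg.Agent.Lib.Fusion.Envelope
import Cfsg.Prelude.Def_Local

/-!
The chain of envelopes along a `p`-soluble series of the automiser quotient.
-/

set_option autoImplicit false

namespace Cfsg.Agent.Lib.Fusion.Envelope

open Cfsg Cfsg.FusionSystem

variable {Ω : Type*} [Group Ω] {S T : Subgroup Ω} {F : FusionSystem S} {E : FusionSystem T} {p : ℕ}

/-- A normal subsystem containing `E`, with automiser `K` of `T`, and the residual limit of `F`. -/
def Good (F : FusionSystem S) (E : FusionSystem T) (p : ℕ) (K : Subgroup (MulAut T))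
    (U : Subgroup Ω) : Prop :=
  ∃ G : FusionSystem U, G.IsNormalIn F p ∧ E.IsSubsystemOf G ∧ G.autGroup T = K ∧
    ∀ {A B : Subgroup Ω} (LF : FusionSystem A) (LG : FusionSystem B), LF.IsResidualLimitOf F p →
      LG.IsResidualLimitOf G p → ∀ P, LG.Hom P = LF.Hom P

variable [Finite S] [Fact p.Prime]

theorem good_top (hS : IsPGroup p S) (hTn : S ≤ Subgroup.normalizer (T : Set Ω))
    (hE : E.IsWeaklyNormalIn F p) : Good F E p (F.autGroup T) (usub hTn (F.autGroup T)) := by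
  obtain ⟨-, hF, hEI⟩ := hE
  have hT : F.StronglyClosed T := hEI.2.1
  rw [show usub hTn (F.autGroup T) = S from le_antisymm (usub_le _ _) fun g hg =>
    mem_usub.2 ⟨hg, autInducedBy_le_autGroup hT.1
      (mem_autInducedBy.2 ⟨g, hg, fun x => actHom_apply hTn ⟨g, hg⟩ x⟩)⟩]
  have hSI : StrongInvariant F F := fun P Q P' hPQ _ φ hφ hφQ ψ hψ a ha χ hχ => by
    have ha' : IsIso F a := mem_of_agree hPQ hψ ha
    refine mem_of_comp ha'.symm (F.comp_mem hφ hψ hφQ) (fun y => (a.symm y).2) fun y => ?_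
    obtain ⟨x, rfl⟩ := a.surjective y
    show χ (a x) = ψ ⟨φ ⟨(a.symm (a x) : Ω), _⟩, _⟩
    rw [hχ]
    exact congrArg ψ (Subtype.ext (congrArg φ (a.symm_apply_apply x).symm))
  refine ⟨F, normal_of_weakly ⟨hF, hF, isInvariantIn_of_strongInvariant hS hF (fun _ => subset_rfl)
    ⟨le_rfl, fun R _ φ hφ x => val_mem hφ x⟩ hSI⟩ (centralizerIn_le S S), hEI.1, rfl, ?_⟩
  intro A B LF LG hLF hLG P
  exact ResidualLimit.limit_unique hLF ‹_› ‹_› hS rfl (fun _ => rfl) hLG P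

theorem good_step_p (hS : IsPGroup p S) (hTn : S ≤ Subgroup.normalizer (T : Set Ω))
    (hE : E.IsWeaklyNormalIn F p) {K K' : Subgroup (MulAut T)}
    (hK'F : ∀ β ∈ F.autGroup T, ∀ k ∈ K', β * k * β⁻¹ ∈ K') (hK'K : K' ≤ K)
    (hEK : E.autGroup T ≤ K') {m : ℕ} (hpow : ∀ x ∈ K, x ^ p ^ m ∈ K')
    (h : Good F E p K (usub hTn K)) : Good F E p K' (usub hTn K') := by
  obtain ⟨G, hG, hEG, hGK, hlim⟩ := h
  obtain ⟨D, hD, hED, hDK, hDi⟩ := step_p hS hTn hE hK'F hK'K hEK hpow hG hEG hGK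
  have hU : usub hTn K ≤ S := usub_le _ _
  have := finite_of_le hU
  refine ⟨D, hD, hED, hDK, fun LF LD hLF hLD P => ?_⟩
  obtain ⟨A, LG, hLG⟩ := LimitPrime.exists_limit (hS.to_le hU) hG.1.1
  rw [← hlim LF LG hLF hLG P]
  exact ResidualLimit.limit_eq (hS.to_le hU) hG.1.1
    (fun g hg => by
      obtain ⟨h, hgK⟩ := mem_usub.1 hg
      exact mem_usub.2 ⟨h, hK'K hgK⟩) hD.1.1 hDi hLG hLD P

theorem good_step_p' (hS : IsPGroup p S) (hTn : S ≤ Subgroup.normalizer (T : Set Ω))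
    (hE : E.IsWeaklyNormalIn F p) {K K' : Subgroup (MulAut T)}
    (hK'F : ∀ β ∈ F.autGroup T, ∀ k ∈ K', β * k * β⁻¹ ∈ K') (hK'K : K' ≤ K)
    (hEK : E.autGroup T ≤ K') {d : ℕ} (hd : d.Coprime p) (hpow : ∀ x ∈ K, x ^ d ∈ K')
    (h : Good F E p K (usub hTn K)) : Good F E p K' (usub hTn K') := by
  obtain ⟨G, hG, hEG, hGK, hlim⟩ := h
  have hU : usub hTn K ≤ S := usub_le _ _
  have hT : T ≤ S := hE.2.2.2.1.1
  have := finite_of_le hU
  have := finite_of_le hT
  have hInn : Inn T ≤ K' := (inn_le_autGroup le_rfl).trans hEK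
  have heq : usub hTn K' = usub hTn K := by
    refine le_antisymm (fun g hg => ?_) fun g hg => ?_
    · obtain ⟨h, hgK⟩ := mem_usub.1 hg
      exact mem_usub.2 ⟨h, hK'K hgK⟩
    · obtain ⟨h, hgK⟩ := mem_usub.1 hg
      obtain ⟨a, ha⟩ := hS ⟨g, h⟩
      refine mem_usub.2 ⟨h, mem_of_pow_pair (Nat.Coprime.pow_right a hd) (hpow _ hgK) ?_⟩
      rw [← map_pow, ha, map_one]
      exact one_mem _
  rw [heq]
  obtain ⟨D, hD, hED, hDK, hDw, hDi⟩ := step_p' hS hE hK'F hK'K hEK hd hpow hG hEG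
    (sup_centralizer_le hT (hInn.trans hK'K)) hGK
  refine ⟨D, hD, hED, hDK, fun LF LD hLF hLD P => ?_⟩
  obtain ⟨A, LG, hLG⟩ := LimitPrime.exists_limit (hS.to_le hU) hG.1.1
  rw [← hlim LF LG hLF hLG P]
  exact LimitPrime.limit_prime (hS.to_le hU) hDw hDi hLG hLD P

theorem good_bot (hS : IsPGroup p S) (hTn : S ≤ Subgroup.normalizer (T : Set Ω))
    (hE : E.IsWeaklyNormalIn F p)
    (hn : ((E.autGroup T).subgroupOf (F.autGroup T)).Normal)
    (hsolv : IsPSolvable p (↥(F.autGroup T) ⧸ (E.autGroup T).subgroupOf (F.autGroup T))) :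
    Good F E p (E.autGroup T) (usub hTn (E.autGroup T)) := by
  obtain ⟨n, H, h0, hl, hmono, hN, hi⟩ := hsolv
  let q := QuotientGroup.mk' ((E.autGroup T).subgroupOf (F.autGroup T))
  let K : Fin (n + 1) → Subgroup (MulAut T) := fun i => ((H i).comap q).map (F.autGroup T).subtype
  have hEF : E.autGroup T ≤ F.autGroup T := autGroup_mono_of_subsystem hE.2.2.1 T
  have hle : ∀ i, E.autGroup T ≤ K i := fun i x hx => by
    refine ⟨⟨x, hEF hx⟩, ?_, rfl⟩
    show q ⟨x, hEF hx⟩ ∈ H i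
    rw [show q ⟨x, hEF hx⟩ = 1 from (QuotientGroup.eq_one_iff _).2 hx]
    exact one_mem _
  have hconj : ∀ i, ∀ β ∈ F.autGroup T, ∀ k ∈ K i, β * k * β⁻¹ ∈ K i := by
    rintro i β hβ _ ⟨k, hk, rfl⟩
    exact ⟨⟨β, hβ⟩ * k * ⟨β, hβ⟩⁻¹, ((hN i).comap q).conj_mem k hk _, rfl⟩
  have hsub : ∀ i j, i ≤ j → K i ≤ K j := fun i j hij =>
    Subgroup.map_mono (Subgroup.comap_mono (hmono hij))
  suffices hall : ∀ i, Good F E p (K i) (usub hTn (K i)) by
    have h1 : K 0 = E.autGroup T := by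
      refine le_antisymm ?_ (hle 0)
      rintro _ ⟨k, hk, rfl⟩
      have h2 : q k ∈ H 0 := hk
      rw [h0, Subgroup.mem_bot] at h2
      exact (QuotientGroup.eq_one_iff k).1 h2
    exact h1 ▸ hall 0
  intro i
  induction i using Fin.reverseInduction with
  | last =>
    have h1 : K (Fin.last n) = F.autGroup T := by
      show ((H (Fin.last n)).comap q).map _ = _
      rw [hl, Subgroup.comap_top, ← MonoidHom.range_eq_map, Subgroup.range_subtype]
    rw [h1]
    exact good_top hS hTn hE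
  | cast i ih =>
    have hii : i.castSucc ≤ i.succ := Fin.castSucc_le_succ i
    have hpow : ∀ x ∈ K i.succ, x ^ (H i.castSucc).relIndex (H i.succ) ∈ K i.castSucc := by
      rintro _ ⟨x, hx, rfl⟩
      refine ⟨x ^ (H i.castSucc).relIndex (H i.succ), ?_, map_pow _ _ _⟩
      show q (x ^ _) ∈ H i.castSucc
      rw [map_pow]
      have := hN i.castSucc
      exact Subgroup.pow_index_mem ((H i.castSucc).subgroupOf (H i.succ)) (⟨q x, hx⟩ : H i.succ)
    rcases hi i with ⟨m, hm⟩ | hd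
    · exact good_step_p hS hTn hE (hconj _) (hsub _ _ hii) (hle _) (fun x hx => hm ▸ hpow x hx) ih
    · exact good_step_p' hS hTn hE (hconj _) (hsub _ _ hii) (hle _) hd hpow ih

theorem usub_autGroup (hS : IsPGroup p S) (hTn : S ≤ Subgroup.normalizer (T : Set Ω))
    (hTS : T ≤ S) (hE : E.IsSaturated p) :
    usub hTn (E.autGroup T) = T ⊔ centralizerIn S T := by
  have := finite_of_le hTS
  have := finite_mulAut hTS
  refine le_antisymm (fun g hg => ?_) (sup_centralizer_le hTS (inn_le_autGroup le_rfl))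
  obtain ⟨hgS, hgK⟩ := mem_usub.1 hg
  have hn : E.IsFullyNormalized T := by
    have : Finite (normalizerIn T T) := finite_of_le (normalizerIn_le T T)
    exact ⟨le_rfl, fun Q _ => Subgroup.card_le_of_le
      ((normalizerIn_le T Q).trans (le_normalizerIn le_rfl))⟩
  obtain ⟨-, hsyl⟩ := isFullyAutomized_iff.1 (fullyNormalized_props (hS.to_le hTS) hE hn).1
  have hind : actHom hTn ⟨g, hgS⟩ ∈ autInducedBy S T :=
    mem_autInducedBy.2 ⟨g, hgS, fun x => actHom_apply hTn ⟨g, hgS⟩ x⟩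
  have h1 := hsyl.eq_of_le (R := autInducedBy S T ⊓ E.autGroup T)
    (le_inf (autInducedBy_mono hTS T) (autInducedBy_le_autGroup le_rfl)) inf_le_right
    ((isPGroup_autInducedBy hS T).to_le inf_le_left)
  have h2 : actHom hTn ⟨g, hgS⟩ ∈ autInducedBy T T := h1.le (show _ ∈ autInducedBy S T ⊓ E.autGroup T from ⟨hind, hgK⟩)
  obtain ⟨t, ht, hte⟩ := mem_autInducedBy.1 h2
  have h3 : t⁻¹ * g ∈ centralizerIn S T := by
    refine mem_centralizerIn.2 ⟨S.mul_mem (S.inv_mem (hTS ht)) hgS, fun y hy => ?_⟩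
    have h4 : g * y * g⁻¹ = t * y * t⁻¹ := (actHom_apply hTn ⟨g, hgS⟩ ⟨y, hy⟩).symm.trans (hte ⟨y, hy⟩)
    calc y * (t⁻¹ * g) = t⁻¹ * (t * y * t⁻¹) * g := by group
      _ = t⁻¹ * (g * y * g⁻¹) * g := by rw [h4]
      _ = t⁻¹ * g * y := by group
  simpa using Subgroup.mul_mem_sup ht h3

end Cfsg.Agent.Lib.Fusion.Envelope
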