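import Cfsg.Agent.Lib.Fusion.GroupSimple
import Cfsg.Agent.Lib.Fusion.CosetInvariant

/-!
Simplicity of the 2-fusion system of a group with an involution centralizer `2^{1+4}.A₅`.
-/

set_option autoImplicit false

namespace Cfsg.Agent.Lib.Fusion.ExtraCentralizer

open Cfsg Cfsg.FusionSystem Subgroup

variable {G : Type*} [Group G]

/-- The hypotheses. -/
structure Data (C R : Subgroup G) (z : G) : Prop where
  le : R ≤ C
  norm : ∀ c ∈ C, ∀ r ∈ R, c * r * c⁻¹ ∈ R
  cardC : Nat.card C = 1920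
  cardR : Nat.card R = 32
  odd : Odd C.index
  cen : ∀ x : G, x ∈ C ↔ x * z = z * x
  zR : z ∈ R
  z1 : z ≠ 1
  center : ∀ x ∈ R, (∀ y ∈ R, x * y = y * x) → x = 1 ∨ x = z
  comm : ∀ a ∈ R, ∀ b ∈ R, a * b * a⁻¹ * b⁻¹ = 1 ∨ a * b * a⁻¹ * b⁻¹ = z
  top : ∀ N : Subgroup G, R ≤ N → N ≤ C → (∀ c ∈ C, ∀ n ∈ N, c * n * c⁻¹ ∈ N) → N = R ∨ N = C
  conj : ∀ s ∈ C, ∀ t ∈ C, s ∉ R → t ∉ R → (∃ k : ℕ, s ^ 2 ^ k = 1) → (∃ k : ℕ, t ^ 2 ^ k = 1) →
    ∃ c ∈ C, (c * t * c⁻¹)⁻¹ * s ∈ R
  moves : ∃ c ∈ C, ∃ r ∈ R, c * r * c⁻¹ * r⁻¹ ≠ 1 ∧ c * r * c⁻¹ * r⁻¹ ≠ z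
  inside : ∃ g : G, g * z * g⁻¹ ∈ R ∧ g * z * g⁻¹ ≠ z
  outside : ∃ g : G, ∃ r ∈ R, g * r * g⁻¹ ∈ C ∧ g * r * g⁻¹ ∉ R

theorem Data.map {G' : Type*} [Group G'] {C R : Subgroup G} {z : G} (d : Data C R z) (e : G ≃* G') :
    Data (C.map e.toMonoidHom) (R.map e.toMonoidHom) (e z) := by
  have hm : ∀ (H : Subgroup G) (x : G), e x ∈ H.map e.toMonoidHom ↔ x ∈ H := fun H x =>
    mem_map_iff_mem e.injective
  have hc : ∀ (H : Subgroup G), Nat.card (H.map e.toMonoidHom) = Nat.card H := fun H =>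
    (Nat.card_congr (H.equivMapOfInjective _ e.injective).toEquiv).symm
  refine ⟨map_mono d.le, ?_, (hc C).trans d.cardC, (hc R).trans d.cardR, ?_, ?_, (hm R z).2 d.zR, ?_, ?_, ?_,
    ?_, ?_, ?_, ?_, ?_⟩
  · rintro _ ⟨c, hcC, rfl⟩ _ ⟨r, hr, rfl⟩
    exact ⟨c * r * c⁻¹, d.norm c hcC r hr, by simp⟩
  · rw [show (C.map e.toMonoidHom).index = C.index from index_map_equiv C e]; exact d.odd
  · intro x
    obtain ⟨x, rfl⟩ := e.surjective x
    rw [hm, d.cen, ← map_mul, ← map_mul, e.injective.eq_iff]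
  · exact fun h => d.z1 (e.injective (by rw [h, map_one]))
  · rintro _ ⟨x, hx, rfl⟩ h
    rcases d.center x hx (fun y hy => e.injective (by
      have := h (e y) ((hm R y).2 hy)
      rw [map_mul, map_mul]; exact this)) with h1 | h1
    · exact Or.inl (by rw [h1]; exact map_one e)
    · exact Or.inr (by rw [h1]; rfl)
  · rintro _ ⟨a, ha, rfl⟩ _ ⟨b, hb, rfl⟩
    rcases d.comm a ha b hb with h | h
    · left; have := congrArg e h; simpa using this
    · right; have := congrArg e h; simpa using this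
  · intro N hRN hNC hN
    have hN' : N = (N.comap e.toMonoidHom).map e.toMonoidHom :=
      (map_comap_eq_self_of_surjective e.surjective N).symm
    rcases d.top (N.comap e.toMonoidHom) (map_le_iff_le_comap.1 hRN)
      (fun x hx => (hm C x).1 (hNC hx)) (fun c hcC n hn => by
        show e (c * n * c⁻¹) ∈ N
        rw [map_mul, map_mul, map_inv]
        exact hN _ ((hm C c).2 hcC) _ hn) with h | h
    · left; rw [hN', h]
    · right; rw [hN', h]
  · rintro _ ⟨s, hs, rfl⟩ _ ⟨t, ht, rfl⟩ hsR htR ⟨k, hk⟩ ⟨l, hl⟩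
    obtain ⟨c, hcC, hcr⟩ := d.conj s hs t ht (fun h => hsR ((hm R s).2 h)) (fun h => htR ((hm R t).2 h))
      ⟨k, e.injective (by rw [map_pow, map_one]; exact hk)⟩ ⟨l, e.injective (by rw [map_pow, map_one]; exact hl)⟩
    exact ⟨e c, (hm C c).2 hcC, ⟨_, hcr, by simp⟩⟩
  · obtain ⟨c, hcC, r, hr, h1, h2⟩ := d.moves
    exact ⟨e c, (hm C c).2 hcC, e r, (hm R r).2 hr, fun h => h1 (e.injective (by simpa using h)),
      fun h => h2 (e.injective (by simpa using h))⟩
  · obtain ⟨g, h1, h2⟩ := d.inside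
    exact ⟨e g, ⟨_, h1, by simp⟩, fun h => h2 (e.injective (by simpa using h))⟩
  · obtain ⟨g, r, hr, h1, h2⟩ := d.outside
    exact ⟨e g, e r, (hm R r).2 hr, ⟨_, h1, by simp⟩, fun h => h2 ((hm R _).1 (by simpa using h))⟩

variable [Finite G] {C R : Subgroup G} {z : G}

theorem Data.zC (d : Data C R z) : z ∈ C := d.le d.zR

theorem Data.z_sq (d : Data C R z) : z * z = 1 := by
  rcases d.center (z * z) (mul_mem d.zR d.zR) (fun y hy => by
    have := (d.cen y).1 (d.le hy)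
    rw [mul_assoc, ← this, ← mul_assoc, ← this, mul_assoc]) with h | h
  · exact h
  · exact absurd (mul_eq_left.1 h) d.z1

/-- The centralizer of `R` lies in `R`. -/
theorem Data.cen_le (d : Data C R z) : centralizer (R : Set G) ≤ R := by
  let Z : Set G := {1, z}
  have hZ : ∀ a ∈ Z, ∀ b ∈ Z, a * b ∈ Z := by
    rintro a (rfl | rfl) b (rfl | rfl) <;> simp [Z, d.z_sq]
  have hZi : ∀ a ∈ Z, a⁻¹ ∈ Z := by
    rintro a (rfl | rfl)
    · simp [Z]
    · rw [inv_eq_of_mul_eq_one_right d.z_sq]; simp [Z]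
  let K : Subgroup G :=
    { carrier := {c | c ∈ C ∧ ∀ r ∈ R, c * r * c⁻¹ * r⁻¹ ∈ Z}
      one_mem' := ⟨one_mem _, fun r _ => by simp [Z]⟩
      mul_mem' := by
        rintro a b ⟨ha, ha'⟩ ⟨hb, hb'⟩
        refine ⟨mul_mem ha hb, fun r hr => ?_⟩
        have h1 := hZ _ (ha' _ (d.norm b hb r hr)) _ (hb' r hr)
        simpa [mul_assoc] using h1
      inv_mem' := by
        rintro a ⟨ha, ha'⟩
        refine ⟨InvMemClass.inv_mem ha, fun r hr => ?_⟩
        have h1 := hZi _ (ha' _ (d.norm a⁻¹ (InvMemClass.inv_mem ha) r hr))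
        simpa [mul_assoc] using h1 }
  intro x hx
  have hxC : x ∈ C := (d.cen x).2 (mem_centralizer_iff.1 hx z d.zR).symm
  let N : Subgroup G := R ⊔ (C ⊓ centralizer (R : Set G))
  have hNK : N ≤ K := sup_le (fun a ha => ⟨d.le ha, fun r hr => d.comm a ha r hr⟩) (fun a ha => ⟨ha.1, fun r hr => by
    left; rw [← mem_centralizer_iff.1 ha.2 r hr, mul_inv_cancel_right, mul_inv_cancel]⟩)
  have hN : N ≤ C := sup_le d.le inf_le_left
  have hnorm : ∀ c ∈ C, ∀ n ∈ N, c * n * c⁻¹ ∈ N := by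
    intro c hcC n hn
    have : N ≤ N.comap (MulAut.conj c).toMonoidHom := sup_le
      (fun a ha => mem_sup_left (d.norm c hcC a ha))
      (fun a ha => mem_sup_right (mem_inf.2 ⟨mul_mem (mul_mem hcC (mem_inf.1 ha).1) (InvMemClass.inv_mem hcC), mem_centralizer_iff.2 fun r hr => by
        have h1 := mem_centralizer_iff.1 (mem_inf.1 ha).2 _ (d.norm c⁻¹ (InvMemClass.inv_mem hcC) r hr)
        calc r * (c * a * c⁻¹) = c * ((c⁻¹ * r * c⁻¹⁻¹) * a) * c⁻¹ := by group
          _ = c * (a * (c⁻¹ * r * c⁻¹⁻¹)) * c⁻¹ := by rw [h1]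
          _ = c * a * c⁻¹ * r := by group⟩))
    exact this hn
  rcases d.top N le_sup_left hN hnorm with h | h
  · exact h.le (mem_sup_right ⟨hxC, hx⟩)
  · obtain ⟨c, hcC, r, hr, h1, h2⟩ := d.moves
    rcases (hNK (h.ge hcC)).2 r hr with e | e
    · exact absurd e h1
    · exact absurd e h2

theorem modEq_fixed {M : Subgroup G} {c : G} (hc : c ^ 5 = 1) (hM : ∀ m ∈ M, c * m * c⁻¹ ∈ M) :
    Nat.card M ≡ Nat.card (M ⊓ centralizer ({c} : Set G) : Subgroup G) [MOD 5] := by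
  classical
  haveI := Fintype.ofFinite M
  haveI : Fact (Nat.Prime 5) := ⟨by norm_num⟩
  let f : M → M := fun u => ⟨c * u * c⁻¹, hM u u.2⟩
  have hf : Function.Bijective f := Finite.injective_iff_bijective.1 fun u w h => by
    exact Subtype.ext (mul_left_cancel (mul_right_cancel (congrArg Subtype.val h)))
  let σ : Equiv.Perm M := Equiv.ofBijective f hf
  have hσ : ∀ (k : ℕ) (u : M), (((σ ^ k) u : M) : G) = c ^ k * u * (c ^ k)⁻¹ := by
    intro k
    induction k with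
    | zero => intro u; simp
    | succ k ih =>
      intro u
      rw [pow_succ', Equiv.Perm.mul_apply]
      show c * (((σ ^ k) u : M) : G) * c⁻¹ = _
      rw [ih, pow_succ']; group
  have hσr : σ ^ 5 ^ 1 = 1 := by
    rw [pow_one]; ext u
    rw [hσ, hc]; simp
  have := Equiv.Perm.card_compl_support_modEq hσr
  rw [← Nat.card_eq_fintype_card] at this
  refine Nat.ModEq.trans this.symm ?_
  rw [← Fintype.card_coe, ← Nat.card_eq_fintype_card]
  suffices e : {u // u ∈ σ.supportᶜ} ≃ {x : G // x ∈ M ∧ x ∈ centralizer ({c} : Set G)} by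
    rw [Nat.card_congr e]; exact Nat.ModEq.refl _
  refine (Equiv.subtypeEquivRight (fun u => ?_)).trans
    (Equiv.subtypeSubtypeEquivSubtypeInter (fun x : G => x ∈ M) (fun x => x ∈ centralizer ({c} : Set G)))
  rw [Finset.mem_compl, Equiv.Perm.mem_support, not_not, Subtype.ext_iff, mem_centralizer_singleton_iff]
  show c * (u : G) * c⁻¹ = _ ↔ _
  rw [mul_inv_eq_iff_eq_mul, eq_comm]

/-- A normal subgroup of `C` strictly between the centre and `R` does not exist. -/
theorem Data.irr (d : Data C R z) {M : Subgroup G} (hMR : M ≤ R) (hn : ∀ c ∈ C, ∀ m ∈ M, c * m * c⁻¹ ∈ M)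
    (hz : z ∈ M) (hne : ∃ m ∈ M, m ≠ 1 ∧ m ≠ z) : M = R := by
  classical
  haveI : Fact (Nat.Prime 5) := ⟨by norm_num⟩
  obtain ⟨⟨c, hcC⟩, hord⟩ := exists_prime_orderOf_dvd_card' (G := C) 5 (by rw [d.cardC]; norm_num)
  have hc5 : c ^ 5 = 1 := by
    have := pow_orderOf_eq_one (⟨c, hcC⟩ : C)
    rw [hord] at this
    exact congrArg Subtype.val this
  have h2 : IsPGroup 2 R := IsPGroup.of_card (n := 5) (by rw [d.cardR]; norm_num)
  set F : Subgroup G := R ⊓ centralizer ({c} : Set G) with hF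
  obtain ⟨k, hk, hkF⟩ := (Nat.dvd_prime_pow Nat.prime_two (m := 5)).1
    (show Nat.card F ∣ 2 ^ 5 by
      have := card_dvd_of_le (inf_le_left : F ≤ R)
      rwa [d.cardR] at this)
  have hmod := modEq_fixed hc5 (d.norm c hcC)
  rw [d.cardR, ← hF, hkF] at hmod
  have hFne : F ≠ R := by
    intro e
    have hcR : c ∈ R := d.cen_le (mem_centralizer_iff.2 fun r hr => by
      have : r ∈ F := e.ge hr
      exact (mem_centralizer_singleton_iff.1 this.2).symm ▸ rfl)
    obtain ⟨a, ha⟩ := h2 ⟨c, hcR⟩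
    have h1 : c ^ 2 ^ a = 1 := congrArg Subtype.val ha
    have : orderOf c ∣ 2 ^ a := orderOf_dvd_of_pow_eq_one h1
    rw [← Subgroup.orderOf_mk c hcC, hord] at this
    exact absurd ((Nat.prime_dvd_prime_iff_eq (by norm_num) Nat.prime_two).1
      ((show Nat.Prime 5 by norm_num).dvd_of_dvd_pow this)) (by norm_num)
  have hk1 : k = 1 := by
    rcases lt_or_eq_of_le hk with hlt | rfl
    · interval_cases k <;> first | rfl | (exfalso; revert hmod; decide)
    · exact absurd (eq_of_le_of_card_ge inf_le_left (by rw [d.cardR, hkF]; norm_num)) hFne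
  subst hk1
  have hzF : z ∈ F := ⟨d.zR, mem_centralizer_singleton_iff.2 ((d.cen c).1 hcC).symm⟩
  have hMF : M ⊓ centralizer ({c} : Set G) = F := by
    refine eq_of_le_of_card_ge (inf_le_inf_right _ hMR) ?_
    have h1 : 1 < Nat.card (M ⊓ centralizer ({c} : Set G) : Subgroup G) := by
      rw [Finite.one_lt_card_iff_nontrivial]
      exact ⟨⟨⟨z, hz, hzF.2⟩, 1, fun e => d.z1 (congrArg Subtype.val e)⟩⟩
    rw [hkF]; omega
  obtain ⟨m, hm, hmM⟩ := (Nat.dvd_prime_pow Nat.prime_two (m := 5)).1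
    (show Nat.card M ∣ 2 ^ 5 by
      have := card_dvd_of_le hMR
      rwa [d.cardR] at this)
  have hmod' := modEq_fixed hc5 (hn c hcC)
  rw [hMF, hkF, hmM] at hmod'
  rcases lt_or_eq_of_le hm with hlt | rfl
  · exfalso
    have hm1 : m = 1 := by interval_cases m <;> first | rfl | (exfalso; revert hmod'; decide)
    subst hm1
    obtain ⟨x, hx, hx1, hxz⟩ := hne
    haveI := Fintype.ofFinite M
    have h3 : 3 ≤ Nat.card M := by
      rw [Nat.card_eq_fintype_card]
      refine Fintype.two_lt_card_iff.2 ⟨⟨1, one_mem M⟩, ⟨z, hz⟩, ⟨x, hx⟩, ?_, ?_, ?_⟩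
      · exact fun e => d.z1 (congrArg Subtype.val e).symm
      · exact fun e => hx1 (congrArg Subtype.val e).symm
      · exact fun e => hxz (congrArg Subtype.val e).symm
    omega
  · exact eq_of_le_of_card_ge hMR (by rw [d.cardR, hmM]; norm_num)

theorem mem_of_stronglyClosed {S T : Subgroup G} (hT : (groupFusionSystem S).StronglyClosed T) {x g : G}
    (hx : x ∈ T) (hg : g * x * g⁻¹ ∈ S) : g * x * g⁻¹ ∈ T := by
  have hm : conjHom (zpowers x) g ∈ (groupFusionSystem S).Hom (zpowers x) := by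
    refine ⟨zpowers_le.2 (hT.1 hx), fun w => ?_, g, fun w => rfl⟩
    obtain ⟨w, k, rfl⟩ := w
    show g * x ^ k * g⁻¹ ∈ S
    rw [← conj_zpow]; exact zpow_mem hg k
  exact hT.2 _ (zpowers_le.2 hx) _ hm ⟨x, mem_zpowers x⟩

/-- The fusion system is simple for a Sylow subgroup inside `C`. -/
theorem Data.simple_of_le (d : Data C R z) (S : Sylow 2 G) (hSC : (S : Subgroup G) ≤ C) :
    (groupFusionSystem (S : Subgroup G)).IsSimple 2 := by
  have hCR : C ≤ normalizer (R : Set G) := fun c hc => by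
    rw [mem_normalizer_iff]
    intro r
    refine ⟨d.norm c hc r, fun h => ?_⟩
    have := d.norm c⁻¹ (InvMemClass.inv_mem hc) _ h
    simpa [mul_assoc] using this
  have h2R : IsPGroup 2 R := IsPGroup.of_card (n := 5) (by rw [d.cardR]; norm_num)
  have hRS : R ≤ (S : Subgroup G) := by
    have h := S.3 (S.2.to_sup_of_normal_right' h2R (hSC.trans hCR)) le_sup_left
    exact le_sup_right.trans h.le
  have hSne : (S : Subgroup G) ≠ R := by
    intro e
    apply S.not_dvd_index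
    have hr : R.relIndex C = 60 := by
      have h3 : R.relIndex C * Nat.card R = Nat.card C := by
        rw [Subgroup.relIndex, ← Nat.card_congr (Subgroup.subgroupOfEquivOfLe d.le).toEquiv, mul_comm]
        exact card_mul_index _
      rw [d.cardR, d.cardC] at h3
      omega
    rw [e, ← relIndex_mul_index d.le, hr]
    exact Dvd.dvd.mul_right (by norm_num) _
  obtain ⟨s0, hs0, hs0R⟩ := SetLike.exists_of_lt (lt_of_le_of_ne hRS hSne.symm)
  have hpow : ∀ y ∈ (S : Subgroup G), ∃ k : ℕ, y ^ 2 ^ k = 1 := fun y hy => by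
    obtain ⟨k, hk⟩ := S.2 ⟨y, hy⟩
    exact ⟨k, congrArg Subtype.val hk⟩
  have hS1 : (S : Subgroup G) ≠ ⊥ := fun e => d.z1 (mem_bot.1 (e.le (hRS d.zR)))
  have hcenS : ∀ x ∈ (S : Subgroup G), (∀ y ∈ (S : Subgroup G), x * y = y * x) → x = 1 ∨ x = z := fun x _ h =>
    d.center x (d.cen_le (mem_centralizer_iff.2 fun r hr => (h r (hRS hr)).symm)) fun y hy => h y (hRS hy)
  have hNC : normalizer ((S : Subgroup G) : Set G) ≤ C := by
    intro n hn
    have hz' : n * z * n⁻¹ ∈ (S : Subgroup G) := (mem_normalizer_iff.1 hn z).1 (hRS d.zR)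
    rcases hcenS _ hz' (fun y hy => by
      have hy' : n⁻¹ * y * n ∈ (S : Subgroup G) := by
        rw [mem_normalizer_iff.1 hn]
        simpa [mul_assoc] using hy
      have h1 := (d.cen _).1 (hSC hy')
      calc n * z * n⁻¹ * y = n * (z * (n⁻¹ * y * n)) * n⁻¹ := by group
        _ = n * (n⁻¹ * y * n * z) * n⁻¹ := by rw [h1]
        _ = y * (n * z * n⁻¹) := by group) with e | e
    · exact absurd (by simpa [mul_assoc] using congrArg (fun w => n⁻¹ * w * n) e) d.z1
    · exact (d.cen n).2 (mul_inv_eq_iff_eq_mul.1 e)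
  refine isSimple_group S hS1 ?_ ?_
  · intro T hT
    by_cases hT1 : T = ⊥
    · exact Or.inl hT1
    refine Or.inr (le_antisymm hT.1 ?_)
    haveI : (T.subgroupOf (S : Subgroup G)).Normal :=
      normal_subgroupOf_of_le_normalizer (le_normalizer_of_stronglyClosed hT)
    obtain ⟨w, hwT, hwc, hw1⟩ := GenStruct.exists_mem_center S.2 (T.subgroupOf (S : Subgroup G))
      (fun h => hT1 ((subgroupOf_eq_bot.1 h).eq_bot_of_le hT.1))
    have hzT : z ∈ T := by
      rcases hcenS w w.2 (fun y hy => congrArg Subtype.val (mem_center_iff.1 hwc ⟨y, hy⟩).symm) with e | e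
      · exact absurd (Subtype.ext e) hw1
      · exact e ▸ hwT
    obtain ⟨g, hgR, hgz⟩ := d.inside
    have hMn : ∀ c ∈ C, ∀ m ∈ T ⊓ R, c * m * c⁻¹ ∈ T ⊓ R := fun c hc m hm =>
      ⟨mem_of_stronglyClosed hT hm.1 (hRS (d.norm c hc m hm.2)), d.norm c hc m hm.2⟩
    have hM := d.irr inf_le_right hMn ⟨hzT, d.zR⟩ ⟨g * z * g⁻¹,
      ⟨mem_of_stronglyClosed hT hzT (hRS hgR), hgR⟩, fun e => d.z1 (by
        simpa [mul_assoc] using congrArg (fun w => g⁻¹ * w * g) e), hgz⟩
    have hRT : R ≤ T := fun r hr => (hM.ge hr).1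
    obtain ⟨g, r, hr, hgC, hgR⟩ := d.outside
    set y := g * r * g⁻¹ with hy
    have hy2 : ∃ k : ℕ, y ^ 2 ^ k = 1 := by
      obtain ⟨k, hk⟩ := hpow r (hRS hr)
      exact ⟨k, by rw [hy, conj_pow, hk]; simp⟩
    obtain ⟨c, hc, t, htT, htR, ht⟩ : ∃ c ∈ C, ∃ t, t ∈ T ∧ t ∉ R ∧ c * y * c⁻¹ = t := by
      obtain ⟨c, hc, hcr⟩ := d.conj s0 (hSC hs0) y hgC hs0R hgR (hpow s0 hs0) hy2
      have hS' : c * y * c⁻¹ ∈ (S : Subgroup G) := by
        have := mul_mem hs0 (InvMemClass.inv_mem (hRS hcr))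
        simpa [mul_assoc] using this
      refine ⟨c, hc, _, ?_, fun h => hgR ?_, rfl⟩
      · have := mem_of_stronglyClosed hT (hRT hr) (g := c * g) (by simpa [hy, mul_assoc] using hS')
        simpa [hy, mul_assoc] using this
      · have := d.norm c⁻¹ (InvMemClass.inv_mem hc) _ h
        simpa [mul_assoc] using this
    intro s hs
    by_cases hsR : s ∈ R
    · exact hRT hsR
    obtain ⟨c', hc', hcr⟩ := d.conj s (hSC hs) t (hSC (hT.1 htT)) hsR htR (hpow s hs) (hpow t (hT.1 htT))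
    have hS' : c' * t * c'⁻¹ ∈ (S : Subgroup G) := by
      have := mul_mem hs (InvMemClass.inv_mem (hRS hcr))
      simpa [mul_assoc] using this
    have := mul_mem (mem_of_stronglyClosed hT htT hS') (hRT hcr)
    simpa [mul_assoc] using this
  · refine le_trans ?_ le_sup_right
    intro n hn
    refine subset_closure ⟨hn, R, hSC.trans hCR, isCentric_of_centralizer_le hRS d.cen_le, ?_⟩
    set L : Subgroup G := closure {x | x ∈ C ∧ ∃ k : ℕ, x ^ 2 ^ k = 1} with hL
    have hLC : L ≤ C := (closure_le _).2 fun x hx => hx.1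
    have hle : L ≤ closure {x | x ∈ normalizer (R : Set G) ∧ ∃ k : ℕ, x ^ 2 ^ k = 1} :=
      closure_mono fun x hx => ⟨hCR hx.1, hx.2⟩
    have hSL : (S : Subgroup G) ≤ L := fun s hs => subset_closure ⟨hSC hs, hpow s hs⟩
    have hnL : ∀ c ∈ C, ∀ x ∈ L, c * x * c⁻¹ ∈ L := by
      intro c hc x hx
      have : L ≤ L.comap (MulAut.conj c).toMonoidHom := (closure_le _).2 (by
        rintro a ⟨ha, k, hk⟩
        exact subset_closure ⟨mul_mem (mul_mem hc ha) (InvMemClass.inv_mem hc), k, by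
          show (c * a * c⁻¹) ^ 2 ^ k = 1
          rw [conj_pow, hk]; simp⟩)
      exact this hx
    rcases d.top L (hRS.trans hSL) hLC hnL with e | e
    · exact absurd (e.le (hSL hs0)) hs0R
    · exact hle (e.ge (hNC hn))

/-- The fusion system is simple. -/
theorem Data.simple (d : Data C R z) (S : Sylow 2 G) : (groupFusionSystem (S : Subgroup G)).IsSimple 2 := by
  haveI : Fact (Nat.Prime 2) := ⟨Nat.prime_two⟩
  obtain ⟨P, hP⟩ := (default : Sylow 2 C).2.map C.subtype |>.exists_le_sylow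
  have hPC : (P : Subgroup G) ≤ C := by
    set Q := ((default : Sylow 2 C) : Subgroup C).map C.subtype with hQ
    have hQi : ¬ 2 ∣ Q.index := by
      rw [hQ, index_map_subtype]
      exact Nat.prime_two.not_dvd_mul (Sylow.not_dvd_index _) (Nat.two_dvd_ne_zero.2 (Nat.odd_iff.1 d.odd))
    obtain ⟨k, hk⟩ := IsPGroup.iff_card.1 P.2
    have h1 : Q.relIndex (P : Subgroup G) = 1 := by
      have hd : Q.relIndex (P : Subgroup G) ∣ Q.index := ⟨_, (relIndex_mul_index hP).symm⟩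
      have hd2 : Q.relIndex (P : Subgroup G) ∣ 2 ^ k := hk ▸ Subgroup.index_dvd_card _
      obtain ⟨m, -, hm⟩ := (Nat.dvd_prime_pow Nat.prime_two).1 hd2
      rcases m with _ | m
      · simpa using hm
      · exact absurd (dvd_trans (by rw [hm]; exact dvd_pow_self 2 (by omega)) hd) hQi
    exact (relIndex_eq_one.1 h1).trans (map_subtype_le _)
  obtain ⟨g, hg⟩ := MulAction.exists_smul_eq G P S
  refine (d.map (MulAut.conj g)).simple_of_le S ?_
  rw [← hg, Sylow.coe_subgroup_smul]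
  exact map_mono hPC

end Cfsg.Agent.Lib.Fusion.ExtraCentralizer
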