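import Cfsg.Agent.Lib.Fusion.Simple
import Cfsg.Agent.Lib.Fusion.Morphism

/-!
Simplicity criteria for fusion systems of finite groups.
-/

set_option autoImplicit false

namespace Cfsg.Agent.Lib.Fusion

open Cfsg Cfsg.FusionSystem
open scoped commutatorElement

variable {G : Type*} [Group G] {p : ℕ}

theorem isCentric_of_centralizer_le {S R : Subgroup G} (hRS : R ≤ S)
    (hC : Subgroup.centralizer (R : Set G) ≤ R) : (groupFusionSystem S).IsCentric R := by
  refine ⟨hRS, ?_⟩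
  rintro R' ⟨φ, ⟨-, -, g, hg⟩, rfl⟩ x hx
  have h1 : g⁻¹ * x * g ∈ R := by
    refine hC (Subgroup.mem_centralizer_iff.2 fun y hy => ?_)
    have h2 := (mem_centralizerIn.1 hx).2 _ ⟨⟨y, hy⟩, rfl⟩
    rw [hg] at h2
    calc y * (g⁻¹ * x * g) = g⁻¹ * (g * y * g⁻¹ * x) * g := by group
      _ = g⁻¹ * (x * (g * y * g⁻¹)) * g := by rw [h2]
      _ = g⁻¹ * x * g * y := by group
  exact ⟨⟨_, h1⟩, by rw [hg]; group⟩

theorem fullyNormalized_of_le_normalizer {Ω : Type*} [Group Ω] {S : Subgroup Ω} [Finite S]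
    (F : FusionSystem S) {R : Subgroup Ω} (hR : R ≤ S)
    (hn : S ≤ Subgroup.normalizer (R : Set Ω)) : F.IsFullyNormalized R :=
  ⟨hR, fun Q _ => by
    rw [show normalizerIn S R = S from inf_eq_left.2 hn]
    exact Subgroup.card_le_of_le (normalizerIn_le S Q)⟩

/-- Simplicity of the fusion system of a group whose Sylow normalizer is generated by `S` and elements
acting on centric subgroups normal in `S` through the `p`-elements of their normalizers. -/
theorem isSimple_group [Finite G] [Fact p.Prime] (S : Sylow p G) (hS1 : (S : Subgroup G) ≠ ⊥)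
    (hsc : ∀ T, (groupFusionSystem (S : Subgroup G)).StronglyClosed T →
      T = ⊥ ∨ T = (S : Subgroup G))
    (hgen : Subgroup.normalizer ((S : Subgroup G) : Set G) ≤
      (S : Subgroup G) ⊔ Subgroup.closure {g : G | g ∈ Subgroup.normalizer ((S : Subgroup G) : Set G) ∧
        ∃ R : Subgroup G, (S : Subgroup G) ≤ Subgroup.normalizer (R : Set G) ∧
          (groupFusionSystem (S : Subgroup G)).IsCentric R ∧
          g ∈ Subgroup.closure {x : G | x ∈ Subgroup.normalizer (R : Set G) ∧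
            ∃ k : ℕ, x ^ p ^ k = 1}}) :
    (groupFusionSystem (S : Subgroup G)).IsSimple p := by
  have hpS : IsPGroup p (S : Subgroup G) := S.2
  have hF := groupFusionSystem_saturated S
  refine isSimple_of hF hS1 hsc fun E hE => ?_
  obtain ⟨⟨hEs, -, hEi⟩, -⟩ := hE
  let good : Subgroup G :=
    { carrier := {g | ∃ h : g ∈ Subgroup.normalizer ((S : Subgroup G) : Set G),
        conjAut (S : Subgroup G) h ∈ E.autGroup (S : Subgroup G)}
      one_mem' := ⟨Subgroup.one_mem _, by convert Subgroup.one_mem _; ext; simp⟩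
      mul_mem' := fun {a b} ha hb => ⟨Subgroup.mul_mem _ ha.1 hb.1, by
        convert Subgroup.mul_mem _ ha.2 hb.2 using 1; ext; simp [mul_assoc]⟩
      inv_mem' := fun {a} ha => ⟨Subgroup.inv_mem _ ha.1, by
        convert Subgroup.inv_mem _ ha.2 using 1
        apply eq_inv_of_mul_eq_one_left
        ext; simp [mul_assoc]⟩ }
  have hle : Subgroup.normalizer ((S : Subgroup G) : Set G) ≤ good := by
    refine hgen.trans (sup_le (fun s hs => ⟨Subgroup.le_normalizer hs,
      autInducedBy_le_autGroup le_rfl (conjAut_mem_autInducedBy hs _)⟩)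
      ((Subgroup.closure_le _).2 ?_))
    rintro g ⟨hgS, R, hSR, hRc, hg⟩
    have hFN := fullyNormalized_of_le_normalizer (groupFusionSystem (S : Subgroup G)) hRc.1 hSR
    have hL : ∃ h : g ∈ Subgroup.normalizer (R : Set G), conjAut R h ∈ E.autGroup R := by
      clear hgS
      induction hg using Subgroup.closure_induction with
      | mem x hx =>
        obtain ⟨hxn, k, hk⟩ := hx
        refine ⟨hxn, pElement_mem_autGroup hpS hF hEi hFN ((mem_autGroup hFN.1).2
          ⟨hFN.1, fun y => hFN.1 (conjAut R hxn y).2, x, fun y => rfl⟩) ⟨k, ?_⟩⟩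
        show R.normalizerMonoidHom ⟨x, hxn⟩ ^ p ^ k = 1
        rw [← map_pow]
        convert map_one R.normalizerMonoidHom
        exact Subtype.ext hk
      | one => exact ⟨one_mem _, by convert Subgroup.one_mem _; ext; simp⟩
      | mul a b _ _ ha hb => exact ⟨mul_mem ha.1 hb.1, by
          convert Subgroup.mul_mem _ ha.2 hb.2 using 1; ext; simp [mul_assoc]⟩
      | inv a _ ha => exact ⟨inv_mem ha.1, by
          convert Subgroup.inv_mem _ ha.2 using 1
          apply eq_inv_of_mul_eq_one_left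
          ext; simp [mul_assoc]⟩
    obtain ⟨hgR, hgc⟩ := hL
    exact ⟨hgS, conjAut_mem_of_centric hpS hF hEs hEi.1 hgS hRc hgR hgc⟩
  intro α hα
  obtain ⟨-, -, g, hg⟩ := (mem_autGroup le_rfl).1 hα
  obtain ⟨h, hh⟩ := hle (normalizes_of_induced hg)
  rwa [show α = conjAut (S : Subgroup G) h by ext x; rw [conjAut_apply]; exact hg x]

/-- A Sylow subgroup is recognised by its normalizer. -/
theorem exists_sylow_of_normalizer [Finite G] [Fact p.Prime] {U : Subgroup G} (hU : IsPGroup p U)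
    (h : ∀ g ∈ Subgroup.normalizer (U : Set G), (∃ k : ℕ, g ^ p ^ k = 1) → g ∈ U) :
    ∃ P : Sylow p G, (P : Subgroup G) = U := by
  obtain ⟨P, hP⟩ := hU.exists_le_sylow
  refine ⟨P, hP.antisymm' ?_⟩
  by_contra hne
  have hlt : U < (P : Subgroup G) := lt_of_le_of_ne hP fun e => hne e.ge
  obtain ⟨g, hg, hgU⟩ := SetLike.exists_of_lt (lt_normalizer_inf P.2 hlt)
  obtain ⟨k, hk⟩ := P.2 ⟨g, hg.1⟩
  exact hgU (h g hg.2 ⟨k, congrArg Subtype.val hk⟩)

/-- In an abelian quotient by a strongly closed subgroup, when `Aut(S)` is inner, every map of the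
system is trivial. -/
theorem inv_mul_mem_of_abelian_quotient {Ω : Type*} [Group Ω] {S : Subgroup Ω} {F : FusionSystem S}
    [Finite S] [Fact p.Prime] (hS : IsPGroup p S) (hF : F.IsSaturated p) {T : Subgroup Ω}
    (hT : F.StronglyClosed T) (hab : ∀ x ∈ S, ∀ y ∈ S, ⁅x, y⁆ ∈ T)
    (htop : F.autGroup S ≤ Inn S) {P : Subgroup Ω} {φ : P →* Ω} (hφ : φ ∈ F.Hom P) (x : P) :
    (x : Ω)⁻¹ * φ x ∈ T := by
  have hn : (T.subgroupOf S).Normal :=
    Subgroup.normal_subgroupOf_of_le_normalizer (le_normalizer_of_stronglyClosed hT)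
  set θ := QuotientGroup.mk' (T.subgroupOf S)
  have hker : ∀ s : S, θ s = 1 ↔ (s : Ω) ∈ T := fun s => QuotientGroup.eq_one_iff s
  have hr : θ.range = ⊤ := MonoidHom.range_eq_top.2 (QuotientGroup.mk'_surjective _)
  set E := factorSystem F hT θ hker ⊤ hr
  have hfs := isFactorSystem_factorSystem hT θ hker ⊤ hr
  have hmor := isSurjectiveMorphism_of_factor hS hF hT hfs
  have hEs := saturated_of_surjectiveMorphism hS hF hmor
  have hQp : IsPGroup p (⊤ : Subgroup (S ⧸ T.subgroupOf S)) := (hS.to_quotient _).to_subgroup _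
  have habQ : ∀ a b : S, θ a * θ b = θ b * θ a := fun a b => by
    rw [← commutatorElement_eq_one_iff_mul_comm, ← map_commutatorElement, hker]
    exact hab a a.2 b b.2
  have hnorm : E.IsNormal ⊤ := by
    refine isNormal_of_abelian hQp hEs stronglyClosed_self fun u _ v _ => ?_
    obtain ⟨a, rfl⟩ := QuotientGroup.mk'_surjective _ u
    obtain ⟨b, rfl⟩ := QuotientGroup.mk'_surjective _ v
    exact habQ a b
  obtain ⟨φ', hφ', h₁, h₂, h₃, he⟩ := hmor.1.2 P φ hφ
  obtain ⟨α, hα, hαe⟩ := extend_of_normal hnorm le_top hφ'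
  obtain ⟨ψ, hψ, a₁, a₂, a₃, ae⟩ := hmor.2.2 ⊤ le_top _ ((mem_autGroup le_rfl).1 hα)
  have hpre : preimageAlong θ ⊤ = S :=
    le_antisymm (preimageAlong_le θ _) fun s hs => mem_preimageAlong.2 ⟨hs, Subgroup.mem_top _⟩
  obtain ⟨β, hβ, hβe⟩ := exists_aut_of_self_map (restrict_mem hpre.ge hψ) fun s => a₂ _
  obtain ⟨g, hg⟩ := htop hβ
  set s : preimageAlong θ ⊤ := ⟨x, hpre.ge (h₁ x.2)⟩
  have h4 : θ ⟨ψ s, a₂ s⟩ = θ ⟨φ x, h₂ x⟩ := by
    rw [← ae s, ← he x, ← hαe ⟨_, h₃ x⟩]
    rfl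
  have h5 : (⟨ψ s, a₂ s⟩ : S) = g * ⟨x, h₁ x.2⟩ * g⁻¹ := by
    apply Subtype.ext
    refine (hβe ⟨x, h₁ x.2⟩).symm.trans ?_
    rw [← hg]
    rfl
  rw [h5, map_mul, map_mul, map_inv, habQ, mul_inv_cancel_right] at h4
  have h6 : θ (⟨(x : Ω), h₁ x.2⟩⁻¹ * ⟨φ x, h₂ x⟩) = 1 := by
    rw [map_mul, map_inv, ← h4, inv_mul_cancel]
  exact (hker _).1 h6

end Cfsg.Agent.Lib.Fusion
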