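import Cfsg.Agent.Lib.Fusion.Chain
import Cfsg.Agent.Lib.Fusion.Join

/-!
Fusion systems with a nontrivial normal subgroup over Heisenberg groups are constrained.
-/

set_option autoImplicit false

namespace Cfsg.Agent.Lib.Fusion.HeisenbergCore

open Cfsg Cfsg.FusionSystem

variable {Ω : Type*} [Group Ω] {S : Subgroup Ω} {F : FusionSystem S} {p : ℕ}

/-- The centre, as a subgroup of the ambient group. -/
abbrev ctr (S : Subgroup Ω) : Subgroup Ω := S ⊓ Subgroup.centralizer (S : Set Ω)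

/-- The shape of a Sylow subgroup of three-dimensional linear groups. -/
structure Shape (S : Subgroup Ω) (q : ℕ) : Prop where
  one_lt : 1 < q
  card_ctr : Nat.card (ctr S) = q
  card : Nat.card S = q * q * q
  comm_mem : ∀ x ∈ S, ∀ y ∈ S, x * y * x⁻¹ * y⁻¹ ∈ ctr S
  card_cent : ∀ x ∈ S, x ∉ ctr S → Nat.card ↥(S ⊓ Subgroup.centralizer ({x} : Set Ω)) = q * q
  cent_comm : ∀ x ∈ S, x ∉ ctr S → ∀ a ∈ S, ∀ b ∈ S, a * x = x * a → b * x = x * b → a * b = b * a

variable {q : ℕ}

theorem conj_mem_of_ctr_le (h : Shape S q) {P : Subgroup Ω} [Finite P] (hP : P ≤ S) (hZP : ctr S ≤ P) :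
    S ≤ Subgroup.normalizer (P : Set Ω) := fun g hg => mem_normalizer_of_conj_mem fun x hx => by
  rw [show g * x * g⁻¹ = (g * x * g⁻¹ * x⁻¹) * x by group]
  exact mul_mem (hZP (h.comm_mem g hg x (hP hx))) hx

/-- No essential subgroup has the centre of `S` invariant. -/
theorem moved [Finite S] [Fact p.Prime] (h : Shape S q) (hS : IsPGroup p S) {P : Subgroup Ω}
    (hP : P ≤ S) (hr : F.IsRadical p P) (hZP : ctr S ≤ P) (hne : ¬ S ≤ P)
    (hc : centralizerIn S P ≤ P)
    (hfix : ∀ α ∈ F.autGroup P, ∀ x : P, (x : Ω) ∈ ctr S → ((α x : P) : Ω) ∈ ctr S) : False := by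
  have := finite_of_le hP
  have hn := conj_mem_of_ctr_le h hP hZP
  obtain ⟨K, hK, hKp, hKmem⟩ := chainStabilizer (p := p) (F.autGroup P) 2
    (fun i => if i = 0 then ⊥ else if i = 1 then (ctr S).subgroupOf P else ⊤) rfl rfl
    (fun α hα i x hx => by
      rcases i with _ | _ | i
      · simp only [↓reduceIte, Subgroup.mem_bot] at hx ⊢
        rw [hx, map_one]
      · exact hfix α hα x hx
      · simp)
    (hS.to_le hP)
  refine hne fun g hg => ?_
  have hgN := hn hg
  have hα : conjAut P hgN ∈ F.autGroup P :=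
    autInducedBy_le_autGroup hP (conjAut_mem_autInducedBy hg hgN)
  have hmem : (⟨_, hα⟩ : F.autGroup P) ∈ K := by
    refine (hKmem _).2 fun i hi x hx => ?_
    rcases i with _ | _ | i
    · simp only [zero_add, one_ne_zero, ↓reduceIte] at hx ⊢
      rw [Subgroup.mem_bot]
      refine Subtype.ext ?_
      show ((conjAut P hgN x : P) : Ω) * (x : Ω)⁻¹ = 1
      rw [conjAut_apply, (show g * (x : Ω) = x * g from (show (x : Ω) ∈ ctr S from hx).2 g hg), mul_inv_cancel_right, mul_inv_cancel]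
    · simp only [one_ne_zero, ↓reduceIte]
      show ((conjAut P hgN x : P) : Ω) * (x : Ω)⁻¹ ∈ ctr S
      rw [conjAut_apply]
      exact h.comm_mem g hg _ (hP x.2)
    · omega
  obtain ⟨y, hy⟩ := mem_inn_of_radical hr hK hKp hmem
  have hC : (y : Ω)⁻¹ * g ∈ P := hc (mem_centralizerIn.2 ⟨mul_mem (inv_mem (hP y.2)) hg, fun x hx => by
    have h1 := congrArg (fun a : MulAut P => ((a ⟨x, hx⟩ : P) : Ω)) hy
    simp only [Subgroup.subtype_apply, MulAut.conj_apply, conjAut_apply, Subgroup.coe_mul, Subgroup.coe_inv] at h1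
    calc x * ((y : Ω)⁻¹ * g) = (y : Ω)⁻¹ * ((y : Ω) * x * (y : Ω)⁻¹) * g := by group
      _ = (y : Ω)⁻¹ * g * x := by rw [h1]; group⟩)
  have h2 := mul_mem y.2 hC
  rwa [mul_inv_cancel_left] at h2

theorem le_of_centric_radical [Finite S] [Fact p.Prime] (h : Shape S q) (hS : IsPGroup p S)
    {Q : Subgroup Ω} (hQ : F.StronglyClosed Q) (hQ1 : Q ≠ ⊥) (hQZ : Q ≤ ctr S)
    {P : Subgroup Ω} (hc : F.IsCentric P) (hr : F.IsRadical p P) (hfn : F.IsFullyNormalized P)
    (hF : F.IsSaturated p) : S ≤ P := by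
  classical
  have hq := h.one_lt
  have hP := hc.1
  have hfinP := finite_of_le hP
  have := finite_mulAut hP
  have hcP : centralizerIn S P ≤ P := hc.2 P (isConj_refl hP)
  have hZP : ctr S ≤ P := fun z hz => hcP (mem_centralizerIn.2 ⟨hz.1, fun x hx => hz.2 x (hP hx)⟩)
  by_contra hne
  have hn := conj_mem_of_ctr_le h hP hZP
  -- the subgroup is abelian
  obtain ⟨x₀, hx₀P, hx₀Z, hx₀c⟩ : ∃ x₀ ∈ P, x₀ ∉ ctr S ∧ ∀ y ∈ P, y * x₀ = x₀ * y := by
    by_contra hh
    push Not at hh
    refine moved h hS hP hr hZP hne hcP fun α _ x hx => ?_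
    by_contra hαx
    obtain ⟨y, hy, hyx⟩ := hh _ (α x).2 hαx
    obtain ⟨w, hw⟩ := α.surjective ⟨y, hy⟩
    refine hyx ?_
    rw [show y = ((α w : P) : Ω) from (congrArg Subtype.val hw).symm, ← Subgroup.coe_mul, ← Subgroup.coe_mul,
      ← map_mul, ← map_mul]
    exact congrArg (fun z => ((α z : P) : Ω)) (Subtype.ext (hx.2 w (hP w.2)))
  set C : Ω → Subgroup Ω := fun x => S ⊓ Subgroup.centralizer ({x} : Set Ω)
  have hmemC : ∀ {x y : Ω}, y ∈ C x ↔ y ∈ S ∧ y * x = x * y := fun {x y} =>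
    ⟨fun hy => ⟨hy.1, (hy.2 x rfl).symm⟩, fun hy => ⟨hy.1, by rintro _ rfl; exact hy.2.symm⟩⟩
  have hPC : P = C x₀ := by
    refine le_antisymm (fun y hy => hmemC.2 ⟨hP hy, hx₀c y hy⟩) fun y hy => hcP (mem_centralizerIn.2 ⟨hy.1, fun z hz => ?_⟩)
    exact h.cent_comm x₀ (hP hx₀P) hx₀Z z (hP hz) y hy.1 (hx₀c z hz) (hmemC.1 hy).2
  have hab : ∀ a ∈ P, ∀ b ∈ P, a * b = b * a := fun a ha b hb =>
    h.cent_comm x₀ (hP hx₀P) hx₀Z a (hP ha) b (hP hb) (hx₀c a ha) (hx₀c b hb)
  letI : CommGroup P := { (inferInstance : Group P) with mul_comm := fun a b => Subtype.ext (hab a a.2 b b.2) }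
  have hcardP : Nat.card P = q * q := by rw [hPC]; exact h.card_cent x₀ (hP hx₀P) hx₀Z
  set Z₀ : Subgroup P := (ctr S).subgroupOf P
  have hZ₀ : Nat.card Z₀ = q := by
    rw [Nat.card_congr (Subgroup.subgroupOfEquivOfLe hZP).toEquiv]; exact h.card_ctr
  -- the automorphisms induced by `S`
  set U := autInducedBy S P
  have hUA : U ≤ F.autGroup P := autInducedBy_le_autGroup hP
  have hfix : ∀ u ∈ U, ∀ z : P, z ∈ Z₀ → u z = z := by
    intro u hu z hz
    obtain ⟨g, hg, hgu⟩ := mem_autInducedBy.1 hu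
    refine Subtype.ext ?_
    rw [hgu z, (show g * (z : Ω) = z * g from (show (z : Ω) ∈ ctr S from hz).2 g hg), mul_inv_cancel_right]
  have hdisp : ∀ u ∈ U, ∀ x : P, u x * x⁻¹ ∈ Z₀ := by
    intro u hu x
    obtain ⟨g, hg, hgu⟩ := mem_autInducedBy.1 hu
    show ((u x : P) : Ω) * (x : Ω)⁻¹ ∈ ctr S
    rw [hgu x]
    exact h.comm_mem g hg _ (hP x.2)
  have hU : Nat.card U = q := by
    have hNS : normalizerIn S P = S := inf_eq_left.2 hn
    set θ : normalizerIn S P →* MulAut P := actHom (inf_le_right : normalizerIn S P ≤ _) with hθ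
    have e1 : Nat.card U = Nat.card θ.range := congrArg (fun H : Subgroup (MulAut P) => Nat.card H) (autInducedBy_eq_range S P)
    have e2 : Nat.card θ.ker = q * q := by
      rw [← hcardP]
      refine Nat.card_congr (Equiv.ofBijective (fun g => (⟨(g.1 : Ω), ?_⟩ : P)) ⟨?_, ?_⟩)
      · refine hcP (mem_centralizerIn.2 ⟨g.1.2.1, fun x hx => ?_⟩)
        have h1 := congrArg (fun a : MulAut P => ((a ⟨x, hx⟩ : P) : Ω)) (g.2 : θ g = 1)
        simp only [hθ, actHom_apply, MulAut.one_apply] at h1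
        exact (mul_inv_eq_iff_eq_mul.1 h1).symm
      · intro a b hab'
        exact Subtype.ext (Subtype.ext (congrArg (fun z : P => (z : Ω)) hab' : (a.1 : Ω) = b.1))
      · intro y
        refine ⟨⟨⟨y, le_normalizerIn hP y.2⟩, ?_⟩, rfl⟩
        rw [MonoidHom.mem_ker]
        refine MulEquiv.ext fun x => Subtype.ext ?_
        refine (actHom_apply _ _ _).trans ?_
        show (y : Ω) * x * (y : Ω)⁻¹ = x
        rw [hab y y.2 x x.2, mul_inv_cancel_right]
    have e3 : Nat.card θ.ker * Nat.card θ.range = Nat.card S := by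
      rw [← Subgroup.index_ker, Subgroup.card_mul_index, hNS]
    rw [e2, h.card, ← e1] at e3
    exact Nat.eq_of_mul_eq_mul_left (by positivity) e3
  have hfull : ∀ u ∈ U, u ≠ 1 → ∀ z ∈ Z₀, ∃ x : P, u x * x⁻¹ = z := by
    intro u hu hu1
    obtain ⟨g, hg, hgu⟩ := mem_autInducedBy.1 hu
    let f : P →* P :=
      { toFun := fun x => u x * x⁻¹
        map_one' := by simp
        map_mul' := fun a b => by rw [map_mul, mul_inv, mul_mul_mul_comm] }
    have hker : f.ker ≤ Z₀ := by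
      intro x hx
      by_contra hxZ
      have h1 : u x = x := mul_inv_eq_one.1 hx
      have h2 : g * (x : Ω) = x * g := by
        have h3 := hgu x
        rw [h1] at h3
        exact (mul_inv_eq_iff_eq_mul.1 h3.symm)
      have hgC : g ∈ C x := hmemC.2 ⟨hg, h2⟩
      have hPCx : P ≤ C x := fun y hy => hmemC.2 ⟨hP hy, hab y hy x x.2⟩
      have : Finite ↥(C (x : Ω)) := finite_of_le inf_le_left
      have e : P = C x := eq_of_le_of_natCard_le hPCx (by rw [hcardP, h.card_cent x (hP x.2) hxZ])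
      rw [← e] at hgC
      refine hu1 (MulEquiv.ext fun y => Subtype.ext ?_)
      rw [hgu y, MulAut.one_apply, hab g hgC y y.2, mul_inv_cancel_right]
    have hle : f.range ≤ Z₀ := by rintro _ ⟨x, rfl⟩; exact hdisp u hu x
    have heq : f.range = Z₀ := by
      refine Subgroup.eq_of_le_of_card_ge hle ?_
      have h1 : Nat.card f.ker * Nat.card f.range = Nat.card P := by
        rw [← Subgroup.index_ker, Subgroup.card_mul_index]
      have h2 : Nat.card f.ker ≤ q := hZ₀ ▸ Subgroup.card_le_of_le hker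
      rw [hcardP] at h1
      rw [hZ₀]
      by_contra hlt
      push Not at hlt
      have := Nat.mul_lt_mul_of_le_of_lt h2 hlt (by omega : 0 < q)
      omega
    exact fun z hz => heq.ge hz
  -- the stabilizer of the centre
  let N : Subgroup (MulAut P) :=
    { carrier := {α | α ∈ F.autGroup P ∧ Z₀.map α.toMonoidHom = Z₀}
      one_mem' := ⟨one_mem _, by ext; simp⟩
      mul_mem' := fun {a b} ha hb => ⟨mul_mem ha.1 hb.1, by
        rw [show (a * b).toMonoidHom = a.toMonoidHom.comp b.toMonoidHom from rfl, ← Subgroup.map_map, hb.2, ha.2]⟩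
      inv_mem' := fun {a} ha => ⟨inv_mem ha.1, by
        conv_lhs => rw [← ha.2, Subgroup.map_map, show (a⁻¹ : MulAut P).toMonoidHom.comp a.toMonoidHom = MonoidHom.id P by
          ext x; simp]
        exact Subgroup.map_id _⟩ }
  obtain ⟨K, hK, hKp, hKmem⟩ := chainStabilizer (p := p) N 2
    (fun i => if i = 0 then ⊥ else if i = 1 then Z₀ else ⊤) rfl rfl
    (fun α hα i x hx => by
      rcases i with _ | _ | i
      · simp only [↓reduceIte, Subgroup.mem_bot] at hx ⊢
        rw [hx, map_one]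
      · exact hα.2.le ⟨x, hx, rfl⟩
      · simp)
    (hS.to_le hP)
  have hUN : U ≤ N := fun u hu => ⟨hUA hu, by
    ext z
    constructor
    · rintro ⟨w, hw, rfl⟩
      exact (hfix u hu w hw).symm ▸ hw
    · exact fun hz => ⟨z, hz, hfix u hu z hz⟩⟩
  have hUK : U ≤ K.map N.subtype := fun u hu => ⟨⟨u, hUN hu⟩, (hKmem _).2 fun i hi x hx => by
    rcases i with _ | _ | i
    · simp only [zero_add, one_ne_zero, ↓reduceIte] at hx ⊢
      rw [Subgroup.mem_bot]
      show u x * x⁻¹ = 1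
      rw [hfix u hu x hx, mul_inv_cancel]
    · simp only [one_ne_zero, ↓reduceIte]
      exact hdisp u hu x
    · omega, rfl⟩
  have hsyl : IsSylowIn p U (F.autGroup P) :=
    (isFullyAutomized_iff.1 (fullyNormalized_props hS hF hfn).1).2
  have hmax : ∀ {R : Subgroup (MulAut P)}, IsPGroup p R → R ≤ F.autGroup P → U ≤ R → R = U := by
    intro R hR hRA hUR
    refine le_antisymm (fun r hr' => ?_) hUR
    have h1 := hsyl.toSylow.3 (isPGroup_subgroupOf hR) (fun x hx => hUR hx)
    have h2 : (⟨r, hRA hr'⟩ : F.autGroup P) ∈ R.subgroupOf (F.autGroup P) := hr'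
    rw [h1] at h2
    exact h2
  have hKU : K.map N.subtype = U :=
    hmax (hKp.map _) (fun x ⟨y, _, e⟩ => e ▸ y.2.1) hUK
  have hNU : ∀ v ∈ N, (∃ k, v ^ p ^ k = 1) → v ∈ U := by
    rintro v hv ⟨k, hk⟩
    have hv' : IsPGroup p (Subgroup.zpowers v) := by
      obtain ⟨j, -, hj⟩ := (Nat.dvd_prime_pow (Fact.out : p.Prime)).1 (orderOf_dvd_of_pow_eq_one hk)
      exact IsPGroup.of_card (n := j) ((Nat.card_zpowers v).trans hj)
    have hnorm : Subgroup.zpowers v ≤ Subgroup.normalizer (U : Set (MulAut P)) := by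
      refine Subgroup.zpowers_le.2 (Subgroup.mem_normalizer_fintype ?_)
      intro u hu
      obtain ⟨u', hu', rfl⟩ := hKU.ge hu
      exact hKU.le ⟨⟨v, hv⟩ * u' * ⟨v, hv⟩⁻¹, hK.conj_mem u' hu' _, rfl⟩
    have h1 := hmax (IsPGroup.to_sup_of_normal_right' hv' hsyl.2.1 hnorm)
      (sup_le (Subgroup.zpowers_le.2 hv.1) hUA) le_sup_right
    exact h1.le (Subgroup.mem_sup_left (Subgroup.mem_zpowers v))
  -- a moved centre of largest intersection
  have hexists : ∃ β ∈ F.autGroup P, Z₀.map β.toMonoidHom ≠ Z₀ := by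
    by_contra hh
    push Not at hh
    exact moved h hS hP hr hZP hne hcP fun α hα x hx => (hh α hα).le ⟨x, hx, rfl⟩
  have hfam : ({β | β ∈ F.autGroup P ∧ Z₀.map β.toMonoidHom ≠ Z₀} : Set (MulAut P)).Nonempty := hexists
  obtain ⟨β, ⟨hβ, hβne⟩, hβmax⟩ := Set.exists_max_image _
    (fun β : MulAut P => Nat.card ↥(Z₀ ⊓ Z₀.map β.toMonoidHom)) (Set.toFinite _) hfam
  set Z₁ := Z₀.map β.toMonoidHom
  have hstab : ∀ u ∈ U, Z₁.map u.toMonoidHom = Z₁ → u = 1 := by
    intro u hu hu1
    by_contra hne1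
    have hv : β⁻¹ * u * β ∈ N := by
      refine ⟨mul_mem (mul_mem (inv_mem hβ) (hUA hu)) hβ, ?_⟩
      rw [show (β⁻¹ * u * β).toMonoidHom = (β⁻¹ : MulAut P).toMonoidHom.comp (u.toMonoidHom.comp β.toMonoidHom) from rfl,
        ← Subgroup.map_map, ← Subgroup.map_map]
      show (Z₁.map u.toMonoidHom).map _ = Z₀
      rw [hu1, Subgroup.map_map, show (β⁻¹ : MulAut P).toMonoidHom.comp β.toMonoidHom = MonoidHom.id P by
        ext x; simp, Subgroup.map_id]
    obtain ⟨k, hk⟩ := hsyl.2.1 ⟨u, hu⟩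
    have hk' : u ^ p ^ k = 1 := congrArg Subtype.val hk
    have hvU := hNU _ hv ⟨k, by
      have := conj_pow (i := p ^ k) (a := β⁻¹) (b := u)
      rw [inv_inv] at this
      rw [this, hk', mul_one, inv_mul_cancel]⟩
    have hv1 : β⁻¹ * u * β ≠ 1 := fun e => hne1 (by
      have := congrArg (fun w => β * w * β⁻¹) e
      simpa [mul_assoc] using this)
    refine hβne (le_antisymm ?_ ?_).symm
    · intro z hz
      obtain ⟨x, rfl⟩ := hfull u hu hne1 z hz
      obtain ⟨w, rfl⟩ := β.surjective x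
      refine ⟨(β⁻¹ * u * β) w * w⁻¹, hdisp _ hvU w, ?_⟩
      show β ((β⁻¹ * u * β) w * w⁻¹) = u (β w) * (β w)⁻¹
      rw [map_mul, map_inv, MulAut.mul_apply, MulAut.mul_apply, MulAut.apply_inv_self]
    · rintro _ ⟨z, hz, rfl⟩
      obtain ⟨w, rfl⟩ := hfull _ hvU hv1 z hz
      show β ((β⁻¹ * u * β) w * w⁻¹) ∈ Z₀
      rw [map_mul, map_inv, MulAut.mul_apply, MulAut.mul_apply, MulAut.apply_inv_self]
      exact hdisp u hu _
  -- counting
  set W := Z₀ ⊔ Z₁
  set Q₀ := Z₀ ⊓ Z₁
  set a := Nat.card Q₀ with ha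
  have hcZ₁ : Nat.card Z₁ = q := by
    rw [Subgroup.card_map_of_injective β.injective, hZ₀]
  let fam : Option U → Subgroup P := fun o => match o with
    | none => Z₀
    | some u => Z₁.map (u : MulAut P).toMonoidHom
  have hfamQ : ∀ o, Q₀ ≤ fam o := by
    rintro (_ | u) z hz
    · exact hz.1
    · exact ⟨z, hz.2, hfix u u.2 z hz.1⟩
  have hfamW : ∀ o, fam o ≤ W := by
    rintro (_ | u) z hz
    · exact Subgroup.mem_sup_left hz
    · obtain ⟨w, hw, rfl⟩ := hz
      show (u : MulAut P) w ∈ W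
      rw [← inv_mul_cancel_right ((u : MulAut P) w) w]
      exact mul_mem (Subgroup.mem_sup_left (hdisp u u.2 w)) (Subgroup.mem_sup_right hw)
  have hfamcard : ∀ o, Nat.card (fam o) = q := by
    rintro (_ | u)
    · exact hZ₀
    · rw [show fam (some u) = Z₁.map (u : MulAut P).toMonoidHom from rfl,
        Subgroup.card_map_of_injective (u : MulAut P).injective, hcZ₁]
  have hpair : ∀ γ ∈ F.autGroup P, ∀ δ ∈ F.autGroup P, Z₀.map γ.toMonoidHom ≠ Z₀.map δ.toMonoidHom →
      Nat.card ↥(Z₀.map γ.toMonoidHom ⊓ Z₀.map δ.toMonoidHom) ≤ a := by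
    intro γ hγ δ hδ hne'
    have hmem : γ⁻¹ * δ ∈ ({β | β ∈ F.autGroup P ∧ Z₀.map β.toMonoidHom ≠ Z₀} : Set (MulAut P)) := by
      refine ⟨mul_mem (inv_mem hγ) hδ, fun e => hne' ?_⟩
      conv_lhs => rw [← e]
      rw [Subgroup.map_map]
      congr 1
      ext x
      simp
    refine le_trans (le_of_eq ?_) (hβmax _ hmem)
    rw [show Z₀.map δ.toMonoidHom = (Z₀.map (γ⁻¹ * δ).toMonoidHom).map γ.toMonoidHom by
        rw [Subgroup.map_map]; congr 1; ext x; simp,
      ← Subgroup.map_inf _ _ _ γ.injective, Subgroup.card_map_of_injective γ.injective]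
  have hrep : ∀ o, ∃ γ ∈ F.autGroup P, fam o = Z₀.map γ.toMonoidHom := by
    rintro (_ | u)
    · exact ⟨1, one_mem _, by ext; simp [fam]⟩
    · exact ⟨u * β, mul_mem (hUA u.2) hβ, by
        rw [show ((u : MulAut P) * β).toMonoidHom = (u : MulAut P).toMonoidHom.comp β.toMonoidHom from rfl,
          ← Subgroup.map_map]⟩
  have hinj : Function.Injective fam := by
    rintro (_ | u) (_ | u') e
    · rfl
    · exfalso
      refine hβne ?_
      have h1 : Z₀.map (u' : MulAut P).toMonoidHom = Z₀ := (hUN u'.2).2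
      exact Subgroup.map_injective (f := (u' : MulAut P).toMonoidHom) (u' : MulAut P).injective (e.symm.trans h1.symm)
    · exfalso
      refine hβne ?_
      have h1 : Z₀.map (u : MulAut P).toMonoidHom = Z₀ := (hUN u.2).2
      exact Subgroup.map_injective (f := (u : MulAut P).toMonoidHom) (u : MulAut P).injective (e.trans h1.symm)
    · congr 1
      have h1 := hstab _ (mul_mem (inv_mem u'.2) u.2) (by
        rw [show ((u' : MulAut P)⁻¹ * u).toMonoidHom = ((u' : MulAut P)⁻¹ : MulAut P).toMonoidHom.comp (u : MulAut P).toMonoidHom from rfl,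
          ← Subgroup.map_map, show Z₁.map (u : MulAut P).toMonoidHom = Z₁.map (u' : MulAut P).toMonoidHom from e,
          Subgroup.map_map, show ((u' : MulAut P)⁻¹ : MulAut P).toMonoidHom.comp (u' : MulAut P).toMonoidHom =
            MonoidHom.id P by ext x; simp, Subgroup.map_id])
      exact Subtype.ext (inv_mul_eq_one.1 h1).symm
  have hint : ∀ o o', o ≠ o' → fam o ⊓ fam o' = Q₀ := by
    intro o o' hoo
    refine (Subgroup.eq_of_le_of_card_ge (le_inf (hfamQ o) (hfamQ o')) ?_).symm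
    obtain ⟨γ, hγ, eγ⟩ := hrep o
    obtain ⟨δ, hδ, eδ⟩ := hrep o'
    rw [eγ, eδ]
    exact hpair γ hγ δ hδ fun e => hoo (hinj (eγ.trans (e.trans eδ.symm)))
  have hW : Nat.card W * a = q * q := by
    have e1 : Z₀.relIndex W = Z₀.relIndex Z₁ := by
      rw [show W = Z₁ ⊔ Z₀ from sup_comm _ _]; exact Subgroup.relIndex_sup_right Z₁ Z₀
    have e2 := Subgroup.card_mul_index (Z₀.subgroupOf W)
    rw [Nat.card_congr (Subgroup.subgroupOfEquivOfLe (le_sup_left : Z₀ ≤ W)).toEquiv, hZ₀] at e2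
    have e3 := Subgroup.card_mul_index (Q₀.subgroupOf Z₁)
    rw [Nat.card_congr (Subgroup.subgroupOfEquivOfLe (inf_le_right : Q₀ ≤ Z₁)).toEquiv, hcZ₁] at e3
    have e4 : (Q₀.subgroupOf Z₁).index = Z₀.relIndex Z₁ := Subgroup.inf_relIndex_right Z₀ Z₁
    rw [← e2, show (Z₀.subgroupOf W).index = Z₀.relIndex Z₁ from e1, ← e4, mul_assoc, mul_comm _ a, ← ha] at *
    rw [e3]
  have ha1 : 1 < a := by
    have hle : Q.subgroupOf P ≤ Q₀ := by
      intro z hz
      refine ⟨hQZ hz, (β : MulAut P)⁻¹ z, hQZ ?_, MulAut.apply_inv_self _ _ z⟩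
      exact map_mem_of_stronglyClosed hQ ((mem_autGroup hP).1 (inv_mem hβ)) z hz
    refine lt_of_lt_of_le ?_ (Subgroup.card_le_of_le hle)
    rw [Nat.card_congr (Subgroup.subgroupOfEquivOfLe (hQZ.trans hZP)).toEquiv]
    have : Finite Q := finite_of_le hQ.1
    exact (Subgroup.one_lt_card_iff_ne_bot Q).2 hQ1
  have haq : a < q := by
    rw [← hZ₀]
    refine lt_of_le_of_ne (Subgroup.card_le_of_le inf_le_left) fun e => hβne ?_
    have h1 : Q₀ = Z₀ := Subgroup.eq_of_le_of_card_ge inf_le_left e.ge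
    exact (Subgroup.eq_of_le_of_card_ge (inf_eq_left.1 h1) (by rw [hcZ₁, hZ₀])).symm
  have hcount : a + (q + 1) * (q - a) ≤ Nat.card W := by
    have : Fintype (Option U) := Fintype.ofFinite _
    have : Fintype P := Fintype.ofFinite _
    let f : Option U → Finset P := fun o => (fam o : Set P).toFinset \ (Q₀ : Set P).toFinset
    have hdis : Set.PairwiseDisjoint (↑(Finset.univ : Finset (Option U))) f := fun o _ o' _ hoo => by
      refine Finset.disjoint_left.2 fun z hz hz' => ?_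
      simp only [f, Finset.mem_sdiff, Set.mem_toFinset] at hz hz'
      exact hz.2 ((hint o o' hoo).le ⟨hz.1, hz'.1⟩)
    have hc1 : ∀ o, (f o).card = q - a := fun o => by
      rw [Finset.card_sdiff_of_subset (by intro z hz; simp only [Set.mem_toFinset] at hz ⊢; exact hfamQ o hz),
        ← Set.ncard_eq_toFinset_card', ← Set.ncard_eq_toFinset_card', ← Nat.card_coe_set_eq, ← Nat.card_coe_set_eq]
      exact congrArg (· - a) (hfamcard o)
    have hbig := Finset.card_le_card (s := (Q₀ : Set P).toFinset ∪ Finset.univ.biUnion f) (t := (W : Set P).toFinset)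
      (by
        intro z hz
        simp only [Finset.mem_union, Finset.mem_biUnion, Set.mem_toFinset, f, Finset.mem_sdiff] at hz ⊢
        rcases hz with hz | ⟨o, -, hz, -⟩
        · exact Subgroup.mem_sup_left hz.1
        · exact hfamW o hz)
    rw [Finset.card_union_of_disjoint (by
        refine Finset.disjoint_left.2 fun z hz hz' => ?_
        simp only [Finset.mem_biUnion, Set.mem_toFinset, f, Finset.mem_sdiff] at hz hz'
        obtain ⟨o, -, -, hz'⟩ := hz'
        exact hz' hz),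
      Finset.card_biUnion hdis, Finset.sum_congr rfl (fun o _ => hc1 o), Finset.sum_const, Finset.card_univ,
      ← Set.ncard_eq_toFinset_card', ← Set.ncard_eq_toFinset_card', ← Nat.card_coe_set_eq, ← Nat.card_coe_set_eq,
      ← Nat.card_eq_fintype_card, Finite.card_option, smul_eq_mul] at hbig
    rw [hU] at hbig
    exact hbig
  obtain ⟨d, rfl⟩ : ∃ d, q = a + d := ⟨q - a, by omega⟩
  rw [Nat.add_sub_cancel_left] at hcount
  have h2 := Nat.mul_le_mul_right a hcount
  rw [hW] at h2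
  nlinarith [Nat.mul_le_mul ha1 (le_refl (d * d)), Nat.mul_le_mul ha1 (le_refl (a * d))]

theorem constrained [Finite S] [Fact p.Prime] (h : Shape S q) (hS : IsPGroup p S) (hF : F.IsSaturated p)
    (hcore : F.core ≠ ⊥) : F.IsConstrained p := by
  set Q := F.core
  have hQ : F.IsNormal Q := isNormal_core
  refine ⟨hF, ?_⟩
  by_cases hQZ : Q ≤ ctr S
  · refine ⟨S, ?_, le_rfl, fun R _ => centralizerIn_le S R |>.trans ?_⟩
    · exact isNormal_of_le_radical hS hF stronglyClosed_self fun P hc hr hfn =>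
        le_of_centric_radical h hS (stronglyClosed_of_isNormal hQ) hcore hQZ hc hr hfn hF
    · rename_i hR
      exact (eq_of_le_of_natCard_le (isConj_right_le hR) (isConj_card hR).le).ge
  · obtain ⟨x, hxQ, hxZ⟩ := SetLike.not_le_iff_exists.1 hQZ
    set D := centralizerIn S Q
    have hxS := hQ.1 hxQ
    have hab : ∀ a ∈ D, ∀ b ∈ D, a * b = b * a := fun a ha b hb =>
      h.cent_comm x hxS hxZ a ha.1 b hb.1 ((mem_centralizerIn.1 ha).2 x hxQ).symm
        ((mem_centralizerIn.1 hb).2 x hxQ).symm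
    have hD : F.StronglyClosed D := by
      refine ⟨centralizerIn_le S Q, fun R hR φ hφ z => ?_⟩
      obtain ⟨ψ, -, hψ, hψQ⟩ := hQ.2 R φ hφ
      refine mem_centralizerIn.2 ⟨val_mem hφ z, fun y hy => ?_⟩
      obtain ⟨u, hu, rfl⟩ := hψQ.ge hy
      rw [← hψ z, ← map_mul, ← map_mul]
      exact congrArg ψ (Subtype.ext ((mem_centralizerIn.1 (hR z.2)).2 _ hu))
    have hDn := isNormal_of_abelian hS hF hD hab
    have hN := isNormal_sup hQ hDn
    refine ⟨Q ⊔ D, hN, hN.1, fun R hR => ?_⟩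
    have hRe : R = Q ⊔ D := by
      obtain ⟨φ, hφ, rfl⟩ := hR
      have := finite_of_le hN.1
      refine eq_of_le_of_natCard_le ?_ (Nat.card_congr (MonoidHom.ofInjective (F.injective_of_mem hφ)).toEquiv).le
      rintro _ ⟨z, rfl⟩
      exact map_mem_of_normal hN hφ z z.2
    subst hRe
    exact fun g hg => Subgroup.mem_sup_right (mem_centralizerIn.2
      ⟨hg.1, fun y hy => (mem_centralizerIn.1 hg).2 y (Subgroup.mem_sup_left hy)⟩)

end Cfsg.Agent.Lib.Fusion.HeisenbergCore
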