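import Mathlib
import Cfsg.Agent.Lib.Fusion.Sylow

/-!
The unitriangular subgroup of SL_n: generation, centre, normalizer, abelian radicals.
-/

set_option autoImplicit false

namespace Cfsg.Agent.Lib.Fusion.SLUpper

open Matrix

variable {n : ℕ} {K : Type*} [Field K]

local notation "Γ" => Matrix.SpecialLinearGroup (Fin n) K

/-- Upper unitriangular matrices of determinant one. -/
def U (n : ℕ) (K : Type*) [Field K] : Subgroup (Matrix.SpecialLinearGroup (Fin n) K) where
  carrier := {g | (g : Matrix (Fin n) (Fin n) K).BlockTriangular id ∧ ∀ i, g i i = 1}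
  one_mem' := by
    refine ⟨?_, fun i => by simp⟩
    rw [Matrix.SpecialLinearGroup.coe_one]
    exact blockTriangular_one
  mul_mem' {a b} ha hb := by
    refine ⟨?_, fun i => ?_⟩
    · rw [Matrix.SpecialLinearGroup.coe_mul]; exact ha.1.mul hb.1
    · rw [Matrix.SpecialLinearGroup.coe_mul, Matrix.mul_apply,
        Finset.sum_eq_single i (fun l _ hl => ?_) (by simp)]
      · rw [ha.2, hb.2, one_mul]
      · rcases lt_or_gt_of_ne hl with h | h
        · rw [ha.1 h, zero_mul]
        · rw [hb.1 h, mul_zero]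
  inv_mem' {a} ha := by
    letI : Invertible (a : Matrix (Fin n) (Fin n) K) :=
      ⟨(a⁻¹ : Matrix.SpecialLinearGroup (Fin n) K), by
        rw [← Matrix.SpecialLinearGroup.coe_mul, inv_mul_cancel, Matrix.SpecialLinearGroup.coe_one],
        by rw [← Matrix.SpecialLinearGroup.coe_mul, mul_inv_cancel, Matrix.SpecialLinearGroup.coe_one]⟩
    have hinv : ((a⁻¹ : Matrix.SpecialLinearGroup (Fin n) K) : Matrix (Fin n) (Fin n) K) =
        (a : Matrix (Fin n) (Fin n) K)⁻¹ := by
      rw [← Matrix.invOf_eq_nonsing_inv]; rfl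
    have hbt : ((a⁻¹ : Matrix.SpecialLinearGroup (Fin n) K) :
        Matrix (Fin n) (Fin n) K).BlockTriangular id := by
      rw [hinv]; exact blockTriangular_inv_of_blockTriangular ha.1
    refine ⟨hbt, fun i => ?_⟩
    have h1 : ((a * a⁻¹ : Matrix.SpecialLinearGroup (Fin n) K) : Matrix (Fin n) (Fin n) K) i i = 1 := by
      rw [mul_inv_cancel]; simp
    rw [Matrix.SpecialLinearGroup.coe_mul, Matrix.mul_apply,
      Finset.sum_eq_single i (fun l _ hl => ?_) (by simp), ha.2, one_mul] at h1
    · exact h1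
    · rcases lt_or_gt_of_ne hl with h | h
      · rw [ha.1 h, zero_mul]
      · rw [hbt h, mul_zero]

theorem mem_U {g : Γ} : g ∈ U n K ↔
    (g : Matrix (Fin n) (Fin n) K).BlockTriangular id ∧ ∀ i, g i i = 1 := Iff.rfl

/-- A root element. -/
abbrev x {i j : Fin n} (h : i ≠ j) (c : K) : Γ := SpecialLinearGroup.transvection h c

theorem x_mem {i j : Fin n} (h : i < j) (c : K) : x h.ne c ∈ U n K := by
  refine ⟨fun a b hab => ?_, fun a => ?_⟩
  · show ((x h.ne c : Γ) : Matrix (Fin n) (Fin n) K) a b = 0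
    rw [SpecialLinearGroup.transvection_coe]
    have h1 : ¬(i = a ∧ j = b) := fun ⟨e1, e2⟩ => by
      subst e1 e2; exact absurd hab (not_lt.2 h.le)
    simp [Matrix.single_apply, Matrix.one_apply, h1, (show a ≠ b from (ne_of_gt hab))]
  · rw [SpecialLinearGroup.transvection_coe]
    have h1 : ¬(i = a ∧ j = a) := fun ⟨e1, e2⟩ => h.ne (e1.trans e2.symm)
    simp [Matrix.single_apply, h1]

theorem x_mul_apply {i j : Fin n} (h : i ≠ j) (c : K) (g : Γ) (a b : Fin n) :
    (x h c * g : Γ) a b = if a = i then g a b + c * g j b else g a b := by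
  rw [Matrix.SpecialLinearGroup.coe_mul]
  show (Matrix.transvection i j c * (g : Matrix (Fin n) (Fin n) K)) a b = _
  by_cases ha : a = i
  · subst ha; simp
  · simp [ha]

theorem U_le_closure : U n K ≤ Subgroup.closure
    {g | ∃ (i j : Fin n) (h : i < j) (c : K), g = x h.ne c} := by
  classical
  intro u hu
  induction hm : (Finset.univ.filter
      fun ab : Fin n × Fin n => ab.1 < ab.2 ∧ u ab.1 ab.2 ≠ 0).card using Nat.strong_induction_on
      generalizing u with
  | _ m ih =>
    set A := Finset.univ.filter fun ab : Fin n × Fin n => ab.1 < ab.2 ∧ u ab.1 ab.2 ≠ 0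
    rcases A.eq_empty_or_nonempty with hA | hA
    · have hu1 : u = 1 := Subtype.ext <| Matrix.ext fun a b => by
        rcases lt_trichotomy a b with h | rfl | h
        · have h1 : (a, b) ∉ A := by rw [hA]; simp
          simp only [A, Finset.mem_filter, Finset.mem_univ, true_and, not_and, not_not] at h1
          rw [h1 h]; simp [h.ne]
        · rw [hu.2]; simp
        · rw [hu.1 h]; simp [h.ne']
      rw [hu1]
      exact one_mem _
    · obtain ⟨⟨i, j⟩, hij, hmax⟩ := Finset.exists_max_image A Prod.fst hA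
      simp only [A, Finset.mem_filter, Finset.mem_univ, true_and] at hij
      have hrow : ∀ b, u j b = if j = b then 1 else 0 := by
        intro b
        rcases lt_trichotomy j b with h | rfl | h
        · rw [if_neg h.ne]
          by_contra hne
          exact absurd (hmax (j, b) (by simp [A, h, hne])) (not_le.2 hij.1)
        · rw [if_pos rfl, hu.2]
        · rw [if_neg h.ne', hu.1 h]
      set v := x hij.1.ne (-(u i j)) * u
      have hv : ∀ a b, v a b = if a = i ∧ b = j then 0 else u a b := by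
        intro a b
        rw [x_mul_apply, hrow]
        by_cases ha : a = i
        · subst ha
          by_cases hb : b = j
          · subst hb; simp
          · simp [hb, Ne.symm hb]
        · simp [ha]
      have hvU : v ∈ U n K := mul_mem (x_mem hij.1 _) hu
      have hcard : (Finset.univ.filter
          fun ab : Fin n × Fin n => ab.1 < ab.2 ∧ v ab.1 ab.2 ≠ 0).card < m := by
        rw [← hm]
        refine Finset.card_lt_card ?_
        rw [Finset.ssubset_iff_of_subset]
        · exact ⟨(i, j), by simp [A, hij.1, hij.2], by simp [hv]⟩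
        · intro ab hab
          simp only [A, Finset.mem_filter, Finset.mem_univ, true_and, hv] at hab ⊢
          split_ifs at hab with h
          · simp at hab
          · exact hab
      have h1 := ih _ hcard hvU rfl
      have h2 : u = (x hij.1.ne (-(u i j)))⁻¹ * v := by simp [v]
      rw [h2]
      exact mul_mem (inv_mem (Subgroup.subset_closure ⟨i, j, hij.1, _, rfl⟩)) h1

theorem x_comm_iff {i j : Fin n} (h : i ≠ j) {g : Γ} (hc : g * x h 1 = x h 1 * g) :
    g i i = g j j ∧ (∀ a, a ≠ i → g a i = 0) ∧ ∀ b, b ≠ j → g j b = 0 := by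
  have hm : (g : Matrix (Fin n) (Fin n) K) * Matrix.transvection i j (1 : K) =
      Matrix.transvection i j (1 : K) * g := by
    exact congrArg Subtype.val hc
  simp only [Matrix.transvection, mul_add, add_mul, mul_one, one_mul, add_right_inj] at hm
  have hcol : ∀ a, g a i = if a = i then g j j else 0 := fun a => by
    have h1 := congrFun (congrFun hm a) j
    by_cases ha : a = i
    · subst ha; simpa using h1
    · simpa [ha] using h1
  refine ⟨by simpa using hcol i, fun a ha => by simpa [ha] using hcol a, fun b hb => ?_⟩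
  have h1 := congrFun (congrFun hm i) b
  simpa [hb] using h1.symm

theorem eq_root_of_comm (hn : 2 ≤ n) {u : Γ} (hu : u ∈ U n K)
    (h : ∀ (i j : Fin n) (hij : i < j), u * x hij.ne 1 = x hij.ne 1 * u) :
    u = x (show (⟨0, by omega⟩ : Fin n) ≠ ⟨n - 1, by omega⟩ by simp; omega)
      (u ⟨0, by omega⟩ ⟨n - 1, by omega⟩) := by
  refine Subtype.ext (Matrix.ext fun a b => ?_)
  rw [SpecialLinearGroup.transvection_coe, Matrix.add_apply, Matrix.single_apply]
  rcases lt_trichotomy a b with hab | rfl | hab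
  · rw [Matrix.one_apply_ne hab.ne, zero_add]
    split_ifs with he
    · obtain ⟨e1, e2⟩ := he; rw [← e1, ← e2]
    · by_cases hb : (b : ℕ) < n - 1
      · exact (x_comm_iff _ (h b ⟨n - 1, by omega⟩ (Fin.lt_def.2 hb))).2.1 a hab.ne
      · have hbe : b = ⟨n - 1, by omega⟩ := Fin.ext (by simp; omega)
        have ha : 0 < (a : ℕ) := Nat.pos_of_ne_zero fun h0 => he ⟨Fin.ext h0.symm, hbe.symm⟩
        exact (x_comm_iff _ (h ⟨0, by omega⟩ a (Fin.lt_def.2 ha))).2.2 b hab.ne'
  · have : ¬((⟨0, by omega⟩ : Fin n) = a ∧ (⟨n - 1, by omega⟩ : Fin n) = a) := fun ⟨e1, e2⟩ => by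
      rw [← e2, Fin.ext_iff] at e1; simp at e1; omega
    rw [hu.2, if_neg this]; simp
  · have : ¬((⟨0, by omega⟩ : Fin n) = a ∧ (⟨n - 1, by omega⟩ : Fin n) = b) := fun ⟨e1, e2⟩ => by
      rw [← e1, Fin.lt_def] at hab; simp at hab
    rw [hu.1 hab, Matrix.one_apply_ne hab.ne', if_neg this]; simp

/-- The diagonal-permutation matrix. -/
theorem exists_monomial_conj (σ : Equiv.Perm (Fin n)) (d : Fin n → K)
    (hd : (Equiv.Perm.sign σ : ℤ) * ∏ l, d l = 1) :
    ∃ g : Γ, ∀ (i j : Fin n) (h : i ≠ j) (c c' : K), d i * c = c' * d j →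
      g * x h c = x (σ.injective.ne h) c' * g := by
  let M : Matrix (Fin n) (Fin n) K := Matrix.of fun a b => if a = σ b then d b else 0
  have hM : M = (Matrix.diagonal d).submatrix σ.symm id := by
    ext a b
    simp only [M, Matrix.of_apply, Matrix.submatrix_apply, id, Matrix.diagonal_apply,
      Equiv.symm_apply_eq]
    split_ifs with hab
    · rw [hab, Equiv.symm_apply_apply]
    · rfl
  have hdet : M.det = 1 := by
    rw [hM, Matrix.det_permute, Matrix.det_diagonal, Equiv.Perm.sign_symm]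
    exact_mod_cast hd
  refine ⟨⟨M, hdet⟩, fun i j h c c' hc => Subtype.ext ?_⟩
  show M * Matrix.transvection i j c = Matrix.transvection (σ i) (σ j) c' * M
  simp only [Matrix.transvection, mul_add, add_mul, mul_one, one_mul, add_right_inj]
  ext a b
  by_cases hb : b = j
  · subst hb
    by_cases ha : a = σ i
    · subst ha; simp [M, hc]
    · simp [M, ha]
  · by_cases ha : a = σ i
    · subst ha; simp [M, hb, σ.injective.eq_iff, Ne.symm hb]
    · simp [M, ha, hb]

theorem exists_conj_root (hn : 3 ≤ n) {i j i' j' : Fin n} (h : i ≠ j) (h' : i' ≠ j') {c c' : K}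
    (hc : c ≠ 0) (hc' : c' ≠ 0) : ∃ g : Γ, g * x h c = x h' c' * g := by
  classical
  obtain ⟨σ, hσi, hσj⟩ : ∃ σ : Equiv.Perm (Fin n), σ i = i' ∧ σ j = j' := by
    refine ⟨(Equiv.swap i i').trans (Equiv.swap (Equiv.swap i i' j) j'), ?_, ?_⟩
    · simp only [Equiv.trans_apply, Equiv.swap_apply_left]
      refine Equiv.swap_apply_of_ne_of_ne (fun e => ?_) h'
      exact h ((Equiv.swap i i').injective (by rw [Equiv.swap_apply_left]; exact e))
    · simp
  obtain ⟨k, hki, hkj⟩ : ∃ k : Fin n, k ≠ i ∧ k ≠ j := by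
    by_contra hne
    push Not at hne
    have : (Finset.univ : Finset (Fin n)) ⊆ {i, j} := fun k _ => by
      by_cases hk : k = i
      · simp [hk]
      · simp [hne k hk]
    have := (Finset.card_le_card this).trans Finset.card_le_two
    simp at this; omega
  set s : K := ((Equiv.Perm.sign σ : ℤ) : K)
  have hs : s * s = 1 := by
    rcases Int.units_eq_one_or (Equiv.Perm.sign σ) with h1 | h1 <;> simp [s, h1]
  set d : Fin n → K := fun l => if l = i then c' / c else if l = k then s * (c / c') else 1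
  obtain ⟨g, hg⟩ := exists_monomial_conj σ d (by
    have hp : ∏ l, d l = s := by
      rw [Finset.prod_eq_mul i k hki.symm (fun l _ hl => by simp [d, hl.1, hl.2]) (by simp) (by simp)]
      simp only [d, if_pos, if_neg hki]
      field_simp
    rw [hp]; exact hs)
  subst hσi hσj
  exact ⟨g, hg i j h c c' (by simp [d, h.symm, hkj.symm, div_mul_cancel₀ c' hc])⟩

theorem triangular_of_conj_mem {g : Γ} (hg : ∀ u ∈ U n K, g * u * g⁻¹ ∈ U n K) :
    (g : Matrix (Fin n) (Fin n) K).BlockTriangular id := by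
  suffices H : ∀ (k : ℕ) (i a : Fin n), n - (i : ℕ) ≤ k → a < i → g i a = 0 from
    fun i a h => H n i a (Nat.sub_le _ _) h
  intro k
  induction k with
  | zero => intro i a h; have := i.2; omega
  | succ k ih =>
    intro i a hk ha
    set v := g * x ha.ne 1 * g⁻¹
    have hv : v ∈ U n K := hg _ (x_mem ha 1)
    have hvg : v * g = g * x ha.ne 1 := by simp [v]
    have hm : (v : Matrix (Fin n) (Fin n) K) * (g : Matrix (Fin n) (Fin n) K) =
        (g : Matrix (Fin n) (Fin n) K) * Matrix.transvection a i (1 : K) := by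
      exact congrArg Subtype.val hvg
    have h1 := congrFun (congrFun hm i) i
    rw [Matrix.mul_apply, Finset.sum_eq_single i (fun l _ hl => ?_) (by simp), hv.2, one_mul,
      Matrix.transvection, Matrix.mul_add, Matrix.mul_one, Matrix.add_apply,
      Matrix.mul_single_apply_same, mul_one] at h1
    · exact left_eq_add.1 h1
    · rcases lt_or_gt_of_ne hl with hli | hli
      · rw [hv.1 hli, zero_mul]
      · rw [ih l i (by rw [Fin.lt_def] at hli; omega) hli, mul_zero]

theorem triangular_mul_apply_self {g h : Γ} (hg : (g : Matrix (Fin n) (Fin n) K).BlockTriangular id)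
    (hh : (h : Matrix (Fin n) (Fin n) K).BlockTriangular id) (i : Fin n) :
    (g * h : Γ) i i = g i i * h i i := by
  rw [Matrix.SpecialLinearGroup.coe_mul, Matrix.mul_apply,
    Finset.sum_eq_single i (fun l _ hl => ?_) (by simp)]
  rcases lt_or_gt_of_ne hl with hli | hli
  · rw [hg hli, zero_mul]
  · rw [hh hli, mul_zero]

/-- The diagonal hom on upper triangular matrices. -/
theorem triangular_pow {g : Γ} (hg : (g : Matrix (Fin n) (Fin n) K).BlockTriangular id) (i : Fin n) :
    ∀ m : ℕ, ((g ^ m : Γ) : Matrix (Fin n) (Fin n) K).BlockTriangular id ∧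
      (g ^ m : Γ) i i = g i i ^ m := by
  intro m
  induction m with
  | zero =>
    rw [pow_zero, Matrix.SpecialLinearGroup.coe_one]
    exact ⟨blockTriangular_one, by simp⟩
  | succ m ih =>
    rw [pow_succ g m]
    refine ⟨?_, ?_⟩
    · rw [Matrix.SpecialLinearGroup.coe_mul]; exact ih.1.mul hg
    · rw [triangular_mul_apply_self ih.1 hg, ih.2, ← pow_succ]

section CharP

variable (p : ℕ) [Fact p.Prime] [CharP K p]

theorem eq_one_of_pow_eq_one {a : K} {k : ℕ} (h : a ^ p ^ k = 1) : a = 1 := by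
  rw [← sub_eq_zero]
  refine eq_zero_of_pow_eq_zero (n := p ^ k) ?_
  rw [sub_pow_char_pow, h, one_pow, sub_self]

theorem mem_U_of_triangular {g : Γ} (hg : (g : Matrix (Fin n) (Fin n) K).BlockTriangular id)
    (h : ∃ k : ℕ, g ^ p ^ k = 1) : g ∈ U n K := by
  obtain ⟨k, hk⟩ := h
  refine ⟨hg, fun i => eq_one_of_pow_eq_one p (k := k) ?_⟩
  rw [← (triangular_pow hg i _).2, hk]
  simp

theorem isPGroup_U : IsPGroup p (U n K) := by
  intro u
  set N : Matrix (Fin n) (Fin n) K := ((u : Γ) : Matrix (Fin n) (Fin n) K) - 1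
  have hN : ∀ (m : ℕ) (a b : Fin n), (b : ℕ) < (a : ℕ) + m → (N ^ m) a b = 0 := by
    intro m
    induction m with
    | zero =>
      intro a b h
      rw [pow_zero, Matrix.one_apply_ne (Fin.ne_of_val_ne (by omega))]
    | succ m ih =>
      intro a b h
      rw [pow_succ, Matrix.mul_apply]
      refine Finset.sum_eq_zero fun l _ => ?_
      by_cases hl : (l : ℕ) < (a : ℕ) + m
      · rw [ih a l hl, zero_mul]
      · have hbl : b ≤ l := Fin.le_def.2 (by omega)
        rcases hbl.eq_or_lt with rfl | hlt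
        · simp [N, u.2.2 b]
        · simp [N, Matrix.one_apply_ne hlt.ne', u.2.1 hlt]
  refine ⟨n, Subtype.ext (Subtype.ext ?_)⟩
  rw [SubgroupClass.coe_pow, Matrix.SpecialLinearGroup.coe_pow]
  show _ = (1 : Matrix (Fin n) (Fin n) K)
  rcases isEmpty_or_nonempty (Fin n) with he | ⟨⟨i0⟩⟩
  · exact Subsingleton.elim _ _
  rw [← sub_eq_zero]
  have hchar : CharP (Matrix (Fin n) (Fin n) K) p :=
    have : Nonempty (Fin n) := ⟨i0⟩
    inferInstance
  have h1 : N ^ p ^ n = ((u : Γ) : Matrix (Fin n) (Fin n) K) ^ p ^ n - 1 := by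
    rw [sub_pow_char_pow_of_commute p n (Commute.one_right _), one_pow]
  rw [← h1]
  refine Matrix.ext fun a b => hN _ a b ?_
  have := Nat.lt_pow_self (n := n) (Fact.out : p.Prime).one_lt
  omega

theorem x_pow (i j : Fin n) (h : i ≠ j) (c : K) : x h c ^ p = (1 : Γ) := by
  have : ∀ m : ℕ, x h c ^ m = (x h (m * c) : Γ) := by
    intro m
    induction m with
    | zero => simp [x]
    | succ m ih =>
      rw [pow_succ, ih, x, x, ← SpecialLinearGroup.transvection_add]
      push_cast; rw [add_mul, one_mul]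
  rw [this, CharP.cast_eq_zero K p, zero_mul]
  simp [x]

end CharP

/-- The abelian radical of the `k`-th maximal parabolic subgroup. -/
def Rad (n : ℕ) (K : Type*) [Field K] (k : ℕ) :
    Subgroup (Matrix.SpecialLinearGroup (Fin n) K) where
  carrier := {g | ∀ a b : Fin n, ¬((a : ℕ) < k ∧ k ≤ (b : ℕ)) → g a b = if a = b then 1 else 0}
  one_mem' := fun a b _ => by simp [Matrix.one_apply]
  mul_mem' {g h} hg hh := by
    intro a b hab
    rw [Matrix.SpecialLinearGroup.coe_mul, Matrix.mul_apply]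
    by_cases ha : (a : ℕ) < k
    · rw [Finset.sum_eq_single a (fun l _ hl => ?_) (by simp), hg a a (by omega), if_pos rfl,
        one_mul, hh a b hab]
      by_cases hl' : (l : ℕ) < k
      · rw [hg a l (by omega), if_neg (Ne.symm hl), zero_mul]
      · rw [hh l b (by omega), if_neg, mul_zero]
        intro e; subst e; exact hab ⟨ha, not_lt.1 hl'⟩
    · rw [Finset.sum_eq_single a (fun l _ hl => ?_) (by simp), hg a a (by omega), if_pos rfl,
        one_mul, hh a b hab]
      rw [hg a l (by omega), if_neg (Ne.symm hl), zero_mul]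
  inv_mem' {g} hg := by
    intro a b hab
    have h1 : ((g * g⁻¹ : Matrix.SpecialLinearGroup (Fin n) K) : Matrix (Fin n) (Fin n) K) a b =
        (1 : Matrix (Fin n) (Fin n) K) a b := by rw [mul_inv_cancel]; simp
    rw [Matrix.one_apply, Matrix.SpecialLinearGroup.coe_mul, Matrix.mul_apply,
      Finset.sum_eq_single a (fun l _ hl => ?_) (by simp), hg a a (by omega), if_pos rfl,
      one_mul] at h1
    · exact h1
    · by_cases hl' : (a : ℕ) < k ∧ k ≤ (l : ℕ)
      · have h2 : ((g * g⁻¹ : Matrix.SpecialLinearGroup (Fin n) K) : Matrix (Fin n) (Fin n) K) l b =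
            (1 : Matrix (Fin n) (Fin n) K) l b := by rw [mul_inv_cancel]; simp
        rw [Matrix.one_apply, Matrix.SpecialLinearGroup.coe_mul, Matrix.mul_apply,
          Finset.sum_eq_single l (fun l' _ hl'' => by
            rw [hg l l' (by omega), if_neg (Ne.symm hl''), zero_mul]) (by simp),
          hg l l (by omega), if_pos rfl, one_mul, if_neg (show l ≠ b by
            intro e; subst e; exact hab hl')] at h2
        rw [h2, mul_zero]
      · rw [hg a l hl', if_neg (Ne.symm hl), zero_mul]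

theorem rad_le (k : ℕ) : Rad n K k ≤ U n K := fun g hg => by
  refine ⟨fun a b hab => ?_, fun a => ?_⟩
  · rw [hg a b (by simp only [id, Fin.lt_def] at hab; omega),
      if_neg (show a ≠ b from ne_of_gt hab)]
  · rw [hg a a (by omega), if_pos rfl]

theorem x_mem_rad {k : ℕ} {i j : Fin n} (h : i ≠ j) (hi : (i : ℕ) < k) (hj : k ≤ (j : ℕ)) (c : K) :
    x h c ∈ Rad n K k := by
  intro a b hab
  rw [SpecialLinearGroup.transvection_coe]
  have h1 : ¬(i = a ∧ j = b) := fun ⟨e1, e2⟩ => hab (e1 ▸ e2 ▸ ⟨hi, hj⟩)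
  simp [Matrix.single_apply, Matrix.one_apply, h1]

/-- The parabolic condition. -/
def InPara (k : ℕ) (g : Γ) : Prop := ∀ a b : Fin n, k ≤ (a : ℕ) → (b : ℕ) < k → g a b = 0

theorem conj_mem_rad {k : ℕ} {g : Γ} (hg : InPara k g) (hg' : InPara k g⁻¹) {r : Γ}
    (hr : r ∈ Rad n K k) : g * r * g⁻¹ ∈ Rad n K k := by
  intro a b hab
  set N : Matrix (Fin n) (Fin n) K := (r : Matrix (Fin n) (Fin n) K) - 1
  have hN : ∀ a b : Fin n, ¬((a : ℕ) < k ∧ k ≤ (b : ℕ)) → N a b = 0 := fun a b h => by
    simp only [N, Matrix.sub_apply, hr a b h, Matrix.one_apply, sub_self]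
  have h1 : ((g * r * g⁻¹ : Γ) : Matrix (Fin n) (Fin n) K) =
      1 + (g : Matrix (Fin n) (Fin n) K) * N * ((g⁻¹ : Γ) : Matrix (Fin n) (Fin n) K) := by
    have h2 : (g : Matrix (Fin n) (Fin n) K) * ((g⁻¹ : Γ) : Matrix (Fin n) (Fin n) K) = 1 := by
      rw [← Matrix.SpecialLinearGroup.coe_mul, mul_inv_cancel, Matrix.SpecialLinearGroup.coe_one]
    simp only [Matrix.SpecialLinearGroup.coe_mul, N, Matrix.mul_sub, Matrix.sub_mul, Matrix.mul_one,
      h2, add_sub_cancel]
  rw [h1, Matrix.add_apply, Matrix.one_apply, Matrix.mul_apply,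
    Finset.sum_eq_zero (fun l _ => ?_), add_zero]
  rw [Matrix.mul_apply, Finset.sum_mul, Finset.sum_eq_zero fun m _ => ?_]
  by_cases hml : (m : ℕ) < k ∧ k ≤ (l : ℕ)
  · by_cases hb : (b : ℕ) < k
    · rw [hg' l b hml.2 hb, mul_zero]
    · rw [hg a m (by omega) hml.1, zero_mul, zero_mul]
  · rw [hN m l hml, mul_zero, zero_mul]

theorem mem_rad_of_comm {k : ℕ} (hk1 : 1 ≤ k) (hk : k < n) {g : Γ}
    (h : ∀ (i j : Fin n) (hij : i ≠ j), (i : ℕ) < k → k ≤ (j : ℕ) → g * x hij 1 = x hij 1 * g) :
    ∃ l : K, l ^ n = 1 ∧ ∀ a b : Fin n, ¬((a : ℕ) < k ∧ k ≤ (b : ℕ)) →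
      g a b = if a = b then l else 0 := by
  set a₀ : Fin n := ⟨0, by omega⟩
  set b₀ : Fin n := ⟨k, hk⟩
  set l := g a₀ a₀
  have hd : ∀ a, g a a = l := by
    intro a
    by_cases ha : (a : ℕ) < k
    · have hne : a ≠ b₀ := Fin.ne_of_val_ne (by simp [b₀]; omega)
      have hne0 : a₀ ≠ b₀ := Fin.ne_of_val_ne (by simp [a₀, b₀]; omega)
      rw [(x_comm_iff hne (h a b₀ hne ha le_rfl)).1,
        ← (x_comm_iff hne0 (h a₀ b₀ hne0 hk1 le_rfl)).1]
    · have hne : a₀ ≠ a := Fin.ne_of_val_ne (by simp [a₀]; omega)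
      rw [← (x_comm_iff hne (h a₀ a hne hk1 (not_lt.1 ha))).1]
  have hoff : ∀ a b : Fin n, ¬((a : ℕ) < k ∧ k ≤ (b : ℕ)) →
      g a b = if a = b then l else 0 := by
    intro a b hab
    split_ifs with e
    · subst e; exact hd a
    by_cases hb : (b : ℕ) < k
    · have hne : b ≠ b₀ := Fin.ne_of_val_ne (by simp [b₀]; omega)
      exact (x_comm_iff hne (h b b₀ hne hb le_rfl)).2.1 a e
    · have ha : k ≤ (a : ℕ) := by omega
      have hne : a₀ ≠ a := Fin.ne_of_val_ne (by simp [a₀]; omega)
      exact (x_comm_iff hne (h a₀ a hne hk1 ha)).2.2 b (Ne.symm e)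
  refine ⟨l, ?_, hoff⟩
  have hbt : (g : Matrix (Fin n) (Fin n) K).BlockTriangular id := fun a b hab => by
    rw [hoff a b (by simp only [id, Fin.lt_def] at hab; omega), if_neg (show a ≠ b from ne_of_gt hab)]
  have hdet := g.2
  rw [Matrix.det_of_upperTriangular hbt, Finset.prod_congr rfl fun a _ => hd a] at hdet
  simpa using hdet

end Cfsg.Agent.Lib.Fusion.SLUpper
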