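import Cfsg.Agent.Lib.Fusion.HeisenbergCore
import Cfsg.Agent.Lib.Fusion.SLUpper
import Cfsg.Agent.Lib.Fusion.GroupSimple

/-!
The Sylow subgroup of SL(3, K) in the defining characteristic has the Heisenberg shape.
-/

set_option autoImplicit false

namespace Cfsg.Agent.Lib.Fusion.HeisenbergCore

open Cfsg Matrix

/-- Groups with Heisenberg coordinates. -/
theorem shape_of_coord {Ω : Type*} [Group Ω] {S : Subgroup Ω} {K : Type*} [Field K] [Fintype K]
    (a b c : S → K) (ha : ∀ x y, a (x * y) = a x + a y) (hb : ∀ x y, b (x * y) = b x + b y)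
    (hcomm : ∀ x y, x * y = y * x ↔ a x * b y = a y * b x)
    (hbij : Function.Bijective fun x => (a x, b x, c x)) : Shape S (Nat.card K) := by
  classical
  let e := Equiv.ofBijective _ hbij
  have he : ∀ t : K × K × K, a (e.symm t) = t.1 ∧ b (e.symm t) = t.2.1 ∧ c (e.symm t) = t.2.2 := by
    intro t
    have h := e.apply_symm_apply t
    exact ⟨congrArg (fun u : K × K × K => u.1) h, congrArg (fun u : K × K × K => u.2.1) h,
      congrArg (fun u : K × K × K => u.2.2) h⟩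
  have hzero : ∀ x : S, (x : Ω) ∈ ctr S ↔ a x = 0 ∧ b x = 0 := by
    intro x
    constructor
    · intro hx
      have hx' : ∀ y : S, y * x = x * y := fun y => Subtype.ext (hx.2 y y.2)
      obtain ⟨f1, f2, -⟩ := he (0, 1, 0)
      obtain ⟨g1, g2, -⟩ := he (1, 0, 0)
      have h1 := (hcomm _ _).1 (hx' (e.symm (0, 1, 0)))
      have h2 := (hcomm _ _).1 (hx' (e.symm (1, 0, 0)))
      rw [f1, f2] at h1
      rw [g1, g2] at h2
      simp at h1 h2
      exact ⟨h1.symm, h2⟩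
    · rintro ⟨h1, h2⟩
      exact ⟨x.2, fun y hy => congrArg Subtype.val ((hcomm ⟨y, hy⟩ x).2 (by rw [h1, h2]; simp))⟩
  have hpar : ∀ x y : S, ¬ (a x = 0 ∧ b x = 0) → (y * x = x * y ↔ ∃ t, a y = t * a x ∧ b y = t * b x) := by
    intro x y hx
    rw [hcomm]
    constructor
    · intro h
      by_cases hax : a x = 0
      · have hbx : b x ≠ 0 := fun hb0 => hx ⟨hax, hb0⟩
        refine ⟨b y / b x, ?_, by field_simp⟩
        rw [hax, zero_mul] at h
        rw [hax, mul_zero, (mul_eq_zero.1 h).resolve_right hbx]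
      · refine ⟨a y / a x, by field_simp, ?_⟩
        field_simp
        linear_combination -h
    · rintro ⟨t, h1, h2⟩
      rw [h1, h2]
      ring
  have h1q : 1 < Nat.card K := Finite.one_lt_card
  refine ⟨h1q, ?_, ?_, ?_, ?_, ?_⟩
  · refine Nat.card_congr (Equiv.ofBijective (fun z => c ⟨z.1, z.2.1⟩) ⟨?_, ?_⟩)
    · intro z z' h
      obtain ⟨h1, h2⟩ := (hzero ⟨z.1, z.2.1⟩).1 z.2
      obtain ⟨h3, h4⟩ := (hzero ⟨z'.1, z'.2.1⟩).1 z'.2
      exact Subtype.ext (congrArg Subtype.val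
        (hbij.1 (Prod.ext (h1.trans h3.symm) (Prod.ext (h2.trans h4.symm) h))) :)
    · intro t
      obtain ⟨f1, f2, f3⟩ := he (0, 0, t)
      exact ⟨⟨(e.symm (0, 0, t) : Ω), (hzero _).2 ⟨f1, f2⟩⟩, f3⟩
  · rw [Nat.card_congr e, Nat.card_prod, Nat.card_prod, mul_assoc]
  · intro x hx y hy
    have hone : a 1 = 0 ∧ b 1 = 0 := by
      have h1 := ha 1 1
      have h2 := hb 1 1
      rw [mul_one] at h1 h2
      exact ⟨left_eq_add.1 h1, left_eq_add.1 h2⟩
    have hinv : ∀ z, a z⁻¹ = - a z ∧ b z⁻¹ = - b z := fun z => by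
      have h1 := ha z⁻¹ z
      have h2 := hb z⁻¹ z
      rw [inv_mul_cancel, hone.1] at h1
      rw [inv_mul_cancel, hone.2] at h2
      exact ⟨eq_neg_of_add_eq_zero_left h1.symm, eq_neg_of_add_eq_zero_left h2.symm⟩
    refine (hzero (⟨x, hx⟩ * ⟨y, hy⟩ * ⟨x, hx⟩⁻¹ * ⟨y, hy⟩⁻¹)).2 ⟨?_, ?_⟩
    · simp only [ha, (hinv _).1]; ring
    · simp only [hb, (hinv _).2]; ring
  · intro x hx hxZ
    have hx' : ¬ (a ⟨x, hx⟩ = 0 ∧ b ⟨x, hx⟩ = 0) := fun h => hxZ ((hzero ⟨x, hx⟩).2 h)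
    rw [← Nat.card_prod]
    symm
    refine Nat.card_congr (Equiv.ofBijective (fun t : K × K =>
      (⟨(e.symm (t.1 * a ⟨x, hx⟩, t.1 * b ⟨x, hx⟩, t.2) : Ω), (e.symm _).2, ?_⟩ :
        ↥(S ⊓ Subgroup.centralizer ({x} : Set Ω)))) ⟨?_, ?_⟩)
    · intro w hw
      rw [Set.mem_singleton_iff] at hw
      rw [hw]
      obtain ⟨f1, f2, -⟩ := he (t.1 * a ⟨x, hx⟩, t.1 * b ⟨x, hx⟩, t.2)
      exact (congrArg Subtype.val ((hpar ⟨x, hx⟩ _ hx').2 ⟨t.1, f1, f2⟩)).symm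
    · intro t t' h
      have h' := e.symm.injective (Subtype.ext (congrArg Subtype.val h :) :
        e.symm (t.1 * a ⟨x, hx⟩, t.1 * b ⟨x, hx⟩, t.2) = e.symm (t'.1 * a ⟨x, hx⟩, t'.1 * b ⟨x, hx⟩, t'.2))
      simp only [Prod.mk.injEq] at h'
      refine Prod.ext ?_ h'.2.2
      by_contra hne
      exact hx' ⟨by by_contra h0; exact hne (mul_right_cancel₀ h0 h'.1),
        by by_contra h0; exact hne (mul_right_cancel₀ h0 h'.2.1)⟩
    · rintro ⟨y, hy, hyc⟩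
      obtain ⟨t, h1, h2⟩ := (hpar ⟨x, hx⟩ ⟨y, hy⟩ hx').1 (Subtype.ext (hyc x rfl).symm)
      have h3 : e.symm (t * a ⟨x, hx⟩, t * b ⟨x, hx⟩, c ⟨y, hy⟩) = (⟨y, hy⟩ : S) := by
        rw [Equiv.symm_apply_eq]
        exact Prod.ext h1.symm (Prod.ext h2.symm rfl)
      exact ⟨(t, c ⟨y, hy⟩), Subtype.ext (congrArg (fun z : S => (z : Ω)) h3)⟩
  · intro x hx hxZ u hu v hv hux hvx
    have hx' : ¬ (a ⟨x, hx⟩ = 0 ∧ b ⟨x, hx⟩ = 0) := fun h => hxZ ((hzero ⟨x, hx⟩).2 h)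
    obtain ⟨t, h1, h2⟩ := (hpar ⟨x, hx⟩ ⟨u, hu⟩ hx').1 (Subtype.ext hux)
    obtain ⟨t', h3, h4⟩ := (hpar ⟨x, hx⟩ ⟨v, hv⟩ hx').1 (Subtype.ext hvx)
    exact congrArg Subtype.val ((hcomm ⟨u, hu⟩ ⟨v, hv⟩).2 (by rw [h1, h2, h3, h4]; ring))

/-- The shape of a group isomorphic to a Sylow subgroup of SL(3, K). -/
theorem shape_sylow {Ω : Type*} [Group Ω] {S : Subgroup Ω} (p : ℕ) [Fact p.Prime] {K : Type*} [Field K]
    [Fintype K] [CharP K p] (T : Sylow p (SpecialLinearGroup (Fin 3) K))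
    (e : S ≃* (T : Subgroup (SpecialLinearGroup (Fin 3) K))) : Shape S (Nat.card K) := by
  classical
  obtain ⟨P, hP⟩ := exists_sylow_of_normalizer (p := p) (SLUpper.isPGroup_U (n := 3) (K := K) p) fun g hg hk =>
    SLUpper.mem_U_of_triangular p (SLUpper.triangular_of_conj_mem fun u hu => conj_mem_of_mem_normalizer hg hu) hk
  let f : S ≃* SLUpper.U 3 K := e.trans ((T.equiv P).trans (MulEquiv.subgroupCongr hP))
  let m : S → Matrix (Fin 3) (Fin 3) K := fun x => ((f x : SpecialLinearGroup (Fin 3) K) : Matrix (Fin 3) (Fin 3) K)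
  have hm : ∀ x, (m x) 1 0 = 0 ∧ (m x) 2 0 = 0 ∧ (m x) 2 1 = 0 ∧ (m x) 0 0 = 1 ∧ (m x) 1 1 = 1 ∧ (m x) 2 2 = 1 :=
    fun x => ⟨(f x).2.1 (show id (0 : Fin 3) < id 1 by decide), (f x).2.1 (show id (0 : Fin 3) < id 2 by decide),
      (f x).2.1 (show id (1 : Fin 3) < id 2 by decide), (f x).2.2 0, (f x).2.2 1, (f x).2.2 2⟩
  have hmul : ∀ x y, m (x * y) = m x * m y := fun x y => by simp [m]
  have hinj : Function.Injective m := fun x y h => f.injective (Subtype.ext (Subtype.ext h))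
  have e01 : ∀ x y, m (x * y) 0 1 = m x 0 1 + m y 0 1 := fun x y => by
    obtain ⟨-, -, a21, a00, -, -⟩ := hm x
    obtain ⟨-, -, b21, -, b11, -⟩ := hm y
    rw [hmul, Matrix.mul_apply, Fin.sum_univ_three, a00, b11, b21]; ring
  have e12 : ∀ x y, m (x * y) 1 2 = m x 1 2 + m y 1 2 := fun x y => by
    obtain ⟨a10, -, -, -, a11, -⟩ := hm x
    obtain ⟨-, -, -, -, -, b22⟩ := hm y
    rw [hmul, Matrix.mul_apply, Fin.sum_univ_three, a10, a11, b22]; ring
  have e02 : ∀ x y, m (x * y) 0 2 = m y 0 2 + m x 0 1 * m y 1 2 + m x 0 2 := fun x y => by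
    obtain ⟨-, -, -, a00, -, -⟩ := hm x
    obtain ⟨-, -, -, -, -, b22⟩ := hm y
    rw [hmul, Matrix.mul_apply, Fin.sum_univ_three, a00, b22]; ring
  have hext : ∀ x y, m x 0 1 = m y 0 1 → m x 1 2 = m y 1 2 → m x 0 2 = m y 0 2 → x = y := by
    intro x y h1 h2 h3
    obtain ⟨a10, a20, a21, a00, a11, a22⟩ := hm x
    obtain ⟨b10, b20, b21, b00, b11, b22⟩ := hm y
    refine hinj ?_
    ext i j
    fin_cases i <;> fin_cases j <;> simp only [Fin.isValue, Fin.zero_eta, Fin.mk_one, Fin.reduceFinMk] <;>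
      simp only [h1, h2, h3, a10, a20, a21, a00, a11, a22, b10, b20, b21, b00, b11, b22]
  refine shape_of_coord (fun x => m x 0 1) (fun x => m x 1 2) (fun x => m x 0 2) e01 e12 (fun x y => ?_)
    ⟨fun x y h => ?_, fun t => ?_⟩
  · constructor
    · intro h
      have h1 : m (x * y) 0 2 = m (y * x) 0 2 := by rw [h]
      rw [e02, e02] at h1
      linear_combination h1
    · intro h
      refine hext _ _ (by rw [e01, e01, add_comm]) (by rw [e12, e12, add_comm]) ?_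
      rw [e02, e02]
      linear_combination h
  · simp only [Prod.mk.injEq] at h
    exact hext _ _ h.1 h.2.1 h.2.2
  · obtain ⟨u, v, w⟩ := t
    let M : Matrix (Fin 3) (Fin 3) K := !![1, u, w; 0, 1, v; 0, 0, 1]
    have hd : M.det = 1 := by simp [M, Matrix.det_fin_three]
    refine ⟨f.symm ⟨⟨M, hd⟩, ⟨fun i j hij => ?_, fun i => ?_⟩⟩, ?_⟩
    · fin_cases i <;> fin_cases j <;> simp_all [M]
    · fin_cases i <;> simp [M]
    · simp [m, M]

end Cfsg.Agent.Lib.Fusion.HeisenbergCore
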