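import Cfsg.Agent.Lib.Fusion.IsoTransport
import Cfsg.Agent.Lib.Fusion.Invariant
import Cfsg.Agent.Lib.Fusion.Alperin
import Cfsg.Agent.Lib.Fusion.Centric

/-!
Subsystems containing the `p`-power automorphisms of every centric subgroup.
-/

set_option autoImplicit false

namespace Cfsg.Agent.Lib.Fusion.IndexPrime

open Cfsg Cfsg.FusionSystem

variable {Ω : Type*} [Group Ω] {S : Subgroup Ω} {p : ℕ}

/-- The subgroup generated by the `p`-power elements of `Aut_F(P)`, inside `Aut(P)`. -/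
abbrev pPart (F : FusionSystem S) (p : ℕ) (P : Subgroup Ω) : Subgroup (MulAut P) :=
  (Subgroup.closure {α : ↥(F.autGroup P) | ∃ k : ℕ, orderOf α = p ^ k}).map (F.autGroup P).subtype

theorem pPart_le (F : FusionSystem S) (p : ℕ) (P : Subgroup Ω) : pPart F p P ≤ F.autGroup P :=
  Subgroup.map_subtype_le _

theorem pPart_le_of {F : FusionSystem S} {P : Subgroup Ω} {H : Subgroup (MulAut P)}
    (h : ∀ γ ∈ F.autGroup P, (∃ k : ℕ, orderOf γ = p ^ k) → γ ∈ H) : pPart F p P ≤ H := by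
  rw [pPart, Subgroup.map_le_iff_le_comap, Subgroup.closure_le]
  rintro ⟨γ, hγ⟩ ⟨k, hk⟩
  exact h γ hγ ⟨k, by rw [← hk]; exact (Subgroup.orderOf_coe (⟨γ, hγ⟩ : F.autGroup P))⟩

theorem mem_pPart {F : FusionSystem S} {P : Subgroup Ω} {γ : MulAut P} (hγ : γ ∈ F.autGroup P)
    (hk : ∃ k : ℕ, orderOf γ = p ^ k) : γ ∈ pPart F p P := by
  obtain ⟨k, hk⟩ := hk
  exact ⟨⟨γ, hγ⟩, Subgroup.subset_closure ⟨k, by rw [← hk]; exact (Subgroup.orderOf_mk γ hγ)⟩, rfl⟩

theorem autInducedBy_le_pPart [Finite S] [Fact p.Prime] (hS : IsPGroup p S) (F : FusionSystem S)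
    {P : Subgroup Ω} (hP : P ≤ S) : autInducedBy S P ≤ pPart F p P := by
  intro c hc
  refine mem_pPart (autInducedBy_le_autGroup hP hc) ?_
  have := finite_mulAut hP
  obtain ⟨k, hk⟩ := IsPGroup.iff_orderOf.1 (isPGroup_autInducedBy hS P) ⟨c, hc⟩
  exact ⟨k, by rw [← hk]; exact (Subgroup.orderOf_mk c hc).symm⟩

theorem normalizes_pPart {F : FusionSystem S} {P : Subgroup Ω} [Finite (MulAut P)] :
    F.autGroup P ≤ Subgroup.normalizer (pPart F p P : Set (MulAut P)) := by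
  intro a ha
  refine mem_normalizer_of_conj_mem fun γ hγ => ?_
  have h : pPart F p P ≤ (pPart F p P).comap (MulAut.conj a).toMonoidHom := by
    refine pPart_le_of fun δ hδ ⟨k, hk⟩ => ?_
    refine mem_pPart (mul_mem (mul_mem ha hδ) (inv_mem ha)) ⟨k, ?_⟩
    rw [← hk]
    exact orderOf_injective (MulAut.conj a).toMonoidHom (MulAut.conj a).injective δ
  exact h hγ

theorem sysIso_one {Ω : Type*} [Group Ω] {S : Subgroup Ω} (E : FusionSystem S) :
    SysIso (1 : MulAut S) E E := by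
  have key : Fwd (1 : MulAut S) E E := fun P φ hφ P' φ' _ hc => by
    have hle : P' ≤ P := fun y hy => by
      obtain ⟨x, s, hx, h1, -, -⟩ := hc ⟨y, hy⟩
      change (x : Ω) = y at h1
      exact h1 ▸ hx
    refine mem_of_agree hle hφ fun y => ?_
    obtain ⟨x, s, hx, h1, h2, h3⟩ := hc y
    rw [h3]
    show (s : Ω) = _
    rw [h2]
    exact congrArg φ (Subtype.ext h1)
  exact ⟨key, key⟩

/-- The intersection of the transports of `E` along `Aut_F(S)`, inside `F`. -/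
def hull (E F : FusionSystem S) : FusionSystem S where
  Hom P := {φ | φ ∈ F.Hom P ∧ ∀ β ∈ F.autGroup S, ∀ E' : FusionSystem S, SysIso β E E' →
    φ ∈ E'.Hom P}
  le_of_mem h := F.le_of_mem h.1
  injective_of_mem h := F.injective_of_mem h.1
  conj_mem hP hg := ⟨F.conj_mem hP hg, fun _ _ E' _ => E'.conj_mem hP hg⟩
  comp_mem h h' hm := ⟨F.comp_mem h.1 h'.1 hm,
    fun β hβ E' hE' => E'.comp_mem (h.2 β hβ E' hE') (h'.2 β hβ E' hE') hm⟩
  inv_mem := by
    intro P φ h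
    obtain ⟨ψ, hψ, hψe⟩ := F.inv_mem h.1
    refine ⟨ψ, ⟨hψ, fun β hβ E' hE' => ?_⟩, hψe⟩
    obtain ⟨ψ', hψ', hψe'⟩ := E'.inv_mem (h.2 β hβ E' hE')
    refine mem_of_agree le_rfl hψ' ?_
    rintro ⟨_, x, rfl⟩
    rw [hψe x, hψe' x]

variable {E F : FusionSystem S}

theorem hull_sub : (hull E F).IsSubsystemOf F := fun _ _ h => h.1

theorem hull_le : hull E F ≤ E := fun _ _ h => h.2 1 (one_mem _) E (sysIso_one E)

theorem hull_invariant : AutInvariant (hull E F) F := by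
  intro P P' φ hφ α hα a ha χ hχ
  have hP : P ≤ S := src_le hφ
  have hP' : P' ≤ S := fun y hy => by
    have h := ha (a.symm ⟨y, hy⟩)
    rw [MulEquiv.apply_symm_apply] at h
    change y = _ at h
    rw [h]
    exact (α _).2
  refine ⟨?_, fun β hβ E' hE' => ?_⟩
  · obtain ⟨ψ, hψ, hψe⟩ : ∃ ψ ∈ F.Hom P', ∀ x : P, ψ (a x) = χ (a x) := by
      have h1 : P.subtype.comp a.symm.toMonoidHom ∈ F.Hom P' := by
        refine mem_of_agree hP' ((mem_autGroup le_rfl).1 (inv_mem hα)) fun y => ?_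
        show ((a.symm y : P) : Ω) = ((α⁻¹ ⟨y, hP' y.2⟩ : S) : Ω)
        obtain ⟨x, rfl⟩ := a.surjective y
        rw [a.symm_apply_apply, show (⟨(a x : Ω), hP' (a x).2⟩ : S) = α ⟨x, hP x.2⟩ from
          Subtype.ext (ha x), MulAut.inv_apply_self]
      refine ⟨_, F.comp_mem (F.comp_mem h1 hφ.1 fun y => (a.symm y).2)
        ((mem_autGroup le_rfl).1 hα) fun y => val_mem hφ.1 _, fun x => ?_⟩
      rw [hχ x]
      show ((α ⟨φ ⟨((a.symm (a x) : P) : Ω), _⟩, _⟩ : S) : Ω) = _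
      refine congrArg (fun t : S => (α t : Ω)) (Subtype.ext (congrArg φ (Subtype.ext ?_)))
      show ((a.symm (a x) : P) : Ω) = x
      rw [a.symm_apply_apply]
    refine mem_of_agree le_rfl hψ fun y => ?_
    obtain ⟨x, rfl⟩ := a.surjective y
    exact (hψe x).symm
  · obtain ⟨E'', hE'', -⟩ := exists_push (e := (α : S ≃* S).symm) E' le_rfl (α : S ≃* S).symm
      fun x => rfl
    refine hE''.2 P φ (hφ.2 (α⁻¹ * β) (mul_mem (inv_mem hα) hβ) E'' (hE'.trans hE'')) P' χ hP'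
      fun y => ?_
    obtain ⟨x, rfl⟩ := a.surjective y
    exact ⟨⟨x, hP x.2⟩, ⟨φ x, val_mem hφ x⟩, x.2, (ha x).symm, rfl, hχ x⟩

theorem decomposes_conj_mem {P Q : Subgroup Ω} {e : P ≃* Q}
    (hd : Decomposes (hull E F) F (Q.subtype.comp e.toMonoidHom)) {δ : MulAut Q}
    (hδ : δ ∈ (hull E F).autGroup Q) : MulAut.congr e.symm δ ∈ (hull E F).autGroup P := by
  obtain ⟨α, hα, e₁, he₁, hh⟩ := hd
  have hP : P ≤ S := src_le he₁
  have hh' : ∀ x : P, (e x : Ω) = α ⟨e₁ x, val_mem he₁ x⟩ := fun x => hh x _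
  have hQ : Q ≤ S := fun y hy => by
    have h := hh' (e.symm ⟨y, hy⟩)
    rw [MulEquiv.apply_symm_apply] at h
    change y = _ at h
    rw [h]
    exact (α _).2
  let f := toIso e₁ he₁ (rfl : e₁.range = e₁.range)
  have hf : IsIso (hull E F) f := isIso_toIso e₁ he₁ rfl
  let a : Q ≃* e₁.range := e.symm.trans f
  have ha : ∀ x : Q, (a x : Ω) = ((α⁻¹ : MulAut S) ⟨x, hQ x.2⟩ : Ω) := fun x => by
    obtain ⟨z, rfl⟩ := e.surjective x
    rw [show (⟨(e z : Ω), hQ (e z).2⟩ : S) = α ⟨e₁ z, val_mem he₁ z⟩ from Subtype.ext (hh' z),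
      MulAut.inv_apply_self]
    show (f (e.symm (e z)) : Ω) = e₁ z
    rw [e.symm_apply_apply]
    rfl
  have h1 : IsIso (hull E F) ((a.symm.trans δ).trans a) :=
    hull_invariant Q e₁.range _ ((mem_autGroup hQ).1 hδ) α⁻¹ (inv_mem hα) a ha _ fun x => by
      show (a (δ (a.symm (a x))) : Ω) = _
      rw [a.symm_apply_apply, ha]
      rfl
  refine (mem_autGroup hP).2 (mem_of_agree le_rfl ((hf.trans h1).trans hf.symm) fun x => ?_)
  show ((e.symm (δ (e x)) : P) : Ω) = ((f.symm (a (δ (a.symm (f x)))) : P) : Ω)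
  rw [show a.symm (f x) = e x from congrArg e (f.symm_apply_apply x),
    show a (δ (e x)) = f (e.symm (δ (e x))) from rfl, f.symm_apply_apply]

variable [Finite S] [Fact p.Prime]

theorem pPart_centric (hS : IsPGroup p S) (hEF : E.IsSubsystemOf F)
    (h : ∀ P : Subgroup Ω, F.IsCentric P → pPart F p P ≤ E.autGroup P) {P : Subgroup Ω}
    (hP : F.IsCentric P) : pPart F p P ≤ (hull E F).autGroup P := by
  refine pPart_le_of fun γ hγ ⟨k, hk⟩ => (mem_autGroup hP.1).2 ⟨(mem_autGroup hP.1).1 hγ,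
    fun β hβ E' hE' => ?_⟩
  let m : P →* Ω := S.subtype.comp ((β⁻¹ : MulAut S).toMonoidHom.comp (Subgroup.inclusion hP.1))
  have hm : m ∈ F.Hom P := restrict_mem hP.1 ((mem_autGroup le_rfl).1 (inv_mem hβ))
  obtain ⟨f, hf, hfe⟩ : ∃ f : P ≃* m.range, IsIso F f ∧ ∀ x : P, (f x : Ω) = m x :=
    ⟨toIso m hm rfl, isIso_toIso _ _ rfl, fun _ => rfl⟩
  have hR := conj_of_isCentric hP ⟨m, hm, rfl⟩
  have hγ₀ : MulAut.congr f γ ∈ E.autGroup m.range := h _ hR (mem_pPart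
    ((mem_autGroup hR.1).2 ((hf.symm.trans ((mem_autGroup hP.1).1 hγ)).trans hf))
    ⟨k, by rw [← hk]; exact orderOf_injective (MulAut.congr f).toMonoidHom (MulAut.congr f).injective γ⟩)
  refine hE'.1 _ _ ((mem_autGroup hR.1).1 hγ₀) P (P.subtype.comp γ.toMonoidHom) hP.1 fun y =>
    ⟨⟨f y, hR.1 (f y).2⟩, ⟨f (γ y), hR.1 (f (γ y)).2⟩, (f y).2, ?_, ?_, ?_⟩
  · show ((β ⟨(f y : Ω), _⟩ : S) : Ω) = y
    rw [show (⟨(f y : Ω), hR.1 (f y).2⟩ : S) = β⁻¹ ⟨y, hP.1 y.2⟩ from Subtype.ext (hfe y),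
      MulAut.apply_inv_self]
  · show (f (γ y) : Ω) = ((f (γ (f.symm (f y))) : m.range) : Ω)
    rw [f.symm_apply_apply]
  · show ((γ y : P) : Ω) = ((β ⟨(f (γ y) : Ω), _⟩ : S) : Ω)
    rw [show (⟨(f (γ y) : Ω), hR.1 (f (γ y)).2⟩ : S) = β⁻¹ ⟨γ y, hP.1 (γ y).2⟩ from
      Subtype.ext (hfe (γ y)), MulAut.apply_inv_self]

theorem centric_decomposes (hS : IsPGroup p S) (hF : F.IsSaturated p) (hEF : E.IsSubsystemOf F)
    (h : ∀ P : Subgroup Ω, F.IsCentric P → pPart F p P ≤ E.autGroup P) {P : Subgroup Ω}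
    (hP : F.IsCentric P) {φ : P →* Ω} (hφ : φ ∈ F.Hom P) : Decomposes (hull E F) F φ := by
  suffices H : ∀ n : ℕ, ∀ P : Subgroup Ω, F.IsCentric P → Nat.card S - Nat.card P = n →
      ∀ φ ∈ F.Hom P, Decomposes (hull E F) F φ from H _ P hP rfl φ hφ
  intro n
  induction n using Nat.strong_induction_on with
  | _ n ih =>
    intro X hXc hn φ hφ
    have hA := hull_invariant (E := E) (F := F)
    rcases hXc.1.eq_or_lt with rfl | hlt
    · obtain ⟨β, hβ, hβe⟩ := exists_aut_of_self_map hφ (val_mem hφ)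
      exact ⟨β, hβ, X.subtype, subtype_mem le_rfl, fun x _ => (hβe x).symm⟩
    obtain ⟨R, hXR, hR⟩ := exists_fullyNormalized (F := F) hXc.1
    have hbig : ∀ (Y : Subgroup Ω), F.IsConj Y R → ∀ ψ ∈ F.Hom (normalizerIn S Y),
        Decomposes (hull E F) F ψ := by
      intro Y hYR ψ hψ
      have hc : Nat.card Y = Nat.card X := by
        have h1 := isConj_card hXR
        have h2 := isConj_card hYR
        omega
      have hYc := conj_of_isCentric hXc (isConj_trans hXR (isConj_symm hYR))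
      have hYS : Y < S := lt_of_le_of_ne hYc.1
        fun h => hlt.ne (eq_of_le_card hXc.1 (by rw [← hc, h]))
      have hle := le_normalizerIn hYc.1
      have : Finite (normalizerIn S Y) := finite_of_le (normalizerIn_le S Y)
      have hlt' : Y < normalizerIn S Y := lt_normalizer_inf hS hYS
      have h2 : Nat.card Y < Nat.card (normalizerIn S Y) := lt_of_le_of_ne
        (Subgroup.card_le_of_le hle) fun h => hlt'.ne (eq_of_le_card hle h.ge)
      have h3 : Nat.card (normalizerIn S Y) ≤ Nat.card S :=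
        Subgroup.card_le_of_le (normalizerIn_le S Y)
      exact ih _ (by omega) _ (isCentric_of_le hYc hle (normalizerIn_le S Y)) rfl ψ hψ
    have hiso : ∀ (Y : Subgroup Ω), F.IsConj Y R →
        ∃ e : Y ≃* R, IsIso F e ∧ Decomposes (hull E F) F (R.subtype.comp e.toMonoidHom) := by
      intro Y hYR
      obtain ⟨e, he⟩ := isConj_iff_iso.1 hYR
      obtain ⟨γ, hγ, ψ, hψ, -, hψe⟩ := exists_extend_fullyNormalized hS hF hR he
      refine ⟨e.trans γ, he.trans ((mem_autGroup hR.1).1 hγ), ?_⟩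
      exact (hbig Y hYR ψ hψ).restrict (le_normalizerIn he.src_le) fun y =>
        (hψe y (le_normalizerIn he.src_le y.2)).symm
    have haut : ∀ γ ∈ F.autGroup R, Decomposes (hull E F) F (R.subtype.comp γ.toMonoidHom) := by
      intro γ hγ
      have := finite_mulAut hR.1
      obtain ⟨hFA, hrec⟩ := fullyNormalized_props hS hF hR
      obtain ⟨-, hsyl⟩ := isFullyAutomized_iff.1 hFA
      have hRc := conj_of_isCentric hXc hXR
      obtain ⟨ε, hε, hεc⟩ := hsyl.exists_frattini (pPart_le F p R) normalizes_pPart hγ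
      rw [inf_eq_left.2 (autInducedBy_le_pPart hS F hR.1)] at hεc
      have hεh := pPart_centric hS hEF h hRc hε
      have hγ' : ε * γ ∈ F.autGroup R := mul_mem (pPart_le F p R hε) hγ
      obtain ⟨ψ, hψ, -, hψe⟩ := exists_extend_of_congr_le hrec ((mem_autGroup hR.1).1 hγ') (by
        rintro _ ⟨c, hc, rfl⟩
        rw [MulEquiv.coe_toMonoidHom, congr_eq_conj]
        exact hεc c hc)
      have hd : Decomposes (hull E F) F (R.subtype.comp (ε * γ : MulAut R).toMonoidHom) :=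
        (hbig R (isConj_refl hR.1) ψ hψ).restrict (le_normalizerIn hR.1) fun y =>
          (hψe y (le_normalizerIn hR.1 y.2)).symm
      refine hd.comp le_rfl hA (decomposes_of_mem ((mem_autGroup hR.1).1 (inv_mem hεh)))
        (fun x => ((ε * γ : MulAut R) x).2) fun x => ?_
      simp
    obtain ⟨e, he, hde⟩ := hiso X hXR
    let f := toIso φ hφ (rfl : φ.range = φ.range)
    have hf : IsIso F f := isIso_toIso φ hφ rfl
    obtain ⟨e', he', hde'⟩ := hiso φ.range (isConj_trans (isConj_symm ⟨φ, hφ, rfl⟩) hXR)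
    let γ : MulAut R := (e.symm.trans f).trans e'
    have hd := haut γ ((mem_autGroup hR.1).2 ((he.symm.trans hf).trans he'))
    have h2 : Decomposes (hull E F) F (R.subtype.comp (e.trans γ).toMonoidHom) :=
      hde.comp le_rfl hA hd (fun x => (e x).2) fun x => rfl
    refine h2.comp le_rfl hA (hde'.symm le_rfl hA) (fun x => ((e.trans γ) x).2) fun x => ?_
    simp [γ, f]

theorem decomposes_all (hS : IsPGroup p S) (hF : F.IsSaturated p) (hEF : E.IsSubsystemOf F)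
    (h : ∀ P : Subgroup Ω, F.IsCentric P → pPart F p P ≤ E.autGroup P) {P : Subgroup Ω}
    {φ : P →* Ω} (hφ : φ ∈ F.Hom P) : Decomposes (hull E F) F φ := by
  have hA := hull_invariant (E := E) (F := F)
  let D : FusionSystem S :=
    { Hom := fun P => {φ | φ ∈ F.Hom P ∧ Decomposes (hull E F) F φ}
      le_of_mem := fun h => F.le_of_mem h.1
      injective_of_mem := fun h => F.injective_of_mem h.1
      conj_mem := fun hP hg =>
        ⟨F.conj_mem hP hg, decomposes_of_mem ((hull E F).conj_mem hP hg)⟩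
      comp_mem := fun h h' hm =>
        ⟨F.comp_mem h.1 h'.1 hm, h.2.comp le_rfl hA h'.2 hm fun _ => rfl⟩
      inv_mem := by
        intro P φ hφ
        let e : P ≃* φ.range := toIso φ hφ.1 rfl
        have hd : Decomposes (hull E F) F (φ.range.subtype.comp e.toMonoidHom) := by
          obtain ⟨a, ha, b, hb, hab⟩ := hφ.2
          exact ⟨a, ha, b, hb, fun x hx => hab x hx⟩
        refine ⟨P.subtype.comp e.symm.toMonoidHom, ⟨(isIso_toIso φ hφ.1 rfl).symm,
          hd.symm le_rfl hA⟩, fun x => ?_⟩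
        exact congrArg Subtype.val (e.symm_apply_apply x) }
  have hle : F ≤ D := by
    refine alperin hS hF D fun Q hQ α hα => ?_
    have hQS : Q ≤ S := by rcases hQ with rfl | hQ; exacts [le_rfl, hQ.1.1]
    refine (mem_autGroup hQS).2 ⟨(mem_autGroup hQS).1 hα, ?_⟩
    rcases hQ with rfl | hQ
    · exact ⟨α, hα, Q.subtype, subtype_mem le_rfl, fun x _ => rfl⟩
    · exact centric_decomposes hS hF hEF h hQ.1 ((mem_autGroup hQS).1 hα)
  exact (hle P hφ).2

theorem pPart_all (hS : IsPGroup p S) (hF : F.IsSaturated p) (hEF : E.IsSubsystemOf F)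
    (h : ∀ P : Subgroup Ω, F.IsCentric P → pPart F p P ≤ E.autGroup P) {P : Subgroup Ω}
    (hP : P ≤ S) : pPart F p P ≤ (hull E F).autGroup P := by
  obtain ⟨Q, hPQ, hQ⟩ := exists_fullyNormalized (F := F) hP
  obtain ⟨hFA, -⟩ := fullyNormalized_props hS hF hQ
  obtain ⟨-, hsyl⟩ := isFullyAutomized_iff.1 hFA
  have := finite_mulAut hQ.1
  have hQpart : pPart F p Q ≤ (hull E F).autGroup Q := pPart_le_of fun δ hδ ⟨k, hk⟩ => by
    obtain ⟨γ, hγ, hγle⟩ := hsyl.exists_conj_le (Subgroup.zpowers_le.2 hδ)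
      (IsPGroup.of_card (n := k) (by rw [Nat.card_zpowers, hk]))
    have h1 : γ * δ * γ⁻¹ ∈ (hull E F).autGroup Q :=
      autInducedBy_le_autGroup hQ.1 (hγle δ (Subgroup.mem_zpowers δ))
    have h2 := decomposes_conj_mem (e := γ) (decomposes_all hS hF hEF h ((mem_autGroup hQ.1).1 hγ)) h1
    convert h2 using 1
    ext x
    simp
  obtain ⟨e, he⟩ := isConj_iff_iso.1 hPQ
  refine pPart_le_of fun γ hγ ⟨k, hk⟩ => ?_
  have h1 := decomposes_conj_mem (decomposes_all hS hF hEF h he)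
    (hQpart (mem_pPart (γ := MulAut.congr e γ)
      ((mem_autGroup hQ.1).2 ((he.symm.trans ((mem_autGroup hP).1 hγ)).trans he))
      ⟨k, by rw [← hk]; exact orderOf_injective (MulAut.congr e).toMonoidHom (MulAut.congr e).injective γ⟩))
  convert h1 using 1
  ext x
  simp

theorem isCentric_iff (hS : IsPGroup p S) (hF : F.IsSaturated p) (hEF : E.IsSubsystemOf F)
    (h : ∀ P : Subgroup Ω, F.IsCentric P → pPart F p P ≤ E.autGroup P) (P : Subgroup Ω) :
    E.IsCentric P ↔ F.IsCentric P := by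
  refine ⟨fun hc => ⟨hc.1, ?_⟩, fun hc =>
    ⟨hc.1, fun R ⟨φ, hφ, hr⟩ => hc.2 R ⟨φ, hEF P hφ, hr⟩⟩⟩
  rintro _ ⟨φ, hφ, rfl⟩ c hc'
  obtain ⟨α, hα, φ₀, hφ₀, hh⟩ := decomposes_all hS hF hEF h hφ
  obtain ⟨hcS, hcc⟩ := mem_centralizerIn.1 hc'
  have h1 : ((α⁻¹ : MulAut S) ⟨c, hcS⟩ : Ω) ∈ φ₀.range := by
    refine hc.2 φ₀.range ⟨φ₀, hull_le P hφ₀, rfl⟩ (mem_centralizerIn.2 ⟨Subtype.coe_prop _, ?_⟩)
    rintro _ ⟨x, rfl⟩
    have e1 : (⟨φ₀ x, val_mem hφ₀ x⟩ : S) * α⁻¹ ⟨c, hcS⟩ =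
        α⁻¹ ⟨c, hcS⟩ * ⟨φ₀ x, val_mem hφ₀ x⟩ := by
      apply α.injective
      rw [map_mul, map_mul, MulAut.apply_inv_self]
      refine Subtype.ext ?_
      show ((α ⟨φ₀ x, _⟩ : S) : Ω) * c = c * _
      rw [← hh x (val_mem hφ₀ x)]
      exact hcc _ ⟨x, rfl⟩
    exact congrArg Subtype.val e1
  obtain ⟨x, hx⟩ := h1
  refine ⟨x, ?_⟩
  rw [hh x (val_mem hφ₀ x),
    show (⟨φ₀ x, val_mem hφ₀ x⟩ : S) = α⁻¹ ⟨c, hcS⟩ from Subtype.ext hx, MulAut.apply_inv_self]

end Cfsg.Agent.Lib.Fusion.IndexPrime
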