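import Cfsg.Agent.Lib.Fusion.Transport
import Cfsg.Agent.Lib.Fusion.Join

/-!
Subnormal subsystems, components and quasisimplicity along isomorphisms of systems.
-/

set_option autoImplicit false

namespace Cfsg.Agent.Lib.Fusion

open Cfsg Cfsg.FusionSystem

variable {Ω : Type*} [Group Ω] {S : Subgroup Ω} {Ω' : Type*} [Group Ω'] {S' : Subgroup Ω'}
  {Ω'' : Type*} [Group Ω''] {S'' : Subgroup Ω''}
  {e : S ≃* S'} {F : FusionSystem S} {F' : FusionSystem S'} {p : ℕ}

/-- A map on the target pulls back. -/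
theorem exists_pull (h : Fwd e.symm F' F) {P' : Subgroup Ω'} {φ' : P' →* Ω'} (hφ' : φ' ∈ F'.Hom P') :
    ∃ φ ∈ F.Hom (imageAlong (S.subtype.comp e.symm.toMonoidHom) P'), Corr e φ φ' := by
  set P := imageAlong (S.subtype.comp e.symm.toMonoidHom) P'
  have hP : P ≤ S := by rintro _ ⟨x, -, rfl⟩; exact (e.symm x).2
  obtain ⟨φ, hφ⟩ := exists_corr e.symm (val_mem hφ') hP (by
    rintro ⟨_, z, hz, rfl⟩
    show ((e.symm.symm (e.symm z) : S') : Ω') ∈ P'
    rw [MulEquiv.symm_symm, MulEquiv.apply_symm_apply]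
    exact hz)
  refine ⟨φ, h P' φ' hφ' P φ hP hφ, fun y => ?_⟩
  have hyS : (y : Ω') ∈ S' := src_le hφ' y.2
  have hxP : (e.symm ⟨y, hyS⟩ : Ω) ∈ P := ⟨⟨y, hyS⟩, y.2, rfl⟩
  have hv := hφ.val_eq (y := ⟨(e.symm ⟨(y : Ω'), hyS⟩ : Ω), hxP⟩) (x := ⟨(y : Ω'), hyS⟩) y.2 rfl (val_mem hφ' _)
  refine ⟨e.symm ⟨y, hyS⟩, e.symm ⟨φ' y, val_mem hφ' y⟩, hxP, by simp, ?_, by simp⟩
  rw [hv]

theorem Fwd.trans {F'' : FusionSystem S''} {e' : S' ≃* S''} (h : Fwd e F F') (h' : Fwd e' F' F'') :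
    Fwd (e.trans e') F F'' := by
  intro P φ hφ P'' φ'' hP'' hc
  set P' := imageAlong (S'.subtype.comp e'.symm.toMonoidHom) P'' with hP'def
  have hP' : P' ≤ S' := by rintro _ ⟨x, -, rfl⟩; exact (e'.symm x).2
  obtain ⟨φ', hφ'⟩ := exists_corr e (val_mem hφ) hP' (by
    rintro ⟨_, z, hz, rfl⟩
    obtain ⟨x, s, hx, h1, -, -⟩ := hc ⟨z, hz⟩
    have : e.symm (e'.symm z) = x := by
      rw [MulEquiv.symm_apply_eq, MulEquiv.symm_apply_eq]
      exact Subtype.ext h1.symm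
    show ((e.symm (e'.symm z) : S) : Ω) ∈ P
    rw [this]
    exact hx)
  refine h' P' φ' (h P φ hφ P' φ' hP' hφ') P'' φ'' hP'' fun y => ?_
  obtain ⟨x, s, hx, h1, h2, h3⟩ := hc y
  have hxP' : (e x : Ω') ∈ P' := by
    refine ⟨⟨y, hP'' y.2⟩, y.2, ?_⟩
    show ((e'.symm ⟨y, hP'' y.2⟩ : S') : Ω') = e x
    refine congrArg (fun t : S' => (t : Ω')) (a₂ := e x) ?_
    rw [MulEquiv.symm_apply_eq]
    exact Subtype.ext h1.symm
  refine ⟨e x, e s, hxP', h1, ?_, h3⟩
  rw [hφ'.val_eq (y := ⟨_, hxP'⟩) hx rfl (val_mem hφ _)]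
  exact congrArg (fun t : S => (e t : Ω')) (Subtype.ext h2)

theorem SysIso.trans {F'' : FusionSystem S''} {e' : S' ≃* S''} (h : SysIso e F F') (h' : SysIso e' F' F'') :
    SysIso (e.trans e') F F'' :=
  ⟨h.1.trans h'.1, h'.2.trans h.2⟩

theorem sysIso_unique {A B : FusionSystem S'} (hA : SysIso e F A) (hB : SysIso e F B) : A = B := by
  refine system_ext fun P' => Set.Subset.antisymm (fun φ' hφ' => ?_) fun φ' hφ' => ?_
  · obtain ⟨φ, hφ, hc⟩ := exists_pull hA.2 hφ'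
    exact hB.1 _ φ hφ P' φ' (src_le hφ') hc
  · obtain ⟨φ, hφ, hc⟩ := exists_pull hB.2 hφ'
    exact hA.1 _ φ hφ P' φ' (src_le hφ') hc

/-- The system transported to a compatible copy of a subgroup. -/
theorem exists_push {T : Subgroup Ω} (E : FusionSystem T) (hT : T ≤ S) {T' : Subgroup Ω'} (eT : T ≃* T')
    (hcompat : ∀ x : T, (eT x : Ω') = e ⟨x, hT x.2⟩) :
    ∃ E' : FusionSystem T', SysIso eT E E' ∧
      ∃ h : imageAlong (S'.subtype.comp e.toMonoidHom) T = T', HEq E' (pushSystem e E hT) := by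
  have hT' : imageAlong (S'.subtype.comp e.toMonoidHom) T = T' := by
    ext y
    constructor
    · rintro ⟨x, hx, rfl⟩
      have h1 := (eT ⟨x, hx⟩).2
      rw [hcompat] at h1
      exact h1
    · intro hy
      obtain ⟨x, hx⟩ := eT.surjective ⟨y, hy⟩
      exact ⟨⟨x, hT x.2⟩, x.2, (hcompat x).symm.trans (congrArg Subtype.val hx)⟩
  subst hT'
  refine ⟨pushSystem e E hT, ⟨fun P φ hφ P' φ' hP' hc => ⟨hP', P, φ, hφ, fun y => ?_⟩,
    fun P' φ' hφ' P φ hP hc => ?_⟩, rfl, HEq.rfl⟩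
  · obtain ⟨x, s, hx, h1, h2, h3⟩ := hc y
    exact ⟨⟨x, hT x.2⟩, ⟨s, hT s.2⟩, hx, (hcompat x).symm.trans h1, h2, h3.trans (hcompat s)⟩
  · obtain ⟨hP', P₀, φ₀, hφ₀, hc₀⟩ := hφ'
    have hkey : ∀ x : P, ∃ hx₀ : (x : Ω) ∈ P₀, φ x = φ₀ ⟨x, hx₀⟩ := by
      intro x
      obtain ⟨y, s, hy, h1, h2, h3⟩ := hc x
      obtain ⟨x₀, s₀, hx₀, g1, g2, g3⟩ := hc₀ ⟨y, hy⟩
      have e1 : x₀ = ⟨x, hT (hP x.2)⟩ := by
        refine e.injective (Subtype.ext (g1.trans ?_))
        refine Eq.trans ?_ (hcompat ⟨x, hP x.2⟩)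
        rw [show (⟨(x : Ω), hP x.2⟩ : T) = eT.symm y from Subtype.ext h1.symm, MulEquiv.apply_symm_apply]
      subst e1
      refine ⟨hx₀, ?_⟩
      rw [h3, ← g2]
      refine (congrArg (fun t : S => (t : Ω)) (a₁ := s₀) (a₂ := ⟨eT.symm s, hT (eT.symm s).2⟩) ?_).symm
      refine e.injective (Subtype.ext ?_)
      rw [← hcompat, MulEquiv.apply_symm_apply, h2, g3]
    exact mem_of_agree (fun x hx => (hkey ⟨x, hx⟩).1) hφ₀ fun x => (hkey x).2

/-- A normal subsystem transported to a compatible copy is normal. -/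
theorem normal_transport [Finite S] [Fact p.Prime] (hS : IsPGroup p S) (hiso : SysIso e F F')
    (hF' : F'.IsSaturated p) {T : Subgroup Ω} {E : FusionSystem T} (hE : E.IsNormalIn F p) {T' : Subgroup Ω'}
    (eT : T ≃* T') (hT : T ≤ S) (hcompat : ∀ x : T, (eT x : Ω') = e ⟨x, hT x.2⟩) :
    ∃ E' : FusionSystem T', SysIso eT E E' ∧ E'.IsNormalIn F' p := by
  obtain ⟨E', hE', h, heq⟩ := exists_push E hT eT hcompat
  obtain ⟨_, hN⟩ := pushSystem_isNormalIn (e := e) hS hiso hF' hE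
  refine ⟨E', hE', ?_⟩
  subst h
  rw [eq_of_heq heq]
  exact hN

theorem subnormal_le' {T : Subgroup Ω} {E : FusionSystem T} (hE : E.IsSubnormalIn F p) : T ≤ S := by
  induction hE with
  | refl => exact le_rfl
  | step _ h ih => exact ih.trans h.1.2.2.2.1.1

/-- Subnormality is carried along isomorphisms of systems. -/
theorem subnormal_transport {Ω : Type*} [Group Ω] {S : Subgroup Ω} {F : FusionSystem S} {Ω' : Type*} [Group Ω']
    {T : Subgroup Ω} {E : FusionSystem T} (hE : E.IsSubnormalIn F p) :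
    Fact p.Prime → Finite S → IsPGroup p S → ∀ {S' : Subgroup Ω'} {F' : FusionSystem S'} (e : S ≃* S'),
      SysIso e F F' → F'.IsSaturated p → ∀ {T' : Subgroup Ω'} (eT : T ≃* T') (hT : T ≤ S),
        (∀ x : T, (eT x : Ω') = e ⟨x, hT x.2⟩) → ∀ {E' : FusionSystem T'}, SysIso eT E E' → E'.IsSubnormalIn F' p := by
  induction hE with
  | refl F p =>
    intro _ _ _ S' F' e hiso _ T' eT hT hcompat E' hE'
    obtain rfl : S' = T' := by
      ext y
      constructor
      · intro hy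
        obtain ⟨x, hx⟩ := e.surjective ⟨y, hy⟩
        rw [show y = (eT x : Ω') from (congrArg Subtype.val hx).symm.trans (hcompat x).symm]
        exact (eT x).2
      · intro hy
        obtain ⟨x, hx⟩ := eT.surjective ⟨y, hy⟩
        rw [show y = (e x : Ω') from (congrArg Subtype.val hx).symm.trans (hcompat x)]
        exact (e x).2
    obtain rfl : e = eT := MulEquiv.ext fun x => Subtype.ext (hcompat x).symm
    rw [sysIso_unique hE' hiso]
    exact .refl _ _
  | @step U S E D F p h hD ih =>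
    intro hp hfin hS S' F' e hiso hF' T' eT hT hcompat E' hE'
    have hUS : U ≤ S := hD.1.2.2.2.1.1
    have hTU := subnormal_le' h
    let θ : U →* Ω' := S'.subtype.comp (e.toMonoidHom.comp (Subgroup.inclusion hUS))
    have hθ : Function.Injective θ := fun a b hab =>
      Subgroup.inclusion_injective hUS (e.injective (Subtype.ext hab))
    let eU' : U ≃* θ.range := MonoidHom.ofInjective hθ
    obtain ⟨D', hD', hD'n⟩ := normal_transport hS hiso hF' hD eU' hUS (fun _ => rfl)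
    exact .step (ih hp (finite_of_le hUS) (hS.to_le hUS) eU' hD' hD'n.1.1 eT hTU (fun x => hcompat x) hE') hD'n

/-- An automorphism in `Aut_F(U)` is an automorphism of an invariant system over `U`. -/
theorem sysIso_of_invariant {U : Subgroup Ω} {D : FusionSystem U} (hD : D.IsInvariantIn F) {α : MulAut U}
    (hα : α ∈ F.autGroup U) : SysIso α D D := by
  have key : ∀ α ∈ F.autGroup U, Fwd α D D := by
    intro α hα P φ hφ P' φ' hP' hc
    have hPU := src_le hφ
    obtain ⟨χ, hχ, hχe⟩ := hD.2.2.1 P hPU φ hφ α hα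
    have hmem : ∀ y : P', (y : Ω) ∈ (P.subgroupOf U).map (U.subtype.comp α.toMonoidHom) := fun y => by
      obtain ⟨x, s, hx, h1, -, -⟩ := hc y
      exact ⟨x, hx, h1⟩
    refine mem_of_agree (fun y hy => hmem ⟨y, hy⟩) hχ fun y => ?_
    obtain ⟨x, s, hx, h1, h2, h3⟩ := hc y
    have h4 := hχe ⟨x, hx⟩ (h2 ▸ s.2) ⟨x, hx, rfl⟩
    rw [h3]
    refine Eq.trans ?_ ((congrArg χ (Subtype.ext h1)).symm.trans h4).symm
    exact congrArg (fun t : U => (α t : Ω)) (Subtype.ext h2)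
  exact ⟨key α hα, key α.symm (inv_mem hα)⟩

/-- A morphism both ways is an automorphism of the system. -/
theorem sysIso_of_morphism {α : S ≃* S} (hα : F.IsMorphism F (S.subtype.comp α.toMonoidHom))
    (hα' : F.IsMorphism F (S.subtype.comp α.symm.toMonoidHom)) : SysIso α F F := by
  have key : ∀ α : S ≃* S, F.IsMorphism F (S.subtype.comp α.toMonoidHom) → Fwd α F F := by
    intro α hα P φ hφ P' φ' hP' hc
    obtain ⟨ψ, hψ, h₁, h₂, h₃, he⟩ := hα.2 P φ hφ
    have hmem : ∀ y : P', (y : Ω) ∈ imageAlong (S.subtype.comp α.toMonoidHom) P := fun y => by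
      obtain ⟨x, s, hx, h1, -, -⟩ := hc y
      exact ⟨x, hx, h1⟩
    refine mem_of_agree (fun y hy => hmem ⟨y, hy⟩) hψ fun y => ?_
    obtain ⟨x, s, hx, h1, h2, h3⟩ := hc y
    rw [h3]
    refine Eq.trans ?_ ((congrArg ψ (Subtype.ext h1)).symm.trans (he ⟨x, hx⟩)).symm
    exact congrArg (fun t : S => (α t : Ω)) (Subtype.ext h2)
  exact ⟨key α hα, key α.symm hα'⟩

/-! ### Centre, hyperfocal subgroup, quasisimplicity -/

theorem mem_map_iso {Q : Subgroup Ω} (x : S) :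
    (e x : Ω') ∈ imageAlong (S'.subtype.comp e.toMonoidHom) Q ↔ (x : Ω) ∈ Q :=
  ⟨fun h => imageAlong_inj_mem h, fun h => ⟨x, h, rfl⟩⟩

theorem isCentral_transport (hiso : SysIso e F F') {Q : Subgroup Ω} (hQ : F.IsCentral Q) :
    F'.IsCentral (imageAlong (S'.subtype.comp e.toMonoidHom) Q) := by
  set Q' := imageAlong (S'.subtype.comp e.toMonoidHom) Q
  have hQ'S : Q' ≤ S' := by rintro _ ⟨x, -, rfl⟩; exact (e x).2
  refine ⟨hQ'S, fun P' φ' hφ' => ?_⟩
  set P := imageAlong (S.subtype.comp e.symm.toMonoidHom) P'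
  obtain ⟨φ, hφ, hc⟩ := exists_pull hiso.2 hφ'
  obtain ⟨ψ, hψ, hψP, hψQ⟩ := hQ.2 _ φ hφ
  have hle : P' ⊔ Q' ≤ S' := sup_le (src_le hφ') hQ'S
  have hmap : ∀ y : ↥(P' ⊔ Q'), (e.symm ⟨y, hle y.2⟩ : Ω) ∈ P ⊔ Q := by
    have h1 : (P' ⊔ Q').subgroupOf S' ≤ (P ⊔ Q).comap (S.subtype.comp e.symm.toMonoidHom) := by
      rw [Subgroup.subgroupOf_sup (src_le hφ') hQ'S]
      refine sup_le (fun y hy => Subgroup.mem_sup_left ⟨y, hy, rfl⟩) fun y hy => Subgroup.mem_sup_right ?_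
      obtain ⟨x, hx, hxy⟩ := hy
      show (e.symm y : Ω) ∈ Q
      rw [show y = e x from Subtype.ext hxy.symm, MulEquiv.symm_apply_apply]
      exact hx
    exact fun y => h1 (x := ⟨y, hle y.2⟩) y.2
  obtain ⟨ψ', hψ'⟩ := exists_corr e (val_mem hψ) hle hmap
  refine ⟨ψ', hiso.1 _ ψ hψ _ ψ' hle hψ', fun y => ?_, fun y => ?_⟩
  · obtain ⟨x, s, hx, h1, h2, h3⟩ := hc y
    rw [hψ'.val_eq (y := Subgroup.inclusion le_sup_left y) (x := x) (Subgroup.mem_sup_left hx) h1 (val_mem hψ _), h3]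
    refine congrArg (fun t : S => (e t : Ω')) (Subtype.ext ?_)
    show ψ (Subgroup.inclusion le_sup_left ⟨(x : Ω), hx⟩) = _
    rw [hψP, h2]
  · obtain ⟨x, hx, hxy⟩ := y.2
    rw [hψ'.val_eq (y := Subgroup.inclusion le_sup_right y) (x := x) (Subgroup.mem_sup_right hx) hxy (val_mem hψ _)]
    refine Eq.trans ?_ hxy
    refine congrArg (fun t : S => (e t : Ω')) (Subtype.ext ?_)
    exact hψQ ⟨(x : Ω), hx⟩

theorem center_mem_of [Finite S] (hiso : SysIso e F F') (x : S) (hx : (x : Ω) ∈ F.center) :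
    (e x : Ω') ∈ F'.center :=
  le_center (isCentral_transport hiso isCentral_center) ⟨x, hx, rfl⟩

theorem center_mem_iff [Finite S] [Finite S'] (hiso : SysIso e F F') (x : S) :
    (e x : Ω') ∈ F'.center ↔ (x : Ω) ∈ F.center :=
  ⟨fun h => by simpa using center_mem_of hiso.symm (e x) h, center_mem_of hiso x⟩

theorem hyperfocal_transport (hiso : SysIso e F F') (h : F.hyperfocalSubgroup p = S) :
    F'.hyperfocalSubgroup p = S' := by
  refine le_antisymm (hyperfocal_le_base F') fun y hy => ?_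
  suffices hall : F.hyperfocalSubgroup p ≤ ((F'.hyperfocalSubgroup p).comap (S'.subtype.comp e.toMonoidHom)).map S.subtype by
    obtain ⟨x, hx, hxe⟩ := hall (h.ge (e.symm ⟨y, hy⟩).2)
    rw [show x = e.symm ⟨y, hy⟩ from Subtype.ext hxe] at hx
    have h1 : (e (e.symm ⟨y, hy⟩) : Ω') ∈ F'.hyperfocalSubgroup p := hx
    rwa [MulEquiv.apply_symm_apply] at h1
  refine (Subgroup.closure_le _).2 ?_
  rintro _ ⟨P, α, x, hP, hα, rfl⟩
  set θ := S'.subtype.comp e.toMonoidHom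
  set P' := imageAlong θ P
  have hP' : P' ≤ S' := by rintro _ ⟨z, -, rfl⟩; exact (e z).2
  let g : P →* P' := (θ.comp (Subgroup.inclusion hP)).codRestrict P' fun z => ⟨⟨z, hP z.2⟩, z.2, rfl⟩
  have hg : Function.Bijective g := by
    constructor
    · intro a b hab
      exact Subgroup.inclusion_injective hP (e.injective (Subtype.ext (congrArg (fun z : P' => (z : Ω')) hab)))
    · rintro ⟨_, z, hz, rfl⟩
      exact ⟨⟨z, hz⟩, rfl⟩
  let c : MulAut P ≃* MulAut P' := MulAut.congr (MulEquiv.ofBijective g hg)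
  have hcv : ∀ (β : MulAut P) (z : P), (c β (g z) : Ω') = e ⟨β z, hP (β z).2⟩ := fun β z => by
    show ((MulEquiv.ofBijective g hg) (β ((MulEquiv.ofBijective g hg).symm ((MulEquiv.ofBijective g hg) z))) : Ω') = _
    rw [MulEquiv.symm_apply_apply]; rfl
  have hcm : ∀ β ∈ F.autGroup P, c β ∈ F'.autGroup P' := fun β hβ => by
    refine (mem_autGroup hP').2 (hiso.1 _ _ ((mem_autGroup hP).1 hβ) _ _ hP' fun z => ?_)
    obtain ⟨w, rfl⟩ := hg.2 z
    exact ⟨⟨w, hP w.2⟩, ⟨β w, hP (β w).2⟩, w.2, rfl, rfl, hcv β w⟩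
  let ρ : F.autGroup P →* F'.autGroup P' :=
    (c.toMonoidHom.comp (F.autGroup P).subtype).codRestrict _ fun β => hcm β β.2
  have hρ : ρ α ∈ pResidual p (F'.autGroup P') := by
    have h1 : pResidual p (F.autGroup P) ≤ (pResidual p (F'.autGroup P')).comap ρ := by
      refine (Subgroup.closure_le _).2 fun β hβ => Subgroup.subset_closure ?_
      exact Nat.Coprime.coprime_dvd_left (orderOf_map_dvd ρ β) hβ
    exact h1 hα
  refine ⟨⟨(x : Ω)⁻¹ * (((α : MulAut P) x : P) : Ω), S.mul_mem (S.inv_mem (hP x.2)) (hP ((α : MulAut P) x).2)⟩, ?_, rfl⟩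
  refine Subgroup.subset_closure ⟨P', ρ α, g x, hP', hρ, ?_⟩
  show (e (⟨(x : Ω), hP x.2⟩⁻¹ * ⟨_, hP ((α : MulAut P) x).2⟩) : Ω') = (g x : Ω')⁻¹ * (c (α : MulAut P) (g x) : Ω')
  rw [hcv, map_mul, map_inv, Subgroup.coe_mul, Subgroup.coe_inv]
  rfl

/-- Maps of the systems modulo kernels correspond. -/
theorem fwd_factor {Y : Type*} [Group Y] {Y' : Type*} [Group Y'] {U : Subgroup Y} {U' : Subgroup Y'} {θ : S →* Y}
    {θ' : S' →* Y'} (eb : U ≃* U') (hiso : Fwd e F F') {Z : Subgroup Ω} {Z' : Subgroup Ω'}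
    (hθ : ∀ x, ∃ h : θ x ∈ U, (eb ⟨θ x, h⟩ : Y') = θ' (e x))
    {A : FusionSystem U} {A' : FusionSystem U'} (hA : F.IsFactorSystem Z θ A) (hA' : F'.IsFactorSystem Z' θ' A') :
    Fwd eb A A' := by
  intro Pb φb hφb Pb' φb' hPb' hc
  obtain ⟨hPb, φ, hφ, b₁, b₂, b₃, hbe⟩ := (hA.2.2.2 Pb φb).1 hφb
  refine (hA'.2.2.2 Pb' φb').2 ⟨hPb', ?_⟩
  set P' := preimageAlong θ' Pb'
  have hP' : P' ≤ S' := preimageAlong_le θ' Pb'
  have hin : ∀ y : P', (e.symm ⟨y, hP' y.2⟩ : Ω) ∈ preimageAlong θ Pb := by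
    intro y
    obtain ⟨hyS, hy'⟩ := mem_preimageAlong.1 y.2
    refine mem_preimageAlong.2 ⟨(e.symm ⟨y, hP' y.2⟩).2, ?_⟩
    obtain ⟨xb, sb, hxb, h1, -, -⟩ := hc ⟨_, hy'⟩
    obtain ⟨h, he⟩ := hθ (e.symm ⟨y, hP' y.2⟩)
    rw [MulEquiv.apply_symm_apply] at he
    have : xb = ⟨_, h⟩ := eb.injective (Subtype.ext (h1.trans he.symm))
    rw [this] at hxb
    exact hxb
  obtain ⟨φ', hφ'⟩ := exists_corr e (val_mem hφ) hP' hin
  have hval : ∀ y, φ' y ∈ S' := val_mem (hiso _ φ hφ P' φ' hP' hφ')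
  refine ⟨φ', hiso _ φ hφ P' φ' hP' hφ', hP', hval, fun y => map_mem_of_preimage y, fun y => ?_⟩
  obtain ⟨x, s, hx, h1, h2, h3⟩ := hφ' y
  obtain ⟨hθx, hex⟩ := hθ x
  obtain ⟨hθs, hes⟩ := hθ s
  have hyx : θ' (e x) = θ' ⟨(y : Ω'), hP' y.2⟩ := congrArg θ' (Subtype.ext h1)
  have hs : θ s = φb ⟨θ x, b₃ ⟨x, hx⟩⟩ := by
    rw [show s = ⟨φ ⟨x, hx⟩, b₂ ⟨x, hx⟩⟩ from Subtype.ext h2]
    exact (hbe ⟨x, hx⟩).symm
  rw [hc.val_eq (x := ⟨θ x, hθx⟩) (b₃ ⟨x, hx⟩) (hex.trans hyx) (hs ▸ hθs)]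
  rw [show (⟨φ' y, hval y⟩ : S') = e s from Subtype.ext h3, ← hes]
  exact congrArg (fun t : U => (eb t : Y')) (Subtype.ext hs.symm)

theorem quasisimple_transport [Finite S] [Fact p.Prime] (hS : IsPGroup p S) (hiso : SysIso e F F')
    (hq : F.Quasisimple p) (hF' : F'.IsSaturated p) : F'.Quasisimple p := by
  have : Finite S' := Finite.of_equiv S e.toEquiv
  refine ⟨hF', hyperfocal_transport hiso hq.2.1, fun A' hA' => ?_⟩
  set Z := F.center.subgroupOf S
  set Z' := F'.center.subgroupOf S'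
  have hmap : Z.map e.toMonoidHom = Z' := by
    ext y
    constructor
    · rintro ⟨x, hx, rfl⟩
      exact (center_mem_iff hiso x).2 hx
    · intro hy
      refine ⟨e.symm y, ?_, e.apply_symm_apply y⟩
      show (e.symm y : Ω) ∈ F.center
      rw [← center_mem_iff hiso, e.apply_symm_apply]
      exact hy
  let ec : (S ⧸ Z) ≃* (S' ⧸ Z') := QuotientGroup.congr Z Z' e hmap
  let eb : (⊤ : Subgroup (S ⧸ Z)) ≃* (⊤ : Subgroup (S' ⧸ Z')) :=
    Subgroup.topEquiv.trans (ec.trans Subgroup.topEquiv.symm)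
  have hsc : F.StronglyClosed F.center := stronglyClosed_of_isNormal (isNormal_of_isCentral isCentral_center)
  let A := factorSystem F hsc (QuotientGroup.mk' Z) (fun s => QuotientGroup.eq_one_iff s) ⊤
    (QuotientGroup.range_mk' Z)
  have hA : F.IsFactorSystem F.center (QuotientGroup.mk' Z) A := isFactorSystem_factorSystem hsc _ _ _ _
  have hisoA : SysIso eb A A' := by
    refine ⟨fwd_factor eb hiso.1 (fun x => ⟨Subgroup.mem_top _, rfl⟩) hA hA',
      fwd_factor eb.symm hiso.2 (fun y => ⟨Subgroup.mem_top _, ?_⟩) hA' hA⟩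
    show ec.symm (QuotientGroup.mk' Z' y) = QuotientGroup.mk' Z (e.symm y)
    rw [MulEquiv.symm_apply_eq]
    show _ = (((e (e.symm y)) : S') : S' ⧸ Z')
    rw [e.apply_symm_apply]
    rfl
  have hS' : IsPGroup p S' := hS.of_equiv e
  have hA's : A'.IsSaturated p := saturated_of_surjectiveMorphism hS' hF'
    (isSurjectiveMorphism_of_factor hS' hF' (stronglyClosed_of_isNormal (isNormal_of_isCentral isCentral_center)) hA')
  exact isSimple_of_sysIso ((hS'.to_quotient Z').of_equiv Subgroup.topEquiv.symm) hisoA (hq.2.2 A hA) hA's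

theorem subnormal_saturated {T : Subgroup Ω} {E : FusionSystem T} (hE : E.IsSubnormalIn F p) :
    F.IsSaturated p → E.IsSaturated p := by
  induction hE with
  | refl => exact fun h => h
  | step _ hD ih => exact fun _ => ih hD.1.1

/-- A map of the system carries subnormal subsystems to subnormal subsystems. -/
theorem subnormal_image {T : Subgroup Ω} {C : FusionSystem T} (hC : C.IsSubnormalIn F p) :
    Fact p.Prime → Finite S → IsPGroup p S → F.IsSaturated p → ∀ (γ : T →* Ω), γ ∈ F.Hom T →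
      ∀ {T' : Subgroup Ω} (eT : T ≃* T'), (∀ x, (eT x : Ω) = γ x) →
        ∀ {E : FusionSystem T'}, SysIso eT C E → E.IsSubnormalIn F p := by
  induction hC with
  | refl F p =>
    intro _ hfin _ _ γ hγ T' eT he E hE
    obtain rfl : T' = T := by
      refine eq_of_le_of_natCard_le (fun y hy => ?_) (Nat.card_congr eT.toEquiv).le
      obtain ⟨x, hx⟩ := eT.surjective ⟨y, hy⟩
      rw [show y = γ x from (congrArg Subtype.val hx).symm.trans (he x)]
      exact val_mem hγ x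
    have hα : eT ∈ F.autGroup T' := by
      refine (mem_autGroup le_rfl).2 (mem_of_agree le_rfl hγ fun x => ?_)
      exact he x
    have hFF : SysIso eT F F := by
      have key : ∀ α ∈ F.autGroup T', Fwd α F F := by
        intro α hα P φ hφ P' φ' hP' hc
        have ha := (mem_autGroup le_rfl).1 hα
        have hai := (mem_autGroup le_rfl).1 (inv_mem hα)
        have h1 : ∀ y : P', (α⁻¹ ⟨y, hP' y.2⟩ : Ω) ∈ P := fun y => by
          obtain ⟨x, s, hx, h1, -, -⟩ := hc y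
          rw [show (⟨(y : Ω), hP' y.2⟩ : T') = α x from Subtype.ext h1.symm, MulAut.inv_apply_self]
          exact hx
        have hb := F.comp_mem (restrict_mem hP' hai) hφ h1
        have hcm := F.comp_mem hb ha (fun y => val_mem hb y)
        refine mem_of_agree le_rfl hcm fun y => ?_
        obtain ⟨x, s, hx, h1', h2, h3⟩ := hc y
        have hx' : α⁻¹ (⟨(y : Ω), hP' y.2⟩ : T') = x := by
          rw [show (⟨(y : Ω), hP' y.2⟩ : T') = α x from Subtype.ext h1'.symm, MulAut.inv_apply_self]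
        rw [h3]
        refine congrArg (fun t : T' => (α t : Ω)) (Subtype.ext ?_)
        refine h2.trans (congrArg φ (Subtype.ext ?_))
        exact congrArg (fun t : T' => (t : Ω)) hx'.symm
      exact ⟨key eT hα, key eT.symm (inv_mem hα)⟩
    rw [sysIso_unique hE hFF]
    exact .refl _ _
  | @step U S C D F p h hD ih =>
    intro hp hfin hS hF γ hγ T' eT he E hE
    obtain ⟨⟨hDs, -, hDi⟩, -⟩ := id hD
    have hUS : U ≤ S := hDi.2.1.1
    have hTU := subnormal_le' h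
    have := finite_of_le hUS
    obtain ⟨α, hα, γ₀, hγ₀, hfr⟩ := hDi.2.2.2 T hTU γ hγ
    have hinj : Function.Injective γ₀ := D.injective_of_mem hγ₀
    let e₀ : T ≃* γ₀.range := MonoidHom.ofInjective hinj
    have hT0U : γ₀.range ≤ U := by rintro _ ⟨x, rfl⟩; exact val_mem hγ₀ x
    obtain ⟨E₀, hE₀, -⟩ := exists_push (e := e₀) C le_rfl e₀ (fun x => rfl)
    have h₀ := ih hp (finite_of_le hUS) (hS.to_le hUS) hDs γ₀ hγ₀ e₀ (fun x => rfl) hE₀
    let eW : γ₀.range ≃* T' := e₀.symm.trans eT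
    have hcompat : ∀ z : γ₀.range, (eW z : Ω) = (α ⟨z, hT0U z.2⟩ : Ω) := by
      intro z
      obtain ⟨x, rfl⟩ := e₀.surjective z
      show (eT (e₀.symm (e₀ x)) : Ω) = _
      rw [MulEquiv.symm_apply_apply, he]
      exact hfr x _
    exact .step (subnormal_transport h₀ hp (finite_of_le hUS) (hS.to_le hUS) α (sysIso_of_invariant hDi hα) hDs
      eW hT0U hcompat (hE₀.symm.trans hE)) hD

theorem component_transport [Finite S] [Fact p.Prime] (hS : IsPGroup p S) (hiso : SysIso e F F')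
    (hF' : F'.IsSaturated p) {T : Subgroup Ω} {C : FusionSystem T} (hC : C.IsComponentIn F p) {T' : Subgroup Ω'}
    (eT : T ≃* T') (hT : T ≤ S) (hcompat : ∀ x : T, (eT x : Ω') = e ⟨x, hT x.2⟩) {E : FusionSystem T'}
    (hE : SysIso eT C E) : E.IsComponentIn F' p := by
  have := finite_of_le hT
  have h := subnormal_transport hC.1 ‹_› ‹_› hS e hiso hF' eT hT hcompat hE
  exact ⟨h, quasisimple_transport (hS.to_le hT) hE hC.2 (subnormal_saturated h hF')⟩

theorem component_image [Finite S] [Fact p.Prime] (hS : IsPGroup p S) (hF : F.IsSaturated p) {T : Subgroup Ω}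
    {C : FusionSystem T} (hC : C.IsComponentIn F p) {γ : T →* Ω} (hγ : γ ∈ F.Hom T) {T' : Subgroup Ω}
    (eT : T ≃* T') (he : ∀ x, (eT x : Ω) = γ x) {E : FusionSystem T'} (hE : SysIso eT C E) :
    E.IsComponentIn F p := by
  have hT := src_le hγ
  have := finite_of_le hT
  have h := subnormal_image hC.1 ‹_› ‹_› hS hF γ hγ eT he hE
  exact ⟨h, quasisimple_transport (hS.to_le hT) hE hC.2 (subnormal_saturated h hF)⟩

end Cfsg.Agent.Lib.Fusion
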