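import Cfsg.Agent.Lib.Fusion.ResidualLimit
import Cfsg.Agent.Lib.Fusion.ResidualNormal
import Cfsg.Agent.Lib.Fusion.IsoTransport
import Cfsg.Agent.Lib.Fusion.SmallExp
import Cfsg.Agent.S5120

/-!
Existence of the residual limit, and its invariance under passing to subsystems of index prime to `p`.
-/

set_option autoImplicit false

namespace Cfsg.Agent.Lib.Fusion.LimitPrime

open Cfsg Cfsg.FusionSystem

variable {Ω : Type*} [Group Ω] {S T : Subgroup Ω} {F : FusionSystem S} {E : FusionSystem T} {p : ℕ}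

theorem primeIndex_of_weak [Finite S] [Fact p.Prime] (hS : IsPGroup p S) {R : FusionSystem S}
    (hR : F.IsPPrimeResidual p R) {D : FusionSystem S} (hD : D.IsSaturated p)
    (hDF : D.IsSubsystemOf F) (hRD : R.IsSubsystemOf D) : D.HasPrimeToPIndexIn F p :=
  ⟨hDF, fun P hP => (hR.2.1.2 P hP).trans (autGroup_mono_of_subsystem hRD P)⟩

/-- Index prime to `p` is inherited by the residual. -/
theorem residual_self [Finite S] [Fact p.Prime] (hS : IsPGroup p S) (hF : F.IsSaturated p)
    {R : FusionSystem S} (hR : F.IsPPrimeResidual p R) : R.IsPPrimeResidual p R := by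
  obtain ⟨hRs, ⟨hsub, hpart⟩, hleast⟩ := hR
  refine ⟨hRs, ⟨fun _ => subset_rfl, fun P _ => Subgroup.map_subtype_le _⟩, fun D hD hDR => ?_⟩
  refine hleast D hD ⟨fun P φ hφ => hsub P (hDR.1 P hφ), fun P hP => ?_⟩
  refine IndexPrime.pPart_le_of fun γ hγ hk => hDR.2 P hP (IndexPrime.mem_pPart ?_ hk)
  exact hpart P hP (IndexPrime.mem_pPart hγ hk)

/-- A limit transfers to subsystems of `p`-power index. -/
theorem transfer [Finite S] [Fact p.Prime] (hS : IsPGroup p S) (hF : F.IsSaturated p) (hTS : T ≤ S)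
    (hEs : E.IsSaturated p) (hE : E.HasPPowerIndexIn F p) {U : Subgroup Ω} {L : FusionSystem U}
    (hL : L.IsResidualLimitOf F p) : L.IsResidualLimitOf E p := by
  have := finite_of_le hTS
  have hhyp := ResidualLimit.hyperfocal_eq hS hTS hE
  cases hL with
  | stable _ _ hhypF hppF =>
    obtain rfl : T = S := le_antisymm hTS (hhypF.ge.trans hE.2.1)
    obtain rfl : E = F := PPowerIndex.sys_unique hS le_rfl hF
      ⟨fun _ => subset_rfl, hhypF.le, fun P _ => Subgroup.map_subtype_le _⟩ hEs hE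
    exact .stable E p hhypF hppF
  | step _ _ D D' hD hD' hrest =>
    have key : ∀ (H : Subgroup Ω) (G G' : FusionSystem H), H = E.hyperfocalSubgroup p →
        G.IsSaturated p → G.HasPPowerIndexIn F p → G.IsPPrimeResidual p G' →
        L.IsResidualLimitOf G' p → L.IsResidualLimitOf E p := by
      rintro H G G' rfl hGs hGF hG' hrest'
      obtain ⟨G₁, hG₁, hG₁E⟩ := PPowerIndex.exists_sys (hS.to_le hTS) hEs (E.hyperfocalSubgroup p)
        (hyperfocal_le_base E) le_rfl
      have hG₁F : G₁.HasPPowerIndexIn F p := by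
        refine ⟨fun P φ hφ => hE.1 P (hG₁E.1 P hφ), hhyp.ge, fun P hP => ?_⟩
        rw [pResidual, MonoidHom.map_closure, Subgroup.closure_le]
        rintro _ ⟨α, hα, rfl⟩
        have hcop : (orderOf (α : MulAut P)).Coprime p := by rw [Subgroup.orderOf_coe]; exact hα
        have hPT : P ≤ T := hP.trans (hyperfocal_le_base E)
        have h1 : (α : MulAut P) ∈ E.autGroup P :=
          hE.2.2 P hPT ⟨α, coprime_mem_pResidual hcop, rfl⟩
        exact hG₁E.2.2 P hP ⟨⟨α, h1⟩, coprime_mem_pResidual hcop, rfl⟩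
      obtain rfl : G₁ = G :=
        PPowerIndex.sys_unique hS (hhyp ▸ hyperfocal_le_base F) hGs hGF hG₁ hG₁F
      exact .step E p G₁ G' ⟨hGs, hG₁E⟩ hG' hrest'
    exact key _ D D' hhyp.symm hD.1 hD.2 hD' hrest

theorem le_system {U : Subgroup Ω} {L : FusionSystem U} (hL : L.IsResidualLimitOf F p) :
    L.IsSubsystemOf F := by
  induction hL with
  | stable => exact fun _ => subset_rfl
  | step F p D D' hD hD' _ ih => exact fun P φ hφ => hD.2.1 P (hD'.2.1.1 P (ih P hφ))

theorem step_self {S H : Subgroup Ω} {F : FusionSystem S} {U : Subgroup Ω} {L : FusionSystem U}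
    (G R : FusionSystem H) (hH : H = F.hyperfocalSubgroup p) (hGs : G.IsSaturated p)
    (hGi : G.HasPPowerIndexIn F p) (hR : G.IsPPrimeResidual p R)
    (hL : L.IsResidualLimitOf R p) : L.IsResidualLimitOf F p := by
  subst hH
  exact .step F p G R ⟨hGs, hGi⟩ hR hL

theorem exists_limit [Fact p.Prime] {S : Subgroup Ω} [Finite S] (hS : IsPGroup p S)
    {F : FusionSystem S} (hF : F.IsSaturated p) :
    ∃ (U : Subgroup Ω) (L : FusionSystem U), L.IsResidualLimitOf F p := by
  induction hn : Nat.card S using Nat.strong_induction_on generalizing S with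
  | _ n ih =>
    subst hn
    have small : ∀ (G : FusionSystem S), G.IsSaturated p → G.hyperfocalSubgroup p ≠ S →
        ∃ (U : Subgroup Ω) (L : FusionSystem U), L.IsResidualLimitOf G p := by
      intro G hG hne
      have hle := hyperfocal_le_base (p := p) G
      have := finite_of_le hle
      obtain ⟨D, hD, hDi⟩ := PPowerIndex.exists_sys hS hG _ hle le_rfl
      have hD' := Residual.isPPrimeResidual (hS.to_le hle) hD
      have hlt : Nat.card (G.hyperfocalSubgroup p) < Nat.card S :=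
        lt_of_not_ge fun hge => hne (eq_of_le_card hle hge)
      obtain ⟨U, L, hL⟩ := ih _ hlt (hS.to_le hle) hD'.1 rfl
      exact ⟨U, L, .step G p D _ ⟨hD, hDi⟩ hD' hL⟩
    by_cases h1 : F.hyperfocalSubgroup p = S
    swap
    · exact small F hF h1
    have hR := Residual.isPPrimeResidual hS hF
    obtain ⟨U, L, hL⟩ : ∃ (U : Subgroup Ω) (L : FusionSystem U),
        L.IsResidualLimitOf (Residual.res F p) p := by
      by_cases h2 : (Residual.res F p).hyperfocalSubgroup p = S
      · exact ⟨S, _, .stable _ p h2 (residual_self hS hF hR)⟩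
      · exact small _ hR.1 h2
    exact ⟨U, L, step_self F _ h1.symm hF ⟨fun _ => subset_rfl, h1.le, fun P _ => Subgroup.map_subtype_le _⟩ hR hL⟩

/-- A subsystem of `p`-power index of a weakly normal subsystem is invariant as soon as its group
is strongly closed. -/
theorem invariant_of_index [Finite S] [Fact p.Prime] (hS : IsPGroup p S) {U : Subgroup Ω}
    {G : FusionSystem U} (hG : G.IsWeaklyNormalIn F p) {H : Subgroup Ω} (hHU : H ≤ U)
    (hn : U ≤ Subgroup.normalizer (H : Set Ω)) (hHF : F.StronglyClosed H)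
    {K : FusionSystem H} (hK : K.IsSaturated p) (hKi : K.HasPPowerIndexIn G p) :
    K.IsInvariantIn F := by
  have hU : U ≤ S := hG.2.2.2.1.1
  have := finite_of_le hU
  have hHS := hHF.1
  have := finite_of_le hHS
  have hGI := IsInvariantIn.strongInvariant hG.2.2
  have hKn := Cfsg.Agent.S5120.normal_of_ppower (hS.to_le hU) hG.1 hHU hn hKi.2.1 hK hKi
  have hKF : K.IsSubsystemOf F := fun P φ hφ => hG.2.2.1 P (hKi.1 P hφ)
  have hiso : ∀ α ∈ F.autGroup H, SysIso α K K := by
    suffices hfwd : ∀ α ∈ F.autGroup H, Fwd (α : H ≃* H).symm K K from fun α hα =>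
      ⟨by simpa using hfwd _ (inv_mem hα), hfwd α hα⟩
    intro α hα
    obtain ⟨K', hKK', -⟩ := exists_push (e := (α : H ≃* H)) K le_rfl α (fun _ => rfl)
    have hle : K ≤ K' := by
      refine alperin (hS.to_le hHS) hK K' fun R hR => ?_
      obtain ⟨-, -, hn'⟩ := centric_radical_of_top_or_essential (hS.to_le hHS) hK hR
      have hRH := hn'.1
      refine autGroup_le_of_coprime (hS.to_le hHS) hK hn' _ (autInducedBy_le_autGroup hRH)
        fun β hβ hcop => ?_
      obtain ⟨g, hg, hge⟩ := exists_iso_restrict (F := F) hRH ((mem_autGroup hHS).1 (inv_mem hα))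
      let R₁ := (R.subgroupOf H).map (H.subtype.comp ((α⁻¹ : MulAut H) : H ≃* H).toMonoidHom)
      have hR₁ : R₁ ≤ H := by rintro _ ⟨y, -, rfl⟩; exact Subtype.coe_prop _
      have hβG : β ∈ G.autGroup R :=
        (mem_autGroup (hRH.trans hHU)).2 (hKi.1 R ((mem_autGroup hRH).1 hβ))
      have h1 := Residual.congr_mem hGI (hRH.trans hHU) (hR₁.trans hHU) hg hβG
      have hcop₁ : (orderOf (MulAut.congr g β)).Coprime p := by
        rw [show orderOf (MulAut.congr g β) = orderOf β from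
          orderOf_injective (MulAut.congr g).toMonoidHom (MulAut.congr g).injective β]
        exact hcop
      have hβK : MulAut.congr g β ∈ K.autGroup R₁ :=
        hKi.2.2 R₁ hR₁ ⟨⟨_, h1⟩, coprime_mem_pResidual hcop₁, rfl⟩
      refine (mem_autGroup hRH).2 (hKK'.1 R₁ _ ((mem_autGroup hR₁).1 hβK) R _ hRH fun r => ?_)
      refine ⟨⟨g r, hR₁ (g r).2⟩, ⟨g (β r), hR₁ (g (β r)).2⟩, (g r).2, ?_, ?_, ?_⟩
      · show ((α ⟨(g r : Ω), _⟩ : H) : Ω) = r
        rw [show (⟨(g r : Ω), hR₁ (g r).2⟩ : H) = (α⁻¹ : MulAut H) ⟨r, hRH r.2⟩ from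
          Subtype.ext (hge r), MulAut.apply_inv_self]
      · show (g (β r) : Ω) = ((MulAut.congr g β) (g r) : Ω)
        exact congrArg (fun y : R => (g (β y) : Ω)) (g.symm_apply_apply r).symm
      · show (β r : Ω) = ((α ⟨(g (β r) : Ω), _⟩ : H) : Ω)
        rw [show (⟨(g (β r) : Ω), hR₁ (g (β r)).2⟩ : H) = (α⁻¹ : MulAut H) ⟨β r, hRH (β r).2⟩ from
          Subtype.ext (hge (β r)), MulAut.apply_inv_self]
    exact fun P φ hφ => hKK'.2 P φ (hle P hφ)
  refine ⟨hKF, hHF, fun P hP φ hφ α hα => ?_, fun P hP φ hφ => ?_⟩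
  · set P' := (P.subgroupOf H).map (H.subtype.comp α.toMonoidHom)
    have hP' : P' ≤ H := by rintro _ ⟨x, -, rfl⟩; exact Subtype.coe_prop _
    obtain ⟨χ, hχ⟩ := exists_corr (α : H ≃* H) (val_mem hφ) hP' (by
      rintro ⟨_, x, hx, rfl⟩
      show (((α : H ≃* H).symm (α x) : H) : Ω) ∈ P
      rw [MulEquiv.symm_apply_apply]
      exact hx)
    exact ⟨χ, (hiso α hα).1 P φ hφ P' χ hP' hχ,
      fun x hφx hαx => hχ.val_eq (x := ⟨x, hP x.2⟩) x.2 rfl hφx⟩
  · obtain ⟨β, hβ, ψ, hψ, he⟩ := hG.2.2.2.2.2 P (hP.trans hHU) φ hφ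
    obtain ⟨βH, hβH⟩ := exists_restrict_aut hHU (β := β) fun x =>
      map_mem_of_stronglyClosed hHF ((mem_autGroup hU).1 hβ) ⟨x, hHU x.2⟩ x.2
    have hβHF : βH ∈ F.autGroup H :=
      (mem_autGroup hHS).2 (mem_of_agree hHU ((mem_autGroup hU).1 hβ) hβH)
    obtain ⟨θ, hθ, φ₀, hφ₀, he₀⟩ := hKn.1.2.2.2.2.2 P hP ψ hψ
    refine ⟨βH * θ, mul_mem hβHF ((mem_autGroup hHS).2 (hG.2.2.1 H ((mem_autGroup hHU).1 hθ))),
      φ₀, hφ₀, fun x hx => ?_⟩
    rw [MulAut.mul_apply, hβH, he x (val_mem hψ x)]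
    exact congrArg (fun s : U => ((β s : U) : Ω)) (Subtype.ext (he₀ x hx))

/-- Index prime to `p` does not change the residual limit. -/
theorem limit_prime [Fact p.Prime] {S : Subgroup Ω} [Finite S] (hS : IsPGroup p S)
    {F G : FusionSystem S} (hG : G.IsWeaklyNormalIn F p) (hi : G.HasPrimeToPIndexIn F p)
    {U V : Subgroup Ω} {LF : FusionSystem U} {LG : FusionSystem V}
    (hLF : LF.IsResidualLimitOf F p) (hLG : LG.IsResidualLimitOf G p) (P : Subgroup Ω) :
    LG.Hom P = LF.Hom P := by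
  induction hn : Nat.card S using Nat.strong_induction_on generalizing S P U V with
  | _ n ih =>
    subst hn
    obtain ⟨hGs, hF, hGi⟩ := id hG
    have proper : ∀ {A B : FusionSystem S}, B.IsWeaklyNormalIn A p → B.HasPrimeToPIndexIn A p →
        A.hyperfocalSubgroup p ≠ S → ∀ {U V : Subgroup Ω} {LA : FusionSystem U} {LB : FusionSystem V},
        LA.IsResidualLimitOf A p → LB.IsResidualLimitOf B p → ∀ P, LB.Hom P = LA.Hom P := by
      intro A B hB hBi hne U V LA LB hLA hLB P
      obtain ⟨hBs, hAs, hBI⟩ := id hB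
      have hle := hyperfocal_le_base (p := p) A
      set H := A.hyperfocalSubgroup p with hH
      have := finite_of_le hle
      have hHn : S ≤ Subgroup.normalizer (H : Set Ω) := le_normalizer_hyperfocal A
      have hBH : B.hyperfocalSubgroup p ≤ H := by
        refine hyperfocal_le fun P hP α hα hcop x => ?_
        exact inv_mul_mem_hyperfocal hP (α := ⟨α, autGroup_mono_of_subsystem hBi.1 P hα⟩)
          (coprime_mem_pResidual hcop) x
      obtain ⟨D, hD, hDi⟩ := PPowerIndex.exists_sys hS hAs H hle le_rfl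
      obtain ⟨K, hK, hKi⟩ := PPowerIndex.exists_sys hS hBs H hle hBH
      have hKA := invariant_of_index hS hB hle hHn
        (Cfsg.Agent.S5120.normal_of_ppower hS hAs hle hHn le_rfl hD hDi).1.2.2.2.1 hK hKi
      have hKD : K.IsSubsystemOf D := PPowerIndex.sys_le hS hle hK hKA.1 hDi
      have hKI := IsInvariantIn.strongInvariant hKA
      have hKDw : K.IsWeaklyNormalIn D p := ⟨hK, hD, isInvariantIn_of_strongInvariant (hS.to_le hle) hD hKD
        ⟨le_rfl, fun R _ φ hφ x => val_mem hφ x⟩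
        fun P Q P' hPQ hQ φ hφ hφQ ψ hψ a ha χ hχ =>
          hKI P Q P' hPQ hQ φ hφ hφQ ψ (hDi.1 Q hψ) a ha χ hχ⟩
      have hKDi : K.HasPrimeToPIndexIn D p :=
        ⟨hKD, fun R hR => Residual.pPart_le_invariant (hS.to_le hle) hD hDi.1 hKI hR⟩
      have hlt : Nat.card H < Nat.card S := lt_of_not_ge fun hge => hne (eq_of_le_card hle hge)
      exact ih _ hlt (hS.to_le hle) hKDw hKDi (transfer hS hAs hle hD hDi hLA)
        (transfer hS hBs hle hK hKi hLB) P rfl
    by_cases h1 : F.hyperfocalSubgroup p = S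
    swap
    · exact proper hG hi h1 hLF hLG P
    -- both residual limits are those of the least subsystem of index prime to `p`
    have hR := Residual.isPPrimeResidual hS hF
    obtain ⟨U₁, L, hL⟩ := exists_limit hS hR.1
    have full : ∀ {A : FusionSystem S}, A.IsSaturated p → A.hyperfocalSubgroup p = S →
        A.IsPPrimeResidual p (Residual.res F p) → ∀ {W : Subgroup Ω} {LA : FusionSystem W},
        LA.IsResidualLimitOf A p → ∀ P, LA.Hom P = L.Hom P := by
      intro A hA hhyp hRA W LA hLA P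
      cases hLA with
      | stable _ _ _ hpp =>
        have h2 : Residual.res F p = A := ResidualLimit.ext_hom fun Q =>
          Set.Subset.antisymm (hRA.2.1.1 Q) (hpp.2.2 _ hRA.1 hRA.2.1 Q)
        exact ResidualLimit.limit_unique hL ‹_› ‹_› hS rfl (fun Q => by rw [h2])
          (.stable A p hhyp hpp) P
      | step _ _ D D' hD hD' hrest =>
        have key : ∀ (H : Subgroup Ω) (D D' : FusionSystem H), H = S → D.IsSaturated p →
            D.HasPPowerIndexIn A p → D.IsPPrimeResidual p D' →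
            ∀ Q, D'.Hom Q = (Residual.res F p).Hom Q := by
          rintro H D₁ D₂ rfl hDs hDi hR₁ Q
          obtain rfl : D₁ = A := PPowerIndex.sys_unique hS le_rfl hA
            ⟨fun _ => subset_rfl, hhyp.le, fun P _ => Subgroup.map_subtype_le _⟩ hDs hDi
          exact Set.Subset.antisymm (hR₁.2.2 _ hRA.1 hRA.2.1 Q) (hRA.2.2 _ hR₁.1 hR₁.2.1 Q)
        exact ResidualLimit.limit_unique hL ‹_› ‹_› hS hhyp (key _ D D' hhyp hD.1 hD.2 hD') hrest P
    have hRG : (Residual.res F p).IsSubsystemOf G := hR.2.2 G hGs hi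
    have hRGr : G.IsPPrimeResidual p (Residual.res F p) := by
      refine ⟨hR.1, ⟨hRG, fun Q hQ => ?_⟩, fun D hD hDG => hR.2.2 D hD
        ⟨fun Q φ hφ => hi.1 Q (hDG.1 Q hφ), fun Q hQ => ?_⟩⟩
      · exact IndexPrime.pPart_le_of fun γ hγ hk => hR.2.1.2 Q hQ
          (IndexPrime.mem_pPart (autGroup_mono_of_subsystem hi.1 Q hγ) hk)
      · exact IndexPrime.pPart_le_of fun γ hγ hk => hDG.2 Q hQ
          (IndexPrime.mem_pPart (hi.2 Q hQ (IndexPrime.mem_pPart hγ hk)) hk)
    rw [full hF h1 hR hLF P]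
    by_cases h2 : G.hyperfocalSubgroup p = S
    · exact full hGs h2 hRGr hLG P
    · have hRn := ResidualNormal.residual_isNormalIn hS
        (⟨hGs, hGs, isInvariantIn_of_strongInvariant hS hGs (fun _ => subset_rfl)
          ⟨le_rfl, fun R _ φ hφ x => val_mem hφ x⟩
          fun P Q P' hPQ hQ φ hφ hφQ ψ hψ a ha χ hχ => by
            exact strongInvariant_self P Q P' hPQ hQ φ hφ hφQ ψ hψ a ha χ hχ⟩) hRGr
      exact (proper hRn.1 hRGr.2.1 h2 hLG hL P).symm
where
  strongInvariant_self {Ω : Type _} [Group Ω] {S : Subgroup Ω} {G : FusionSystem S}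
      (P Q P' : Subgroup Ω) (hPQ : P ≤ Q) (_hQ : Q ≤ S) (φ : P →* Ω) (hφ : φ ∈ G.Hom P)
      (hφQ : ∀ x : P, φ x ∈ Q) (ψ : Q →* Ω) (hψ : ψ ∈ G.Hom Q) (a : P ≃* P')
      (ha : ∀ x : P, (a x : Ω) = ψ ⟨x, hPQ x.2⟩) (χ : P' →* Ω)
      (hχ : ∀ x : P, χ (a x) = ψ ⟨φ x, hφQ x⟩) : χ ∈ G.Hom P' := by
    have ha' : IsIso G a := mem_of_agree hPQ hψ ha
    refine mem_of_comp ha'.symm (G.comp_mem hφ hψ hφQ) (fun y => (a.symm y).2) fun y => ?_
    obtain ⟨x, rfl⟩ := a.surjective y
    show χ (a x) = ψ ⟨φ ⟨(a.symm (a x) : Ω), _⟩, _⟩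
    rw [hχ]
    exact congrArg ψ (Subtype.ext (congrArg φ (a.symm_apply_apply x).symm))

end Cfsg.Agent.Lib.Fusion.LimitPrime
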