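import Cfsg.Agent.Lib.Fusion.LocalModel
import Cfsg.Agent.Lib.Fusion.Realized

/-!
Local models of the fusion system of a finite group.
-/

set_option autoImplicit false

namespace Cfsg.Agent.Lib.Fusion

open Cfsg Cfsg.FusionSystem

variable {G : Type*} [Group G] [Finite G] {p : ℕ} [Fact p.Prime]

/-- The normalizer of a fully normalized centric subgroup maps onto its local model. -/
theorem exists_group_model_hom (T : Sylow p G) {Q : Subgroup G}
    (hn : (groupFusionSystem (T : Subgroup G)).IsFullyNormalized Q)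
    (hc : (groupFusionSystem (T : Subgroup G)).IsCentric Q)
    {N : FusionSystem (normalizerIn (T : Subgroup G) Q)}
    (hN : (groupFusionSystem (T : Subgroup G)).IsNormalizerSystem Q N)
    {L : Type*} [Group L] {ι : normalizerIn (T : Subgroup G) Q →* L} (hL : N.IsModel p L ι) :
    ∃ f : Subgroup.normalizer (Q : Set G) →* L, Function.Surjective f ∧
      ∀ x : normalizerIn (T : Subgroup G) Q, f ⟨x, x.2.2⟩ = ι x := by
  have hQT := hn.1
  set H := Subgroup.normalizer (Q : Set G)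
  have hQN : Q ≤ (normalizerIn (T : Subgroup G) Q) := le_normalizerIn hQT
  have hNH : (normalizerIn (T : Subgroup G) Q) ≤ H := inf_le_right
  have hnQ := normalizerSystem_normal hQT hN
  have hcQ := normalizerSystem_centric hc hN
  have hcL := fun g => model_centralizer hnQ hcQ hL (g := g)
  obtain ⟨hfinL, hr, ⟨U, hU⟩, -⟩ := id hL
  have hsyl := (fullyNormalized_iff_sylow (realized_group (T : Subgroup G))
    (isSylowIn_range_subtype T) hQT).1 hn
  rw [img_subtype hQT, Subgroup.range_subtype] at hsyl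
  have hidx : ¬ p ∣ (Subgroup.inclusion hNH).range.index := by
    rw [Subgroup.inclusion_range]
    exact hsyl.2.2
  have hmap : ∀ h : H, ∀ q : G, q ∈ Q → (h : G) * q * (h : G)⁻¹ ∈ Q := fun h q hq =>
    conj_mem_of_mem_normalizer h.2 hq
  obtain ⟨f, hf⟩ := exists_hom_extending (Subgroup.inclusion hNH) (Subgroup.inclusion_injective _)
    ι (Q.subgroupOf (normalizerIn (T : Subgroup G) Q)) ((T.isPGroup'.to_le inf_le_left).to_subgroup _) hidx
    (fun g q hq => ⟨⟨_, hQN (hmap g q hq)⟩, hmap g q hq, Subtype.ext (by simp)⟩)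
    (fun h hh => hcL h hh) (fun g => by
      let D : Subgroup G := (normalizerIn (T : Subgroup G) Q) ⊓ (normalizerIn (T : Subgroup G) Q).comap (MulAut.conj (g : G)).toMonoidHom
      have hDN : D ≤ (normalizerIn (T : Subgroup G) Q) := inf_le_left
      have hQD : Q ≤ D := fun q hq => ⟨hQN hq, hQN (hmap g q hq)⟩
      let φ : D →* G := (MulAut.conj (g : G)).toMonoidHom.comp D.subtype
      have hφN : ∀ x, φ x ∈ (normalizerIn (T : Subgroup G) Q) := fun x => x.2.2
      have hφF : φ ∈ (groupFusionSystem (T : Subgroup G)).Hom D :=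
        ⟨hDN.trans inf_le_left, fun x => (hφN x).1, g, fun x => rfl⟩
      have hφ : φ ∈ N.Hom D := by
        refine normalizerSystem_mem hQT hN hQD hDN hφF hφN ?_
        ext y
        constructor
        · rintro ⟨x, hx, rfl⟩
          exact hmap g _ hx
        · intro hy
          have h1 : (g : G)⁻¹ * y * g ∈ Q := by
            have := hmap g⁻¹ y hy
            simpa using this
          exact ⟨⟨_, hQD h1⟩, h1, by simp [φ, mul_assoc]⟩
      obtain ⟨l, hl⟩ := (hr.2 D hDN φ hφN).1 hφ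
      refine ⟨l, fun s t hst => ?_⟩
      have hst' : (g : G) * s * (g : G)⁻¹ = (t : G) := congrArg Subtype.val hst
      have hs : (s : G) ∈ D := ⟨s.2, by
        show (g : G) * s * (g : G)⁻¹ ∈ (normalizerIn (T : Subgroup G) Q)
        rw [hst']
        exact t.2⟩
      exact (hl ⟨s, hs⟩).symm.trans (congrArg ι (Subtype.ext hst')))
  refine ⟨f, fun m => ?_, hf⟩
  obtain ⟨D', hD', e, he, heq⟩ := exists_iso_conjDom hr m
  have hm := model_normal hnQ hL m
  have hQD : Q ≤ conjDom ι m := fun x hx => by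
    obtain ⟨q', -, hq'⟩ := hm ⟨x, hQN hx⟩ hx
    exact (mem_conjDom (x := ⟨x, hQN hx⟩)).2 ⟨q', hq'.symm⟩
  obtain ⟨-, -, g, hg⟩ := normalizerSystem_le hN _ (restrict_mem hQD he)
  have hgH : g ∈ H := mem_normalizer_of_conj_mem fun x hx => by
    rw [← hg ⟨x, hx⟩]
    obtain ⟨q', hq', e'⟩ := hm ⟨x, hQN hx⟩ hx
    have h1 := heq ⟨x, hQD hx⟩
    rw [e'] at h1
    exact (congrArg (fun z => z ∈ Q) (congrArg Subtype.val (hr.1 h1))).mpr hq'
  obtain ⟨z, -, hz⟩ := hcL ((f ⟨g, hgH⟩)⁻¹ * m) fun q hq => by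
    have h1 := heq ⟨q, hQD hq⟩
    have h2 : (⟨(e ⟨q, hQD hq⟩ : G), hD' (e ⟨q, hQD hq⟩).2⟩ : (normalizerIn (T : Subgroup G) Q)) =
        ⟨g * q * g⁻¹, hQN (hmap ⟨g, hgH⟩ q hq)⟩ := Subtype.ext (hg ⟨q, hq⟩)
    rw [h2] at h1
    have h3 := hf ⟨g * q * g⁻¹, hQN (hmap ⟨g, hgH⟩ q hq)⟩
    rw [show Subgroup.inclusion hNH ⟨g * q * g⁻¹, hQN (hmap ⟨g, hgH⟩ q hq)⟩ =
      ⟨g, hgH⟩ * Subgroup.inclusion hNH q * (⟨g, hgH⟩ : H)⁻¹ from rfl, map_mul, map_mul, map_inv,
      hf, h1] at h3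
    change f ⟨g, hgH⟩ * ι q * (f ⟨g, hgH⟩)⁻¹ = m * ι q * m⁻¹ at h3
    calc (f ⟨g, hgH⟩)⁻¹ * m * ι q * ((f ⟨g, hgH⟩)⁻¹ * m)⁻¹
        = (f ⟨g, hgH⟩)⁻¹ * (m * ι q * m⁻¹) * f ⟨g, hgH⟩ := by group
      _ = ι q := by rw [← h3]; group
  exact ⟨⟨g, hgH⟩ * Subgroup.inclusion hNH z, by rw [map_mul, hf, ← hz, mul_inv_cancel_left]⟩

end Cfsg.Agent.Lib.Fusion
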