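import Cfsg.Agent.Lib.Fusion.MathieuCert
import Cfsg.Agent.Lib.Golay.Simple

/-! Certificate that the 2-fusion system of M24 is simple. -/

set_option autoImplicit false

namespace Cfsg.Agent.Lib.Fusion.Mathieu

open Cfsg Cfsg.Agent.Lib.Golay

/-- Generators of a Sylow 2-subgroup of M24 above its Frattini subgroup. -/
def m24A : List ℕ := [278097290865559553373042296530160641, 981818813153752489120759972731324512, 971573502535564247891880895701956640, 313095246167299557080382050059913248]

/-- Generators of the Frattini subgroup. -/
def m24B : List ℕ := [111700560927364954149643102860992167, 338367128029766651721432674053765162, 303326748515148746022313123233497122, 355249400882983591456405502303504800, 337768575354752927066478038401648992, 344605245105882750861737467330103328]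

/-- The central involution. -/
def m24Z : ℕ := 361498915673013067247779616968096170

/-- Square words. -/
def m24W : List (List ℕ) := [[129833098253915867484036439904169185], [297889480981833661323084524182153250], [26217062176021135813413658325146663], [691205572089016735257327809123694944], [687234793452791345425811226794244192], [316863653114678535657488796866820128]]

/-- Coset invariants. -/
def m24K : List ℕ := [keySet id [200, 600, 2704, 5600, 5604, 5608, 15608], keySet id [200, 600, 2704, 5600, 5604], keySet id [200, 600, 2700, 5600], keySet id [0, 2700], keySet id [200, 600, 2700, 5600], keySet id [200, 2700], keySet id [200, 2700, 2704, 5604], keySet id [2702], keySet id [200, 600, 2704, 5608], keySet id [200, 600, 2704], keySet id [0, 200, 600], keySet id [0, 200], keySet id [0, 200], keySet id [0], keySet id [0, 2704], keySet id [1352]]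

/-- Derivation. -/
def m24Steps : List Step := [.conj 832717518371571908194242617774167174 344605245105882750861737467330103328 0, .conj 969825306199205369955291762082335409 313095246167299557080382050059913248 0, .conj 623972060484318828780822979817025166 971573502535564247891880895701956640 0, .conj 706530984908824289844999413541771375 981818813153752489120759972731324512 0, .conj 956085195133363055212480936219446308 337768575354752927066478038401648992 0, .conj 974102184675412613486340756605381876 355249400882983591456405502303504800 0, .conj 796262980892932999393889731032326384 278097290865559553373042296530160641 0, .conj 108699973553200977717091269940388310 303326748515148746022313123233497122 0, .conj 982201338327380464265837455106749894 111700560927364954149643102860992167 0, .conj 845963506110663079725783783442721509 338367128029766651721432674053765162 0]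

theorem m24_cert : cert (inM24) m24A m24B m24Z m24W m24K m24Steps = true := by decide +kernel

theorem m24_simple (S : Sylow 2 M24) :
    (groupFusionSystem (S : Subgroup M24)).IsSimple 2 :=
  simple_of_cert (fun p hp => ⟨valid_of_inM24 hp, toPerm_mem_M24 hp⟩)
    m24_cert 239085 (by rw [M24_card]; rfl) (by decide) (by decide) S

end Cfsg.Agent.Lib.Fusion.Mathieu
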