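import Cfsg.Agent.Lib.Fusion.CosetInvariant
import Cfsg.Agent.Lib.Golay.Perm
import Cfsg.Agent.Lib.Fusion.Realized

/-!
Certificates that 2-fusion systems of subgroups of the symmetric group on the 24 points are simple.
-/

set_option autoImplicit false

namespace Cfsg.Agent.Lib.Fusion.Mathieu

open Cfsg Cfsg.FusionSystem Cfsg.Agent.Lib.Golay

/-- Composite of packed permutations. -/
def comp (p q : ℕ) : ℕ := pack (idx.map fun i => Golay.img p (Golay.img q i))

theorem img_pack : ∀ (L : List ℕ), (∀ a ∈ L, a < 32) → ∀ i, i < L.length →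
    Golay.img (pack L) i = L.getD i 0
  | [], _, i, hi => by simp at hi
  | a :: L, h, i, hi => by
    have ha : a < 32 := h a (by simp)
    rcases i with _ | i
    · simp only [Golay.img, pack, mul_zero, Nat.shiftRight_zero, List.getD_cons_zero]
      rw [show (31 : ℕ) = 2 ^ 5 - 1 by norm_num, Nat.and_two_pow_sub_one_eq_mod, Nat.shiftLeft_eq]
      omega
    · rw [List.getD_cons_succ, ← img_pack L (fun b hb => h b (by simp [hb])) i (by simpa using hi)]
      simp only [Golay.img, pack]
      rw [show 5 * (i + 1) = 5 + 5 * i by ring, Nat.shiftRight_add, Nat.shiftLeft_eq,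
        Nat.shiftRight_eq_div_pow _ 5, Nat.add_mul_div_right _ _ (Nat.two_pow_pos 5),
        Nat.div_eq_of_lt (by omega : a < 2 ^ 5), Nat.zero_add]

theorem idx_getD : ∀ i < 24, idx.getD i 0 = i := by decide

theorem img_comp {p q : ℕ} (hp : valid p = true) (hq : valid q = true) {i : ℕ} (hi : i < 24) :
    Golay.img (comp p q) i = Golay.img p (Golay.img q i) := by
  have hlen : idx.length = 24 := rfl
  rw [comp, img_pack _ (fun a ha => ?_) i (by simpa [hlen] using hi),
    List.getD_eq_getElem _ _ (by simpa [hlen] using hi), List.getElem_map]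
  · congr 2
    have h1 := idx_getD i hi
    rwa [List.getD_eq_getElem _ _ (by rw [hlen]; exact hi)] at h1
  · obtain ⟨j, hj, rfl⟩ := List.mem_map.1 ha
    have := img_lt hp (img_lt hq (mem_idx.1 hj))
    omega

theorem valid_comp {p q : ℕ} (hp : valid p = true) (hq : valid q = true) :
    valid (comp p q) = true := by
  rw [valid, beq_iff_eq]
  apply Nat.eq_of_testBit_eq
  intro j
  rw [Bool.eq_iff_iff, testBit_act]
  constructor
  · rintro ⟨i, hi, -, rfl⟩
    rw [img_comp hp hq hi]
    exact testBit_full _ (img_lt hp (img_lt hq hi))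
  · intro hj
    have hj24 : j < 24 := by
      by_contra hc
      rw [Nat.testBit_lt_two_pow (lt_of_lt_of_le (by norm_num)
        (Nat.pow_le_pow_right (by norm_num : 0 < 2) (not_lt.1 hc)))] at hj
      exact Bool.noConfusion hj
    obtain ⟨k, hk, rfl⟩ := valid_surj hp j hj24
    obtain ⟨i, hi, rfl⟩ := valid_surj hq k hk
    exact ⟨i, hi, testBit_full i hi, img_comp hp hq hi⟩

theorem toPerm_comp {p q : ℕ} (hp : valid p = true) (hq : valid q = true) :
    toPerm (comp p q) = toPerm p * toPerm q := by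
  refine toPerm_isComp ?_
  simp only [isComp, hp, hq, valid_comp hp hq, Bool.true_and, List.all_eq_true, beq_iff_eq]
  exact fun i hi => img_comp hp hq (mem_idx.1 hi)

/-- Equality of the coded permutations. -/
def eqv (p q : ℕ) : Bool := idx.all fun i => Golay.img p i == Golay.img q i

theorem eqv_iff {p q : ℕ} (hp : valid p = true) (hq : valid q = true) :
    eqv p q = true ↔ toPerm p = toPerm q := by
  simp only [eqv, List.all_eq_true, beq_iff_eq]
  constructor
  · intro h
    ext x : 1
    rw [toPerm_apply hp, toPerm_apply hq, h _ (mem_idx.2 (ix_lt x))]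
  · intro h i hi
    have h1 := congrArg (fun σ : Equiv.Perm GolayPt => ix (σ (pt i))) h
    simp only [toPerm_pt hp (mem_idx.1 hi), toPerm_pt hq (mem_idx.1 hi)] at h1
    rwa [ix_pt (img_lt hp (mem_idx.1 hi)), ix_pt (img_lt hq (mem_idx.1 hi))] at h1

theorem valid_idCode : valid idCode = true := by decide

theorem toPerm_id : toPerm idCode = 1 :=
  (eq_toPerm valid_idCode (by decide)).symm

/-- Membership. -/
def memP (g : ℕ) (L : List ℕ) : Bool := L.any (eqv g)

/-- Products of subsets of a list, leading factor first. -/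
def span : List ℕ → List ℕ
  | [] => [idCode]
  | g :: r => span r ++ (span r).map (comp g)

/-- The generators form a power-commutator sequence. -/
def pcOK : List ℕ → Bool
  | [] => true
  | g :: r => pcOK r && valid g && memP (comp g g) (span r) &&
      (r.all fun h => (span r).any fun l => eqv (comp l g) (comp g h)) && !memP g (span r)

/-- The elements of a list as permutations. -/
def elems (L : List ℕ) : Set (Equiv.Perm GolayPt) := {σ | ∃ l ∈ L, toPerm l = σ}

theorem valid_span : ∀ r : List ℕ, (∀ g ∈ r, valid g = true) → ∀ l ∈ span r, valid l = true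
  | [], _, l, hl => by simp only [span, List.mem_singleton] at hl; exact hl ▸ valid_idCode
  | g :: r, h, l, hl => by
    have ih := valid_span r fun x hx => h x (by simp [hx])
    simp only [span, List.mem_append, List.mem_map] at hl
    rcases hl with hl | ⟨m, hm, rfl⟩
    · exact ih l hl
    · exact valid_comp (h g (by simp)) (ih m hm)

theorem memP_iff {g : ℕ} {L : List ℕ} (hg : valid g = true) (hL : ∀ l ∈ L, valid l = true) :
    memP g L = true ↔ toPerm g ∈ elems L := by
  simp only [memP, List.any_eq_true, elems, Set.mem_ofPred_eq]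
  exact ⟨fun ⟨l, hl, he⟩ => ⟨l, hl, ((eqv_iff hg (hL l hl)).1 he).symm⟩,
    fun ⟨l, hl, he⟩ => ⟨l, hl, (eqv_iff hg (hL l hl)).2 he.symm⟩⟩

theorem valid_of_pcOK : ∀ r : List ℕ, pcOK r = true → ∀ g ∈ r, valid g = true
  | [], _, g, hg => by simp at hg
  | a :: r, h, g, hg => by
    simp only [pcOK, Bool.and_eq_true] at h
    rcases List.mem_cons.1 hg with rfl | hg
    · exact h.1.1.1.2
    · exact valid_of_pcOK r h.1.1.1.1 g hg

/-- The group generated by a coded list. -/
def grp (r : List ℕ) : Subgroup (Equiv.Perm GolayPt) := Subgroup.closure (elems r)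

theorem grp_spec : ∀ r : List ℕ, pcOK r = true →
    ((grp r : Subgroup (Equiv.Perm GolayPt)) : Set (Equiv.Perm GolayPt)) = elems (span r) ∧
      Nat.card (grp r) = 2 ^ r.length
  | [], _ => by
    have h1 : grp [] = ⊥ := (Subgroup.closure_eq_bot_iff).2 fun σ ⟨l, hl, _⟩ => by simp at hl
    refine ⟨?_, by rw [h1]; simp⟩
    ext σ
    simp [h1, elems, span, toPerm_id, eq_comm]
  | g :: r, h => by
    have hvr := valid_of_pcOK (g :: r) h
    simp only [pcOK, Bool.and_eq_true] at h
    obtain ⟨⟨⟨⟨hr, hgv⟩, hsq⟩, hnorm⟩, hnot⟩ := h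
    obtain ⟨hset, hcard⟩ := grp_spec r hr
    have hv := valid_span r (valid_of_pcOK r hr)
    have hsq' : toPerm g * toPerm g ∈ grp r := by
      rw [← SetLike.mem_coe, hset, ← toPerm_comp hgv hgv]
      exact (memP_iff (valid_comp hgv hgv) hv).1 hsq
    have hgn : ∀ x ∈ grp r, toPerm g * x * (toPerm g)⁻¹ ∈ grp r := by
      intro x hx
      induction hx using Subgroup.closure_induction with
      | mem x hx =>
        obtain ⟨e, he, rfl⟩ := hx
        simp only [List.all_eq_true, List.any_eq_true] at hnorm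
        obtain ⟨l, hl, hle⟩ := hnorm e he
        have hev := hvr e (by simp [he])
        rw [eqv_iff (valid_comp (hv l hl) hgv) (valid_comp hgv hev), toPerm_comp (hv l hl) hgv,
          toPerm_comp hgv hev] at hle
        rw [← hle, mul_inv_cancel_right, ← SetLike.mem_coe, hset]
        exact ⟨l, hl, rfl⟩
      | one => simp
      | mul a b _ _ ha hb => simpa [mul_assoc] using mul_mem ha hb
      | inv a _ ha => simpa [mul_assoc] using inv_mem ha
    have hgin : toPerm g ∉ grp r := by
      rw [← SetLike.mem_coe, hset, ← memP_iff hgv hv]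
      simpa using hnot
    let K : Subgroup (Equiv.Perm GolayPt) :=
      { carrier := {σ | σ ∈ grp r ∨ (toPerm g)⁻¹ * σ ∈ grp r}
        one_mem' := Or.inl (one_mem _)
        mul_mem' := by
          have hconj' : ∀ x ∈ grp r, (toPerm g)⁻¹ * x * toPerm g ∈ grp r := fun x hx => by
            have h1 := hgn x hx
            have h2 := mul_mem (mul_mem (inv_mem hsq') h1) hsq'
            simpa [mul_assoc] using h2
          rintro a b (ha | ha) (hb | hb)
          · exact Or.inl (mul_mem ha hb)
          · refine Or.inr ?_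
            have := mul_mem (hconj' a ha) hb
            simpa [mul_assoc] using this
          · refine Or.inr ?_
            have := mul_mem ha hb
            simpa [mul_assoc] using this
          · refine Or.inl ?_
            have := mul_mem (mul_mem (hgn _ ha) hsq') hb
            simpa [mul_assoc] using this
        inv_mem' := by
          rintro a (ha | ha)
          · exact Or.inl (inv_mem ha)
          · refine Or.inr ?_
            have h1 := mul_mem (inv_mem hsq') (hgn _ (inv_mem ha))
            simpa [mul_assoc] using h1 }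
    have hK : grp (g :: r) = K := by
      apply le_antisymm
      · refine (Subgroup.closure_le _).2 ?_
        rintro _ ⟨l, hl, rfl⟩
        rcases List.mem_cons.1 hl with rfl | hl
        · exact Or.inr (by simp)
        · exact Or.inl (Subgroup.subset_closure ⟨l, hl, rfl⟩)
      · have hle : grp r ≤ grp (g :: r) :=
          Subgroup.closure_mono fun _ ⟨l, hl, he⟩ => ⟨l, by simp [hl], he⟩
        have hg' : toPerm g ∈ grp (g :: r) := Subgroup.subset_closure ⟨g, by simp, rfl⟩
        rintro σ (hσ | hσ)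
        · exact hle hσ
        · simpa using mul_mem hg' (hle hσ)
    have hsetK : ((grp (g :: r) : Subgroup _) : Set (Equiv.Perm GolayPt)) =
        elems (span (g :: r)) := by
      rw [hK]
      ext σ
      simp only [elems, span, List.mem_append, List.mem_map, Set.mem_ofPred_eq]
      constructor
      · rintro (hσ | hσ)
        · obtain ⟨l, hl, he⟩ := hset.le hσ
          exact ⟨l, Or.inl hl, he⟩
        · obtain ⟨l, hl, he⟩ := hset.le hσ
          exact ⟨comp g l, Or.inr ⟨l, hl, rfl⟩, by
            rw [toPerm_comp hgv (hv l hl), he, mul_inv_cancel_left]⟩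
      · rintro ⟨l, hl | ⟨m, hm, rfl⟩, rfl⟩
        · exact Or.inl (hset.ge ⟨l, hl, rfl⟩)
        · refine Or.inr (hset.ge ⟨m, hm, ?_⟩)
          rw [toPerm_comp hgv (hv m hm), inv_mul_cancel_left]
    refine ⟨hsetK, ?_⟩
    rw [hK]
    have h2 : (K : Set (Equiv.Perm GolayPt)) = (grp r : Set (Equiv.Perm GolayPt)) ∪
        (fun x => toPerm g * x) '' (grp r : Set (Equiv.Perm GolayPt)) := by
      ext σ
      constructor
      · rintro (hσ | hσ)
        · exact Or.inl hσ
        · exact Or.inr ⟨_, hσ, mul_inv_cancel_left _ _⟩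
      · rintro (hσ | ⟨x, hx, rfl⟩)
        · exact Or.inl hσ
        · exact Or.inr (by simpa using hx)
    have hdis : Disjoint (grp r : Set (Equiv.Perm GolayPt))
        ((fun x => toPerm g * x) '' (grp r : Set (Equiv.Perm GolayPt))) := by
      rw [Set.disjoint_left]
      rintro σ hσ ⟨x, hx, rfl⟩
      exact hgin (by simpa using mul_mem hσ (inv_mem hx))
    show (K : Set (Equiv.Perm GolayPt)).ncard = _
    rw [h2, Set.ncard_union_eq hdis, Set.ncard_image_of_injective _ (mul_right_injective _)]
    show Nat.card (grp r) + Nat.card (grp r) = _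
    rw [hcard, List.length_cons, pow_succ]
    ring

theorem grp_right_le (A B : List ℕ) : grp B ≤ grp (A ++ B) := by
  refine Subgroup.closure_mono ?_
  rintro x ⟨l, hl, he⟩
  exact ⟨l, List.mem_append.2 (Or.inr hl), he⟩

theorem span_append : ∀ (A B : List ℕ), (∀ g ∈ A ++ B, valid g = true) →
    ∀ σ, σ ∈ elems (span (A ++ B)) → ∃ a ∈ span A, ∃ b ∈ elems (span B), σ = toPerm a * b
  | [], B, _, σ, hσ => ⟨idCode, by simp [span], σ, hσ, by rw [toPerm_id, one_mul]⟩
  | g :: A, B, h, σ, ⟨l, hl, he⟩ => by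
    subst he
    have hv : ∀ x ∈ A ++ B, valid x = true := fun x hx => h x (by simp at hx ⊢; tauto)
    have hgv : valid g = true := h g (by simp)
    have hvA := valid_span A fun x hx => hv x (by simp [hx])
    simp only [List.cons_append, span, List.mem_append, List.mem_map] at hl ⊢
    rcases hl with hl | ⟨m, hm, rfl⟩
    · obtain ⟨a, ha, b, hb, e⟩ := span_append A B hv _ ⟨l, hl, rfl⟩
      exact ⟨a, Or.inl ha, b, hb, e⟩
    · obtain ⟨a, ha, b, hb, e⟩ := span_append A B hv _ ⟨m, hm, rfl⟩
      exact ⟨comp g a, Or.inr ⟨a, ha, rfl⟩, b, hb, by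
        rw [toPerm_comp hgv (valid_span _ hv m hm), toPerm_comp hgv (hvA a ha), e, mul_assoc]⟩

/-- Derivation steps: a product of two derived elements or a conjugate of one. -/
inductive Step
  | mul (i j : ℕ)
  | conj (g x i : ℕ)

/-- Replay of a derivation. -/
def derive (inH : ℕ → Bool) (S : List ℕ) : List ℕ → List Step → Option (List ℕ)
  | D, [] => some D
  | D, Step.mul i j :: r =>
    if Nat.blt i D.length && Nat.blt j D.length then
      derive inH S (D ++ [comp (D.getD i 0) (D.getD j 0)]) r else none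
  | D, Step.conj g x i :: r =>
    if Nat.blt i D.length && inH g && valid x && memP x S &&
        eqv (comp g (D.getD i 0)) (comp x g) then
      derive inH S (D ++ [x]) r else none

theorem derive_spec {inH : ℕ → Bool} {H : Subgroup (Equiv.Perm GolayPt)}
    (hinH : ∀ p, inH p = true → valid p = true ∧ toPerm p ∈ H) {S : List ℕ}
    (hS : ∀ l ∈ S, valid l = true) (P : Equiv.Perm GolayPt → Prop)
    (hmul : ∀ a b, P a → P b → P (a * b))
    (hconj : ∀ h ∈ H, ∀ a, P a → h * a * h⁻¹ ∈ elems S → P (h * a * h⁻¹)) :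
    ∀ (r : List Step) (D D' : List ℕ), derive inH S D r = some D' →
      (∀ d ∈ D, valid d = true ∧ P (toPerm d)) → ∀ d ∈ D', valid d = true ∧ P (toPerm d) := by
  intro r
  induction r with
  | nil => intro D D' h hD; simp only [derive, Option.some.injEq] at h; exact h ▸ hD
  | cons s r ih =>
    intro D D' h hD
    have hget : ∀ i, i < D.length → valid (D.getD i 0) = true ∧ P (toPerm (D.getD i 0)) := by
      intro i hi
      rw [List.getD_eq_getElem _ _ hi]
      exact hD _ (List.getElem_mem hi)
    cases s with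
    | mul i j =>
      simp only [derive] at h
      split_ifs at h with hc
      simp only [Bool.and_eq_true, Nat.blt_eq] at hc
      obtain ⟨hi1, hi2⟩ := hget i hc.1
      obtain ⟨hj1, hj2⟩ := hget j hc.2
      refine ih _ _ h fun d hd => ?_
      rcases List.mem_append.1 hd with hd | hd
      · exact hD d hd
      · rw [List.mem_singleton] at hd
        rw [hd]
        refine ⟨valid_comp hi1 hj1, ?_⟩
        rw [toPerm_comp hi1 hj1]
        exact hmul _ _ hi2 hj2
    | conj g x i =>
      simp only [derive] at h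
      split_ifs at h with hc
      simp only [Bool.and_eq_true, Nat.blt_eq] at hc
      obtain ⟨⟨⟨⟨hi, hg⟩, hx⟩, hxS⟩, he⟩ := hc
      obtain ⟨hi1, hi2⟩ := hget i hi
      obtain ⟨hg1, hg2⟩ := hinH g hg
      rw [eqv_iff (valid_comp hg1 hi1) (valid_comp hx hg1), toPerm_comp hg1 hi1,
        toPerm_comp hx hg1] at he
      refine ih _ _ h fun d hd => ?_
      rcases List.mem_append.1 hd with hd | hd
      · exact hD d hd
      · obtain rfl := List.mem_singleton.1 hd
        refine ⟨hx, ?_⟩
        have h1 : toPerm g * toPerm (D.getD i 0) * (toPerm g)⁻¹ = toPerm d := by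
          rw [he, mul_inv_cancel_right]
        exact h1 ▸ hconj _ hg2 _ hi2 (h1 ▸ (memP_iff hx hS).1 hxS)

/-- Fixed points as indices. -/
def fixI (x i : ℕ) : Bool := Golay.img x i == i

/-- The invariant of a coded permutation. -/
def key (F : List ℕ) (x : ℕ) : ℕ :=
  (idx.filter (fixI x)).length * 625 + (idx.filter fun i => fixI x (Golay.img x i) && fixI x i ||
    Golay.img x (Golay.img x i) == i).length * 25 + (F.filter (fixI x)).length

/-- The invariant of a permutation, relative to a set of points. -/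
noncomputable def keyP (Fs : Set GolayPt) (σ : Equiv.Perm GolayPt) : ℕ :=
  Nat.card {p // σ p = p} * 625 + Nat.card {p // σ (σ p) = p} * 25 +
    Nat.card {p // p ∈ Fs ∧ σ p = p}

/-- The points on whose orbits a group acts with exponent two. -/
def fixSet (N : Subgroup (Equiv.Perm GolayPt)) : Set GolayPt := {p | ∀ σ ∈ N, σ (σ p) = p}

theorem card_filter_idx (P : GolayPt → Prop) (b : ℕ → Bool)
    (h : ∀ i < 24, (b i = true ↔ P (pt i))) : (idx.filter b).length = Nat.card {p // P p} := by
  classical
  have hnd : idx.Nodup := by decide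
  rw [← List.toFinset_card_of_nodup (hnd.filter b), Nat.card_eq_fintype_card, Fintype.card_subtype]
  refine Finset.card_bij (fun i _ => pt i) ?_ ?_ ?_
  · intro i hi
    simp only [List.mem_toFinset, List.mem_filter] at hi
    simpa using (h i (mem_idx.1 hi.1)).1 hi.2
  · intro i hi j hj e
    simp only [List.mem_toFinset, List.mem_filter] at hi hj
    rw [← ix_pt (mem_idx.1 hi.1), ← ix_pt (mem_idx.1 hj.1), e]
  · intro p hp
    simp only [Finset.mem_filter, Finset.mem_univ, true_and] at hp
    exact ⟨ix p, by simp [mem_idx, ix_lt, (h (ix p) (ix_lt p)).2 (by rwa [pt_ix])], pt_ix p⟩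

theorem fixI_iff {x : ℕ} (hx : valid x = true) {i : ℕ} (hi : i < 24) :
    fixI x i = true ↔ toPerm x (pt i) = pt i := by
  rw [toPerm_pt hx hi, fixI, beq_iff_eq]
  exact ⟨fun h => by rw [h], fun h => by rw [← ix_pt (img_lt hx hi), h, ix_pt hi]⟩

/-- The points of exponent two for the listed elements, as indices. -/
def fixList (L : List ℕ) : List ℕ :=
  idx.filter fun i => L.all fun g => Golay.img g (Golay.img g i) == i

theorem fixList_spec {B : List ℕ} (hB : pcOK B = true) {i : ℕ} (hi : i < 24) :
    ((span B).all fun g => Golay.img g (Golay.img g i) == i) = true ↔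
      pt i ∈ fixSet (grp B) := by
  have hv := valid_span B (valid_of_pcOK B hB)
  have hs := (grp_spec B hB).1
  simp only [List.all_eq_true, beq_iff_eq]
  constructor
  · intro h σ hσ
    obtain ⟨g, hg, rfl⟩ := hs.le hσ
    rw [toPerm_pt (hv g hg) hi, toPerm_pt (hv g hg) (img_lt (hv g hg) hi), h g hg]
  · intro h g hg
    have h1 := h _ (hs.ge ⟨g, hg, rfl⟩)
    rw [toPerm_pt (hv g hg) hi, toPerm_pt (hv g hg) (img_lt (hv g hg) hi)] at h1
    rw [← ix_pt (img_lt (hv g hg) (img_lt (hv g hg) hi)), h1, ix_pt hi]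

theorem key_spec {r : List ℕ} (hr : pcOK r = true) {x : ℕ} (hx : valid x = true) :
    key (fixList (span r)) x = keyP (fixSet (grp r)) (toPerm x) := by
  have h2 : ∀ i < 24, (fixI x (Golay.img x i) && fixI x i || Golay.img x (Golay.img x i) == i) =
      true ↔ toPerm x (toPerm x (pt i)) = pt i := by
    intro i hi
    rw [toPerm_pt hx hi, toPerm_pt hx (img_lt hx hi)]
    simp only [fixI, Bool.or_eq_true, Bool.and_eq_true, beq_iff_eq]
    constructor
    · rintro (⟨h1, h2⟩ | h)
      · rw [h1, h2]
      · rw [h]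
    · intro h
      exact Or.inr (by rw [← ix_pt (img_lt hx (img_lt hx hi)), h, ix_pt hi])
  rw [key, keyP, card_filter_idx (fun p => toPerm x p = p) _ fun i hi => fixI_iff hx hi, card_filter_idx (fun p => toPerm x (toPerm x p) = p) _ h2, fixList,
    List.filter_filter,
    card_filter_idx (fun p => p ∈ fixSet (grp r) ∧ toPerm x p = p) _ fun i hi => ?_]
  rw [Bool.and_eq_true, fixI_iff hx hi, fixList_spec hr hi]
  tauto

theorem keyP_conj (n σ : Equiv.Perm GolayPt) {Fs : Set GolayPt} (hF : ∀ p, n p ∈ Fs ↔ p ∈ Fs) :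
    keyP Fs (n * σ * n⁻¹) = keyP Fs σ := by
  have h1 : ∀ p, (n * σ * n⁻¹) (n p) = n (σ p) := fun p => by
    rw [Equiv.Perm.mul_apply, Equiv.Perm.inv_def, Equiv.symm_apply_apply, Equiv.Perm.mul_apply]
  unfold keyP
  rw [← Nat.card_congr (Equiv.subtypeEquiv (p := fun p => σ p = p)
      (q := fun p => (n * σ * n⁻¹) p = p) n fun p => by rw [h1, n.injective.eq_iff]),
    ← Nat.card_congr (Equiv.subtypeEquiv (p := fun p => σ (σ p) = p)
      (q := fun p => (n * σ * n⁻¹) ((n * σ * n⁻¹) p) = p) n fun p => by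
        rw [h1, h1, n.injective.eq_iff]),
    ← Nat.card_congr (Equiv.subtypeEquiv (p := fun p => p ∈ Fs ∧ σ p = p)
      (q := fun p => p ∈ Fs ∧ (n * σ * n⁻¹) p = p) n fun p => by
        rw [h1, n.injective.eq_iff, hF])]

/-- The code of the invariant of the coset `a N`. -/
def cosetKey (F LN : List ℕ) (a : ℕ) : ℕ := keySet id (LN.map fun l => key F (comp a l))

theorem testBit_cosetKey {B : List ℕ} (hB : pcOK B = true) {a : ℕ} (ha : valid a = true) (v : ℕ) :
    (cosetKey (fixList (span B)) (span B) a).testBit v = true ↔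
      ∃ n ∈ grp B, keyP (fixSet (grp B)) (toPerm a * n) = v := by
  have hv := valid_span B (valid_of_pcOK B hB)
  rw [cosetKey, testBit_keySet]
  constructor
  · rintro ⟨m, hm, rfl⟩
    obtain ⟨l, hl, rfl⟩ := List.mem_map.1 hm
    exact ⟨toPerm l, (grp_spec B hB).1.ge ⟨l, hl, rfl⟩, by
      rw [id, key_spec hB (valid_comp ha (hv l hl)), toPerm_comp ha (hv l hl)]⟩
  · rintro ⟨n, hn, rfl⟩
    obtain ⟨l, hl, rfl⟩ := (grp_spec B hB).1.le hn
    exact ⟨_, List.mem_map.2 ⟨l, hl, rfl⟩, by
      rw [id, key_spec hB (valid_comp ha (hv l hl)), toPerm_comp ha (hv l hl)]⟩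

/-- The whole certificate. -/
def cert (inH : ℕ → Bool) (A B : List ℕ) (z : ℕ) (ws : List (List ℕ)) (ks : List ℕ)
    (steps : List Step) : Bool :=
  pcOK (A ++ B) && pcOK B && (A ++ B).all inH &&
  ((span (A ++ B)).all fun l => memP (comp l l) (span B)) &&
  (ws.all fun w => w.all fun l => memP l (span (A ++ B)) && valid l) &&
  (B.all fun g => ws.any fun w => eqv g (w.foldr (fun l acc => comp (comp l l) acc) idCode)) &&
  valid z &&
  ((span (A ++ B)).all fun l => eqv l idCode || eqv l z ||
    (A ++ B).any fun g => !eqv (comp l g) (comp g l)) &&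
  ((span A).map (cosetKey (fixList (span B)) (span B)) == ks) &&
  (ks.all fun v => Nat.ble (ks.filter fun w => w == v).length 2) &&
  match derive inH (span (A ++ B)) [z] steps with
  | none => false
  | some D => (A ++ B).all fun g => memP g D

theorem filter_map_count {α : Type*} (k : α → ℕ) {L : List α} {v : ℕ}
    (h : ((L.map k).filter fun w => w == v).length ≤ 2) {a b c : α} (ha : a ∈ L) (hb : b ∈ L)
    (hc : c ∈ L) (hka : k a = v) (hkb : k b = v) (hkc : k c = v) : a = b ∨ a = c ∨ b = c := by
  rw [List.filter_map, List.length_map] at h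
  set M := L.filter ((fun w => w == v) ∘ k)
  have hm : ∀ x ∈ L, k x = v → x ∈ M := fun x hx hk => List.mem_filter.2 ⟨hx, by simp [hk]⟩
  have hma := hm a ha hka
  have hmb := hm b hb hkb
  have hmc := hm c hc hkc
  clear_value M
  match M, h with
  | [], _ => simp at hma
  | [x], _ => simp at hma hmb; exact Or.inl (hma.trans hmb.symm)
  | [x, y], _ =>
    simp at hma hmb hmc
    rcases hma with rfl | rfl <;> rcases hmb with rfl | rfl <;> rcases hmc with rfl | rfl <;> simp
  | x :: y :: w :: r, h => simp at h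

theorem simple_of_cert {H : Subgroup (Equiv.Perm GolayPt)} {inH : ℕ → Bool}
    (hinH : ∀ p, inH p = true → valid p = true ∧ toPerm p ∈ H) {A B : List ℕ} {z : ℕ}
    {ws : List (List ℕ)} {ks : List ℕ} {steps : List Step}
    (h : cert inH A B z ws ks steps = true) (m : ℕ)
    (hcard : Nat.card H = 2 ^ (A ++ B).length * m) (hm : Odd m) (hlen : 0 < (A ++ B).length)
    (S : Sylow 2 H) : (groupFusionSystem (S : Subgroup H)).IsSimple 2 := by
  simp only [cert, Bool.and_eq_true] at h
  obtain ⟨⟨⟨⟨⟨⟨⟨⟨⟨⟨hpc, hpcB⟩, hin⟩, hsq⟩, hws⟩, hword⟩, hzv⟩, hcen⟩, hks⟩, hcount⟩, hder⟩ := h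
  have hval := valid_of_pcOK _ hpc
  have hvS := valid_span _ hval
  have hvB := valid_of_pcOK B hpcB
  have hvSB := valid_span B hvB
  obtain ⟨hKset, hKcard⟩ := grp_spec _ hpc
  set K := grp (A ++ B)
  have hKH : K ≤ H := by
    refine (Subgroup.closure_le _).2 ?_
    rintro _ ⟨l, hl, rfl⟩
    exact (hinH l (List.all_eq_true.1 hin l hl)).2
  -- the Sylow subgroup and the embedding
  have : Fact (Nat.Prime 2) := ⟨Nat.prime_two⟩
  have hKp : IsPGroup 2 (K.subgroupOf H) :=
    (IsPGroup.of_card hKcard).of_equiv (Subgroup.subgroupOfEquivOfLe hKH).symm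
  have hidx : ¬ 2 ∣ (K.subgroupOf H).index := by
    have h1 := Subgroup.card_mul_index (K.subgroupOf H)
    rw [Nat.card_congr (Subgroup.subgroupOfEquivOfLe hKH).toEquiv, hKcard, hcard] at h1
    rw [Nat.eq_of_mul_eq_mul_left (Nat.two_pow_pos _) h1]
    exact fun hd => (Nat.not_even_iff_odd.2 hm) (even_iff_two_dvd.2 hd)
  obtain ⟨g, hg⟩ := MulAction.exists_smul_eq H (hKp.toSylow hidx) S
  let φ : H →* Equiv.Perm GolayPt := H.subtype.comp (MulAut.conj g⁻¹).toMonoidHom
  have hφinj : Function.Injective φ := H.subtype_injective.comp (MulAut.conj g⁻¹).injective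
  have hφH : ∀ x, φ x ∈ H := fun x => ((MulAut.conj g⁻¹) x).2
  have hφS : ∀ x : H, x ∈ (S : Subgroup H) ↔ φ x ∈ K := by
    intro x
    rw [← hg, Sylow.coe_subgroup_smul, Subgroup.mem_pointwise_smul_iff_inv_smul_mem, ← map_inv]
    exact Iff.rfl
  have hφsurj : ∀ σ ∈ H, ∃ x : H, φ x = σ := fun σ hσ =>
    ⟨(MulAut.conj g⁻¹).symm ⟨σ, hσ⟩, congrArg Subtype.val ((MulAut.conj g⁻¹).apply_symm_apply _)⟩
  have hF := groupFusionSystem_saturated S
  set T₂ := ((S : Subgroup H) : Subgroup H)
  -- `φ(S) = K`
  have hKsurj : ∀ σ ∈ K, ∃ s : T₂, φ s = σ := fun σ hσ => by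
    obtain ⟨x, rfl⟩ := hφsurj σ (hKH hσ)
    exact ⟨⟨x, (hφS x).2 hσ⟩, rfl⟩
  have hS1 : T₂ ≠ ⊥ := by
    intro h1
    have h2 : Nat.card K = 1 := by
      rw [Nat.card_eq_one_iff_unique]
      refine ⟨⟨fun a b => Subtype.ext ?_⟩, inferInstance⟩
      obtain ⟨s, hs⟩ := hKsurj a a.2
      obtain ⟨t, ht⟩ := hKsurj b b.2
      rw [← hs, ← ht, Subgroup.mem_bot.1 (h1.le s.2), Subgroup.mem_bot.1 (h1.le t.2)]
    rw [hKcard] at h2
    exact absurd h2 (Nat.one_lt_two_pow (by omega)).ne'
  -- the squares
  set N := grp B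
  have hNset := (grp_spec B hpcB).1
  let N' : Subgroup T₂ := N.comap (φ.comp T₂.subtype)
  have hsqN : ∀ s : T₂, φ s * φ s ∈ N := fun s => by
    obtain ⟨l, hl, he⟩ := hKset.le ((hφS s).1 s.2)
    rw [← he, ← SetLike.mem_coe, hNset, ← toPerm_comp (hvS l hl) (hvS l hl)]
    exact (memP_iff (valid_comp (hvS l hl) (hvS l hl)) hvSB).1 (List.all_eq_true.1 hsq l hl)
  set Q : Subgroup T₂ := Subgroup.closure {y | ∃ s : T₂, s * s = y}
  have hQN : Q ≤ N' := (Subgroup.closure_le _).2 (by
    rintro _ ⟨s, rfl⟩
    show φ ((s * s : T₂) : H) ∈ N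
    rw [Subgroup.coe_mul, map_mul]; exact hsqN s)
  have hQQ : N ≤ Q.map (φ.comp T₂.subtype) := by
    refine (Subgroup.closure_le _).2 ?_
    rintro _ ⟨b, hb, rfl⟩
    obtain ⟨w, hw, hwe⟩ := List.any_eq_true.1 (List.all_eq_true.1 hword b hb)
    have key : ∀ v : List ℕ, (∀ l ∈ v, memP l (span (A ++ B)) = true ∧ valid l = true) →
        valid (v.foldr (fun l acc => comp (comp l l) acc) idCode) = true ∧
        toPerm (v.foldr (fun l acc => comp (comp l l) acc) idCode) ∈
          Q.map (φ.comp T₂.subtype) := by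
      intro v
      induction v with
      | nil => exact fun _ => ⟨valid_idCode, by rw [List.foldr_nil, toPerm_id]; exact one_mem _⟩
      | cons l v ih =>
        intro hl
        obtain ⟨h1, h2⟩ := hl l (by simp)
        obtain ⟨h3, h4⟩ := ih fun x hx => hl x (by simp [hx])
        rw [List.foldr_cons]
        refine ⟨valid_comp (valid_comp h2 h2) h3, ?_⟩
        rw [toPerm_comp (valid_comp h2 h2) h3, toPerm_comp h2 h2]
        refine mul_mem ?_ h4
        obtain ⟨s, hs⟩ := hKsurj _ (hKset.ge ((memP_iff h2 hvS).1 h1))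
        exact ⟨s * s, Subgroup.subset_closure ⟨s, rfl⟩, by rw [map_mul, ← hs]; rfl⟩
    have hw' := List.all_eq_true.1 (List.all_eq_true.1 hws w hw)
    simp only [Bool.and_eq_true] at hw'
    obtain ⟨h1, h2⟩ := key w hw'
    rw [SetLike.mem_coe, (eqv_iff (hvB b hb) h1).1 hwe]
    exact h2
  have hN'Q : N' ≤ Q := fun s hs => by
    obtain ⟨t, ht, hts⟩ := hQQ hs
    rwa [← (hφinj.comp T₂.subtype_injective) hts]
  have hFr : N' ≤ frattini T₂ := hN'Q.trans ((Subgroup.closure_le _).2 (by
    rintro _ ⟨s, rfl⟩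
    rw [← pow_two]
    exact PGroupFrattini.pow_mem_frattini S.2 s))
  have hNinv : ∀ α : MulAut T₂, ∀ x ∈ N', α x ∈ N' := fun α x hx => by
    have h1 : Q ≤ Q.comap α.toMonoidHom := (Subgroup.closure_le _).2 (by
      rintro _ ⟨s, rfl⟩
      exact Subgroup.subset_closure ⟨α s, (map_mul α s s).symm⟩)
    exact hQN (h1 (hN'Q hx))
  refine isSimple_of_autS_inn hF hS1 ?_ ?_
  · -- strongly closed subgroups
    intro T hT
    by_cases hT1 : T = ⊥
    · exact Or.inl hT1
    refine Or.inr (le_antisymm hT.1 ?_)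
    have : (T.subgroupOf T₂).Normal :=
      Subgroup.normal_subgroupOf_of_le_normalizer (le_normalizer_of_stronglyClosed hT)
    obtain ⟨c, hcT, hcc, hc1⟩ := GenStruct.exists_mem_center S.2 (T.subgroupOf T₂)
      (fun h => hT1 ((Subgroup.subgroupOf_eq_bot.1 h).eq_bot_of_le hT.1))
    obtain ⟨l, hl, hle⟩ := hKset.le ((hφS c).1 c.2)
    have hlz : toPerm l = toPerm z := by
      have h1 := List.all_eq_true.1 hcen l hl
      rw [Bool.or_eq_true, Bool.or_eq_true] at h1
      rcases h1 with (h1 | h1) | h1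
      · rw [eqv_iff (hvS l hl) valid_idCode, toPerm_id, hle] at h1
        exact absurd (Subtype.ext (hφinj (h1.trans (map_one φ).symm)) : c = 1) hc1
      · exact (eqv_iff (hvS l hl) hzv).1 h1
      · exfalso
        obtain ⟨b, hb, hne⟩ := List.any_eq_true.1 h1
        obtain ⟨t, ht⟩ := hKsurj _ (Subgroup.subset_closure ⟨b, hb, rfl⟩)
        have h2 : (t : H) * (c : H) = (c : H) * t :=
          congrArg Subtype.val (Subgroup.mem_center_iff.1 hcc t)
        have h3 := congrArg φ h2
        rw [map_mul, map_mul, ht, ← hle] at h3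
        simp only [Bool.not_eq_true', ← Bool.not_eq_true] at hne
        exact hne ((eqv_iff (valid_comp (hvS l hl) (hval b hb)) (valid_comp (hval b hb) (hvS l hl))).2
          (by rw [toPerm_comp (hvS l hl) (hval b hb), toPerm_comp (hval b hb) (hvS l hl), h3]))
    cases hd : derive inH (span (A ++ B)) [z] steps with
    | none => rw [hd] at hder; simp at hder
    | some D =>
      rw [hd] at hder
      have hD := derive_spec hinH hvS (fun σ => ∃ x ∈ T, φ x = σ)
        (fun a b ⟨x, hx, hxa⟩ ⟨y, hy, hyb⟩ => ⟨x * y, T.mul_mem hx hy, by rw [map_mul, hxa, hyb]⟩)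
        (by
          rintro hσ hhσ _ ⟨x, hx, rfl⟩ hmem
          obtain ⟨u, rfl⟩ := hφsurj hσ hhσ
          have hS' : u * x * u⁻¹ ∈ T₂ := (hφS _).2 (by
            rw [map_mul, map_mul, map_inv]; exact hKset.ge hmem)
          refine ⟨u * x * u⁻¹, ?_, by rw [map_mul, map_mul, map_inv]⟩
          have hm : conjHom (Subgroup.zpowers x) u ∈
              (groupFusionSystem T₂).Hom (Subgroup.zpowers x) := by
            refine ⟨Subgroup.zpowers_le.2 (hT.1 hx), fun w => ?_, u, fun w => rfl⟩
            obtain ⟨w, k, rfl⟩ := w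
            show u * x ^ k * u⁻¹ ∈ T₂
            rw [← conj_zpow]; exact zpow_mem hS' k
          exact hT.2 _ (Subgroup.zpowers_le.2 hx) _ hm ⟨x, Subgroup.mem_zpowers x⟩)
        steps [z] D hd (by
          intro d hd
          obtain rfl := List.mem_singleton.1 hd
          exact ⟨hzv, c, hcT, by rw [← hle, hlz]⟩)
      have hKle : K ≤ T.map φ := by
        refine (Subgroup.closure_le _).2 ?_
        rintro _ ⟨b, hb, rfl⟩
        obtain ⟨d, hd', hde⟩ := List.any_eq_true.1 (List.all_eq_true.1 hder b hb)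
        rw [SetLike.mem_coe, (eqv_iff (hval b hb) (hD d hd').1).1 hde]
        obtain ⟨x, hx, hxe⟩ := (hD d hd').2
        exact ⟨x, hx, hxe⟩
      intro x hx
      obtain ⟨y, hy, hyx⟩ := hKle ((hφS x).1 hx)
      exact hφinj hyx ▸ hy
  · -- the automorphism group of `S` is inner
    have hsyl := (isFullyAutomized_iff.1 (saturated_autS S.2 hF)).2
    have := finite_mulAut (le_refl T₂)
    rw [autInducedBy_self] at hsyl
    suffices hp : IsPGroup 2 ((groupFusionSystem T₂).autGroup T₂) from
      hsyl.eq_of_le (inn_le_autGroup le_rfl) le_rfl hp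
    set Au := (groupFusionSystem T₂).autGroup T₂
    have hall : ∀ q : ℕ, q.Prime → q ∣ Nat.card Au → q = 2 := by
      intro q hq hqd
      by_contra hq2
      have : Fact q.Prime := ⟨hq⟩
      obtain ⟨⟨α, hα⟩, hord⟩ := exists_prime_orderOf_dvd_card' q hqd
      rw [Subgroup.orderOf_mk] at hord
      obtain ⟨-, -, n, hn⟩ := (mem_autGroup le_rfl).1 hα
      have hn' : ∀ s : T₂, φ (α s : H) = φ n * φ s * (φ n)⁻¹ := fun s => by
        rw [← map_inv, ← map_mul, ← map_mul]; exact congrArg φ (hn s)
      -- the invariant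
      have hFs : ∀ p, φ n p ∈ fixSet N ↔ p ∈ fixSet N := by
        have hfwd : ∀ a : MulAut T₂, ∀ u : Equiv.Perm GolayPt,
            (∀ s : T₂, φ (a s : H) = u * φ s * u⁻¹) → ∀ p, p ∈ fixSet N → u p ∈ fixSet N := by
          intro a u hau p hp σ hσ
          obtain ⟨s, hs⟩ := hKsurj σ (grp_right_le A B hσ)
          have h2 : φ ((a.symm s : T₂) : H) ∈ N := hNinv a.symm s (by show φ s ∈ N; rwa [hs])
          have h3 := hau (a.symm s)
          rw [a.apply_symm_apply, hs] at h3
          rw [h3]
          simp only [Equiv.Perm.mul_apply, Equiv.Perm.inv_def, Equiv.symm_apply_apply]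
          rw [hp _ h2]
        intro p
        refine ⟨fun h => ?_, hfwd α (φ n) hn' p⟩
        have h1 := hfwd α⁻¹ (φ n)⁻¹ (fun s => by
          have h2 := hn' (α⁻¹ s)
          rw [MulAut.apply_inv_self] at h2
          rw [h2]
          group) (φ n p) h
        rwa [← Equiv.Perm.mul_apply, inv_mul_cancel] at h1
      have h1 : α = 1 := eq_one_of_invariant S.2 hq hq2 (hord ▸ pow_orderOf_eq_one α) hFr
        (hNinv α) (fun s : T₂ => {v : ℕ | ∃ m ∈ N, keyP (fixSet N) (φ s * m) = v})
        (fun s => by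
          ext v
          simp only [Set.mem_ofPred_eq]
          constructor
          · rintro ⟨m, hm, rfl⟩
            obtain ⟨t, ht⟩ := hKsurj m (grp_right_le A B hm)
            have h3 : φ ((α⁻¹ t : T₂) : H) ∈ N := hNinv α⁻¹ t (by show φ t ∈ N; rwa [ht])
            refine ⟨_, h3, ?_⟩
            have h4 := hn' (α⁻¹ t)
            rw [MulAut.apply_inv_self, ht] at h4
            rw [hn' s, h4, ← keyP_conj (φ n) (φ s * φ ((α⁻¹ t : T₂) : H)) hFs]
            congr 1
            group
          · rintro ⟨m, hm, rfl⟩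
            obtain ⟨t, ht⟩ := hKsurj m (grp_right_le A B hm)
            have h3 : φ ((α t : T₂) : H) ∈ N := hNinv α t (by show φ t ∈ N; rwa [ht])
            refine ⟨_, h3, ?_⟩
            rw [hn' s, hn' t, ht, ← keyP_conj (φ n) (φ s * m) hFs]
            congr 1
            group)
        (by
          intro x y w hxy hxw
          have hex : ∀ s : T₂, ∃ a ∈ span A, ∃ b ∈ N, φ s = toPerm a * b := fun s => by
            obtain ⟨a, ha, b, hb, he⟩ := span_append A B hval _ (hKset.le ((hφS s).1 s.2))
            exact ⟨a, ha, b, hNset.ge hb, he⟩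
          have hvA := valid_span A fun x hx => hval x (List.mem_append.2 (Or.inl hx))
          have hkey : ∀ {s : T₂} {a : ℕ} {b : Equiv.Perm GolayPt}, a ∈ span A → b ∈ N →
              φ s = toPerm a * b → ∀ v, (cosetKey (fixList (span B)) (span B) a).testBit v = true ↔
                ∃ m ∈ N, keyP (fixSet N) (φ s * m) = v := by
            intro s a b ha hb he v
            rw [testBit_cosetKey hpcB (hvA a ha)]
            constructor
            · rintro ⟨m, hm, rfl⟩
              exact ⟨b⁻¹ * m, mul_mem (inv_mem hb) hm, by rw [he, mul_assoc, mul_inv_cancel_left]⟩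
            · rintro ⟨m, hm, rfl⟩
              exact ⟨b * m, mul_mem hb hm, by rw [he, mul_assoc]⟩
          obtain ⟨a₁, ha₁, b₁, hb₁, e₁⟩ := hex x
          obtain ⟨a₂, ha₂, b₂, hb₂, e₂⟩ := hex y
          obtain ⟨a₃, ha₃, b₃, hb₃, e₃⟩ := hex w
          have hk12 : cosetKey (fixList (span B)) (span B) a₂ = cosetKey (fixList (span B)) (span B) a₁ := by
            apply Nat.eq_of_testBit_eq; intro v
            rw [Bool.eq_iff_iff, hkey ha₂ hb₂ e₂, hkey ha₁ hb₁ e₁]
            exact (Set.ext_iff.1 hxy v).symm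
          have hk13 : cosetKey (fixList (span B)) (span B) a₃ = cosetKey (fixList (span B)) (span B) a₁ := by
            apply Nat.eq_of_testBit_eq; intro v
            rw [Bool.eq_iff_iff, hkey ha₃ hb₃ e₃, hkey ha₁ hb₁ e₁]
            exact (Set.ext_iff.1 hxw v).symm
          rw [beq_iff_eq] at hks
          have hc := List.all_eq_true.1 hcount (cosetKey (fixList (span B)) (span B) a₁)
            (hks ▸ List.mem_map.2 ⟨a₁, ha₁, rfl⟩)
          rw [Nat.ble_eq, ← hks] at hc
          have same : ∀ {s t : T₂} {a : ℕ} {b b' : Equiv.Perm GolayPt}, b ∈ N → b' ∈ N →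
              φ s = toPerm a * b → φ t = toPerm a * b' → s⁻¹ * t ∈ N' := by
            intro s t a b b' hb hb' hs ht
            show φ ((s⁻¹ * t : T₂) : H) ∈ N
            rw [Subgroup.coe_mul, Subgroup.coe_inv, map_mul, map_inv, hs, ht]
            simpa [mul_assoc] using mul_mem (inv_mem hb) hb'
          rcases filter_map_count _ hc ha₁ ha₂ ha₃ rfl hk12 hk13 with h | h | h
          · exact Or.inl (same hb₁ hb₂ e₁ (h ▸ e₂))
          · exact Or.inr (Or.inl (same hb₁ hb₃ e₁ (h ▸ e₃)))
          · exact Or.inr (Or.inr (same hb₂ hb₃ e₂ (h ▸ e₃))))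
      rw [h1, orderOf_one] at hord
      exact hq.ne_one hord.symm
    intro a
    have h2 := Nat.eq_prime_pow_of_unique_prime_dvd (p := 2)
      (Nat.card_pos (α := Au)).ne' fun {q} hq hqd => hall q hq hqd
    exact ⟨_, orderOf_dvd_iff_pow_eq_one.1 (h2 ▸ orderOf_dvd_natCard a)⟩

end Cfsg.Agent.Lib.Fusion.Mathieu
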