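import Cfsg.Agent.Lib.Fusion.MetaTwoGroup
import Cfsg.Agent.Lib.Fusion.Chain

/-!
Strongly closed metacyclic 2-subgroups.
-/

set_option autoImplicit false

namespace Cfsg.Agent.Lib.Fusion

open Cfsg Cfsg.FusionSystem
open scoped commutatorElement

variable {Ω : Type*} [Group Ω] {S : Subgroup Ω} {F : FusionSystem S}

theorem restrictAut_exists {R : Type*} [Group R] (M : Subgroup R) {α : MulAut R}
    (h : ∀ (k : ℕ) (x : R), x ∈ M → (α ^ k) x ∈ M) [Finite R] :
    ∃ β : MulAut M, (∀ q : M, (β q : R) = α q) ∧ ∀ k : ℕ, α ^ k = 1 → β ^ k = 1 := by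
  have hM : M.map α.toMonoidHom = M := by
    refine Subgroup.eq_of_le_of_card_ge ?_ (Subgroup.card_map_of_injective α.injective).ge
    rintro _ ⟨x, hx, rfl⟩
    have := h 1 x hx
    rwa [pow_one] at this
  let β : MulAut M := (α.subgroupMap M).trans (MulEquiv.subgroupCongr hM)
  have hk : ∀ (k : ℕ) (q : M), ((β ^ k) q : R) = (α ^ k) q := by
    intro k
    induction k with
    | zero => intro q; rfl
    | succ k ih =>
      intro q
      rw [pow_succ', pow_succ', MulAut.mul_apply, MulAut.mul_apply, ← ih q]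
      rfl
  refine ⟨β, fun q => rfl, fun k hα => MulEquiv.ext fun q => Subtype.ext ?_⟩
  rw [hk, hα]
  rfl

theorem exists_odd_of_not_isPGroup {A : Type*} [Group A] [Finite A] (h : ¬ IsPGroup 2 A) :
    ∃ (α : A) (m : ℕ), Odd m ∧ α ^ m = 1 ∧ α ≠ 1 := by
  by_contra hne
  simp only [not_exists, not_and, not_not] at hne
  refine h fun g => ?_
  obtain ⟨k, m, hm, hkm⟩ := Nat.exists_eq_pow_mul_and_not_dvd (orderOf_pos g).ne' 2 (by norm_num)
  refine ⟨k, hne _ m (Nat.odd_iff.2 (Nat.two_dvd_ne_zero.1 hm)) ?_⟩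
  rw [← pow_mul, ← hkm, pow_orderOf_eq_one]

/-- Elements of a strongly closed metacyclic 2-subgroup normalizing a centric radical subgroup
lie in it, outside the exceptional cases. -/
theorem mem_radical_of_metacyclic [Finite S] (hS : IsPGroup 2 S) {P R : Subgroup Ω}
    (hP : F.StronglyClosed P) (hm : Cfsg.IsMetacyclic P) (hne : ¬ MetaTwo.Exceptional P)
    (hc : F.IsCentric R) (hr : F.IsRadical 2 R) {g : Ω} (hg : g ∈ P)
    (hgN : g ∈ Subgroup.normalizer (R : Set Ω)) : g ∈ R := by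
  classical
  have : Fact (Nat.Prime 2) := ⟨Nat.prime_two⟩
  by_contra hgR
  have hRS := hc.1
  have := finite_of_le hP.1
  have := finite_of_le hRS
  have := finite_mulAut hRS
  have hPp := hS.to_le hP.1
  have hRp := hS.to_le hRS
  obtain ⟨x, hxP, hxN, hxR, hx2⟩ : ∃ x, x ∈ P ∧ x ∈ Subgroup.normalizer (R : Set Ω) ∧ x ∉ R ∧
      x * x ∈ R := by
    obtain ⟨k, hk⟩ := hPp ⟨g, hg⟩
    have hex : ∃ j, g ^ 2 ^ j ∈ R := by
      have h1 : g ^ 2 ^ k = 1 := congrArg Subtype.val hk
      exact ⟨k, by rw [h1]; exact one_mem _⟩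
    have h0 : Nat.find hex ≠ 0 := fun h0 => hgR (by
      have := Nat.find_spec hex
      rwa [h0, pow_zero, pow_one] at this)
    obtain ⟨j, hj⟩ : ∃ j, Nat.find hex = j + 1 := ⟨Nat.find hex - 1, by omega⟩
    refine ⟨g ^ 2 ^ j, pow_mem hg _, pow_mem hgN _, Nat.find_min hex (by omega), ?_⟩
    rw [← pow_add, ← two_mul, ← pow_succ', ← hj]
    exact Nat.find_spec hex
  let Q : Subgroup R := P.subgroupOf R
  let A := F.autGroup R
  have hinv : ∀ α ∈ A, ∀ q ∈ Q, α q ∈ Q := fun α hα q hq =>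
    map_mem_of_stronglyClosed hP ((mem_autGroup hRS).1 hα) q hq
  let M : Submonoid A :=
    { carrier := {α | ∀ r : R, (α : MulAut R) r * r⁻¹ ∈ Q}
      one_mem' := fun r => by simp
      mul_mem' := by
        intro α β hα hβ r
        have h1 := Q.mul_mem (hinv α α.2 _ (hβ r)) (hα r)
        simpa [mul_assoc] using h1 }
  let K : Subgroup A :=
    { M with
      inv_mem' := fun {α} hα => by
        rw [show α⁻¹ = α ^ (orderOf α - 1) by
          rw [eq_comm, ← mul_eq_one_iff_eq_inv, ← pow_succ,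
            Nat.sub_add_cancel (orderOf_pos α), pow_orderOf_eq_one]]
        exact M.pow_mem hα _ }
  have hKn : K.Normal := ⟨fun α hα γ r => by
    have h1 := hinv γ γ.2 _ (hα ((γ : MulAut R)⁻¹ r))
    simpa using h1⟩
  have hxA : conjAut R hxN ∈ A :=
    autInducedBy_le_autGroup hRS (conjAut_mem_autInducedBy (hP.1 hxP) hxN)
  have hxK : (⟨conjAut R hxN, hxA⟩ : A) ∈ K := fun r => by
    rw [Subgroup.mem_subgroupOf]
    show x * r * x⁻¹ * (r : Ω)⁻¹ ∈ P
    exact commutator_mem_of_normalizes hxP (le_normalizer_of_stronglyClosed hP (hRS r.2))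
  have hfinish : ∀ L : Subgroup A, L.Normal → IsPGroup 2 L → (⟨_, hxA⟩ : A) ∉ L :=
    fun L hL hLp hxL => hxR (mem_of_induced_inn (hc.2 R (isConj_refl hRS)) hRS ⟨hP.1 hxP, hxN⟩
      (mem_inn_of_radical hr hL hLp hxL))
  have hodd : ∀ α : A, α ∈ K → ∀ m : ℕ, Odd m → α ^ m = 1 → α ≠ 1 →
      ∃ β : MulAut Q, (∀ q : Q, (β q : R) = (α : MulAut R) q) ∧ β ^ m = 1 ∧ β ≠ 1 := by
    intro α hα m hm hαm hα1
    obtain ⟨β, hβ, hβk⟩ := restrictAut_exists Q (α := (α : MulAut R)) fun k q hq =>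
      hinv _ (A.pow_mem α.2 k) q hq
    refine ⟨β, hβ, hβk m (by rw [← SubmonoidClass.coe_pow, hαm, OneMemClass.coe_one]), fun hβ1 => hα1 ?_⟩
    let D : ℕ → Subgroup R := fun i => if i = 0 then ⊥ else if i = 1 then Q else ⊤
    obtain ⟨L, -, hLp, hLmem⟩ := chainStabilizer (p := 2) A 2 D rfl rfl
      (fun γ hγ i r hr => by
        simp only [D] at hr ⊢
        split_ifs at hr ⊢
        · rw [Subgroup.mem_bot] at hr ⊢; rw [hr, map_one]
        · exact hinv γ hγ r hr
        · exact Subgroup.mem_top _) hRp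
    have hαL : α ∈ L := (hLmem α).2 fun i hi r hr => by
      rcases show i = 0 ∨ i = 1 by omega with rfl | rfl
      · simp only [D, zero_add, one_ne_zero, if_false, if_true] at hr ⊢
        have h2 := hβ ⟨r, hr⟩
        rw [hβ1] at h2
        rw [← h2, Subgroup.mem_bot]
        simp
      · simpa [D] using hα r
    obtain ⟨k, hk⟩ := hLp ⟨α, hαL⟩
    exact eq_one_of_pGroup_coprime ⟨k, congrArg Subtype.val hk⟩ hαm (Nat.coprime_two_right.2 hm)
  obtain ⟨α, m, hm2, hαm, hα1⟩ := exists_odd_of_not_isPGroup fun hKp => hfinish K hKn hKp hxK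
  obtain ⟨β, -, hβm, hβ1⟩ := hodd α α.2 m hm2 (congrArg Subtype.val hαm)
    fun h => hα1 (Subtype.ext h)
  let toP : Q →* P := ((R.subtype.comp Q.subtype).codRestrict P fun q => q.2)
  have htoP : Function.Injective toP := fun u v h =>
    Subtype.ext (Subtype.ext (congrArg Subtype.val h :))
  obtain ⟨a, b, hab⟩ := MetaTwo.exists_pair hm
  let Qp : Subgroup P := toP.range
  let e : Qp ≃* Q := (MonoidHom.ofInjective htoP).symm
  obtain ⟨a', b', hab'⟩ := MetaTwo.exists_pair (Metacyclic.isMetacyclic_subgroup hm Qp)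
  have habQ := hab'.map e.toMonoidHom e.surjective
  have hQp : IsPGroup 2 Q := hRp.to_subgroup _
  by_cases hcomm : ∀ u v : Q, u * v = v * u
  swap
  · simp only [not_forall] at hcomm
    obtain ⟨u, v, huv⟩ := hcomm
    obtain ⟨s, t, ht, ht4, hst, hconj⟩ :=
      MetaTwo.quaternion_of_nonabelian hQp habQ hm2 hβm hβ1 huv
    refine hne (MetaTwo.exceptional_of_quaternion hPp hab (x := toP s) (y := toP t) ?_ ?_ ?_ ?_)
    · exact fun h => ht (htoP (by rw [map_mul, map_one, h]))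
    · rw [← map_mul, ← map_mul, ht4, map_one]
    · rw [← map_mul, ← map_mul, hst]
    · rw [← map_inv, ← map_mul, ← map_mul, hconj, map_inv]
  obtain ⟨n, hexp, hhom⟩ := MetaTwo.exists_exponent_facts hQp habQ hcomm hm2 hβm hβ1
  have hxQ : ∀ q : Q, ∃ q' : Q, ((q' : R) : Ω) = x * ((q : R) : Ω) * x⁻¹ := fun q =>
    ⟨⟨conjAut R hxN q, hinv _ hxA q q.2⟩, rfl⟩
  have hsquare : ¬ ∀ q : Q, ∃ w : Q,
      x * ((q : R) : Ω) * x⁻¹ * ((q : R) : Ω)⁻¹ = ((w * w : Q) : R) := by
    intro hsq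
    let M₂ : Submonoid A :=
      { carrier := {γ | γ ∈ K ∧ ∀ q : Q, ∃ w : Q, (γ : MulAut R) q * (q : R)⁻¹ = ((w * w : Q) : R)}
        one_mem' := ⟨one_mem _, fun q => ⟨1, by simp⟩⟩
        mul_mem' := by
          rintro γ δ ⟨hγ, hγ'⟩ ⟨hδ, hδ'⟩
          refine ⟨mul_mem hγ hδ, fun q => ?_⟩
          obtain ⟨w, hw⟩ := hδ' q
          obtain ⟨v, hv⟩ := hγ' q
          refine ⟨⟨(γ : MulAut R) w, hinv γ γ.2 w w.2⟩ * v, ?_⟩
          have h3 : (γ : MulAut R) ((δ : MulAut R) q) * (q : R)⁻¹ =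
              (γ : MulAut R) ((δ : MulAut R) q * (q : R)⁻¹) * ((γ : MulAut R) q * (q : R)⁻¹) := by
            simp [mul_assoc]
          rw [Subgroup.coe_mul, MulAut.mul_apply, h3, hw, hv]
          set w' : Q := ⟨(γ : MulAut R) w, hinv γ γ.2 w w.2⟩
          rw [show w' * v * (w' * v) = w' * w' * (v * v) by
            rw [mul_assoc, ← mul_assoc v, hcomm v w', mul_assoc, ← mul_assoc w']]
          simp [w'] }
    let K₂ : Subgroup A :=
      { M₂ with
        inv_mem' := fun {γ} hγ => by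
          rw [show γ⁻¹ = γ ^ (orderOf γ - 1) by
            rw [eq_comm, ← mul_eq_one_iff_eq_inv, ← pow_succ,
              Nat.sub_add_cancel (orderOf_pos γ), pow_orderOf_eq_one]]
          exact M₂.pow_mem hγ _ }
    refine hfinish K₂ ⟨fun γ hγ δ => ⟨hKn.conj_mem γ hγ.1 δ, fun q => ?_⟩⟩ ?_
      ⟨hxK, fun q => ?_⟩
    · obtain ⟨w, hw⟩ := hγ.2 ⟨((δ : MulAut R))⁻¹ q, hinv _ (A.inv_mem δ.2) q q.2⟩
      refine ⟨⟨(δ : MulAut R) w, hinv δ δ.2 w w.2⟩, ?_⟩
      have h4 := congrArg (δ : MulAut R) hw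
      simp only [map_mul, map_inv, Subgroup.coe_mul, MulAut.apply_inv_self] at h4
      simpa using h4
    · by_contra hnp
      obtain ⟨γ, k, hk, hγk, hγ1⟩ := exists_odd_of_not_isPGroup hnp
      obtain ⟨η, hη, hηk, hη1⟩ := hodd γ γ.2.1 k hk (congrArg Subtype.val hγk)
        fun h => hγ1 (Subtype.ext h)
      refine hη1 (MetaTwo.aut_eq_one_of_trivial_mod_frattini hQp (Nat.coprime_two_right.2 hk) hηk
        fun q => ?_)
      obtain ⟨w, hw⟩ := γ.2.2 q
      rw [show η q * q⁻¹ = w ^ 2 from Subtype.ext (by rw [pow_two]; simp only [Subgroup.coe_mul, InvMemClass.coe_inv, hη]; exact hw)]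
      exact PGroupFrattini.pow_mem_frattini hQp w
    · obtain ⟨w, hw⟩ := hsq q
      exact ⟨w, Subtype.ext hw⟩
  rcases Nat.eq_zero_or_pos n with rfl | hn
  · have hsq1 : ∀ q : Q, q * q = 1 := fun q => by
      have := hexp q
      rwa [zero_add, pow_one, pow_two] at this
    simp only [not_forall, not_exists] at hsquare
    obtain ⟨q, hq⟩ := hsquare
    obtain ⟨q', hq'⟩ := hxQ q
    let X : P := ⟨x, hxP⟩
    have hqq' : q' ≠ q := fun h => hq 1 (by
      rw [← hq', h, mul_inv_cancel]; simp)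
    have hXq : X * toP q * X⁻¹ = toP q' := Subtype.ext hq'.symm
    have hne' : X * toP q ≠ toP q * X := fun h => hqq' (htoP (by
      rw [← hXq, h, mul_inv_cancel_right]))
    have hq2 : toP q * toP q = 1 := by rw [← map_mul, hsq1, map_one]
    by_cases hX2 : X * X = 1
    · exact hne (MetaTwo.exceptional_of_involutions hPp hab hX2 hq2 hne')
    let w : Q := ⟨⟨x * x, hx2⟩, mul_mem hxP hxP⟩
    have hw : toP w = X * X := rfl
    have hww : X * X * toP q = toP q * (X * X) := by rw [← hw, ← map_mul, ← map_mul, hcomm]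
    have hXq' : X * toP q' * X⁻¹ = toP q := by
      rw [← hXq, show X * (X * toP q * X⁻¹) * X⁻¹ = X * X * toP q * (X * X)⁻¹ by group, hww,
        mul_inv_cancel_right]
    have hw1 : w ≠ 1 := fun h => hX2 (by rw [← hw, h, map_one])
    have hXw : X * toP w * X⁻¹ = toP w := by rw [hw]; group
    have hXe : X * toP (q' * q) * X⁻¹ = toP (q' * q) := by
      rw [map_mul, show X * (toP q' * toP q) * X⁻¹ = X * toP q' * X⁻¹ * (X * toP q * X⁻¹) by group,
        hXq', hXq, ← map_mul, ← map_mul, hcomm]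
    have hq1 : q ≠ 1 := fun h => hne' (by rw [h, map_one, mul_one, one_mul])
    have hq'1 : q' ≠ 1 := fun h => hq1 (htoP (by
      rw [← hXq', h, map_one]; simp))
    have he1 : q' * q ≠ 1 := fun h => hqq' ((eq_inv_of_mul_eq_one_left h).trans
      (inv_eq_of_mul_eq_one_right (hsq1 q)))
    have hew : q' * q = w := by
      by_contra hcon
      have hfr : frattini Q ≤ ⊥ := PGroupFrattini.frattini_le Nat.prime_two _
        (Subgroup.commutator_le.2 fun u _ v _ => Subgroup.mem_bot.2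
          (commutatorElement_eq_one_iff_mul_comm.2 (hcomm u v)))
        fun u => Subgroup.mem_bot.2 (by rw [pow_two]; exact hsq1 u)
      have hcard := MetaTwo.card_quotient_frattini_le hQp habQ
      have hcard4 : Nat.card Q ≤ 4 := by
        have e := Subgroup.card_eq_card_quotient_mul_card_subgroup (frattini Q)
        rw [show Nat.card (frattini Q) = 1 from Subgroup.card_eq_one.2 (le_bot_iff.1 hfr),
          mul_one] at e
        omega
      have := Fintype.ofFinite Q
      rw [Nat.card_eq_fintype_card] at hcard4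
      have h5 := (Finset.card_le_univ ({1, q, q', q' * q, w} : Finset Q)).trans hcard4
      rw [Finset.card_insert_of_notMem, Finset.card_insert_of_notMem, Finset.card_insert_of_notMem,
        Finset.card_pair] at h5
      · omega
      · exact hcon
      · simp only [Finset.mem_insert, Finset.mem_singleton, not_or]
        exact ⟨fun h => hq1 (mul_eq_left.1 h.symm),
          fun h => hqq' (htoP (((hXq'.symm.trans ((congrArg (fun t => X * toP t * X⁻¹) h).trans
            hXw)).trans (congrArg toP h).symm).symm))⟩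
      · simp only [Finset.mem_insert, Finset.mem_singleton, not_or]
        exact ⟨fun h => hqq' h.symm, fun h => hq'1 (mul_eq_right.1 h.symm),
          fun h => hqq' (htoP (by rw [← hXq, h, hXw]))⟩
      · simp only [Finset.mem_insert, Finset.mem_singleton, not_or]
        exact ⟨fun h => hq1 h.symm, fun h => hq'1 h.symm, fun h => he1 h.symm, fun h => hw1 h.symm⟩
    refine hne (MetaTwo.exceptional_of_involutions hPp hab (t := X * toP q) (u := toP q) ?_ hq2 ?_)
    · rw [show X * toP q * (X * toP q) = X * toP q * X⁻¹ * (X * X) * toP q by group, hXq, ← hw,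
        ← map_mul, ← map_mul, mul_assoc, hcomm w q, ← mul_assoc, hew, hsq1, map_one]
    · intro h
      rw [mul_assoc, hq2, mul_one, ← mul_assoc] at h
      exact hne' (by rw [← mul_left_inj (toP q), h.symm]; simp [mul_assoc, hq2] at h ⊢)
  · refine hsquare fun q => ?_
    obtain ⟨w, ⟨w', rfl⟩, hw⟩ := MetaTwo.commutator_square hPp hab toP.range
      (by rintro _ ⟨u, rfl⟩ _ ⟨v, rfl⟩; rw [← map_mul, ← map_mul, hcomm]) hn
      (by rintro _ ⟨u, rfl⟩; rw [← map_pow, hexp, map_one])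
      (by
        rintro _ ⟨u, rfl⟩
        obtain ⟨v, hv⟩ := hhom u
        refine ⟨toP v, ⟨v, rfl⟩, fun h => hv ?_⟩
        obtain ⟨k, hk⟩ := Subgroup.mem_zpowers_iff.1 h
        exact Subgroup.mem_zpowers_iff.2 ⟨k, htoP (by simpa [map_zpow] using hk)⟩)
      (x := ⟨x, hxP⟩)
      (by rintro _ ⟨u, rfl⟩; obtain ⟨u', hu'⟩ := hxQ u; exact ⟨u', Subtype.ext hu'⟩)
      ⟨⟨⟨x * x, hx2⟩, mul_mem hxP hxP⟩, rfl⟩
      (by rintro ⟨u, hu⟩; exact hxR ((congrArg (· ∈ R) (congrArg Subtype.val hu)).mp (u : R).2))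
      (q := toP q) ⟨q, rfl⟩
    refine ⟨w', ?_⟩
    exact congrArg Subtype.val hw

/-- A strongly closed metacyclic 2-subgroup not of maximal class type is normal. -/
theorem isNormal_of_metacyclic [Finite S] (hS : IsPGroup 2 S) (hF : F.IsSaturated 2)
    {P : Subgroup Ω} (hP : F.StronglyClosed P) (hm : Cfsg.IsMetacyclic P)
    (hne : ¬ MetaTwo.Exceptional P) : F.IsNormal P := by
  have : Fact (Nat.Prime 2) := ⟨Nat.prime_two⟩
  exact isNormal_of_le_radical hS hF hP fun R hc hr _ =>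
    le_of_centric_radical_aux hS hc.1 hP.1 (hc.1.trans (le_normalizer_of_stronglyClosed hP))
      fun g hg hgN => mem_radical_of_metacyclic hS hP hm hne hc hr hg hgN

/-- The automorphism group of a metacyclic 2-group that is neither homocyclic nor exceptional is
a 2-group. -/
theorem isPGroup_mulAut_of_metacyclic {X : Type*} [Group X] [Finite X] (hX : IsPGroup 2 X)
    (hm : Cfsg.IsMetacyclic X) (hne : ¬ MetaTwo.Exceptional X)
    (hh : ¬ ∃ n k : ℕ, Nonempty (X ≃* Multiplicative (Fin k → ZMod (2 ^ n)))) :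
    IsPGroup 2 (MulAut X) := by
  classical
  have : Fact (Nat.Prime 2) := ⟨Nat.prime_two⟩
  have : Finite (MulAut X) := Finite.of_injective (fun f : MulAut X => (f : X → X))
    DFunLike.coe_injective
  by_contra hnp
  obtain ⟨α, m, hm2, hαm, hα⟩ := exists_odd_of_not_isPGroup hnp
  obtain ⟨a, b, hab⟩ := MetaTwo.exists_pair hm
  by_cases hcomm : ∀ u v : X, u * v = v * u
  swap
  · simp only [not_forall] at hcomm
    obtain ⟨u, v, huv⟩ := hcomm
    obtain ⟨s, t, ht, ht4, hst, hconj⟩ := MetaTwo.quaternion_of_nonabelian hX hab hm2 hαm hα huv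
    exact hne (MetaTwo.exceptional_of_quaternion hX hab ht ht4 hst hconj)
  obtain ⟨n, hexp, hhom⟩ := MetaTwo.exists_exponent_facts hX hab hcomm hm2 hαm hα
  have hE : ∀ (u : X) (i : ℤ), (u ^ i) ^ 2 ^ n = (u ^ 2 ^ n) ^ i := fun u i => by
    rw [← zpow_natCast, ← zpow_natCast u, ← zpow_mul, ← zpow_mul, mul_comm]
  have hπ : ∀ i j : ℤ, (a ^ i * b ^ j) ^ 2 ^ n = (a ^ 2 ^ n) ^ i * (b ^ 2 ^ n) ^ j := fun i j => by
    rw [(show Commute (a ^ i) (b ^ j) from hcomm _ _).mul_pow, hE, hE]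
  have hb0 : a ^ 2 ^ n ∉ Subgroup.zpowers (b ^ 2 ^ n) := fun h => by
    obtain ⟨q, hq⟩ := hhom b
    obtain ⟨i, j, rfl⟩ := hab.2 q
    rw [hπ] at hq
    exact hq (mul_mem (zpow_mem h i) (zpow_mem (Subgroup.mem_zpowers _) j))
  have hb1 : b ^ 2 ^ n ≠ 1 := fun h => by
    obtain ⟨q, hq⟩ := hhom a
    obtain ⟨i, j, rfl⟩ := hab.2 q
    rw [hπ, h, one_zpow, mul_one] at hq
    exact hq (zpow_mem (Subgroup.mem_zpowers _) i)
  have ha1 : a ^ 2 ^ n ≠ 1 := fun h => hb0 (h ▸ one_mem _)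
  have hoa : orderOf a = 2 ^ (n + 1) := orderOf_eq_prime_pow ha1 (hexp a)
  have hob : orderOf b = 2 ^ (n + 1) := orderOf_eq_prime_pow hb1 (hexp b)
  set N := 2 ^ (n + 1)
  have : NeZero N := ⟨by positivity⟩
  let e : ∀ u : X, u ^ N = 1 → ZMod N → X := fun u _ i => u ^ i.val
  let f : Multiplicative (Fin 2 → ZMod N) →* X := MonoidHom.mk'
    (fun v => a ^ (v.toAdd 0).val * b ^ (v.toAdd 1).val) fun v w => by
      simp only [toAdd_mul, Pi.add_apply, ZMod.val_add]
      rw [← pow_eq_pow_mod _ (hexp a), ← pow_eq_pow_mod _ (hexp b), pow_add, pow_add]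
      rw [mul_assoc, ← mul_assoc (a ^ (w.toAdd 0).val), hcomm (a ^ (w.toAdd 0).val), mul_assoc,
        ← mul_assoc]
  refine hh ⟨n + 1, 2, ⟨(MulEquiv.ofBijective f ⟨?_, fun x => ?_⟩).symm⟩⟩
  · rw [injective_iff_map_eq_one]
    intro v hv
    have hv' : a ^ (v.toAdd 0).val * b ^ (v.toAdd 1).val = 1 := hv
    have h1 : a ^ (v.toAdd 0).val = 1 := by
      by_contra hne1
      set y := a ^ (v.toAdd 0).val
      have hyb : y ∈ Subgroup.zpowers b := by
        rw [eq_inv_of_mul_eq_one_left hv']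
        exact inv_mem (pow_mem (Subgroup.mem_zpowers b) _)
      obtain ⟨k, hk⟩ := IsPGroup.iff_orderOf.1 hX y
      obtain ⟨k, rfl⟩ : ∃ k', k = k' + 1 := ⟨k - 1, by
        by_contra hk0
        refine hne1 (orderOf_eq_one_iff.1 ?_)
        rw [hk, show k = 0 by omega, pow_zero]⟩
      have hz2 : (y ^ 2 ^ k) ^ 2 = 1 := by rw [← pow_mul, ← pow_succ, ← hk, pow_orderOf_eq_one]
      have hz1 : y ^ 2 ^ k ≠ 1 := fun h => by
        have h' := orderOf_dvd_of_pow_eq_one h
        rw [hk] at h'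
        exact absurd ((Nat.pow_dvd_pow_iff_le_right (by norm_num)).1 h') (by omega)
      have hpi : ∀ u : X, u ^ N = 1 → (u ^ 2 ^ n) ^ 2 = 1 := fun u hu => by
        rw [← pow_mul, ← pow_succ]; exact hu
      rcases MetaTwo.eq_of_sq_eq_one (a := a) (y := a ^ 2 ^ n) (z := y ^ 2 ^ k)
        (pow_mem (Subgroup.mem_zpowers a) _) (pow_mem (pow_mem (Subgroup.mem_zpowers a) _) _)
        (hpi a (hexp a)) hz2 hz1 with h | h
      · exact ha1 h
      rcases MetaTwo.eq_of_sq_eq_one (a := b) (y := b ^ 2 ^ n) (z := y ^ 2 ^ k)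
        (pow_mem (Subgroup.mem_zpowers b) _) (pow_mem hyb _) (hpi b (hexp b)) hz2 hz1 with h' | h'
      · exact hb1 h'
      · exact hb0 ((h.trans h'.symm) ▸ Subgroup.mem_zpowers _)
    rw [h1, one_mul] at hv'
    have hz : ∀ (u : X) (i : ZMod N), orderOf u = N → u ^ i.val = 1 → i = 0 := fun u i hu h => by
      have h' := orderOf_dvd_of_pow_eq_one h
      rw [hu] at h'
      exact (ZMod.val_eq_zero i).1 (Nat.eq_zero_of_dvd_of_lt h' i.val_lt)
    refine Multiplicative.toAdd.injective (funext fun i => ?_)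
    fin_cases i
    · exact hz a _ hoa h1
    · exact hz b _ hob hv'
  · obtain ⟨i, j, rfl⟩ := hab.2 x
    refine ⟨Multiplicative.ofAdd ![(i : ZMod N), (j : ZMod N)], ?_⟩
    have hval : ∀ (u : X) (i : ℤ), orderOf u = N → u ^ (i : ZMod N).val = u ^ i := fun u i hu => by
      rw [← zpow_natCast, ZMod.val_intCast, ← hu, zpow_mod_orderOf]
    show a ^ (i : ZMod N).val * b ^ (j : ZMod N).val = _
    rw [hval a i hoa, hval b j hob]

end Cfsg.Agent.Lib.Fusion
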