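import Cfsg.Agent.Lib.Fusion.Basic
import Mathlib.Algebra.BigOperators.GroupWithZero.Action
import Mathlib.GroupTheory.Sylow
import Mathlib.GroupTheory.GroupAction.Quotient

/-!
The norm map of a group acting on an abelian `p`-group, and the splitting it gives.
-/

set_option autoImplicit false

namespace Cfsg.Agent.Lib.Fusion

open Cfsg

variable {A : Type*} [Group A] [Finite A] {V : Type*} [CommGroup V] {Z : Type*} [CommGroup Z]

/-- The product of the translates of a `T`-fixed element over the cosets of `T`. -/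
theorem exists_norm (φ : A →* MulAut V) (T : Subgroup A) (ι : Z →* V)
    (hT : ∀ t ∈ T, ∀ z, φ t (ι z) = ι z) :
    ∃ N : Z →* V, (∀ a z, φ a (N z) = N z) ∧
      (∀ z, (∀ a, φ a (ι z) = ι z) → N z = ι z ^ T.index) ∧
      (∀ (M : Subgroup V), (∀ a z, (ι z)⁻¹ * φ a (ι z) ∈ M) → ∀ z, (ι z ^ T.index)⁻¹ * N z ∈ M) ∧
      ∀ (a : A) z w, T = ⊥ → ι w = φ a (ι z) → N w = N z := by
  classical
  have := Fintype.ofFinite (A ⧸ T)
  have hind : T.index = Fintype.card (A ⧸ T) := by
    rw [Subgroup.index, Nat.card_eq_fintype_card]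
  let N : Z →* V := MonoidHom.mk' (fun z => ∏ c : A ⧸ T, φ c.out (ι z)) fun u v => by
    rw [← Finset.prod_mul_distrib]
    exact Finset.prod_congr rfl fun c _ => by rw [map_mul, map_mul]
  have hN : ∀ z, N z = ∏ c : A ⧸ T, φ c.out (ι z) := fun _ => rfl
  refine ⟨N, fun a z => ?_, fun z hz => ?_, fun M hM z => ?_, fun a z w hb hw => ?_⟩
  · rw [hN, map_prod]
    refine Fintype.prod_equiv (MulAction.toPerm a) _ _ fun c => ?_
    rw [MulAction.toPerm_apply, ← MulAut.mul_apply, ← map_mul]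
    have hmk : ((a * c.out : A) : A ⧸ T) = a • c := by
      rw [← smul_eq_mul, ← MulAction.Quotient.smul_mk, QuotientGroup.out_eq']
    obtain ⟨⟨t, ht⟩, htt⟩ := QuotientGroup.mk_out_eq_mul T (a * c.out)
    rw [hmk] at htt
    rw [htt, map_mul φ (a * c.out) t, MulAut.mul_apply, hT t ht]
  · rw [hN, hind, ← Finset.card_univ, ← Finset.prod_const]
    exact Finset.prod_congr rfl fun c _ => hz _
  · rw [hN, hind, ← Finset.card_univ, ← Finset.prod_const, ← Finset.prod_inv_distrib,
      ← Finset.prod_mul_distrib]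
    exact M.prod_mem fun c _ => hM _ z
  · subst hb
    rw [hN, hN, hw]
    simp only [← MulAut.mul_apply, ← map_mul]
    refine Fintype.prod_bijective (fun c => ((c.out * a : A) : A ⧸ (⊥ : Subgroup A))) ?_ _ _ fun c => ?_
    · refine (Finite.injective_iff_bijective).1 fun c d h => ?_
      have h1 : (c.out * a)⁻¹ * (d.out * a) ∈ (⊥ : Subgroup A) := QuotientGroup.eq.1 h
      rw [Subgroup.mem_bot, inv_mul_eq_one] at h1
      rw [← QuotientGroup.out_eq' c, ← QuotientGroup.out_eq' d, mul_right_cancel h1]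
    · obtain ⟨⟨t, ht⟩, htt⟩ := QuotientGroup.mk_out_eq_mul (⊥ : Subgroup A) (c.out * a)
      rw [Subgroup.mem_bot] at ht
      rw [htt]
      simp [ht]

/-- In a finite `p`-group, `z ↦ z ^ m` is bijective on every subgroup for `m` prime to `p`. -/
theorem exists_pow_root [Finite Z] {p m : ℕ} [Fact p.Prime] (hZ : IsPGroup p Z) (hm : ¬ p ∣ m)
    (C : Subgroup Z) {w : Z} (hw : w ∈ C) : ∃ c ∈ C, c ^ m = w := by
  have h : Nat.Coprime p m := (Fact.out : p.Prime).coprime_iff_not_dvd.2 hm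
  obtain ⟨c, hc⟩ := ((hZ.to_subgroup C).powEquiv h).surjective ⟨w, hw⟩
  exact ⟨c, c.2, congrArg Subtype.val hc⟩

end Cfsg.Agent.Lib.Fusion
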