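import Cfsg.Agent.Lib.LocalP2.FusionZJ
import Cfsg.Agent.Lib.Fusion.Focal
import Cfsg.Agent.Lib.Fusion.Solvable

/-!
For odd primes a non-inner system contains a constrained non-inner one over the same group.
-/

set_option autoImplicit false

namespace Cfsg.Agent.Lib.Fusion

open Cfsg Cfsg.FusionSystem
open scoped commutatorElement

universe u

variable {Ω : Type u} [Group Ω] {S : Subgroup Ω} {F : FusionSystem S} {p : ℕ}

theorem eq_one_of_shift {X : Type*} [Group X] [Fact p.Prime] (hX : IsPGroup p X) {β : MulAut X}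
    {x q : X} (hq : β q = q) (hx : β x = x * q) (hcop : (orderOf β).Coprime p) : q = 1 := by
  have hpow : ∀ k : ℕ, (β ^ k) x = x * q ^ k := by
    intro k
    induction k with
    | zero => simp
    | succ k ih =>
      rw [pow_succ', MulAut.mul_apply, ih, map_mul, map_pow, hq, hx, pow_succ', mul_assoc]
  have h1 := hpow (orderOf β)
  rw [pow_orderOf_eq_one, MulAut.one_apply, left_eq_mul] at h1
  exact eq_one_of_pGroup_coprime (hX q) h1 hcop

/-- A system whose normal subgroup has inner automizer and whose factor system is inner, is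
inner. -/
theorem eq_inner_of_factor_inner [Finite S] [Fact p.Prime] (hS : IsPGroup p S)
    (hF : F.IsSaturated p) {Q : Subgroup Ω} (hQ : F.IsNormal Q)
    (haut : ∀ α ∈ F.autGroup Q, ∃ s ∈ S, ∀ x : Q, ((α x : Q) : Ω) = s * (x : Ω) * s⁻¹)
    {Ω' : Type*} [Group Ω'] {S' : Subgroup Ω'} {θ : S →* Ω'} {D : FusionSystem S'}
    (hD : F.IsFactorSystem Q θ D) (hinner : D ≤ innerFusionSystem S') (P : Subgroup Ω) :
    F.Hom P = (innerFusionSystem S).Hom P := by
  have hQsc := stronglyClosed_of_isNormal hQ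
  have hmor := (isSurjectiveMorphism_of_factor hS hF hQsc hD).1
  obtain ⟨-, hker, hrange, -⟩ := id hD
  have hQauto : IsPGroup p (F.autGroup Q) := by
    refine (isPGroup_autInducedBy hS Q).to_le fun α hα => ?_
    obtain ⟨s, hs, hsx⟩ := haut α hα
    exact mem_autInducedBy.2 ⟨s, hs, hsx⟩
  refine eq_inner_of_coprime_trivial hS hF (fun R hR α hα hcop => ?_) P
  have hX : R ⊔ Q ≤ S := sup_le hR hQ.1
  have := finite_mulAut hX
  have : Finite ↥(R ⊔ Q) := finite_of_le hX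
  have := finite_of_le hQ.1
  obtain ⟨ψ, hψ, hψR, κ, -, hψQ⟩ := isNormal_aut hQ ((mem_autGroup hR).1 hα)
  obtain ⟨β, hβ, hβe⟩ := exists_aut_of_self_map hψ (sup_map_le
    (fun x => Subgroup.mem_sup_left ((hψR x).symm ▸ (α x).2))
    (fun x => Subgroup.mem_sup_right ((hψQ x).symm ▸ (κ x).2)))
  have hres : ∀ x : R, ((α x : R) : Ω) = (β ⟨x, Subgroup.mem_sup_left x.2⟩ : Ω) := fun x =>
    (hψR x).symm.trans (hβe _).symm
  obtain ⟨N, hN, hN1⟩ := exists_pPrime_exponent β hcop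
  set γ := β ^ N
  have hγ : γ ∈ F.autGroup (R ⊔ Q) := pow_mem hβ N
  have hγα : ∀ x : R, ((α x : R) : Ω) = (γ ⟨x, Subgroup.mem_sup_left x.2⟩ : Ω) := fun x => by
    rw [← pow_apply_eq le_sup_left hres N x, pow_eq_self_of_modEq hN1]
  have hγ' := (mem_autGroup hX).1 hγ
  have hγQ : ∀ q : Q, (γ ⟨q, Subgroup.mem_sup_right q.2⟩ : Ω) = q := by
    intro q
    obtain ⟨ε, hε, hεe⟩ := exists_aut_of_self_map
      (restrict_mem (le_sup_right : Q ≤ R ⊔ Q) hγ') fun v =>
        map_mem_of_normal hQ hγ' ⟨v, Subgroup.mem_sup_right v.2⟩ v.2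
    have h1 : ∀ v : Q, ((ε v : Q) : Ω) = (γ ⟨v, Subgroup.mem_sup_right v.2⟩ : Ω) := hεe
    have h2 := restrict_pow_eq le_sup_right h1 (pow_orderOf_eq_one γ)
    obtain ⟨k, hk⟩ := hQauto ⟨ε, hε⟩
    have h3 : ε = 1 := eq_one_of_pGroup_coprime ⟨k, congrArg Subtype.val hk⟩ h2 hN
    rw [← h1, h3]
    rfl
  obtain ⟨φ', hφ', h₁, h₂, h₃, he⟩ := hmor.2 _ _ hγ'
  obtain ⟨-, g', hg', hge⟩ := hinner _ hφ'
  obtain ⟨g, rfl⟩ := hrange.ge hg'
  have hmod : ∀ (j : ℕ) (x : ↥(R ⊔ Q)),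
      θ ⟨((γ ^ j) x : ↥(R ⊔ Q)), hX ((γ ^ j) x).2⟩ = (θ g) ^ j * θ ⟨x, hX x.2⟩ * ((θ g) ^ j)⁻¹ := by
    intro j
    induction j with
    | zero => intro x; simp
    | succ j ih =>
      intro x
      have h1 := he ((γ ^ j) x)
      rw [hge] at h1
      have h2 : θ ⟨((γ ^ (j + 1)) x : ↥(R ⊔ Q)), hX ((γ ^ (j + 1)) x).2⟩ =
          θ g * θ ⟨((γ ^ j) x : ↥(R ⊔ Q)), hX ((γ ^ j) x).2⟩ * (θ g)⁻¹ := by
        refine Eq.trans ?_ h1.symm
        congr 1
        exact Subtype.ext (by rw [pow_succ', MulAut.mul_apply]; rfl)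
      rw [h2, ih, pow_succ']
      group
  have hfixmod : ∀ x : ↥(R ⊔ Q), (x : Ω)⁻¹ * (γ x : Ω) ∈ Q := by
    intro x
    have h1 := hmod (orderOf γ) x
    simp only [pow_orderOf_eq_one, MulAut.one_apply] at h1
    obtain ⟨k, hk⟩ := hS g
    have hgk : (θ g) ^ p ^ k = 1 := by rw [← map_pow, hk, map_one]
    have hc : Commute (θ g ^ orderOf γ) (θ ⟨x, hX x.2⟩) := mul_inv_eq_iff_eq_mul.1 h1.symm
    obtain ⟨m, hm⟩ : ∃ m : ℕ, (θ g ^ orderOf γ) ^ m = θ g :=
      exists_pow_eq_self_of_coprime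
        ((hN.pow_right k).coprime_dvd_right (orderOf_dvd_of_pow_eq_one hgk))
    have hc' := hc.pow_left m
    rw [hm] at hc'
    have h4 := hmod 1 x
    simp only [pow_one] at h4
    rw [hc'.eq, mul_inv_cancel_right] at h4
    have h5 : θ (⟨(x : Ω), hX x.2⟩⁻¹ * ⟨(γ x : Ω), hX (γ x).2⟩) = 1 := by
      rw [map_mul, map_inv, h4, inv_mul_cancel]
    exact (hker _).1 h5
  refine MulEquiv.ext fun x => Subtype.ext ?_
  set x' : ↥(R ⊔ Q) := ⟨x, Subgroup.mem_sup_left x.2⟩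
  set q : ↥(R ⊔ Q) := x'⁻¹ * γ x'
  have hq1 := eq_one_of_shift (hS.to_le hX) (β := γ) (x := x') (q := q)
    (Subtype.ext (hγQ ⟨_, hfixmod x'⟩)) (by simp [q]) hN
  rw [hγα x, ← inv_mul_eq_one.1 hq1]
  rfl

/-- Minimal non-inner systems at odd primes are constrained. -/
theorem isConstrained_of_minimal [Finite S] [Fact p.Prime] (hp : p ≠ 2) (hS : IsPGroup p S)
    (hF : F.IsSaturated p) (hne : ¬ F ≤ innerFusionSystem S)
    (hmin : ∀ E : FusionSystem S, E.IsSaturated p → E ≤ F → ¬ E ≤ innerFusionSystem S → F ≤ E) :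
    F.IsConstrained p := by
  have hloc : ∀ V : Subgroup Ω, V ≤ S → S ≤ Subgroup.normalizer (V : Set Ω) →
      F.IsNormal V ∨ LocalP2.Loc F (innerFusionSystem S) V := by
    intro V hV hn
    have := finite_of_le hV
    let E := extSystem F S V ⊤ le_rfl hV fun g hg => ⟨hn hg, Subgroup.mem_top _⟩
    have hNS : normK S V ⊤ = S := by
      rw [normK_top]
      exact le_antisymm (normalizerIn_le S V) fun g hg => ⟨hg, hn hg⟩
    have hfn : F.IsFullyNormalized V := ⟨hV, fun R _ =>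
      (Subgroup.card_le_of_le (normalizerIn_le S R)).trans (le_of_eq (by
        rw [← normK_top, hNS]))⟩
    have hEs : E.IsSaturated p := kSystem_saturated hS hF hV (kExtends_top hS hF hfn) hNS.symm E
      fun P φ => Iff.rfl
    by_cases hE : E ≤ innerFusionSystem S
    · right
      intro P φ hφ
      obtain ⟨hφF, hP, hφN, hext⟩ := hφ
      exact hE P ⟨hφF, hP.trans (normalizerIn_le S V), fun x => (hφN x).1,
        extendsOver_top_iff.2 hext⟩
    · left
      exact isNormal_iff.2 ⟨hV, fun P φ hφ => (hmin E hEs (fun _ _ h => h.1) hE P hφ).2.2.2⟩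
  set Q := F.core
  have hQ : F.IsNormal Q := isNormal_core
  have hQsc := stronglyClosed_of_isNormal hQ
  have hnQ : S ≤ Subgroup.normalizer (Q : Set Ω) := le_normalizer_of_stronglyClosed hQsc
  have := finite_of_le hQ.1
  have hconj : ∀ R, F.IsConj Q R → R = Q := fun R hR => by
    obtain ⟨e, he⟩ := isConj_iff_iso.1 hR
    refine eq_of_le_of_natCard_le ?_ (Nat.card_congr e.toEquiv).le
    intro r hr
    have := map_mem_of_normal hQ he (e.symm ⟨r, hr⟩) (e.symm ⟨r, hr⟩).2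
    simpa using this
  refine ⟨hF, Q, hQ, hQ.1, fun R hR => ?_⟩
  rw [hconj R hR]
  by_contra hcen
  have hDS : Q ⊔ centralizerIn S Q ≤ S := sup_le hQ.1 (centralizerIn_le S Q)
  have hDn : S ≤ Subgroup.normalizer ((Q ⊔ centralizerIn S Q : Subgroup Ω) : Set Ω) := by
    have hC : S ≤ Subgroup.normalizer ((centralizerIn S Q : Subgroup Ω) : Set Ω) := by
      have := finite_of_le (centralizerIn_le S Q)
      intro g hg
      refine mem_normalizer_of_conj_mem fun c hc => mem_centralizerIn.2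
        ⟨S.mul_mem (S.mul_mem hg (centralizerIn_le S Q hc)) (S.inv_mem hg), fun q hq => ?_⟩
      have h1 := (mem_centralizerIn.1 hc).2 (g⁻¹ * q * g)
        (by simpa using conj_mem_of_mem_normalizer (inv_mem (hnQ hg)) hq)
      calc q * (g * c * g⁻¹) = g * (g⁻¹ * q * g * c) * g⁻¹ := by group
        _ = g * (c * (g⁻¹ * q * g)) * g⁻¹ := by rw [h1]
        _ = g * c * g⁻¹ * q := by group
    exact (le_inf hnQ hC).trans (Subgroup.normalizer_inf_normalizer_le_normalizer_sup _ _)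
  rcases hloc _ hDS hDn with h | hDloc
  · exact hcen (le_sup_right.trans (le_core h))
  have hQN : F.IsFullyNormalized Q := ⟨hQ.1, fun R hR => by rw [hconj R hR]⟩
  have haut := LocalP2.normal_automizer_inner hS hF hQ hQN rfl hDS hDloc
  obtain ⟨hn, D, hD⟩ := exists_mk_factor hQsc
  let θ : S →* S ⧸ Q.subgroupOf S := QuotientGroup.mk' _
  have := finite_of_factor hD
  have hT : IsPGroup p (⊤ : Subgroup (S ⧸ Q.subgroupOf S)) := isPGroup_of_factor hS hD
  have hDsat := saturated_of_factor hS hF hQsc hD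
  set W' := centerThompsonAOf (⊤ : Subgroup (S ⧸ Q.subgroupOf S))
  set W := preimageAlong θ W'
  have hW'top : W' ≤ ⊤ := le_top
  have hnW' : ∀ g, g ∈ Subgroup.normalizer (W' : Set (S ⧸ Q.subgroupOf S)) := fun g =>
    LocalP2.normalizerIn_le_zj (S := (⊤ : Subgroup (S ⧸ Q.subgroupOf S))) le_rfl
      ⟨trivial, Subgroup.le_normalizer (Subgroup.mem_top g)⟩
  have hWS : W ≤ S := preimageAlong_le θ W'
  have hWn : S ≤ Subgroup.normalizer (W : Set Ω) := by
    have := finite_of_le hWS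
    intro g hg
    refine mem_normalizer_of_conj_mem fun x hx => ?_
    obtain ⟨hxS, hxW⟩ := mem_preimageAlong.1 hx
    refine mem_preimageAlong.2 ⟨S.mul_mem (S.mul_mem hg hxS) (S.inv_mem hg), ?_⟩
    have := conj_mem_of_mem_normalizer (hnW' (θ ⟨g, hg⟩)) hxW
    rw [← map_mul, ← map_inv, ← map_mul] at this
    exact this
  rcases hloc W hWS hWn with h | hWloc
  · have hle : W ≤ Q := le_core h
    have hne1 : (⊤ : Subgroup (S ⧸ Q.subgroupOf S)) ≠ ⊥ := by
      intro he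
      refine hcen ((centralizerIn_le S Q).trans fun x hx => ?_)
      exact (hD.2.1 ⟨x, hx⟩).1 (Subgroup.mem_bot.1 (he ▸ Subgroup.mem_top _))
    refine LocalP2.zj_ne_bot hT le_rfl hne1 ((Subgroup.eq_bot_iff_forall _).2 fun y hy => ?_)
    obtain ⟨s, rfl⟩ := QuotientGroup.mk'_surjective _ y
    exact (hD.2.1 s).2 (hle (mem_preimageAlong.2 ⟨s.2, hy⟩))
  refine hne fun P => ?_
  refine (eq_inner_of_factor_inner hS hF hQ haut hD (fun P' => ?_) P).le
  refine (LocalP2.inner_of_zj hp hT hDsat (fun P'' φ'' hφ'' => ?_) P').le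
  obtain ⟨-, hP'', -, ψ', hψ', hψP, hψW⟩ := hφ''
  obtain ⟨-, ψ, hψ, h₁, h₂, h₃, he⟩ := (hD.2.2.2 _ ψ').1 hψ'
  set X := preimageAlong θ (P'' ⊔ W')
  have hXS : X ≤ S := preimageAlong_le θ _
  have hSN : normalizerIn S W = S := le_antisymm (normalizerIn_le S W) fun g hg => ⟨hg, hWn hg⟩
  have hWX : X ⊔ W ≤ X := sup_le le_rfl (Subgroup.map_mono (Subgroup.comap_mono le_sup_right))
  obtain ⟨-, g, hg, hge⟩ := hWloc X (LocalP2.mem_normalizerHom_of_self_map (hXS.trans hSN.ge) hWS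
    hψ (fun x => hSN.ge (val_mem hψ x)) hWX hψ (fun x => rfl) fun v => by
      obtain ⟨hvS, hvW⟩ := mem_preimageAlong.1 v.2
      refine mem_preimageAlong.2 ⟨h₂ _, ?_⟩
      exact hψW.le ⟨⟨θ ⟨(v : Ω), hvS⟩, Subgroup.mem_sup_right hvW⟩, hvW,
        he ⟨v, mem_preimageAlong.2 ⟨hvS, Subgroup.mem_sup_right hvW⟩⟩⟩)
  refine ⟨le_top, θ ⟨g, hg⟩, trivial, fun y => ?_⟩
  obtain ⟨s, hs⟩ := QuotientGroup.mk'_surjective (Q.subgroupOf S) y
  have hsX : (s : Ω) ∈ X :=
    mem_preimageAlong.2 ⟨s.2, Subgroup.mem_sup_left (show θ ⟨(s : Ω), s.2⟩ ∈ P'' from hs.symm ▸ y.2)⟩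
  have h1 := he ⟨s, hsX⟩
  rw [show (⟨_, h₃ ⟨s, hsX⟩⟩ : ↥(P'' ⊔ W')) = Subgroup.inclusion le_sup_left y from
    Subtype.ext hs, hψP] at h1
  rw [h1]
  show θ _ = θ _ * _ * (θ _)⁻¹
  rw [← hs, ← map_mul, ← map_inv, ← map_mul]
  congr 1
  exact Subtype.ext (hge ⟨s, hsX⟩)

/-- Every non-inner system at an odd prime contains a constrained non-inner one over `S`. -/
theorem exists_constrained_noninner [Fact p.Prime] (hp : p ≠ 2) :
    ∀ (n : ℕ) {S : Subgroup Ω} [Finite S] (F : FusionSystem S), (homGraphs F).ncard = n →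
      IsPGroup p S → F.IsSaturated p → ¬ F ≤ innerFusionSystem S →
      ∃ E : FusionSystem S, E ≤ F ∧ E.IsConstrained p ∧ ¬ E ≤ innerFusionSystem S := by
  intro n
  induction n using Nat.strong_induction_on with
  | _ n ih => ?_
  intro S _ F hn hS hF hne
  by_cases h : ∀ E : FusionSystem S, E.IsSaturated p → E ≤ F → ¬ E ≤ innerFusionSystem S → F ≤ E
  · exact ⟨F, fun _ => le_rfl, isConstrained_of_minimal hp hS hF hne h, hne⟩
  · simp only [not_forall] at h
    obtain ⟨E, hE, hEF, hEne, hFE⟩ := h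
    obtain ⟨E', h1, h2, h3⟩ := ih _ (hn ▸ homGraphs_lt hEF hFE) E rfl hS hE hEne
    exact ⟨E', fun P => (h1 P).trans (hEF P), h2, h3⟩

end Cfsg.Agent.Lib.Fusion
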