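import Cfsg.Agent.Lib.FusionTransfer.Orbits
import Cfsg.Agent.Lib.Fusion.Focal
import Cfsg.Agent.Lib.Fusion.Invariant

/-!
The subsystems of `p`-power index. For a homomorphism `χ` of `S` into a group of exponent `p` that is
constant on classes of the system, the group of right equivariant bijections of a stable biset has a
transfer extending `χ`; the maps of the system realized by elements of trivial transfer form a
saturated subsystem over the kernel of `χ`.
-/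

set_option autoImplicit false

namespace Cfsg.Agent.Lib.Fusion.PPowerIndex

open Cfsg Cfsg.FusionSystem
open scoped commutatorElement
open Cfsg.Agent.Lib.FusionTransfer (Pt Orb orb sec exists_right orb_right orb_sec orb_eq right_free
  pair_comm smul_orb isFGraph_stab not_dvd_card_orb exists_twist mem_graphOf isFGraph_graphOf)

universe u v

variable {Ω : Type u} [Group Ω] {S : Subgroup Ω} {F : FusionSystem S} {p : ℕ}
  {A : Type v} [CommGroup A] {χ : S →* A} {m : Subgroup (S × S) → ℕ}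

/-- Bijections of the points commuting with the right action. -/
def requiv (m : Subgroup (S × S) → ℕ) : Subgroup (Equiv.Perm (Pt m)) where
  carrier := {h | ∀ (b : S) ω, h (((1, b) : S × S) • ω) = ((1, b) : S × S) • h ω}
  one_mem' _ _ := rfl
  mul_mem' {g h} hg hh b ω := by
    rw [Equiv.Perm.mul_apply, hh, hg]; rfl
  inv_mem' {h} hh b ω := by
    apply h.injective
    rw [hh]
    simp

/-- The left action. -/
def lact (m : Subgroup (S × S) → ℕ) : S →* requiv m where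
  toFun a := ⟨MulAction.toPermHom (S × S) (Pt m) (a, 1), fun b ω => pair_comm a b ω⟩
  map_one' := Subtype.ext (map_one (MulAction.toPermHom (S × S) (Pt m)))
  map_mul' a a' := Subtype.ext (by
    show MulAction.toPermHom (S × S) (Pt m) (a * a', 1) = _
    rw [Subgroup.coe_mul, ← map_mul, Prod.mk_mul_mk, mul_one])

theorem lact_apply (a : S) (ω : Pt m) :
    (lact m a : Equiv.Perm (Pt m)) ω = ((a, 1) : S × S) • ω := rfl

/-- A function turning both actions into `χ`. -/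
def Cocycle (χ : S →* A) (c : Pt m → A) : Prop :=
  ∀ (g : S × S) (ω : Pt m), c (g • ω) = χ g.1 * (χ g.2)⁻¹ * c ω

theorem exists_cocycle [Finite S] (hm : FusionTransfer.Supp F m)
    (hχ : ∀ P : Subgroup Ω, ∀ φ ∈ F.Hom P, ∀ (x : S) (hx : (x : Ω) ∈ P) (y : S),
      φ ⟨x, hx⟩ = y → χ y = χ x) :
    ∃ c : Pt m → A, Cocycle χ c := by
  let r : Pt m → Pt m := fun ω => (Quotient.mk (MulAction.orbitRel (S × S) (Pt m)) ω).out
  choose k hk using fun ω : Pt m => MulAction.mem_orbit_iff.1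
    ((MulAction.orbitRel (S × S) (Pt m)).iseqv.symm (Quotient.exact
      (Quotient.out_eq (Quotient.mk (MulAction.orbitRel (S × S) (Pt m)) ω))) :
      ω ∈ MulAction.orbit (S × S) (r ω))
  have hstab : ∀ (g : S × S) (ω : Pt m), g • ω = ω → χ g.1 = χ g.2 := by
    intro g ω hg
    obtain ⟨P, φ, hφ, hmem⟩ := isFGraph_stab hm ω
    obtain ⟨h1, h2⟩ := (hmem g).1 hg
    exact (hχ P φ hφ g.1 h1 g.2 h2).symm
  refine ⟨fun ω => χ (k ω).1 * (χ (k ω).2)⁻¹, fun g ω => ?_⟩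
  have hr : r (g • ω) = r ω := congrArg Quotient.out
    (Quotient.sound (s := MulAction.orbitRel (S × S) (Pt m)) (MulAction.mem_orbit ω g))
  have h1 := hk (g • ω)
  rw [hr] at h1
  have h2 : ((g * k ω)⁻¹ * k (g • ω)) • r ω = r ω := by
    rw [mul_smul, h1, inv_smul_eq_iff, mul_smul, hk]
  have h3 := hstab _ _ h2
  simp only [Prod.fst_mul, Prod.snd_mul, Prod.fst_inv, Prod.snd_inv, map_mul, map_inv] at h3
  have h4 : χ (k (g • ω)).1 * (χ g.1 * χ (k ω).1)⁻¹ = χ (k (g • ω)).2 * (χ g.2 * χ (k ω).2)⁻¹ := by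
    rw [mul_comm, h3, mul_comm]
  show χ (k (g • ω)).1 * (χ (k (g • ω)).2)⁻¹ = χ g.1 * (χ g.2)⁻¹ * (χ (k ω).1 * (χ (k ω).2)⁻¹)
  rw [mul_inv_eq_iff_eq_mul] at h4
  rw [h4, mul_assoc (χ (k (g • ω)).2), mul_comm (χ (k (g • ω)).2), mul_inv_cancel_right,
    mul_inv_rev]
  ac_rfl

section Transfer

variable [Finite S] {c : Pt m → A}

theorem shift_invariant (hc : Cocycle χ c) (h : requiv m) (b : S) (ω : Pt m) :
    c ((h : Equiv.Perm (Pt m)) (((1, b) : S × S) • ω)) * (c (((1, b) : S × S) • ω))⁻¹ =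
      c ((h : Equiv.Perm (Pt m)) ω) * (c ω)⁻¹ := by
  rw [h.2, hc, hc]
  simp only [map_one, one_mul, mul_inv_rev, inv_inv]
  rw [mul_comm (χ b)⁻¹ (c _), mul_assoc, mul_comm (c ω)⁻¹, ← mul_assoc (χ b)⁻¹, inv_mul_cancel,
    one_mul]

theorem shift_sec (hc : Cocycle χ c) (h : requiv m) (ω : Pt m) :
    c ((h : Equiv.Perm (Pt m)) (sec (orb ω))) * (c (sec (orb ω)))⁻¹ =
      c ((h : Equiv.Perm (Pt m)) ω) * (c ω)⁻¹ := by
  obtain ⟨b, hb⟩ := exists_right ω
  conv_rhs => rw [← hb, shift_invariant hc]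

/-- The permutation of the right orbits. -/
theorem tau_bijective (h : requiv m) :
    Function.Bijective fun o : Orb m => orb ((h : Equiv.Perm (Pt m)) (sec o)) := by
  refine Finite.surjective_iff_bijective.1 fun o => ⟨orb ((h⁻¹ : requiv m).1 (sec o)), ?_⟩
  obtain ⟨b, hb⟩ := exists_right ((h⁻¹ : requiv m).1 (sec o))
  have h1 := congrArg (h : Equiv.Perm (Pt m)) hb
  rw [h.2, show (h : Equiv.Perm (Pt m)) ((h⁻¹ : requiv m).1 (sec o)) = sec o by simp] at h1
  show orb ((h : Equiv.Perm (Pt m)) (sec (orb ((h⁻¹ : requiv m).1 (sec o))))) = o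
  rw [← orb_right b, h1, orb_sec]

/-- The transfer. -/
theorem exists_transfer (hc : Cocycle χ c) [Fintype (Orb m)] :
    ∃ V : requiv m →* A, (∀ h : requiv m,
      V h = ∏ o : Orb m, c ((h : Equiv.Perm (Pt m)) (sec o)) * (c (sec o))⁻¹) ∧
      ∀ a : S, V (lact m a) = χ a ^ Nat.card (Orb m) := by
  refine ⟨MonoidHom.mk' (fun h : requiv m =>
    ∏ o : Orb m, c ((h : Equiv.Perm (Pt m)) (sec o)) * (c (sec o))⁻¹) fun g h => ?_,
      fun h => rfl, fun a => ?_⟩
  · have key : ∀ o : Orb m, c (((g * h : requiv m) : Equiv.Perm (Pt m)) (sec o)) * (c (sec o))⁻¹ =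
        (c ((g : Equiv.Perm (Pt m)) (sec (orb ((h : Equiv.Perm (Pt m)) (sec o))))) *
          (c (sec (orb ((h : Equiv.Perm (Pt m)) (sec o)))))⁻¹) *
        (c ((h : Equiv.Perm (Pt m)) (sec o)) * (c (sec o))⁻¹) := fun o => by
      rw [shift_sec hc, mul_assoc, inv_mul_cancel_left]
      rfl
    simp only [key]
    rw [Finset.prod_mul_distrib]
    congr 1
    exact Function.Bijective.prod_comp (tau_bijective h) fun o =>
      c ((g : Equiv.Perm (Pt m)) (sec o)) * (c (sec o))⁻¹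
  · show (∏ o : Orb m, c ((lact m a : Equiv.Perm (Pt m)) (sec o)) * (c (sec o))⁻¹) = _
    have key : ∀ o : Orb m, c ((lact m a : Equiv.Perm (Pt m)) (sec o)) * (c (sec o))⁻¹ = χ a :=
      fun o => by
      rw [lact_apply, hc, map_one, inv_one, mul_one, mul_inv_cancel_right]
    simp only [key]
    rw [Finset.prod_const, Finset.card_univ, Nat.card_eq_fintype_card]

open scoped Classical in
/-- A bijection commuting with a subgroup has trivial transfer when that subgroup's conjugates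
have centralizers killed by `χ`. -/
theorem transfer_eq_one [Fact p.Prime] (hS : IsPGroup p S) (hm : FusionTransfer.Supp F m)
    (hexp : ∀ a : A, a ^ p = 1) (hc : Cocycle χ c) [Fintype (Orb m)] {P : Subgroup Ω} (hP : P ≤ S)
    (hC : ∀ Q : Subgroup Ω, F.IsConj P Q → ∀ b : S, (b : Ω) ∈ centralizerIn S Q → χ b = 1)
    (h : requiv m) (hcomm : ∀ x : P, Commute h (lact m ⟨x, hP x.2⟩)) :
    ∏ o : Orb m, c ((h : Equiv.Perm (Pt m)) (sec o)) * (c (sec o))⁻¹ = 1 := by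
  let P' : Subgroup S := P.subgroupOf S
  let τ : Orb m → Orb m := fun o => orb ((h : Equiv.Perm (Pt m)) (sec o))
  let e : Orb m → A := fun o => c ((h : Equiv.Perm (Pt m)) (sec o)) * (c (sec o))⁻¹
  have hhl : ∀ (a : P') (ω : Pt m), (h : Equiv.Perm (Pt m)) ((((a : S), 1) : S × S) • ω) =
      (((a : S), 1) : S × S) • (h : Equiv.Perm (Pt m)) ω := fun a ω =>
    congrArg (fun g : requiv m => (g : Equiv.Perm (Pt m)) ω) (hcomm ⟨_, a.2⟩)
  have hleft : ∀ (a : P') (o : Orb m), e ((a : S) • o) = e o := by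
    intro a o
    show c ((h : Equiv.Perm (Pt m)) (sec ((a : S) • o))) * (c (sec ((a : S) • o)))⁻¹ = _
    conv_lhs => rw [← orb_sec o, smul_orb, shift_sec hc, hhl, hc, hc]
    simp only [map_one, inv_one, mul_one, mul_inv_rev]
    rw [mul_comm (c (sec o))⁻¹ (χ _)⁻¹, mul_comm (χ _) (c _), mul_assoc, mul_inv_cancel_left]
  -- only the orbits fixed by `P` count
  let Fix : Type u := {o : Orb m // ∀ a : P', (a : S) • o = o}
  have hfib : ∀ a : A, (Finset.univ.filter fun o : Orb m => e o = a).card ≡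
      (Finset.univ.filter fun o : Fix => e o.1 = a).card [MOD p] := by
    intro a
    let X : SubMulAction P' (Orb m) :=
      { carrier := {o | e o = a}
        smul_mem' := fun g o ho => (hleft g o).trans ho }
    have h1 := (hS.to_subgroup P').card_modEq_card_fixedPoints X
    rw [← Fintype.card_subtype, ← Fintype.card_subtype, ← Nat.card_eq_fintype_card,
      ← Nat.card_eq_fintype_card]
    refine Eq.trans ?_ (Eq.trans h1 ?_)
    · rfl
    · refine congrArg (· % p) (Nat.card_congr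
        { toFun := fun o => ⟨⟨o.1.1, fun g => congrArg Subtype.val (o.2 g)⟩, o.1.2⟩
          invFun := fun o => ⟨⟨o.1.1, o.2⟩, fun g => Subtype.ext (o.1.2 g)⟩
          left_inv := fun _ => rfl
          right_inv := fun _ => rfl })
  have hA1 : ∀ (a : A) {i j : ℕ}, i ≡ j [MOD p] → a ^ i = a ^ j := fun a i j hij => by
    rw [← Nat.mod_add_div i p, ← Nat.mod_add_div j p, pow_add, pow_add, pow_mul, pow_mul, hexp,
      one_pow, one_pow, mul_one, mul_one, hij]
  have hred : ∏ o : Orb m, e o = ∏ o : Fix, e o.1 := by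
    have h3 : ∏ o : Orb m, e o = ∏ a ∈ Finset.univ.image e,
        a ^ (Finset.univ.filter fun o : Orb m => e o = a).card := by
      rw [← Finset.prod_fiberwise_of_maps_to (t := Finset.univ.image e) (g := e)
        (fun o _ => Finset.mem_image.2 ⟨o, Finset.mem_univ _, rfl⟩)]
      refine Finset.prod_congr rfl fun a _ => ?_
      rw [Finset.prod_congr rfl fun o ho => (Finset.mem_filter.1 ho).2, Finset.prod_const]
    rw [h3]
    have h2 : ∏ o : Fix, e o.1 = ∏ a ∈ Finset.univ.image e,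
        a ^ (Finset.univ.filter fun o : Fix => e o.1 = a).card := by
      rw [← Finset.prod_fiberwise_of_maps_to (t := Finset.univ.image e) (g := fun o : Fix => e o.1)
        (fun o _ => Finset.mem_image.2 ⟨o.1, Finset.mem_univ _, rfl⟩)]
      refine Finset.prod_congr rfl fun a _ => ?_
      rw [Finset.prod_congr rfl fun o ho => (Finset.mem_filter.1 ho).2, Finset.prod_const]
    rw [h2]
    refine Finset.prod_congr rfl fun a _ => ?_
    exact hA1 a (hfib a)
  show ∏ o : Orb m, e o = 1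
  rw [hred]
  -- the stabilizers occurring in an orbit
  let H : Subgroup (S × S) := P'.prod ⊤
  let st : Pt m → Subgroup (S × S) := fun ω => MulAction.stabilizer (S × S) ω ⊓ H
  let K : Orb m → Set (Subgroup (S × S)) := fun o => {D | ∃ ω, orb ω = o ∧ st ω = D}
  have hst : ∀ ω, st ((h : Equiv.Perm (Pt m)) ω) = st ω := by
    intro ω
    ext g
    refine and_congr_left fun hg => ?_
    have h1 : (h : Equiv.Perm (Pt m)) (g • ω) = g • (h : Equiv.Perm (Pt m)) ω := by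
      have e1 : g • ω = ((g.1, 1) : S × S) • ((1, g.2) : S × S) • ω := by
        rw [← mul_smul]; simp
      have e2 : ∀ ω' : Pt m, g • ω' = ((g.1, 1) : S × S) • ((1, g.2) : S × S) • ω' := fun ω' => by
        rw [← mul_smul]; simp
      rw [e1, hhl ⟨g.1, hg.1⟩, h.2, ← e2]
    show g • (h : Equiv.Perm (Pt m)) ω = _ ↔ g • ω = ω
    rw [← h1]
    exact (h : Equiv.Perm (Pt m)).injective.eq_iff
  have hτK : ∀ o, K (τ o) = K o := by
    intro o
    ext D
    constructor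
    · rintro ⟨ω, hω, rfl⟩
      obtain ⟨b, hb⟩ := orb_eq hω.symm
      refine ⟨((1, b) : S × S) • sec o, by rw [orb_right, orb_sec], ?_⟩
      rw [← hst, h.2, hb]
    · rintro ⟨ω, hω, rfl⟩
      obtain ⟨b, hb⟩ := orb_eq ((orb_sec o).trans hω.symm)
      exact ⟨(h : Equiv.Perm (Pt m)) ω, by rw [← hb, h.2, orb_right], hst ω⟩
  have hτfix : ∀ o : Fix, ∀ a : P', (a : S) • τ o.1 = τ o.1 := by
    intro o a
    show (a : S) • orb ((h : Equiv.Perm (Pt m)) (sec o.1)) = orb ((h : Equiv.Perm (Pt m)) (sec o.1))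
    rw [smul_orb, ← hhl]
    have h1 := o.2 a
    conv_lhs at h1 => rw [← orb_sec o.1, smul_orb]
    obtain ⟨b, hb⟩ := orb_eq ((orb_sec o.1).trans h1.symm)
    rw [← hb, h.2, orb_right]
  let τ' : Fix → Fix := fun o => ⟨τ o.1, hτfix o⟩
  have hτ' : Function.Bijective τ' := Finite.injective_iff_bijective.1 fun o o' hoo =>
    Subtype.ext ((tau_bijective h).injective (congrArg Subtype.val hoo))
  let pick : Set (Subgroup (S × S)) → Subgroup (S × S) := fun s => Classical.epsilon fun D => D ∈ s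
  have hpick : ∀ o, pick (K o) ∈ K o := fun o =>
    Classical.epsilon_spec ⟨_, sec o, orb_sec o, rfl⟩
  choose w hw hwst using hpick
  -- the centralizer of the image
  have hkey : ∀ o : Fix, c ((h : Equiv.Perm (Pt m)) (w o.1)) = c (w (τ o.1)) := by
    intro o
    have horb : orb ((h : Equiv.Perm (Pt m)) (w o.1)) = τ o.1 := by
      obtain ⟨b, hb⟩ := orb_eq ((orb_sec o.1).trans (hw o.1).symm)
      show _ = orb ((h : Equiv.Perm (Pt m)) (sec o.1))
      rw [← hb, h.2, orb_right]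
    obtain ⟨b, hb⟩ := orb_eq ((hw (τ o.1)).trans horb.symm)
    have hD : st (((1, b) : S × S) • w (τ o.1)) = st (w (τ o.1)) := by
      rw [hb, hst, hwst, hwst, hτK]
    obtain ⟨P₁, φ, hφ, hmem⟩ := isFGraph_stab hm (w (τ o.1))
    have hsrc : ∀ a : P', ∃ b' : S, ((a : S), b') • w (τ o.1) = w (τ o.1) := by
      intro a
      have h1 := hτfix o a
      rw [← hw (τ o.1), smul_orb] at h1
      obtain ⟨b', hb'⟩ := orb_eq h1
      exact ⟨b', by rw [← pair_comm, ← mul_smul] at hb'; simpa using hb'⟩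
    have hle : P ≤ P₁ := fun x hx => by
      obtain ⟨b', hb'⟩ := hsrc ⟨⟨x, hP hx⟩, hx⟩
      exact ((hmem _).1 hb').1
    have hφ' := restrict_mem hle hφ
    have hb1 : χ b = 1 := by
      refine hC _ ⟨_, hφ', rfl⟩ b (mem_centralizerIn.2 ⟨b.2, ?_⟩)
      rintro _ ⟨x, rfl⟩
      obtain ⟨b', hb'⟩ := hsrc ⟨⟨x, hP x.2⟩, x.2⟩
      have hx1 : φ (Subgroup.inclusion hle x) = b' := ((hmem _).1 hb').2
      have hin : ((⟨x, hP x.2⟩ : S), b') ∈ st (w (τ o.1)) := ⟨hb', x.2, trivial⟩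
      have hin2 : ((⟨x, hP x.2⟩ : S), b') ∈ st (((1, b) : S × S) • w (τ o.1)) := hD.symm ▸ hin
      have h2 : (((1, b) : S × S)⁻¹ * ((⟨x, hP x.2⟩ : S), b') * ((1, b) : S × S)) • w (τ o.1) =
          w (τ o.1) := by
        rw [mul_smul, mul_smul]
        exact inv_smul_eq_iff.2 hin2.1
      have h3 := ((hmem _).1 h2).2
      have h4 : φ (Subgroup.inclusion hle x) = ((b⁻¹ * b' * b : S) : Ω) := by
        refine Eq.trans (congrArg φ (Subtype.ext ?_)) (h3.trans ?_)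
        · simp
        · simp
      rw [hx1] at h4
      show φ (Subgroup.inclusion hle x) * (b : Ω) = (b : Ω) * φ (Subgroup.inclusion hle x)
      rw [hx1]
      conv_rhs => rw [h4, Subgroup.coe_mul, Subgroup.coe_mul, Subgroup.coe_inv, ← mul_assoc,
        ← mul_assoc, mul_inv_cancel, one_mul]
    rw [← hb, hc, map_one, hb1, inv_one, one_mul, one_mul]
  have hval : ∀ o : Fix, e o.1 = c (w (τ o.1)) * (c (w o.1))⁻¹ := fun o => by
    show c ((h : Equiv.Perm (Pt m)) (sec o.1)) * (c (sec o.1))⁻¹ = _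
    rw [← hkey o]
    obtain ⟨b, hb⟩ := orb_eq ((orb_sec o.1).trans (hw o.1).symm)
    rw [← hb, shift_invariant hc]
  rw [Finset.prod_congr rfl fun o _ => hval o, Finset.prod_mul_distrib, Finset.prod_inv_distrib]
  rw [Function.Bijective.prod_comp hτ' fun o : Fix => c (w o.1), mul_inv_cancel]

/-- An element of the group realizing a map. -/
theorem exists_realizer (hm : FusionTransfer.Good F m) {P : Subgroup Ω} {φ : P →* Ω}
    (hφ : φ ∈ F.Hom P) (hP : P ≤ S) :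
    ∃ h : requiv m, ∀ x : P, h * lact m ⟨x, hP x.2⟩ = lact m ⟨φ x, val_mem hφ x⟩ * h := by
  obtain ⟨f, hf⟩ := exists_twist hm (isFGraph_graphOf hφ)
  have hfr : f ∈ requiv m := hf 1 1 (one_mem _)
  refine ⟨⟨f, hfr⟩, fun x => Subtype.ext (Equiv.ext fun ω => ?_)⟩
  exact hf ⟨x, hP x.2⟩ ⟨φ x, val_mem hφ x⟩ (mem_graphOf.2 ⟨x.2, rfl⟩) 1 ω

end Transfer

/-- The transfer with the properties needed. -/
structure Theta (F : FusionSystem S) (χ : S →* A) (G : Type u) [Group G] where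
  /-- The left action. -/
  L : S →* G
  /-- The transfer. -/
  θ : G →* A
  map_L : ∀ a, θ (L a) = χ a
  realize : ∀ (P : Subgroup Ω) (hP : P ≤ S) (φ : P →* Ω) (hφ : φ ∈ F.Hom P),
    ∃ h : G, ∀ x : P, h * L ⟨x, hP x.2⟩ = L ⟨φ x, val_mem hφ x⟩ * h
  centr : ∀ (P : Subgroup Ω) (hP : P ≤ S),
    (∀ Q : Subgroup Ω, F.IsConj P Q → ∀ b : S, (b : Ω) ∈ centralizerIn S Q → χ b = 1) →
    ∀ h : G, (∀ x : P, Commute h (L ⟨x, hP x.2⟩)) → θ h = 1

theorem exists_theta [Finite S] [Fact p.Prime] (hS : IsPGroup p S) (hF : F.IsSaturated p)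
    (hexp : ∀ a : A, a ^ p = 1)
    (hχ : ∀ P : Subgroup Ω, ∀ φ ∈ F.Hom P, ∀ (x : S) (hx : (x : Ω) ∈ P) (y : S),
      φ ⟨x, hx⟩ = y → χ y = χ x) :
    ∃ (G : Type u) (_ : Group G) (_ : Finite G), Nonempty (Theta F χ G) := by
  obtain ⟨m, hm⟩ := FusionTransfer.exists_good hS hF
  obtain ⟨c, hc⟩ := exists_cocycle hm.supp hχ
  let _ := Fintype.ofFinite (Orb m)
  obtain ⟨V, hV, hVL⟩ := exists_transfer hc
  have hcop : (Nat.card (Orb m)).Coprime p :=
    ((Nat.Prime.coprime_iff_not_dvd Fact.out).2 (not_dvd_card_orb hS hF hm)).symm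
  obtain ⟨k, hk0, hk1⟩ := Nat.chineseRemainder hcop 0 1
  obtain ⟨l, rfl⟩ := Nat.modEq_zero_iff_dvd.1 hk0
  refine ⟨requiv m, inferInstance, inferInstance, ⟨
    { L := lact m
      θ := (powMonoidHom l).comp V
      map_L := fun a => ?_
      realize := fun P hP φ hφ => exists_realizer hm hφ hP
      centr := fun P hP hC h hcomm => ?_ }⟩⟩
  · show V (lact m a) ^ l = χ a
    rw [hVL, ← pow_mul, ← Nat.mod_add_div (Nat.card (Orb m) * l) p, pow_add, pow_mul, hexp, one_pow,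
      mul_one, hk1, Nat.mod_eq_of_lt (Fact.out : p.Prime).one_lt, pow_one]
  · show V h ^ l = 1
    rw [hV, transfer_eq_one hS hm.supp hexp hc hP hC h hcomm, one_pow]

section Subsystem

variable {G : Type u} [Group G]

/-- `h` realizes `φ`. -/
def Theta.Realizes (Θ : Theta F χ G) (h : G) {P : Subgroup Ω} (φ : P →* Ω) : Prop :=
  ∀ (x : S) (hx : (x : Ω) ∈ P) (y : S), φ ⟨x, hx⟩ = y → h * Θ.L x = Θ.L y * h

/-- The kernel of `χ` in the ambient group. -/
def kerS (χ : S →* A) : Subgroup Ω := χ.ker.map S.subtype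

theorem mem_kerS {x : Ω} : x ∈ kerS χ ↔ ∃ hx : x ∈ S, χ ⟨x, hx⟩ = 1 :=
  ⟨fun ⟨y, hy, he⟩ => he ▸ ⟨y.2, hy⟩, fun ⟨hx, h⟩ => ⟨⟨x, hx⟩, h, rfl⟩⟩

theorem kerS_le : kerS χ ≤ S := Subgroup.map_subtype_le _

theorem Theta.exists_realizer (Θ : Theta F χ G) {P : Subgroup Ω} {φ : P →* Ω}
    (hφ : φ ∈ F.Hom P) : ∃ h, Θ.Realizes h φ := by
  obtain ⟨h, hh⟩ := Θ.realize P (src_le hφ) φ hφ
  exact ⟨h, fun x hx y e => (hh ⟨x, hx⟩).trans (congrArg (fun z => Θ.L z * h) (Subtype.ext e))⟩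

theorem realizes_conj (Θ : Theta F χ G) {P : Subgroup Ω} (g : S) {φ : P →* Ω}
    (hφ : ∀ x : P, φ x = g * x * (g : Ω)⁻¹) : Θ.Realizes (Θ.L g) φ := by
  intro x hx y e
  obtain rfl : y = g * x * g⁻¹ := Subtype.ext (e.symm.trans (hφ ⟨x, hx⟩))
  simp only [map_mul, map_inv, inv_mul_cancel_right]

theorem realizes_comp (Θ : Theta F χ G) {P Q : Subgroup Ω} {φ : P →* Ω} {ψ : Q →* Ω} {η : P →* Ω}
    {h k : G} (hh : Θ.Realizes h φ) (hk : Θ.Realizes k ψ) (hm : ∀ x, φ x ∈ Q) (hS : ∀ x, φ x ∈ S)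
    (hη : ∀ x : P, η x = ψ ⟨φ x, hm x⟩) : Θ.Realizes (k * h) η := by
  intro x hx y e
  rw [mul_assoc, hh x hx ⟨_, hS _⟩ rfl, ← mul_assoc,
    hk ⟨φ ⟨x, hx⟩, hS _⟩ (hm ⟨x, hx⟩) y ((hη ⟨x, hx⟩).symm.trans e), mul_assoc]

/-- The maps realized with trivial transfer. -/
def sys (Θ : Theta F χ G) : FusionSystem (kerS χ) where
  Hom P := {φ | φ ∈ F.Hom P ∧ P ≤ kerS χ ∧ (∀ x, φ x ∈ kerS χ) ∧
    ∃ h, Θ.Realizes h φ ∧ Θ.θ h = 1}
  le_of_mem h := ⟨h.2.1, h.2.2.1⟩
  injective_of_mem h := F.injective_of_mem h.1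
  conj_mem {P g} hP hg := by
    obtain ⟨hgS, hgχ⟩ := mem_kerS.1 hg
    refine ⟨F.conj_mem (hP.trans kerS_le) hgS, hP, fun x => ?_, Θ.L ⟨g, hgS⟩,
      realizes_conj Θ ⟨g, hgS⟩ fun x => rfl, (Θ.map_L _).trans hgχ⟩
    exact (kerS χ).mul_mem ((kerS χ).mul_mem hg (hP x.2)) ((kerS χ).inv_mem hg)
  comp_mem {P Q φ ψ} hφ hψ hm := by
    obtain ⟨hφF, hP, -, h, hh, hh1⟩ := hφ
    obtain ⟨hψF, -, hψv, k, hk, hk1⟩ := hψ
    exact ⟨F.comp_mem hφF hψF hm, hP, fun x => hψv _, k * h,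
      realizes_comp Θ hh hk hm (val_mem hφF) fun x => rfl, by rw [map_mul, hk1, hh1, mul_one]⟩
  inv_mem {P φ} hφ := by
    obtain ⟨hφF, hP, hv, h, hh, hh1⟩ := hφ
    obtain ⟨ψ, hψ, hψe⟩ := F.inv_mem hφF
    refine ⟨ψ, ⟨hψ, ?_, ?_, h⁻¹, ?_, by rw [map_inv, hh1, inv_one]⟩, hψe⟩
    · rintro _ ⟨x, rfl⟩; exact hv x
    · rintro ⟨_, x, rfl⟩; rw [hψe x]; exact hP x.2
    · rintro x ⟨u, hu⟩ y e
      have h1 : (u : Ω) = y := by
        rw [← hψe u, ← e]
        exact congrArg ψ (Subtype.ext hu)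
      have h2 := hh ⟨u, kerS_le (hP u.2)⟩ u.2 x hu
      rw [show y = ⟨u, kerS_le (hP u.2)⟩ from Subtype.ext h1.symm, inv_mul_eq_iff_eq_mul, ← mul_assoc,
        h2, mul_inv_cancel_right]

theorem sys_sub (Θ : Theta F χ G) : (sys Θ).IsSubsystemOf F := fun _ _ h => h.1

theorem mem_sys_of_eq (Θ : Theta F χ G) {P : Subgroup Ω} {φ : P →* Ω} (hφ : φ ∈ F.Hom P)
    (hP : P ≤ kerS χ) (hv : ∀ x, φ x ∈ kerS χ) {h : G} (hh : Θ.Realizes h φ) (h1 : Θ.θ h = 1) :
    φ ∈ (sys Θ).Hom P := ⟨hφ, hP, hv, h, hh, h1⟩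

/-- Automorphisms of order prime to `p` have trivial transfer. -/
theorem coprime_mem_sys [Fact p.Prime] (hexp : ∀ a : A, a ^ p = 1) (Θ : Theta F χ G)
    {P : Subgroup Ω} (hP : P ≤ kerS χ) {α : MulAut P} (hα : α ∈ F.autGroup P)
    (hcop : (orderOf α).Coprime p) : α ∈ (sys Θ).autGroup P := by
  have hPS : P ≤ S := hP.trans kerS_le
  obtain ⟨h, hh⟩ := Θ.exists_realizer ((mem_autGroup hPS).1 hα)
  obtain ⟨k, hk0, hk1⟩ := Nat.chineseRemainder hcop.symm 0 1
  obtain ⟨j, rfl⟩ := Nat.modEq_zero_iff_dvd.1 hk0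
  have hpow : ∀ i : ℕ, Θ.Realizes (h ^ i) (P.subtype.comp (α ^ i : MulAut P).toMonoidHom) := by
    intro i
    induction i with
    | zero =>
      intro x hx y e
      obtain rfl : y = x := Subtype.ext e.symm
      rw [pow_zero, one_mul, mul_one]
    | succ i ih =>
      rw [pow_succ']
      refine realizes_comp Θ ih hh (fun x => Subtype.coe_prop _)
        (fun x => hPS (Subtype.coe_prop _)) fun x => ?_
      rw [pow_succ']
      rfl
  have hαj : α ^ (p * j) = α := pow_eq_self_of_modEq hk1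
  refine (mem_autGroup hP).2 ⟨(mem_autGroup hPS).1 hα, hP, fun x => hP (Subtype.coe_prop _),
    h ^ (p * j), ?_, ?_⟩
  · have h1 := hpow (p * j)
    rwa [hαj] at h1
  · rw [map_pow, pow_mul, hexp, one_pow]

variable [Finite S] [Fact p.Prime]

/-- The subsystem is saturated. -/
theorem sys_isSaturated (hS : IsPGroup p S) (hF : F.IsSaturated p)
    (hgen : ∀ a b : A, a ≠ 1 → ∃ i : ℕ, a ^ i = b) (hsurj : Function.Surjective χ)
    (hχ : ∀ P : Subgroup Ω, ∀ φ ∈ F.Hom P, ∀ (x : S) (hx : (x : Ω) ∈ P) (y : S),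
      φ ⟨x, hx⟩ = y → χ y = χ x)
    (Θ : Theta F χ G) : (sys Θ).IsSaturated p := by
  have : Finite (kerS χ) := finite_of_le kerS_le
  have hker : ∀ {P : Subgroup Ω} {φ : P →* Ω}, φ ∈ F.Hom P → ∀ x : P, (x : Ω) ∈ kerS χ →
      φ x ∈ kerS χ := by
    intro P φ hφ x hx
    obtain ⟨hxS, hx1⟩ := mem_kerS.1 hx
    exact mem_kerS.2 ⟨val_mem hφ x, (hχ P φ hφ ⟨x, hxS⟩ x.2 ⟨φ x, val_mem hφ x⟩ rfl).trans hx1⟩
  intro P hP
  have hPS := hP.trans kerS_le
  obtain ⟨P₁, hPP₁, hP₁⟩ := exists_fullyNormalized (F := F) hPS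
  obtain ⟨φ, hφ, rfl⟩ := hPP₁
  obtain ⟨h, hh⟩ := Θ.exists_realizer hφ
  obtain ⟨s, hs⟩ := hsurj (Θ.θ h)⁻¹
  let η : P →* Ω := (MulAut.conj (s : Ω)).toMonoidHom.comp φ
  have hη : η ∈ F.Hom P := by
    refine mem_of_comp hφ (F.conj_mem (range_le hφ) s.2) (fun x => ⟨x, rfl⟩) fun x => ?_
    rfl
  have hηT : ∀ x, η x ∈ kerS χ := fun x => hker hη x (hP x.2)
  have hηE : η ∈ (sys Θ).Hom P := by
    refine mem_sys_of_eq Θ hη hP hηT (h := Θ.L s * h)
      (realizes_comp Θ hh (realizes_conj Θ s (φ := conjHom φ.range s) fun x => rfl)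
        (fun x => ⟨x, rfl⟩) (val_mem hφ) fun x => rfl) ?_
    rw [map_mul, Θ.map_L, hs, inv_mul_cancel]
  set Q := η.range with hQdef
  have hQT : Q ≤ kerS χ := by rintro _ ⟨x, rfl⟩; exact hηT x
  have hQS := hQT.trans kerS_le
  have hQn : F.IsFullyNormalized Q := by
    refine ⟨hQS, fun R hR => le_trans (hP₁.2 R (isConj_trans (isConj_symm ⟨φ, hφ, rfl⟩)
      (isConj_trans ⟨η, hη, rfl⟩ hR))) ?_⟩
    have := finite_of_le (normalizerIn_le S Q)
    have hmem : ∀ g : normalizerIn S φ.range, (s : Ω) * g * (s : Ω)⁻¹ ∈ normalizerIn S Q := by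
      intro g
      refine ⟨S.mul_mem (S.mul_mem s.2 g.2.1) (S.inv_mem s.2), ?_⟩
      have hQmap : Q = φ.range.map (MulAut.conj (s : Ω)).toMonoidHom := by
        rw [hQdef, MonoidHom.map_range]
      rw [hQmap]
      exact mem_normalizer_map (MulAut.conj (s : Ω)).toMonoidHom g.2.2
    exact Finite.card_le_of_embedding ⟨fun g => ⟨_, hmem g⟩, fun a b hab =>
      Subtype.ext ((MulAut.conj (s : Ω)).injective (congrArg Subtype.val hab))⟩
  obtain ⟨hA, hrec⟩ := fullyNormalized_props hS hF hQn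
  obtain ⟨-, hsyl⟩ := isFullyAutomized_iff.1 hA
  -- a central element outside the kernel exists as soon as some conjugate has one
  have hfix : (∃ b : S, (b : Ω) ∈ centralizerIn S Q ∧ χ b ≠ 1) ∨
      ∀ k : G, (∀ x : Q, Commute k (Θ.L ⟨x, hQS x.2⟩)) → Θ.θ k = 1 := by
    by_contra hne
    push Not at hne
    obtain ⟨hnb, k, hk, hk1⟩ := hne
    refine hk1 (Θ.centr Q hQS (fun R hR b hb => ?_) k hk)
    obtain ⟨e, he⟩ := isConj_iff_iso.1 hR
    obtain ⟨ψ, hψ, hψe⟩ := receptive_extend hrec he.symm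
    have hbD := centralizerIn_le_extender S R (Q.subtype.comp e.symm.toMonoidHom) hb
    have h1 := extension_centralizer (le_extender he.symm) (val_mem hψ) hψe (g := ⟨b, hbD⟩) hb
    rw [← hχ _ ψ hψ b hbD ⟨_, h1.1⟩ rfl]
    exact hnb _ h1
  have hTN : autInducedBy (kerS χ) Q ≤ autInducedBy S Q := fun α hα =>
    have ⟨g, hg, hgα⟩ := mem_autInducedBy.1 hα
    mem_autInducedBy.2 ⟨g, kerS_le hg, hgα⟩
  have hshift : ∀ b : S, (b : Ω) ∈ centralizerIn S Q → χ b ≠ 1 → ∀ t : A,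
      ∃ d : S, (d : Ω) ∈ centralizerIn S Q ∧ χ d = t := by
    intro b hb hb1 t
    obtain ⟨i, hi⟩ := hgen (χ b) t hb1
    exact ⟨b ^ i, Subgroup.pow_mem _ hb i, by rw [map_pow, hi]⟩
  refine ⟨Q, ⟨η, hηE, rfl⟩, isFullyAutomized_iff.2 ⟨hQT, ?_⟩, isReceptive_of_extend hQT ?_⟩
  · have hKle : (sys Θ).autGroup Q ≤ F.autGroup Q := fun α hα =>
      (mem_autGroup hQS).2 ((mem_autGroup hQT).1 hα).1
    have := finite_mulAut hQS
    rcases hfix with ⟨b, hb, hb1⟩ | hfix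
    · have heq : autInducedBy S Q = autInducedBy (kerS χ) Q := by
        refine le_antisymm (fun α hα => ?_) hTN
        obtain ⟨g, hg, hgα⟩ := mem_autInducedBy.1 hα
        obtain ⟨d, hd, hd1⟩ := hshift b hb hb1 (χ ⟨g, hg⟩)⁻¹
        refine mem_autInducedBy.2 ⟨g * d, mem_kerS.2 ⟨S.mul_mem hg d.2, ?_⟩, fun x => ?_⟩
        · rw [show (⟨g * d, S.mul_mem hg d.2⟩ : S) = ⟨g, hg⟩ * d from rfl, map_mul, hd1, mul_inv_cancel]
        · rw [hgα x, mul_inv_rev, mul_assoc g (d : Ω), ← (mem_centralizerIn.1 hd).2 x x.2]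
          group
      exact (heq ▸ hsyl).mono_right (autInducedBy_le_autGroup hQT) hKle
    · let K := (sys Θ).autGroup Q
      have hKn : F.autGroup Q ≤ Subgroup.normalizer (K : Set (MulAut Q)) := by
        intro β hβ
        refine mem_normalizer_of_conj_mem' fun α hα => ?_
        obtain ⟨hαF, -, -, k, hk, hk1⟩ := (mem_autGroup hQT).1 hα
        have hβ' := (mem_autGroup hQS).1 hβ
        obtain ⟨l, hl⟩ := Θ.exists_realizer hβ'
        refine (mem_autGroup hQT).2 ⟨(mem_autGroup hQS).1 (mul_mem (mul_mem hβ (hKle hα)) (inv_mem hβ)),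
          hQT, fun x => hQT (Subtype.coe_prop _), l * k * l⁻¹, ?_, ?_⟩
        · intro x hx y e
          obtain ⟨w, hw⟩ : ∃ w : Q, (β : MulAut Q) w = ⟨x, hx⟩ := ⟨_, MulAut.apply_inv_self _ β _⟩
          have hwx : (β⁻¹ : MulAut Q) ⟨x, hx⟩ = w := by rw [← hw, MulAut.inv_apply_self]
          have e1 : ((β (α w) : Q) : Ω) = y := by
            rw [← hwx]; exact e
          have h1 := hl ⟨w, hQS w.2⟩ w.2 x (congrArg Subtype.val hw)
          have h2 := hk ⟨w, hQS w.2⟩ w.2 ⟨_, hQS (α w).2⟩ rfl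
          have h3 := hl ⟨_, hQS (α w).2⟩ (α w).2 y e1
          have h1' : l⁻¹ * Θ.L x = Θ.L ⟨w, hQS w.2⟩ * l⁻¹ := by
            rw [inv_mul_eq_iff_eq_mul, ← mul_assoc, h1, mul_inv_cancel_right]
          rw [mul_assoc (l * k), h1', ← mul_assoc, mul_assoc l, h2, ← mul_assoc l, h3]
          group
        · rw [map_mul, map_mul, hk1, mul_one, ← map_mul, mul_inv_cancel, map_one]
      have hinf : autInducedBy S Q ⊓ K = autInducedBy (kerS χ) Q := by
        refine le_antisymm (fun α hα => ?_) (le_inf hTN (autInducedBy_le_autGroup hQT))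
        obtain ⟨g, hg, hgα⟩ := mem_autInducedBy.1 hα.1
        obtain ⟨-, -, -, k, hk, hk1⟩ := (mem_autGroup hQT).1 hα.2
        refine mem_autInducedBy.2 ⟨g, mem_kerS.2 ⟨hg, ?_⟩, hgα⟩
        have h1 := hfix (k⁻¹ * Θ.L ⟨g, hg⟩) fun x => by
          have h2 := realizes_conj Θ ⟨g, hg⟩ (φ := Q.subtype.comp α.toMonoidHom) hgα
            ⟨x, hQS x.2⟩ x.2 ⟨_, hQS (α x).2⟩ rfl
          have h3 := hk ⟨x, hQS x.2⟩ x.2 ⟨_, hQS (α x).2⟩ rfl
          show k⁻¹ * Θ.L ⟨g, hg⟩ * _ = _ * (k⁻¹ * Θ.L ⟨g, hg⟩)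
          rw [mul_assoc, h2, ← mul_assoc, ← mul_assoc, show k⁻¹ * Θ.L ⟨_, hQS (α x).2⟩ =
            Θ.L ⟨x, hQS x.2⟩ * k⁻¹ by rw [inv_mul_eq_iff_eq_mul, ← mul_assoc, h3, mul_inv_cancel_right]]
        rwa [map_mul, map_inv, hk1, inv_one, one_mul, Θ.map_L] at h1
      exact hinf ▸ IsSylowIn.inf_of_normalizes hsyl hKle hKn
  · intro R f hf
    obtain ⟨hfF, hRT, -, h₀, hh₀, hh₀1⟩ := hf
    obtain ⟨ψ, hψ, hψe⟩ := receptive_extend hrec (e := f) hfF
    let D := extender (kerS χ) R (Q.subtype.comp f.toMonoidHom)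
    have hDle : D ≤ extender S R (Q.subtype.comp f.toMonoidHom) := fun g hg => by
      obtain ⟨h1, h2⟩ := (mem_extender_iso f).1 hg
      exact (mem_extender_iso f).2 ⟨⟨kerS_le h1.1, h1.2⟩, hTN h2⟩
    have hDT : D ≤ kerS χ := fun g hg => ((mem_extender_iso f).1 hg).1.1
    have hRD : R ≤ D := le_extender (F := sys Θ) ⟨hfF, hRT, fun x => hQT (f x).2, h₀, hh₀, hh₀1⟩
    let ψ₁ := ψ.comp (Subgroup.inclusion hDle)
    have hψ₁ : ψ₁ ∈ F.Hom D := restrict_mem hDle hψ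
    have hψ₁e : ∀ (x : R) (hx : (x : Ω) ∈ D), ψ₁ ⟨x, hx⟩ = (f x : Ω) := fun x hx => hψe x _
    obtain ⟨k, hk⟩ := Θ.exists_realizer hψ₁
    by_cases hk1 : Θ.θ k = 1
    · exact ⟨ψ₁, mem_sys_of_eq Θ hψ₁ hDT (fun x => hker hψ₁ x (hDT x.2)) hk hk1, hψ₁e⟩
    obtain ⟨b, hb, hb1⟩ : ∃ b : S, (b : Ω) ∈ centralizerIn S Q ∧ χ b ≠ 1 := by
      refine hfix.resolve_right fun hfix => hk1 ?_
      have h1 := hfix (k * h₀⁻¹) fun x => by
        obtain ⟨u, hu⟩ := f.surjective x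
        have h2 := hh₀ ⟨u, kerS_le (hRT u.2)⟩ u.2 ⟨x, hQS x.2⟩ (congrArg Subtype.val hu)
        have h3 := hk ⟨u, kerS_le (hRT u.2)⟩ (hRD u.2) ⟨x, hQS x.2⟩
          ((hψ₁e u _).trans (congrArg Subtype.val hu))
        show k * h₀⁻¹ * _ = _ * (k * h₀⁻¹)
        rw [mul_assoc, show h₀⁻¹ * Θ.L ⟨x, hQS x.2⟩ = Θ.L ⟨u, kerS_le (hRT u.2)⟩ * h₀⁻¹ by
          rw [inv_mul_eq_iff_eq_mul, ← mul_assoc, h2, mul_inv_cancel_right], ← mul_assoc, h3, mul_assoc]
      rwa [map_mul, map_inv, hh₀1, inv_one, mul_one] at h1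
    obtain ⟨d, hd, hd1⟩ := hshift b hb hb1 (Θ.θ k)⁻¹
    let ψ₂ : D →* Ω := (MulAut.conj (d : Ω)).toMonoidHom.comp ψ₁
    have hψ₂ : ψ₂ ∈ F.Hom D :=
      mem_of_comp hψ₁ (F.conj_mem (range_le hψ₁) d.2) (fun x => ⟨x, rfl⟩) fun x => rfl
    refine ⟨ψ₂, mem_sys_of_eq Θ hψ₂ hDT (fun x => hker hψ₂ x (hDT x.2)) (h := Θ.L d * k)
      (realizes_comp Θ hk (realizes_conj Θ d (φ := conjHom ψ₁.range d) fun x => rfl)
        (fun x => ⟨x, rfl⟩) (val_mem hψ₁) fun x => rfl) (by rw [map_mul, Θ.map_L, hd1, inv_mul_cancel]),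
      fun x hx => ?_⟩
    show (d : Ω) * ψ₁ ⟨x, hx⟩ * (d : Ω)⁻¹ = _
    rw [hψ₁e, ← (mem_centralizerIn.1 hd).2 _ (f x).2, mul_inv_cancel_right]
where
  mem_normalizer_of_conj_mem' {G : Type u} [Group G] [Finite G] {K : Subgroup G} {g : G}
      (h : ∀ x ∈ K, g * x * g⁻¹ ∈ K) : g ∈ Subgroup.normalizer (K : Set G) :=
    mem_normalizer_of_conj_mem h

end Subsystem

omit [CommGroup A] in
/-- A saturated system has a saturated subsystem of `p`-power index over each subgroup containing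
its hyperfocal subgroup. -/
theorem exists_sys [Finite S] [Fact p.Prime] (hS : IsPGroup p S) (hF : F.IsSaturated p)
    (T : Subgroup Ω) (hTS : T ≤ S) (hT : F.hyperfocalSubgroup p ≤ T) :
    ∃ E : FusionSystem T, E.IsSaturated p ∧ E.HasPPowerIndexIn F p := by
  induction hn : Nat.card S using Nat.strong_induction_on generalizing S with
  | _ n ih =>
    subst hn
    rcases hTS.eq_or_lt with rfl | hlt
    · exact ⟨F, hF, fun _ => subset_rfl, hT, fun P _ => Subgroup.map_subtype_le _⟩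
    have := hS.isNilpotent
    obtain ⟨M, hM, hTM⟩ := (eq_top_or_exists_le_coatom (T.subgroupOf S)).resolve_left
      fun h => hlt.not_ge (Subgroup.subgroupOf_eq_top.1 h)
    have hMn : M.Normal :=
      Subgroup.NormalizerCondition.normal_of_coatom M Group.normalizerCondition_of_isNilpotent hM
    have hidx : Nat.card (S ⧸ M) = p := by
      have hne : Nat.card (S ⧸ M) ≠ 1 := fun h => hM.1 (Subgroup.index_eq_one.1 h)
      obtain ⟨k, hk⟩ := IsPGroup.iff_card.1 (hS.to_quotient M)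
      have hk0 : k ≠ 0 := fun h => hne (by rw [hk, h, pow_zero])
      obtain ⟨x, hx⟩ := exists_prime_orderOf_dvd_card' (G := S ⧸ M) p (hk ▸ dvd_pow_self p hk0)
      have h1 : (Subgroup.zpowers x).comap (QuotientGroup.mk' M) = ⊤ := by
        refine hM.2 _ (lt_of_le_of_ne (fun y hy => ?_) fun h => ?_)
        · show (QuotientGroup.mk' M) y ∈ Subgroup.zpowers x
          rw [show (QuotientGroup.mk' M) y = 1 from (QuotientGroup.eq_one_iff y).2 hy]
          exact one_mem _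
        · obtain ⟨y, rfl⟩ := QuotientGroup.mk'_surjective M x
          have hy : y ∈ M := h ▸ Subgroup.mem_zpowers (QuotientGroup.mk' M y)
          rw [show (QuotientGroup.mk' M) y = 1 from (QuotientGroup.eq_one_iff y).2 hy, orderOf_one] at hx
          exact (Fact.out : p.Prime).ne_one hx.symm
      have h2 : Subgroup.zpowers x = ⊤ := Subgroup.comap_injective (QuotientGroup.mk'_surjective M)
        (h1.trans (Subgroup.comap_top _).symm)
      rw [← hx, ← Nat.card_zpowers, h2, Subgroup.card_top]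
    letI : CommGroup (S ⧸ M) :=
      { (inferInstance : Group (S ⧸ M)) with
        mul_comm := fun a b => haveI := isCyclic_of_prime_card hidx; IsCyclic.isMulCommutative.is_comm.comm a b }
    let χ : S →* S ⧸ M := QuotientGroup.mk' M
    have hexp : ∀ a : S ⧸ M, a ^ p = 1 := fun a => hidx ▸ pow_card_eq_one'
    have hgen : ∀ a b : S ⧸ M, a ≠ 1 → ∃ i : ℕ, a ^ i = b := fun a b ha =>
      (Submonoid.mem_powers_iff _ _).1 (mem_powers_of_prime_card hidx ha)
    have hfoc : F.focalSubgroup ≤ M.map S.subtype := by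
      rw [focal_eq hS hF]
      refine sup_le (hT.trans fun x hx => ⟨⟨x, hTS hx⟩, hTM hx, rfl⟩) ?_
      rw [Subgroup.commutator_le]
      intro a ha b hb
      refine ⟨⁅(⟨a, ha⟩ : S), ⟨b, hb⟩⁆, (QuotientGroup.eq_one_iff _).1 ?_, by simp [commutatorElement_def]⟩
      show χ ⁅(⟨a, ha⟩ : S), ⟨b, hb⟩⁆ = 1
      rw [map_commutatorElement, commutatorElement_eq_one_iff_commute]
      exact mul_comm _ _
    have hχ : ∀ P : Subgroup Ω, ∀ φ ∈ F.Hom P, ∀ (x : S) (hx : (x : Ω) ∈ P) (y : S),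
        φ ⟨x, hx⟩ = y → χ y = χ x := by
      intro P φ hφ x hx y e
      obtain ⟨z, hz, hze⟩ := hfoc (Subgroup.subset_closure ⟨P, φ, ⟨x, hx⟩, hφ, rfl⟩)
      obtain rfl : z = x⁻¹ * y := Subtype.ext (hze.trans (by rw [e]; rfl))
      exact (QuotientGroup.eq.2 hz).symm
    obtain ⟨G, _, _, ⟨Θ⟩⟩ := exists_theta hS hF hexp hχ
    have hEs := sys_isSaturated hS hF hgen (QuotientGroup.mk'_surjective M) hχ Θ
    have hker : kerS χ = M.map S.subtype := by rw [kerS, QuotientGroup.ker_mk']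
    have hle : T ≤ kerS χ := by
      rw [hker]
      exact fun x hx => ⟨⟨x, hTS hx⟩, hTM hx, rfl⟩
    have : Finite (kerS χ) := finite_of_le kerS_le
    have hlt' : Nat.card (kerS χ) < Nat.card S := by
      rw [hker, Nat.card_congr (M.equivMapOfInjective _ S.subtype_injective).symm.toEquiv,
        ← M.card_mul_index, Subgroup.index_eq_card, hidx]
      exact lt_mul_of_one_lt_right Nat.card_pos (Fact.out : p.Prime).one_lt
    have hhyp : (sys Θ).hyperfocalSubgroup p ≤ T := by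
      refine hyperfocal_le fun P hP α hα hcop x => hT ?_
      exact inv_mul_mem_hyperfocal (hP.trans kerS_le) (α := ⟨α,
        (mem_autGroup (hP.trans kerS_le)).2 ((mem_autGroup hP).1 hα).1⟩)
        (coprime_mem_pResidual hcop) x
    obtain ⟨E, hE, hE1, hE2, hE3⟩ := ih _ hlt' (hS.to_le kerS_le) hEs hle hhyp rfl
    refine ⟨E, hE, fun P φ hφ => (hE1 P hφ).1, hT, fun P hP => ?_⟩
    rw [pResidual, MonoidHom.map_closure, Subgroup.closure_le]
    rintro _ ⟨α, hα, rfl⟩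
    have hcop : (orderOf (α : MulAut P)).Coprime p := by rw [Subgroup.orderOf_coe]; exact hα
    have h1 := coprime_mem_sys hexp Θ (hP.trans hle) α.2 hcop
    exact hE3 P hP ⟨⟨α, h1⟩, coprime_mem_pResidual hcop, rfl⟩

omit [CommGroup A] in
/-- Two saturated subsystems of `p`-power index over the same subgroup are equal. -/
theorem sys_le [Finite S] [Fact p.Prime] (hS : IsPGroup p S) {T : Subgroup Ω} (hTS : T ≤ S)
    {E E' : FusionSystem T} (hEs' : E'.IsSaturated p) (hE' : E'.IsSubsystemOf F)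
    (hE : E.HasPPowerIndexIn F p) : E' ≤ E := by
  have := finite_of_le hTS
  refine alperin (hS.to_le hTS) hEs' E fun R hR => ?_
  obtain ⟨-, -, hn⟩ := centric_radical_of_top_or_essential (hS.to_le hTS) hEs' hR
  refine autGroup_le_of_coprime (hS.to_le hTS) hEs' hn _ (autInducedBy_le_autGroup hn.1)
    fun α hα hcop => hE.2.2 R hn.1 ⟨⟨α, ?_⟩, coprime_mem_pResidual hcop, rfl⟩
  exact (mem_autGroup (hn.1.trans hTS)).2 (hE' R ((mem_autGroup hn.1).1 hα))

theorem sys_unique [Finite S] [Fact p.Prime] (hS : IsPGroup p S) {T : Subgroup Ω} (hTS : T ≤ S)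
    {E E' : FusionSystem T} (hEs : E.IsSaturated p) (hE : E.HasPPowerIndexIn F p)
    (hEs' : E'.IsSaturated p) (hE' : E'.HasPPowerIndexIn F p) : E' = E := by
  have h : ∀ P, E'.Hom P = E.Hom P := fun P =>
    Set.Subset.antisymm (sys_le hS hTS hEs' hE'.1 hE P) (sys_le hS hTS hEs hE.1 hE' P)
  cases E; cases E'; simp only [FusionSystem.mk.injEq]; exact funext h

end Cfsg.Agent.Lib.Fusion.PPowerIndex
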