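import Cfsg.Agent.Lib.Fusion.LocalModel

/-!
Auxiliary facts for p-stable fusion systems.
-/

set_option autoImplicit false

namespace Cfsg.Agent.Lib.Fusion

open Cfsg Cfsg.FusionSystem

variable {Ω : Type*} [Group Ω] {S : Subgroup Ω} {F : FusionSystem S} {p : ℕ}

/-- `O_p(A)` meets a subgroup `B` inside `O_p(B)`. -/
theorem mem_pCore_of_le {M : Type*} [Group M] [Finite M] [Fact p.Prime] {A B : Subgroup M}
    (hBA : B ≤ A) {x : M} (hx : x ∈ B) (hxA : x ∈ (pCore p A).map A.subtype) :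
    x ∈ (pCore p B).map B.subtype := by
  have hn : ((pCore p A).comap (Subgroup.inclusion hBA)).Normal :=
    (pCore_normal (X := A)).comap _
  have hp : IsPGroup p ((pCore p A).comap (Subgroup.inclusion hBA)) :=
    (isPGroup_pCore (X := A)).comap_of_injective _ (Subgroup.inclusion_injective hBA)
  obtain ⟨a, ha, rfl⟩ := hxA
  exact ⟨⟨_, hx⟩, le_pCore hn hp (show Subgroup.inclusion hBA ⟨A.subtype a, hx⟩ ∈ pCore p A from ha),
    rfl⟩

/-- An isomorphism of the ambient group carries `O_p` to `O_p`. -/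
theorem mem_pCore_of_equiv {M M' : Type*} [Group M] [Group M'] [Finite M'] [Fact p.Prime]
    [Finite M] (f : M ≃* M') {A : Subgroup M} {B : Subgroup M'} (h : A.map f.toMonoidHom = B)
    {x : M} (hx : x ∈ (pCore p A).map A.subtype) : f x ∈ (pCore p B).map B.subtype := by
  subst h
  obtain ⟨a, ha, rfl⟩ := hx
  let g : A →* A.map f.toMonoidHom := f.toMonoidHom.subgroupMap A
  have hg : Function.Surjective g := f.toMonoidHom.subgroupMap_surjective A
  have hn : ((pCore p A).map g).Normal := (pCore_normal (X := A)).map _ hg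
  exact ⟨g a, le_pCore hn ((isPGroup_pCore (X := A)).map g) ⟨a, ha, rfl⟩, rfl⟩

theorem congr_quadratic {P P' : Subgroup Ω} (e : P ≃* P') {χ : MulAut P}
    (h : ∀ a : P, (χ a⁻¹) * a * (χ a⁻¹) * (χ (χ a)) = 1) (a : P') :
    (MulAut.congr e χ a⁻¹) * a * (MulAut.congr e χ a⁻¹) *
      (MulAut.congr e χ (MulAut.congr e χ a)) = 1 := by
  obtain ⟨a, rfl⟩ := e.surjective a
  simp only [MulAut.congr_apply, MulEquiv.trans_apply, ← map_inv, MulEquiv.symm_apply_apply,
    ← map_mul, h a, map_one]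

/-- An automorphism acting quadratically on a finite group has order dividing a power of the
exponent. -/
theorem quadratic_pow {X : Type*} [Group X] (χ : MulAut X)
    (h : ∀ a : X, (χ a⁻¹) * a * (χ a⁻¹) * (χ (χ a)) = 1) {n : ℕ} (hn : ∀ a : X, a ^ n = 1) :
    χ ^ n = 1 := by
  have hd : ∀ a : X, χ (a⁻¹ * χ a) = a⁻¹ * χ a := by
    intro a
    have h1 : χ a⁻¹ * χ (χ a) = ((χ a⁻¹) * a)⁻¹ := by
      apply eq_inv_of_mul_eq_one_right
      rw [← mul_assoc]
      exact h a
    rw [map_mul, h1, mul_inv_rev, map_inv, inv_inv]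
  have hk : ∀ (k : ℕ) (a : X), (χ ^ k) a = a * (a⁻¹ * χ a) ^ k := by
    intro k
    induction k with
    | zero => simp
    | succ k ih =>
      intro a
      rw [pow_succ', MulAut.mul_apply, ih, map_mul, map_pow, hd, pow_succ',
        ← mul_assoc a, mul_inv_cancel_left]
  ext a
  rw [hk, hn, mul_one, MulAut.one_apply]

theorem mulAut_comm_of_cyclic {X : Type*} [Group X] [IsCyclic X] (α β : MulAut X) :
    α * β = β * α := by
  obtain ⟨g, hg⟩ := IsCyclic.exists_generator (α := X)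
  ext x
  obtain ⟨n, rfl⟩ := Subgroup.mem_zpowers_iff.1 (hg x)
  obtain ⟨i, hi⟩ := Subgroup.mem_zpowers_iff.1 (hg (α g))
  obtain ⟨j, hj⟩ := Subgroup.mem_zpowers_iff.1 (hg (β g))
  simp only [MulAut.mul_apply, map_zpow, ← hj, ← hi]
  simp only [← zpow_mul, mul_comm, mul_left_comm]

/-- The property of extending automorphisms is carried along isomorphisms. -/
theorem AutExtends.transport {Q R : Subgroup Ω} {h : Q ≤ R} (hext : AutExtends F h)
    {R' : Subgroup Ω} {e : R ≃* R'} (he : IsIso F e) :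
    ∃ (Q' : Subgroup Ω) (h' : Q' ≤ R') (eQ : Q ≃* Q'), IsIso F eQ ∧ AutExtends F h' := by
  obtain ⟨eQ, heQ, heQv⟩ := exists_iso_restrict h he
  have hle : (Q.subgroupOf R).map (R'.subtype.comp e.toMonoidHom) ≤ R' := by
    rintro _ ⟨x, -, rfl⟩
    exact (e x).2
  refine ⟨_, hle, eQ, heQ, fun α hα => ?_⟩
  have hα' : MulAut.congr eQ.symm α ∈ F.autGroup Q := by
    rw [← heQ.symm.autGroup_map]
    exact ⟨α, hα, rfl⟩
  obtain ⟨β, hβ, hβe⟩ := hext _ hα'
  refine ⟨MulAut.congr e β, ?_, fun x => ?_⟩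
  · rw [← he.autGroup_map]
    exact ⟨β, hβ, rfl⟩
  · obtain ⟨y, rfl⟩ := eQ.surjective x
    rw [show (⟨(eQ y : Ω), hle (eQ y).2⟩ : R') = e ⟨y, h y.2⟩ from Subtype.ext (heQv y)]
    simp only [MulAut.congr_apply, MulEquiv.trans_apply, MulEquiv.symm_apply_apply]
    rw [show β ⟨y, h y.2⟩ = ⟨((MulAut.congr eQ.symm α) y : Ω),
      h ((MulAut.congr eQ.symm α) y).2⟩ from Subtype.ext (hβe y)]
    exact (heQv _).symm.trans (congrArg Subtype.val (show eQ ((MulAut.congr eQ.symm α) y) = α (eQ y)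
      from eQ.apply_symm_apply _))

theorem AutExtends.trans' {Q R R' : Subgroup Ω} {h : Q ≤ R} (h₁ : AutExtends F h) {h' : R ≤ R'}
    (h₂ : AutExtends F h') : AutExtends F (h.trans h') :=
  h₁.trans h₂

/-- Every subgroup is conjugate below a fully normalized centric radical subgroup to which all
its automorphisms extend. -/
theorem exists_radical_extending [Finite S] [Fact p.Prime] (hS : IsPGroup p S)
    (hF : F.IsSaturated p) {Q : Subgroup Ω} (hQ : F.IsFullyNormalized Q) :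
    ∃ (Q' R : Subgroup Ω) (h : Q' ≤ R), F.IsConj Q Q' ∧ F.IsFullyNormalized R ∧ F.IsCentric R ∧
      F.IsRadical p R ∧ AutExtends F h := by
  have hQc := fullyNormalized_fullyCentralized hS hF hQ
  have hrec := (fullyNormalized_props hS hF hQ).2
  set C := centralizerIn S Q with hC
  have hCS : C ≤ S := centralizerIn_le S Q
  have hR₀S : Q ⊔ C ≤ S := sup_le hQ.1 hCS
  have := finite_of_le hR₀S
  have hext₀ : AutExtends F (le_sup_left : Q ≤ Q ⊔ C) := by
    intro α hα
    have hα' : IsIso F α := (mem_autGroup hQ.1).1 hα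
    obtain ⟨ψ, hψ, hψe⟩ := receptive_extend hrec hα'
    have hle : Q ⊔ C ≤ extender S Q (Q.subtype.comp α.toMonoidHom) :=
      sup_le (le_extender hα') (centralizerIn_le_extender S Q _)
    have hval : ∀ x : ↥(Q ⊔ C), (ψ.comp (Subgroup.inclusion hle)) x ∈ Q ⊔ C := by
      refine sup_map_le (R := Q ⊔ C) (fun y => ?_) fun y => ?_
      · exact (congrArg (fun z => z ∈ Q ⊔ C) (hψe y (le_extender hα' y.2))).mpr
          (Subgroup.mem_sup_left (α y).2)
      · exact Subgroup.mem_sup_right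
          (extension_centralizer (le_extender hα') (val_mem hψ) hψe y.2)
    obtain ⟨β, hβ, hβe⟩ := exists_aut_of_self_map (restrict_mem hle hψ) hval
    exact ⟨β, hβ, fun x => (hβe _).trans (hψe x _)⟩
  have hcen : F.IsCentric (Q ⊔ C) := by
    refine ⟨hR₀S, fun T hT => ?_⟩
    obtain ⟨e, he⟩ := isConj_iff_iso.1 hT
    obtain ⟨eQ, heQ, heQv⟩ := exists_iso_restrict (le_sup_left : Q ≤ Q ⊔ C) he
    generalize (Q.subgroupOf (Q ⊔ C)).map (T.subtype.comp e.toMonoidHom) = QT at eQ heQ heQv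
    have hQT : QT ≤ T := fun y hy => by
      obtain ⟨x, hx⟩ := eQ.surjective ⟨y, hy⟩
      rw [← show (eQ x : Ω) = y from congrArg Subtype.val hx, heQv x]
      exact (e _).2
    have := finite_of_le (centralizerIn_le S QT)
    have hsub : (C.subgroupOf (Q ⊔ C)).map (T.subtype.comp e.toMonoidHom) ≤ centralizerIn S QT := by
      rintro _ ⟨x, hx, rfl⟩
      refine mem_centralizerIn.2 ⟨he.tgt_le (e x).2, fun y hy => ?_⟩
      obtain ⟨q, hq⟩ := eQ.surjective ⟨y, hy⟩
      rw [← show (eQ q : Ω) = y from congrArg Subtype.val hq, heQv q]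
      have h1 : (⟨q, le_sup_left (b := C) q.2⟩ : ↥(Q ⊔ C)) * x =
          x * ⟨q, le_sup_left (b := C) q.2⟩ :=
        Subtype.ext ((mem_centralizerIn.1 hx).2 q q.2)
      have h2 := congrArg (T.subtype.comp e.toMonoidHom) h1
      rw [map_mul, map_mul] at h2
      exact h2
    have heq : (C.subgroupOf (Q ⊔ C)).map (T.subtype.comp e.toMonoidHom) = centralizerIn S QT := by
      refine eq_of_le_card hsub ?_
      rw [← Nat.card_congr ((C.subgroupOf (Q ⊔ C)).equivMapOfInjective _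
          (F.injective_of_mem he)).toEquiv,
        Nat.card_congr (Subgroup.subgroupOfEquivOfLe (le_sup_right : C ≤ Q ⊔ C)).toEquiv]
      exact hQc.2 QT (isConj_iff_iso.2 ⟨eQ, heQ⟩)
    intro g hg
    have h3 : g ∈ centralizerIn S QT := centralizerIn_antitone hQT hg
    rw [← heq] at h3
    obtain ⟨x, -, rfl⟩ := h3
    exact (e x).2
  obtain ⟨R₁, hR₁, hn₁⟩ := exists_fullyNormalized (F := F) hR₀S
  obtain ⟨e, he⟩ := isConj_iff_iso.1 hR₁
  obtain ⟨Q₁, hQ₁, eQ, heQ, hext₁⟩ := hext₀.transport he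
  obtain ⟨R₂, R, hR₂R, hconj, -, -, hRn, hRc, hRr, -, hext⟩ :=
    exists_radical_above hS hF hn₁ (conj_of_isCentric hcen hR₁)
  obtain ⟨e', he'⟩ := isConj_iff_iso.1 hconj
  obtain ⟨Q₂, hQ₂, eQ', heQ', hext₂⟩ := hext₁.transport he'
  exact ⟨Q₂, R, hQ₂.trans hR₂R, isConj_iff_iso.2 ⟨_, heQ.trans heQ'⟩, hRn, hRc, hRr,
    hext₂.trans' hext⟩

end Cfsg.Agent.Lib.Fusion
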