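import Cfsg.Prelude.Def_PLocal
import Cfsg.Prelude.Def_LocalEven
import Cfsg.Agent.Lib.Fusion.Involves
import Cfsg.Agent.Lib.Fusion.Invariant
import Cfsg.Agent.Lib.Fusion.GroupSylow
import Mathlib.LinearAlgebra.Matrix.Determinant.Basic
import Mathlib.LinearAlgebra.Matrix.SpecialLinearGroup

/-!
Subgroups acting on a `p`-subgroup with a section the natural `SL₂(p)`-module, and sections
isomorphic to `Qd(p)`.
-/

set_option autoImplicit false

namespace Cfsg.Agent.Lib.Fusion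

open Cfsg
open scoped Matrix

variable {p : ℕ}

/-- The natural module. -/
abbrev Plane (p : ℕ) : Type := Fin 2 → ZMod p

/-- `SL₂(p)`. -/
abbrev Lin (p : ℕ) : Type := Matrix.SpecialLinearGroup (Fin 2) (ZMod p)

/-- `K` normalizes the `p`-subgroup `R`, which has a section on which `K` induces the natural
action of `SL₂(p)`. -/
def QdAction (p : ℕ) {G : Type*} [Group G] (K R : Subgroup G) : Prop :=
  R ≤ K ∧ IsPGroup p R ∧ K ≤ Subgroup.normalizer (R : Set G) ∧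
    ∃ π : G → Plane p, (∀ a ∈ R, ∀ b ∈ R, π (a * b) = π a + π b) ∧
      (∀ v, ∃ r ∈ R, π r = v) ∧
      (∀ k ∈ K, ∃ M : Lin p, ∀ r ∈ R, π (k * r * k⁻¹) = (M : Matrix (Fin 2) (Fin 2) (ZMod p)) *ᵥ π r) ∧
      ∀ M : Lin p, ∃ k ∈ K, ∀ r ∈ R,
        π (k * r * k⁻¹) = (M : Matrix (Fin 2) (Fin 2) (ZMod p)) *ᵥ π r

theorem lin_eq_of_mulVec {M N : Lin p}
    (h : ∀ v : Plane p, (M : Matrix (Fin 2) (Fin 2) (ZMod p)) *ᵥ v =
      (N : Matrix (Fin 2) (Fin 2) (ZMod p)) *ᵥ v) : M = N :=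
  Subtype.ext (Matrix.ext_of_mulVec_single fun i => h _)

/-! ### Qd(p) gives such an action -/

theorem qd_rows {M : Matrix.SpecialLinearGroup (Fin 3) (ZMod p)} (hM : M ∈ Cfsg.qd p) :
    (M : Matrix (Fin 3) (Fin 3) (ZMod p)) 2 0 = 0 ∧ (M : Matrix (Fin 3) (Fin 3) (ZMod p)) 2 1 = 0 ∧
      (M : Matrix (Fin 3) (Fin 3) (ZMod p)) 2 2 = 1 := by
  induction hM using Subgroup.closure_induction with
  | mem x hx => exact hx
  | one => simp
  | mul x y _ _ hx hy =>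
    simp [Matrix.mul_apply, Fin.sum_univ_three, hx.1, hx.2.1, hx.2.2, hy.1, hy.2.1, hy.2.2]
  | inv x _ hx =>
    have h := congrArg (fun A : Matrix.SpecialLinearGroup (Fin 3) (ZMod p) =>
      (A : Matrix (Fin 3) (Fin 3) (ZMod p))) (mul_inv_cancel x)
    simp only [Matrix.SpecialLinearGroup.coe_mul, Matrix.SpecialLinearGroup.coe_one] at h
    have e : ∀ j, ((x : Matrix (Fin 3) (Fin 3) (ZMod p)) *
        ((x⁻¹ : Matrix.SpecialLinearGroup (Fin 3) (ZMod p)) : Matrix (Fin 3) (Fin 3) (ZMod p))) 2 j =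
        ((x⁻¹ : Matrix.SpecialLinearGroup (Fin 3) (ZMod p)) : Matrix (Fin 3) (Fin 3) (ZMod p)) 2 j := by
      intro j; simp [Matrix.mul_apply, Fin.sum_univ_three, hx.1, hx.2.1, hx.2.2]
    refine ⟨?_, ?_, ?_⟩ <;> rw [← e, h] <;> simp

/-- The block embedding of an affine map. -/
def affMatrix (M : Matrix (Fin 2) (Fin 2) (ZMod p)) (v : Plane p) :
    Matrix (Fin 3) (Fin 3) (ZMod p) :=
  !![M 0 0, M 0 1, v 0; M 1 0, M 1 1, v 1; 0, 0, 1]

theorem affMatrix_det (M : Lin p) (v : Plane p) :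
    (affMatrix (M : Matrix (Fin 2) (Fin 2) (ZMod p)) v).det = 1 := by
  have h := M.2
  rw [Matrix.det_fin_two] at h
  simp [affMatrix, Matrix.det_fin_three, h]

/-- An affine map as an element of `Qd(p)`. -/
def aff (M : Lin p) (v : Plane p) : ↥(Cfsg.qd p) :=
  ⟨⟨affMatrix (M : Matrix (Fin 2) (Fin 2) (ZMod p)) v, affMatrix_det M v⟩,
    Subgroup.subset_closure ⟨rfl, rfl, rfl⟩⟩

theorem aff_mul (M N : Lin p) (v w : Plane p) :
    aff M v * aff N w = aff (M * N) (v + (M : Matrix (Fin 2) (Fin 2) (ZMod p)) *ᵥ w) := by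
  apply Subtype.ext
  apply Subtype.ext
  show affMatrix (M : Matrix (Fin 2) (Fin 2) (ZMod p)) v *
      affMatrix (N : Matrix (Fin 2) (Fin 2) (ZMod p)) w =
    affMatrix ((M * N : Lin p) : Matrix (Fin 2) (Fin 2) (ZMod p))
      (v + (M : Matrix (Fin 2) (Fin 2) (ZMod p)) *ᵥ w)
  rw [Matrix.SpecialLinearGroup.coe_mul]
  ext i j
  fin_cases i <;> fin_cases j <;>
    simp [affMatrix, Matrix.mul_apply, Fin.sum_univ_three, Fin.sum_univ_two, Matrix.mulVec,
      dotProduct] <;> ring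

theorem aff_inj {M N : Lin p} {v w : Plane p} (h : aff M v = aff N w) : M = N ∧ v = w := by
  have h1 : ∀ i j, affMatrix (M : Matrix (Fin 2) (Fin 2) (ZMod p)) v i j =
      affMatrix (N : Matrix (Fin 2) (Fin 2) (ZMod p)) w i j := fun i j =>
    congrArg (fun A : ↥(Cfsg.qd p) =>
      ((A : Matrix.SpecialLinearGroup (Fin 3) (ZMod p)) : Matrix (Fin 3) (Fin 3) (ZMod p)) i j) h
  constructor
  · apply Subtype.ext
    ext i j
    fin_cases i <;> fin_cases j
    · exact h1 0 0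
    · exact h1 0 1
    · exact h1 1 0
    · exact h1 1 1
  · funext i
    fin_cases i
    · exact h1 0 2
    · exact h1 1 2

theorem aff_surjective (x : ↥(Cfsg.qd p)) : ∃ (M : Lin p) (v : Plane p), aff M v = x := by
  obtain ⟨h0, h1, h2⟩ := qd_rows x.2
  set X := ((x : Matrix.SpecialLinearGroup (Fin 3) (ZMod p)) : Matrix (Fin 3) (Fin 3) (ZMod p))
    with hX
  have hdet : X.det = 1 := (x : Matrix.SpecialLinearGroup (Fin 3) (ZMod p)).2
  rw [Matrix.det_fin_three, h0, h1, h2] at hdet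
  refine ⟨⟨!![X 0 0, X 0 1; X 1 0, X 1 1], ?_⟩, ![X 0 2, X 1 2], ?_⟩
  · rw [Matrix.det_fin_two_of, ← hdet]
    ring
  · apply Subtype.ext
    apply Subtype.ext
    show affMatrix _ _ = X
    ext i j
    fin_cases i <;> fin_cases j <;> simp [affMatrix, h0, h1, h2]

theorem key {G : Type*} [Group G] (K : Subgroup G) (π : G → Plane p) (v : K → Plane p)
    (M : K → Lin p) (hπ : ∀ x : K, π x = v x)
    (hmul : ∀ a b : K, M (a * b) = M a * M b ∧
      v (a * b) = v a + (M a : Matrix (Fin 2) (Fin 2) (ZMod p)) *ᵥ v b) (k r : K) (hr : M r = 1) :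
    π ((k : G) * r * (k : G)⁻¹) = (M k : Matrix (Fin 2) (Fin 2) (ZMod p)) *ᵥ π r := by
  rw [show (k : G) * r * (k : G)⁻¹ = ((k * r * k⁻¹ : K) : G) from rfl, hπ, hπ]
  have h1 : v (k * r * k⁻¹ * k) = v (k * r) := by rw [inv_mul_cancel_right]
  have hM : M (k * r * k⁻¹) = 1 := by
    let f : K →* Lin p := MonoidHom.mk' M fun a b => (hmul a b).1
    show f (k * r * k⁻¹) = 1
    rw [map_mul, map_mul, show f r = 1 from hr, mul_one, map_inv, mul_inv_cancel]
  rw [(hmul (k * r * k⁻¹) k).2, (hmul k r).2, hM, Matrix.SpecialLinearGroup.coe_one, Matrix.one_mulVec,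
    add_comm (v k)] at h1
  exact add_right_cancel h1

theorem exists_qdAction_of_involves [Fact p.Prime] {G : Type*} [Group G] [Finite G]
    (h : Involves ↥(Cfsg.qd p) G) : ∃ K R : Subgroup G, QdAction p K R := by
  classical
  obtain ⟨K, f, hf⟩ := exists_surjective_of_involves h
  choose M v hMv using fun k : K => aff_surjective (f k)
  have hmul : ∀ a b : K, M (a * b) = M a * M b ∧
      v (a * b) = v a + (M a : Matrix (Fin 2) (Fin 2) (ZMod p)) *ᵥ v b := by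
    intro a b
    refine aff_inj ?_
    rw [← aff_mul, hMv, hMv, hMv, map_mul]
  let Mh : K →* Lin p := MonoidHom.mk' M fun a b => (hmul a b).1
  let U : Subgroup G := Mh.ker.map K.subtype
  have hUK : U ≤ K := Subgroup.map_subtype_le _
  have hKU : K ≤ Subgroup.normalizer (U : Set G) := by
    intro k hk
    refine Subgroup.mem_normalizer_iff.2 fun x => ⟨?_, fun hx => ?_⟩
    · rintro ⟨u, hu, rfl⟩
      exact ⟨⟨k, hk⟩ * u * ⟨k, hk⟩⁻¹, Mh.normal_ker.conj_mem u hu _, rfl⟩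
    · obtain ⟨u, hu, hux⟩ := hx
      refine ⟨⟨k, hk⟩⁻¹ * u * ⟨k, hk⟩, ?_, ?_⟩
      · simpa using Mh.normal_ker.conj_mem u hu (⟨k, hk⟩⁻¹)
      · simp only [Subgroup.coe_subtype, Subgroup.coe_mul, Subgroup.coe_inv] at hux ⊢
        rw [hux]
        group
  obtain ⟨R, hR, -⟩ := exists_isSylowIn (p := p) (K := U) (R := ⊥) bot_le IsPGroup.of_bot
  have hRK : R ≤ K := hR.1.trans hUK
  have hM1 : ∀ (r : G) (hr : r ∈ U), M ⟨r, hUK hr⟩ = 1 := by
    rintro _ ⟨u, hu, rfl⟩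
    exact hu
  let K' : Subgroup G := K ⊓ Subgroup.normalizer (R : Set G)
  let π : G → Plane p := fun x => if hx : x ∈ K then v ⟨x, hx⟩ else 0
  have hπ : ∀ (x : K), π x = v x := fun x => dif_pos x.2
  refine ⟨K', R, le_inf hRK Subgroup.le_normalizer, hR.2.1, inf_le_right, π, ?_, ?_, ?_, ?_⟩
  · intro a ha b hb
    rw [show a * b = ((⟨a, hRK ha⟩ * ⟨b, hRK hb⟩ : K) : G) from rfl, hπ, (hmul _ _).2,
      hM1 a (hR.1 ha), Matrix.SpecialLinearGroup.coe_one, Matrix.one_mulVec]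
    exact congrArg₂ _ (hπ ⟨a, hRK ha⟩).symm (hπ ⟨b, hRK hb⟩).symm
  · intro w
    obtain ⟨u, hu⟩ := hf (aff 1 w)
    obtain ⟨hu1, hu2⟩ := aff_inj ((hMv u).trans hu)
    have huU : (u : G) ∈ U := ⟨u, hu1, rfl⟩
    -- the image of the Sylow subgroup is the whole translation group
    let T : Multiplicative (Plane p) →* ↥(Cfsg.qd p) := MonoidHom.mk'
      (fun x => aff 1 x.toAdd) fun a b => by
        rw [aff_mul, Matrix.SpecialLinearGroup.coe_one, Matrix.one_mulVec, one_mul]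
        rfl
    let πU : U →* Multiplicative (Plane p) := MonoidHom.mk'
      (fun x => Multiplicative.ofAdd (v ⟨x, hUK x.2⟩)) fun a b => by
        rw [← ofAdd_add]
        refine congrArg Multiplicative.ofAdd ?_
        rw [show (⟨((a * b : U) : G), hUK (a * b).2⟩ : K) = ⟨a, hUK a.2⟩ * ⟨b, hUK b.2⟩ from rfl,
          (hmul _ _).2, hM1 a a.2, Matrix.SpecialLinearGroup.coe_one, Matrix.one_mulVec]
    have hsurj : Function.Surjective πU := by
      intro x
      obtain ⟨u', hu'⟩ := hf (aff 1 x.toAdd)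
      obtain ⟨h1, h2⟩ := aff_inj ((hMv u').trans hu')
      exact ⟨⟨u', u', h1, rfl⟩, congrArg Multiplicative.ofAdd h2⟩
    have hWp : IsPGroup p (Multiplicative (Plane p)) := fun x => ⟨1, by
      apply Multiplicative.toAdd.injective
      show p ^ 1 • x.toAdd = 0
      rw [pow_one]
      funext i
      simp⟩
    have htop := ((hR.toSylow).mapSurjective hsurj).3 (hWp.to_subgroup ⊤) le_top
    have hmem : Multiplicative.ofAdd w ∈
        (((hR.toSylow).mapSurjective hsurj : Sylow p _) : Subgroup (Multiplicative (Plane p))) :=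
      htop ▸ Subgroup.mem_top _
    rw [Sylow.coe_mapSurjective] at hmem
    obtain ⟨r, hr, hrw⟩ := hmem
    exact ⟨r, hr, (hπ ⟨r, hUK r.2⟩).trans (congrArg Multiplicative.toAdd hrw)⟩
  · intro k hk
    refine ⟨M ⟨k, hk.1⟩, fun r hr => ?_⟩
    exact key K π v M hπ hmul ⟨k, hk.1⟩ ⟨r, hRK hr⟩ (hM1 r (hR.1 hr))
  · intro N
    obtain ⟨k, hk⟩ := hf (aff N 0)
    obtain ⟨hk1, -⟩ := aff_inj ((hMv k).trans hk)
    obtain ⟨n, hn, hnk⟩ := hR.exists_conj_le
      (R := R.map (MulAut.conj (k : G)).toMonoidHom)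
      (by
        rintro _ ⟨x, hx, rfl⟩
        exact conj_mem_of_mem_normalizer (hKU k.2) (hR.1 hx))
      (hR.2.1.map _)
    have hmem : n * (k : G) ∈ K' := by
      refine ⟨K.mul_mem (hUK hn) k.2, mem_normalizer_of_conj_mem fun x hx => ?_⟩
      have := hnk _ ⟨x, hx, rfl⟩
      simpa [mul_assoc] using this
    refine ⟨n * k, hmem, fun r hr => ?_⟩
    have h1 := key K π v M hπ hmul ⟨n * k, hmem.1⟩ ⟨r, hRK hr⟩ (hM1 r (hR.1 hr))
    rw [show (⟨n * k, hmem.1⟩ : K) = ⟨n, hUK hn⟩ * k from rfl, (hmul _ _).1, hM1 n hn, one_mul,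
      hk1] at h1
    exact h1

/-! ### Transport and the converse -/

/-- A `q`-subgroup of the target lifts into a Sylow `q`-subgroup of its preimage. -/
theorem exists_lift_sylow {q : ℕ} [Fact q.Prime] {X Y : Type*} [Group X] [Finite X] [Group Y]
    (f : X →* Y) (hf : Function.Surjective f) {m : Y} {T : Subgroup X}
    (hT : IsSylowIn q T ((Subgroup.zpowers m).comap f)) (hZ : IsPGroup q (Subgroup.zpowers m)) :
    ∃ t ∈ T, f t = m := by
  set W := (Subgroup.zpowers m).comap f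
  have hsurj : Function.Surjective (f.subgroupComap (Subgroup.zpowers m)) :=
    MonoidHom.subgroupComap_surjective_of_surjective f _ hf
  have htop := (hT.toSylow.mapSurjective hsurj).3 (hZ.to_subgroup ⊤) le_top
  have hmem : (⟨m, Subgroup.mem_zpowers m⟩ : Subgroup.zpowers m) ∈
      ((hT.toSylow.mapSurjective hsurj : Sylow q _) : Subgroup (Subgroup.zpowers m)) :=
    htop ▸ Subgroup.mem_top _
  rw [Sylow.coe_mapSurjective] at hmem
  obtain ⟨t, ht, htm⟩ := hmem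
  exact ⟨t, ht, congrArg Subtype.val htm⟩

theorem QdAction.map [Fact p.Prime] {G H : Type*} [Group G] [Group H] {N : Subgroup G}
    {K R : Subgroup G} (h : QdAction p K R) (hKN : K ≤ N) (f : N →* H)
    (hinj : ∀ r : N, (r : G) ∈ R → f r = 1 → r = 1) :
    QdAction p ((K.subgroupOf N).map f) ((R.subgroupOf N).map f) := by
  classical
  obtain ⟨hRK, hRp, hKR, π, hadd, hsurj, hact, hlin⟩ := h
  have hRN := hRK.trans hKN
  have hconjR : ∀ k ∈ K, ∀ r ∈ R, k * r * k⁻¹ ∈ R := fun k hk r hr =>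
    conj_mem_of_mem_normalizer (hKR hk) hr
  let π' : H → Plane p := fun y => if h : ∃ r : N, (r : G) ∈ R ∧ f r = y then π h.choose else 0
  have hπ' : ∀ r : N, (r : G) ∈ R → π' (f r) = π r := by
    intro r hr
    have hex : ∃ r' : N, (r' : G) ∈ R ∧ f r' = f r := ⟨r, hr, rfl⟩
    show (if h : ∃ r' : N, (r' : G) ∈ R ∧ f r' = f r then π h.choose else 0) = _
    rw [dif_pos hex]
    obtain ⟨hr', he⟩ := hex.choose_spec
    have h1 := hinj (r⁻¹ * hex.choose) (R.mul_mem (R.inv_mem hr) hr')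
      (by rw [map_mul, map_inv, he, inv_mul_cancel])
    exact congrArg (fun z : N => π (z : G)) (inv_mul_eq_one.1 h1).symm
  have hact' : ∀ (k : N) (M : Lin p), (k : G) ∈ K →
      (∀ r ∈ R, π (k * r * k⁻¹) = (M : Matrix (Fin 2) (Fin 2) (ZMod p)) *ᵥ π r) →
      ∀ y ∈ (R.subgroupOf N).map f,
        π' (f k * y * (f k)⁻¹) = (M : Matrix (Fin 2) (Fin 2) (ZMod p)) *ᵥ π' y := by
    rintro k M hk hM _ ⟨r, hr, rfl⟩
    rw [← map_inv, ← map_mul, ← map_mul, hπ' r hr, hπ' (k * r * k⁻¹) (hconjR k hk r hr)]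
    exact hM r hr
  refine ⟨Subgroup.map_mono fun x hx => hRK hx, (hRp.comap_of_injective N.subtype N.subtype_injective).map f,
    ?_, π', ?_, ?_, ?_, ?_⟩
  · rintro _ ⟨k, hk, rfl⟩
    refine Subgroup.mem_normalizer_iff.2 fun y => ⟨?_, ?_⟩
    · rintro ⟨r, hr, rfl⟩
      exact ⟨k * r * k⁻¹, hconjR k hk r hr, by simp⟩
    · rintro ⟨r, hr, he⟩
      refine ⟨k⁻¹ * r * k, ?_, ?_⟩
      · show ((k⁻¹ * r * k : N) : G) ∈ R
        simpa using hconjR _ (K.inv_mem hk) r hr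
      · rw [map_mul, map_mul, map_inv, he]
        group
  · rintro _ ⟨a, ha, rfl⟩ _ ⟨b, hb, rfl⟩
    rw [← map_mul, hπ' a ha, hπ' b hb, hπ' (a * b) (R.mul_mem ha hb)]
    exact hadd a ha b hb
  · intro v
    obtain ⟨r, hr, hrv⟩ := hsurj v
    exact ⟨f ⟨r, hRN hr⟩, ⟨_, hr, rfl⟩, (hπ' ⟨r, hRN hr⟩ hr).trans hrv⟩
  · rintro _ ⟨k, hk, rfl⟩
    obtain ⟨M, hM⟩ := hact k hk
    exact ⟨M, hact' k M hk hM⟩
  · intro M
    obtain ⟨k, hk, hM⟩ := hlin M
    exact ⟨f ⟨k, hKN hk⟩, ⟨_, hk, rfl⟩, hact' ⟨k, hKN hk⟩ M hk hM⟩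

theorem involves_qd_of_qdAction [Fact p.Prime] (hp : p ≠ 2) {G : Type*} [Group G] [Finite G]
    {K R : Subgroup G} (h : QdAction p K R) : Involves ↥(Cfsg.qd p) G := by
  classical
  obtain ⟨hRK, hRp, hKR, π, hadd, hsurj, hact, hlin⟩ := h
  choose A hA using fun k : K => hact k k.2
  have huniq : ∀ (k : K) (M : Lin p), (∀ r ∈ R, π ((k : G) * r * (k : G)⁻¹) =
      (M : Matrix (Fin 2) (Fin 2) (ZMod p)) *ᵥ π r) → A k = M := by
    intro k M hM
    refine lin_eq_of_mulVec fun v => ?_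
    obtain ⟨r, hr, rfl⟩ := hsurj v
    rw [← hA k r hr, hM r hr]
  have hconjR : ∀ k : K, ∀ r ∈ R, (k : G) * r * (k : G)⁻¹ ∈ R := fun k r hr =>
    conj_mem_of_mem_normalizer (hKR k.2) hr
  let Ah : K →* Lin p := MonoidHom.mk' A fun a b => huniq _ _ fun r hr => by
    rw [show ((a * b : K) : G) * r * ((a * b : K) : G)⁻¹ = a * (b * r * (b : G)⁻¹) * (a : G)⁻¹ by
      rw [Subgroup.coe_mul]; group, hA a _ (hconjR b r hr), hA b r hr,
      Matrix.SpecialLinearGroup.coe_mul, Matrix.mulVec_mulVec]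
  have hπ1 : π 1 = 0 := by
    have h1 := hadd 1 R.one_mem 1 R.one_mem
    rw [mul_one] at h1
    simpa using h1
  have hπinv : ∀ r ∈ R, π r⁻¹ = -π r := fun r hr => by
    have h1 := hadd r hr r⁻¹ (R.inv_mem hr)
    rw [mul_inv_cancel, hπ1] at h1
    exact (neg_eq_of_add_eq_zero_right h1.symm).symm
  have hAR : ∀ r : K, (r : G) ∈ R → Ah r = 1 := fun r hr => huniq _ _ fun s hs => by
    rw [hadd _ (R.mul_mem hr hs) _ (R.inv_mem hr), hadd _ hr _ hs, hπinv _ hr,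
      Matrix.SpecialLinearGroup.coe_one, Matrix.one_mulVec]
    abel
  have hAsurj : Function.Surjective Ah := fun M => by
    obtain ⟨k, hk, hM⟩ := hlin M
    exact ⟨⟨k, hk⟩, huniq _ _ hM⟩
  -- the preimage of the central involution
  let m : Lin p := ⟨-1, by simp [Matrix.det_neg]⟩
  have hm2 : m * m = 1 := Subtype.ext (show (-1 : Matrix (Fin 2) (Fin 2) (ZMod p)) * -1 = 1 by simp)
  have hmc : ∀ x : Lin p, x * m = m * x := fun x => Subtype.ext (show (x : Matrix (Fin 2) (Fin 2) (ZMod p)) * -1 = -1 * (x : Matrix (Fin 2) (Fin 2) (ZMod p)) by simp)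
  have hmn : ∀ v : Plane p, (m : Matrix (Fin 2) (Fin 2) (ZMod p)) *ᵥ v = -v := fun v => by
    show (-1 : Matrix (Fin 2) (Fin 2) (ZMod p)) *ᵥ v = -v
    rw [Matrix.neg_mulVec, Matrix.one_mulVec]
  set Z := Subgroup.zpowers m
  have hZn : Z.Normal := ⟨fun a ha b => by
    obtain ⟨i, rfl⟩ := Subgroup.mem_zpowers_iff.1 ha
    have hc : Commute b (m ^ i) := Commute.zpow_right (hmc b) i
    rw [hc.eq, mul_inv_cancel_right]
    exact Subgroup.zpow_mem _ (Subgroup.mem_zpowers m) i⟩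
  have hZ2 : IsPGroup 2 Z := by
    rintro ⟨z, hz⟩
    obtain ⟨i, rfl⟩ := Subgroup.mem_zpowers_iff.1 hz
    refine ⟨1, Subtype.ext ?_⟩
    show (m ^ i) ^ (2 ^ 1) = 1
    rw [pow_one, pow_two, ← zpow_add, ← two_mul, zpow_mul, zpow_two, hm2, one_zpow]
  have : Fact (Nat.Prime 2) := ⟨Nat.prime_two⟩
  set W := Z.comap Ah
  have hWn : W.Normal := hZn.comap Ah
  obtain ⟨T, hT, -⟩ := exists_isSylowIn (p := 2) (K := W) (R := ⊥) bot_le IsPGroup.of_bot
  let Y : Subgroup K := Subgroup.normalizer (T : Set K)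
  have hY : ∀ M : Lin p, ∃ y ∈ Y, Ah y = M := by
    intro M
    obtain ⟨k, rfl⟩ := hAsurj M
    obtain ⟨n, hn, hnk⟩ := hT.exists_conj_le (R := T.map (MulAut.conj k).toMonoidHom)
      (by
        rintro _ ⟨x, hx, rfl⟩
        exact hWn.conj_mem _ (hT.1 hx) k)
      (hT.2.1.map _)
    have hmem : n * k ∈ Y := mem_normalizer_of_conj_mem fun x hx => by
      have := hnk _ ⟨x, hx, rfl⟩
      simpa [mul_assoc] using this
    obtain ⟨i, hi⟩ := Subgroup.mem_zpowers_iff.1 (show Ah n ∈ Z from hn)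
    -- correct the sign inside the Sylow subgroup
    obtain ⟨t, ht, htm⟩ : ∃ t ∈ T, Ah t = m := by
      exact exists_lift_sylow Ah hAsurj hT hZ2
    refine ⟨(t ^ i)⁻¹ * (n * k), Y.mul_mem (Y.inv_mem (Subgroup.le_normalizer (zpow_mem ht i))) hmem, ?_⟩
    rw [map_mul, map_mul, map_inv, map_zpow, htm, hi, inv_mul_cancel_left]
  obtain ⟨t, ht, htm⟩ : ∃ t ∈ T, Ah t = m := exists_lift_sylow Ah hAsurj hT hZ2
  have hYR : ∀ r : K, (r : G) ∈ R → r ∈ Y → π r = 0 := by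
    intro r hr hrY
    have hcomm : r * t * r⁻¹ * t⁻¹ ∈ T :=
      T.mul_mem (conj_mem_of_mem_normalizer hrY ht) (T.inv_mem ht)
    have hcommR : ((r * t * r⁻¹ * t⁻¹ : K) : G) ∈ R := by
      rw [show r * t * r⁻¹ * t⁻¹ = r * (t * r⁻¹ * t⁻¹) by group]
      exact R.mul_mem hr (hconjR t _ (R.inv_mem hr))
    have hone : r * t * r⁻¹ * t⁻¹ = 1 := by
      obtain ⟨i, hi⟩ := hT.2.1 ⟨_, hcomm⟩
      obtain ⟨j, hj⟩ := hRp ⟨_, hcommR⟩
      have hj' : (r * t * r⁻¹ * t⁻¹) ^ p ^ j = 1 := Subtype.ext (by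
        rw [Subgroup.coe_pow]
        exact congrArg Subtype.val hj)
      exact eq_one_of_pGroup_coprime (p := p) ⟨j, hj'⟩ (congrArg Subtype.val hi :)
        (Nat.Coprime.pow_left i ((Nat.coprime_primes Nat.prime_two Fact.out).2 (Ne.symm hp)))
    have h1 : (t : G) * r * (t : G)⁻¹ = r := by
      have h2 : t * r * t⁻¹ = r := by
        have := mul_inv_eq_one.1 hone
        calc t * r * t⁻¹ = (r * t * r⁻¹) * r * t⁻¹ := by rw [this]
          _ = r := by group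
      exact congrArg Subtype.val h2
    have h3 := hA t r hr
    rw [show A t = m from htm, hmn, h1] at h3
    have h4 : π r + π r = 0 := by
      conv_lhs => arg 1; rw [h3]
      exact neg_add_cancel _
    funext i
    have h5 : (2 : ZMod p) * π r i = 0 := by
      rw [two_mul]
      exact congrFun h4 i
    refine (mul_eq_zero.1 h5).resolve_left fun h6 => hp ?_
    have h7 : ((2 : ℕ) : ZMod p) = 0 := by exact_mod_cast h6
    exact (Nat.prime_dvd_prime_iff_eq Fact.out Nat.prime_two).1 ((ZMod.natCast_eq_zero_iff _ _).1 h7)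
  -- the semidirect product
  let R' : Subgroup K := R.subgroupOf K
  have hYn : Y ≤ Subgroup.normalizer (R' : Set K) := fun y _ =>
    mem_normalizer_of_conj_mem fun r hr => hconjR y r hr
  let H : Subgroup K := Y ⊔ R'
  have hdec : ∀ h : H, ∃ r : K, (r : G) ∈ R ∧ r⁻¹ * h ∈ Y := by
    intro h
    obtain ⟨y, hy, b, hb, hh⟩ := mem_sup_of_normalizes hYn h.2
    refine ⟨y * b * y⁻¹, hconjR y _ hb, ?_⟩
    rw [← hh, show (y * b * y⁻¹)⁻¹ * (y * b) = y by group]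
    exact hy
  choose ρ hρR hρY using hdec
  have hwell : ∀ (h : H) (r : K), (r : G) ∈ R → r⁻¹ * (h : K) ∈ Y → π r = π (ρ h) := by
    intro h r hr hrY
    have h1 : (ρ h)⁻¹ * r ∈ Y := by
      have := Y.mul_mem (hρY h) (Y.inv_mem hrY)
      rwa [mul_inv_rev, inv_inv, mul_assoc, mul_inv_cancel_left] at this
    have h2 := hYR _ (R.mul_mem (R.inv_mem (hρR h)) hr) h1
    rw [Subgroup.coe_mul, Subgroup.coe_inv, hadd _ (R.inv_mem (hρR h)) _ hr,
      hπinv _ (hρR h), neg_add_eq_zero] at h2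
    exact h2.symm
  have hπcj : ∀ a x r : K, (a : G) ∈ R → (r : G) ∈ R →
      π ((a * (x * r * x⁻¹) : K) : G) = π a +
        (A x : Matrix (Fin 2) (Fin 2) (ZMod p)) *ᵥ π r := by
    intro a x r ha hr
    rw [show ((a * (x * r * x⁻¹) : K) : G) = (a : G) * ((x : G) * r * (x : G)⁻¹) from rfl,
      hadd _ ha _ (hconjR x r hr), hA x r hr]
  let F : H →* ↥(Cfsg.qd p) := MonoidHom.mk' (fun h => aff (Ah h) (π (ρ h))) fun a b => by
    have hr2 : ((ρ a * (((ρ a)⁻¹ * a) * ρ b * ((ρ a)⁻¹ * a)⁻¹) : K) : G) ∈ R :=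
      R.mul_mem (hρR a) (hconjR _ _ (hρR b))
    have hw := hwell (a * b) _ hr2 (by
      rw [show (ρ a * (((ρ a)⁻¹ * a) * ρ b * ((ρ a)⁻¹ * a)⁻¹))⁻¹ * ((a * b : H) : K) =
        ((ρ a)⁻¹ * a) * ((ρ b)⁻¹ * b) by rw [Subgroup.coe_mul]; group]
      exact Y.mul_mem (hρY a) (hρY b))
    rw [hπcj _ _ _ (hρR a) (hρR b)] at hw
    have e3 : A ((ρ a)⁻¹ * a) = A a := by
      show Ah ((ρ a)⁻¹ * a) = Ah a
      rw [map_mul, map_inv, hAR _ (hρR a), inv_one, one_mul]
    rw [e3] at hw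
    rw [aff_mul, ← hw, Subgroup.coe_mul, map_mul]
    rfl
  refine involves_mono K.subtype K.subtype_injective (involves_of_surjective F fun q => ?_)
  obtain ⟨M, v, rfl⟩ := aff_surjective q
  obtain ⟨y, hy, hyM⟩ := hY M
  obtain ⟨r, hr, hrv⟩ := hsurj v
  set r' : K := ⟨r, hRK hr⟩
  refine ⟨⟨r' * y, H.mul_mem (Subgroup.mem_sup_right hr) (Subgroup.mem_sup_left hy)⟩, ?_⟩
  show aff (Ah (r' * y)) (π (ρ _)) = aff M v
  rw [← hwell ⟨r' * y, H.mul_mem (Subgroup.mem_sup_right hr) (Subgroup.mem_sup_left hy)⟩ r' hr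
    (by rw [inv_mul_cancel_left]; exact hy), map_mul, hAR r' hr, one_mul, hyM]
  exact congrArg (aff M) hrv

end Cfsg.Agent.Lib.Fusion
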