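import Cfsg.Agent.Lib.Fusion.SatCriterion
import Cfsg.Agent.Lib.Fusion.IndexPrime
import Cfsg.Agent.Lib.Fusion.CentricMaps

/-!
The `p'`-residual subsystem of a saturated system.
-/

set_option autoImplicit false

namespace Cfsg.Agent.Lib.Fusion.Residual

open Cfsg Cfsg.FusionSystem

variable {Ω : Type*} [Group Ω] {S : Subgroup Ω} {F : FusionSystem S} {p : ℕ}

/-- Subsystems with all `p`-parts on centric subgroups, closed under extending from them. -/
structure Full (F : FusionSystem S) (p : ℕ) (D : FusionSystem S) : Prop where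
  sub : D.IsSubsystemOf F
  pPart : ∀ P : Subgroup Ω, F.IsCentric P → IndexPrime.pPart F p P ≤ D.autGroup P
  closed : ∀ α ∈ F.autGroup S, ∀ (P : Subgroup Ω) (hP : F.IsCentric P),
    (S.subtype.comp (α : MulAut S).toMonoidHom).comp (Subgroup.inclusion hP.1) ∈ D.Hom P →
      α ∈ D.autGroup S

theorem full_self (F : FusionSystem S) (p : ℕ) : Full F p F :=
  ⟨fun _ => subset_rfl, fun P _ => IndexPrime.pPart_le F p P, fun _ hα _ _ _ => hα⟩

/-- The least such subsystem. -/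
def res (F : FusionSystem S) (p : ℕ) : FusionSystem S where
  Hom P := {φ | φ ∈ F.Hom P ∧ ∀ D, Full F p D → φ ∈ D.Hom P}
  le_of_mem h := F.le_of_mem h.1
  injective_of_mem h := F.injective_of_mem h.1
  conj_mem hP hg := ⟨F.conj_mem hP hg, fun D _ => D.conj_mem hP hg⟩
  comp_mem h h' hm := ⟨F.comp_mem h.1 h'.1 hm, fun D hD => D.comp_mem (h.2 D hD) (h'.2 D hD) hm⟩
  inv_mem := by
    intro P φ h
    obtain ⟨ψ, hψ, hψe⟩ := F.inv_mem h.1
    refine ⟨ψ, ⟨hψ, fun D hD => ?_⟩, hψe⟩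
    obtain ⟨ψ', hψ', hψe'⟩ := D.inv_mem (h.2 D hD)
    refine mem_of_agree le_rfl hψ' ?_
    rintro ⟨_, x, rfl⟩
    rw [hψe x, hψe' x]

theorem res_full (F : FusionSystem S) (p : ℕ) : Full F p (res F p) := by
  refine ⟨fun P φ h => h.1, fun P hP => ?_, fun α hα P hP h => ?_⟩
  · intro γ hγ
    exact (mem_autGroup hP.1).2 ⟨(mem_autGroup hP.1).1 (IndexPrime.pPart_le F p P hγ),
      fun D hD => (mem_autGroup hP.1).1 (hD.pPart P hP hγ)⟩
  · exact (mem_autGroup le_rfl).2 ⟨(mem_autGroup le_rfl).1 hα,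
      fun D hD => (mem_autGroup le_rfl).1 (hD.closed α hα P hP (h.2 D hD))⟩

theorem res_le_of_full {D : FusionSystem S} (hD : Full F p D) : (res F p).IsSubsystemOf D :=
  fun _ _ h => h.2 D hD

variable [Finite S] [Fact p.Prime]

theorem decomposes (hS : IsPGroup p S) (hF : F.IsSaturated p) {E : FusionSystem S}
    (hE : Full F p E) {P : Subgroup Ω} {φ : P →* Ω} (hφ : φ ∈ F.Hom P) :
    ∃ α ∈ F.autGroup S, ∃ φ₀ ∈ E.Hom P,
      ∀ (x : P) (hx : φ₀ x ∈ S), φ x = ((α ⟨φ₀ x, hx⟩ : S) : Ω) := by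
  obtain ⟨α, hα, φ₀, hφ₀, h⟩ := IndexPrime.decomposes_all hS hF hE.sub hE.pPart hφ
  exact ⟨α, hα, φ₀, IndexPrime.hull_le P hφ₀, fun x hx => h x hx⟩

theorem card_normalizer_aut (α : MulAut S) {R R' : Subgroup Ω} (hR : R ≤ S) (hR' : R' ≤ S)
    (h : ∀ x : S, ((α x : S) : Ω) ∈ R' ↔ (x : Ω) ∈ R) :
    Nat.card (normalizerIn S R') ≤ Nat.card (normalizerIn S R) := by
  have : Finite (normalizerIn S R) := finite_of_le (normalizerIn_le S R)
  have : Finite R := finite_of_le hR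
  have hmem : ∀ g : normalizerIn S R', ((α⁻¹ : MulAut S) ⟨g, g.2.1⟩ : Ω) ∈ normalizerIn S R := by
    intro g
    refine ⟨Subtype.coe_prop _, mem_normalizer_of_conj_mem fun x hx => ?_⟩
    rw [← Subgroup.coe_inv, ← Subgroup.coe_mul (x := _) (y := (⟨x, hR hx⟩ : S)), ← Subgroup.coe_mul,
      ← h, map_mul, map_mul, map_inv, MulAut.apply_inv_self]
    exact conj_mem_of_mem_normalizer g.2.2 ((h ⟨x, hR hx⟩).2 hx)
  exact Finite.card_le_of_embedding ⟨fun g => ⟨_, hmem g⟩, fun a b hab =>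
    Subtype.ext (congrArg Subtype.val ((α⁻¹ : MulAut S).injective (Subtype.ext (congrArg Subtype.val hab :))) :)⟩

theorem res_isSaturated (hS : IsPGroup p S) (hF : F.IsSaturated p) :
    (res F p).IsSaturated p := by
  have hfull := res_full F p
  refine SatCriterion.isSaturated hS (ℋ := {P | F.IsCentric P})
    (fun P hP Q ⟨φ, hφ, hr⟩ => conj_of_isCentric hP ⟨φ, hφ.1, hr⟩) (fun P hP => ?_)
    (fun E' hE' => ?_) fun P hP hPn => absurd
      ((IndexPrime.isCentric_iff hS hF hfull.sub hfull.pPart P).1 hP) hPn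
  · obtain ⟨Q, hPQ, hQ⟩ := exists_fullyNormalized (F := res F p) hP.1
    obtain ⟨e, he⟩ := isConj_iff_iso.1 hPQ
    have hQc : F.IsCentric Q := conj_of_isCentric hP (isConj_iff_iso.2 ⟨e, hfull.sub _ he⟩)
    have hQF : F.IsFullyNormalized Q := by
      refine ⟨hQ.1, fun R ⟨φ, hφ, hr⟩ => ?_⟩
      obtain ⟨α, hα, φ₀, hφ₀, hφe⟩ := decomposes hS hF hfull hφ
      refine le_trans (card_normalizer_aut α (range_le hφ₀) (hr ▸ range_le hφ) fun x => ?_)
        (hQ.2 φ₀.range ⟨φ₀, hφ₀, rfl⟩)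
      rw [← hr]
      constructor
      · rintro ⟨y, hy⟩
        exact ⟨y, congrArg Subtype.val (α.injective (Subtype.ext
          ((hφe y (val_mem hφ₀ y)).symm.trans hy) : α ⟨φ₀ y, val_mem hφ₀ y⟩ = α x))⟩
      · rintro ⟨y, hy⟩
        exact ⟨y, (hφe y (val_mem hφ₀ y)).trans
          (congrArg (fun z : S => ((α z : S) : Ω)) (Subtype.ext hy))⟩
    obtain ⟨hA, hrec⟩ := fullyNormalized_props hS hF hQF
    have := finite_mulAut hQ.1
    refine ⟨Q, hPQ, isFullyAutomized_iff.2 ⟨hQ.1,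
      (isFullyAutomized_iff.1 hA).2.mono_right (autInducedBy_le_autGroup hQ.1)
        (autGroup_mono_of_subsystem hfull.sub Q)⟩, isReceptive_of_extend hQ.1 fun R f hf => ?_⟩
    obtain ⟨ψ, hψ, hψe⟩ := receptive_extend hrec (hfull.sub _ hf)
    obtain ⟨α, hα, ψ₀, hψ₀, hdec⟩ := decomposes hS hF hfull hψ
    have hRN : R ≤ extender S R (Q.subtype.comp f.toMonoidHom) := le_extender hf
    obtain ⟨a, ha, hae⟩ := exists_iso_restrict hRN hψ₀
    let R₀ : Subgroup Ω := (R.subgroupOf _).map ψ₀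
    have hR₀ : F.IsCentric R₀ := conj_of_isCentric
      (conj_of_isCentric hQc (isConj_iff_iso.2 ⟨_, (IsIso.symm (F := F) (hfull.sub _ hf))⟩))
      (isConj_iff_iso.2 ⟨a, hfull.sub _ ha⟩)
    have hαE : α ∈ (res F p).autGroup S := by
      refine hfull.closed α hα R₀ hR₀ (mem_of_agree le_rfl (ha.symm.trans hf) fun y => ?_)
      obtain ⟨x, rfl⟩ := a.surjective y
      show ((α ⟨(a x : Ω), _⟩ : S) : Ω) = (f (a.symm (a x)) : Ω)
      rw [a.symm_apply_apply, ← hψe x (hRN x.2), hdec _ (val_mem hψ₀ _)]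
      exact congrArg (fun z : S => ((α z : S) : Ω)) (Subtype.ext (hae x))
    refine ⟨ψ, ?_, hψe⟩
    have hm := mem_of_comp hψ₀ ((mem_autGroup le_rfl).1 hαE) (fun x => val_mem hψ₀ x)
      (χ := ψ) fun x => hdec x (val_mem hψ₀ x)
    exact hm
  · intro P φ hφ
    let G : FusionSystem S :=
      { Hom := fun P => {φ | φ ∈ (res F p).Hom P ∧ φ ∈ E'.Hom P}
        le_of_mem := fun h => E'.le_of_mem h.2
        injective_of_mem := fun h => E'.injective_of_mem h.2
        conj_mem := fun hP hg => ⟨(res F p).conj_mem hP hg, E'.conj_mem hP hg⟩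
        comp_mem := fun h h' hm => ⟨(res F p).comp_mem h.1 h'.1 hm, E'.comp_mem h.2 h'.2 hm⟩
        inv_mem := by
          intro P φ h
          obtain ⟨ψ, hψ, hψe⟩ := (res F p).inv_mem h.1
          obtain ⟨ψ', hψ', hψe'⟩ := E'.inv_mem h.2
          refine ⟨ψ, ⟨hψ, mem_of_agree le_rfl hψ' ?_⟩, hψe⟩
          rintro ⟨_, x, rfl⟩
          rw [hψe x, hψe' x] }
    have hG : Full F p G := by
      refine ⟨fun P φ h => h.1.1, fun P hP γ hγ => ?_, fun α hα P hP h => ?_⟩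
      · have h1 := (mem_autGroup hP.1).1 (hfull.pPart P hP hγ)
        exact (mem_autGroup hP.1).2 ⟨h1, hE' P hP h1⟩
      · have h1 := (mem_autGroup le_rfl).1 (hfull.closed α hα P hP h.1)
        exact (mem_autGroup le_rfl).2 ⟨h1, hE' S (isCentric_of_le hP hP.1 le_rfl) h1⟩
    exact (hφ.2 G hG).2

theorem isPPrimeResidual (hS : IsPGroup p S) (hF : F.IsSaturated p) :
    F.IsPPrimeResidual p (res F p) := by
  have hfull := res_full F p
  refine ⟨res_isSaturated hS hF, ⟨hfull.sub, fun P hP =>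
    (IndexPrime.pPart_all hS hF hfull.sub hfull.pPart hP).trans
      (autGroup_mono_of_le IndexPrime.hull_le P)⟩, fun D hD hDF => ?_⟩
  refine res_le_of_full ⟨hDF.1, fun P hP => hDF.2 P hP.1, fun α hα P hP h => ?_⟩
  exact (mem_autGroup le_rfl).2
    (mem_of_centric_restrict hS hF hD hDF.1 ((mem_autGroup le_rfl).1 hα) P hP.1 hP h)

end Cfsg.Agent.Lib.Fusion.Residual
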