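import Cfsg.Agent.Lib.Fusion.Residual

/-!
The `p'`-residual subsystem of an invariant subsystem lies in every invariant saturated subsystem
over the same subgroup.
-/

set_option autoImplicit false

namespace Cfsg.Agent.Lib.Fusion.Residual

open Cfsg Cfsg.FusionSystem

variable {Ω : Type*} [Group Ω] {S T : Subgroup Ω} {F : FusionSystem S} {E D : FusionSystem T}
  {p : ℕ}

/-- The intersection of two systems over the same subgroup. -/
def meet (E D : FusionSystem T) : FusionSystem T where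
  Hom P := {φ | φ ∈ E.Hom P ∧ φ ∈ D.Hom P}
  le_of_mem h := E.le_of_mem h.1
  injective_of_mem h := E.injective_of_mem h.1
  conj_mem hP hg := ⟨E.conj_mem hP hg, D.conj_mem hP hg⟩
  comp_mem h h' hm := ⟨E.comp_mem h.1 h'.1 hm, D.comp_mem h.2 h'.2 hm⟩
  inv_mem := by
    intro P φ h
    obtain ⟨ψ, hψ, hψe⟩ := E.inv_mem h.1
    obtain ⟨ψ', hψ', hψe'⟩ := D.inv_mem h.2
    refine ⟨ψ, ⟨hψ, mem_of_agree le_rfl hψ' ?_⟩, hψe⟩
    rintro ⟨_, x, rfl⟩
    rw [hψe x, hψe' x]

theorem strongInvariant_meet (hE : StrongInvariant E F) (hD : StrongInvariant D F) :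
    StrongInvariant (meet E D) F :=
  fun P Q P' hPQ hQ φ hφ hφQ ψ hψ a ha χ hχ =>
    ⟨hE P Q P' hPQ hQ φ hφ.1 hφQ ψ hψ a ha χ hχ, hD P Q P' hPQ hQ φ hφ.2 hφQ ψ hψ a ha χ hχ⟩

theorem congr_mem (hI : StrongInvariant E F) {R R' : Subgroup Ω} (hR : R ≤ T) (hR' : R' ≤ T)
    {e : R ≃* R'} (he : IsIso F e) {δ : MulAut R} (hδ : δ ∈ E.autGroup R) :
    MulAut.congr e δ ∈ E.autGroup R' := by
  refine (mem_autGroup hR').2 (hI R R R' le_rfl hR _ ((mem_autGroup hR).1 hδ) (fun x => (δ x).2)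
    _ he e (fun x => rfl) _ fun x => ?_)
  simp

theorem aut_normal (hI : StrongInvariant E F) (hTS : T ≤ S) {R : Subgroup Ω} (hR : R ≤ T)
    [Finite (MulAut R)] : F.autGroup R ≤ Subgroup.normalizer (E.autGroup R : Set (MulAut R)) := by
  intro a ha
  refine mem_normalizer_of_conj_mem fun δ hδ => ?_
  convert congr_mem hI hR hR ((mem_autGroup (hR.trans hTS)).1 ha) hδ using 1
  ext x
  simp

theorem isCentric_transport [Finite T] (hE : E.IsInvariantIn F) (hD : D.IsSubsystemOf F)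
    {P : Subgroup Ω} (hP : E.IsCentric P) : D.IsCentric P := by
  obtain ⟨-, -, -, hfr⟩ := hE
  refine ⟨hP.1, fun Q ⟨φ, hφ, hr⟩ c hc => ?_⟩
  obtain ⟨α, hα, φ₀, hφ₀, he⟩ := hfr P hP.1 φ (hD P hφ)
  obtain ⟨hcT, hcc⟩ := mem_centralizerIn.1 hc
  have h1 : (((α⁻¹ : MulAut T) ⟨c, hcT⟩ : T) : Ω) ∈ φ₀.range := by
    refine hP.2 φ₀.range ⟨φ₀, hφ₀, rfl⟩ (mem_centralizerIn.2 ⟨Subtype.coe_prop _, ?_⟩)
    rintro _ ⟨x, rfl⟩
    have e1 : (⟨φ₀ x, val_mem hφ₀ x⟩ : T) * (α⁻¹ : MulAut T) ⟨c, hcT⟩ =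
        (α⁻¹ : MulAut T) ⟨c, hcT⟩ * ⟨φ₀ x, val_mem hφ₀ x⟩ := by
      apply α.injective
      rw [map_mul, map_mul, MulAut.apply_inv_self]
      refine Subtype.ext ?_
      show ((α ⟨φ₀ x, _⟩ : T) : Ω) * c = c * _
      rw [← he x (val_mem hφ₀ x)]
      exact hcc _ (hr ▸ ⟨x, rfl⟩)
    exact congrArg Subtype.val e1
  obtain ⟨x, hx⟩ := h1
  rw [← hr]
  refine ⟨x, ?_⟩
  rw [he x (val_mem hφ₀ x),
    show (⟨φ₀ x, val_mem hφ₀ x⟩ : T) = (α⁻¹ : MulAut T) ⟨c, hcT⟩ from Subtype.ext hx,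
    MulAut.apply_inv_self]

/-- `p`-automorphisms of `E` lie in every invariant subsystem over the same subgroup. -/
theorem pPart_le_invariant [Finite T] [Fact p.Prime] (hT : IsPGroup p T) (hE : E.IsSaturated p)
    (hEF : E.IsSubsystemOf F) (hI : StrongInvariant D F) {R : Subgroup Ω} (hR : R ≤ T) :
    IndexPrime.pPart E p R ≤ D.autGroup R := by
  refine IndexPrime.pPart_le_of fun γ hγ ⟨k, hk⟩ => ?_
  obtain ⟨Q, hRQ, hQ⟩ := exists_fullyNormalized (F := E) hR
  obtain ⟨e, he⟩ := isConj_iff_iso.1 hRQ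
  have := finite_mulAut hQ.1
  obtain ⟨-, hsyl⟩ := isFullyAutomized_iff.1 (fullyNormalized_props hT hE hQ).1
  have hγ' : MulAut.congr e γ ∈ E.autGroup Q :=
    (mem_autGroup hQ.1).2 ((he.symm.trans ((mem_autGroup hR).1 hγ)).trans he)
  have hord : orderOf (MulAut.congr e γ) = p ^ k := by
    rw [← hk]
    exact orderOf_injective (MulAut.congr e).toMonoidHom (MulAut.congr e).injective γ
  obtain ⟨c, hc, hcX⟩ := hsyl.exists_conj_le (Subgroup.zpowers_le.2 hγ')
    (IsPGroup.of_card (n := k) (by rw [Nat.card_zpowers, hord]))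
  have h1 : c * MulAut.congr e γ * c⁻¹ ∈ D.autGroup Q :=
    autInducedBy_le_autGroup hQ.1 (hcX _ (Subgroup.mem_zpowers _))
  have hci : IsIso F (c⁻¹ : MulAut Q) := hEF _ ((mem_autGroup hQ.1).1 (inv_mem hc))
  have h2 := congr_mem hI hQ.1 hR (hci.trans (IsIso.symm (F := F) (hEF _ he))) h1
  convert h2 using 1
  ext x
  simp

/-- An element of `p`-power order that is an element of order prime to `p` modulo `G` composed with
a map of `G` lies in `G`. -/
theorem mem_of_root [Fact p.Prime] {G : FusionSystem T} (hTS : T ≤ S) (hI : AutInvariant G F)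
    {N : Subgroup Ω} (hN : N ≤ T) {γ : MulAut N} (hγ : ∃ k : ℕ, γ ^ p ^ k = 1) {h : MulAut T}
    (hh : h ∈ F.autGroup T) {g : N →* Ω} (hg : g ∈ G.Hom N)
    (heq : ∀ x : N, (γ x : Ω) = (h ⟨g x, val_mem hg x⟩ : Ω)) {m : ℕ} (hm : m.Coprime p)
    (hhm : h ^ m ∈ G.autGroup T) : γ ∈ G.autGroup N := by
  obtain ⟨a, -, hae⟩ := exists_iso_restrict (F := F) hN ((mem_autGroup hTS).1 (inv_mem hh))
  have key : ∀ k : ℕ, ∃ gk : N →* Ω, ∃ hgk : gk ∈ G.Hom N,
      ∀ x : N, ((γ ^ k) x : Ω) = ((h ^ k) ⟨gk x, val_mem hgk x⟩ : Ω) := by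
    intro k
    induction k with
    | zero => exact ⟨N.subtype, subtype_mem hN, fun x => rfl⟩
    | succ k ih =>
      obtain ⟨gk, hgk, hke⟩ := ih
      let χ := (T.subtype.comp (h⁻¹ : MulAut T).toMonoidHom).comp
        ((gk.codRestrict T (val_mem hgk)).comp a.symm.toMonoidHom)
      have hχe : ∀ x : N, χ (a x) = ((h⁻¹ : MulAut T) ⟨gk x, val_mem hgk x⟩ : Ω) := fun x =>
        congrArg (fun y => ((h⁻¹ : MulAut T) ⟨gk y, val_mem hgk y⟩ : Ω)) (a.symm_apply_apply x)
      have hχ := hI N _ gk hgk h⁻¹ (inv_mem hh) a hae χ hχe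
      have hga : ∀ x : N, g x = (a (γ x) : Ω) := fun x => by
        rw [hae]
        show g x = ((h⁻¹ : MulAut T) ⟨(γ x : Ω), hN (γ x).2⟩ : Ω)
        rw [show (⟨(γ x : Ω), hN (γ x).2⟩ : T) = h ⟨g x, val_mem hg x⟩ from Subtype.ext (heq x),
          MulAut.inv_apply_self]
      have hmem : ∀ x : N, g x ∈ (N.subgroupOf T).map (T.subtype.comp (h⁻¹ : MulAut T).toMonoidHom) :=
        fun x => hga x ▸ (a (γ x)).2
      have hgk' := G.comp_mem hg hχ hmem
      refine ⟨_, hgk', fun x => ?_⟩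
      rw [pow_succ, MulAut.mul_apply, hke (γ x), pow_succ, MulAut.mul_apply]
      refine congrArg (fun y : T => (((h ^ k) y : T) : Ω)) (h.symm.injective ?_)
      rw [h.symm_apply_apply]
      refine Subtype.ext ?_
      show _ = χ (g.codRestrict _ hmem x)
      rw [show g.codRestrict _ hmem x = a (γ x) from Subtype.ext (hga x), hχe]
      rfl
  obtain ⟨gm, hgm, hme⟩ := key m
  have hγm : γ ^ m ∈ G.autGroup N := (mem_autGroup hN).2
    (mem_of_comp hgm ((mem_autGroup le_rfl).1 hhm) (fun x => val_mem hgm x) fun x => hme x)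
  obtain ⟨k, hk⟩ := hγ
  obtain ⟨n, hn, hγn⟩ : ∃ n : ℕ, γ = (γ ^ m) ^ n ∧ True := by
    have hcop : m.Coprime (orderOf γ) :=
      (hm.pow_right k).coprime_dvd_right (orderOf_dvd_of_pow_eq_one hk)
    obtain ⟨n, hn⟩ := exists_pow_eq_self_of_coprime hcop
    exact ⟨n, hn.symm, trivial⟩
  rw [hn]
  exact pow_mem hγm _

/-- An automorphism trivial on a normal subgroup containing its centralizer has `p`-power order. -/
theorem fix_pPower {N : Type*} [Group N] [Finite N] (hN : IsPGroup p N) [Fact p.Prime]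
    (P : Subgroup N) [P.Normal] (hC : Subgroup.centralizer (P : Set N) ≤ P) {γ : MulAut N}
    (hfix : ∀ x ∈ P, γ x = x) : ∃ k : ℕ, γ ^ p ^ k = 1 := by
  obtain ⟨k, hk⟩ := hN.exists_card_eq
  refine ⟨k, MulEquiv.ext fun y => ?_⟩
  have hd : y⁻¹ * γ y ∈ P := by
    refine hC fun x hx => ?_
    have h1 := hfix (y * x * y⁻¹) (Subgroup.Normal.conj_mem inferInstance x hx y)
    rw [map_mul, map_mul, hfix x hx, map_inv] at h1
    calc x * (y⁻¹ * γ y) = y⁻¹ * (y * x * y⁻¹) * γ y := by group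
      _ = y⁻¹ * (γ y * x * (γ y)⁻¹) * γ y := by rw [h1]
      _ = y⁻¹ * γ y * x := by group
  have hpow : ∀ j : ℕ, (γ ^ j) y = y * (y⁻¹ * γ y) ^ j := by
    intro j
    induction j with
    | zero => simp
    | succ j ih =>
      rw [pow_succ', MulAut.mul_apply, ih, map_mul, map_pow, hfix _ hd]
      rw [pow_succ' (y⁻¹ * γ y), ← mul_assoc]
      group
  rw [hpow, ← hk, pow_card_eq_one', mul_one]
  rfl

variable [Finite S] [Fact p.Prime]

/-- The key closure property. -/
theorem closed_meet (hS : IsPGroup p S) (hE : E.IsWeaklyNormalIn F p) (hD : D.IsWeaklyNormalIn F p)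
    (α : MulAut T) (hα : α ∈ E.autGroup T) :
    ∀ (P : Subgroup Ω) (hP : E.IsCentric P),
      (T.subtype.comp (α : MulAut T).toMonoidHom).comp (Subgroup.inclusion hP.1) ∈ (meet E D).Hom P →
      α ∈ (meet E D).autGroup T := by
  obtain ⟨hEs, -, hEi⟩ := hE
  obtain ⟨hDs, -, hDi⟩ := hD
  have hTS := hEi.2.1.1
  have : Finite T := finite_of_le hTS
  have hTp : IsPGroup p T := hS.to_le hTS
  have hEI := IsInvariantIn.strongInvariant hEi
  have hDI := IsInvariantIn.strongInvariant hDi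
  have hGI := strongInvariant_meet hEI hDI
  set G := meet E D
  intro P
  induction hk : Nat.card T - Nat.card P using Nat.strong_induction_on generalizing P with
  | _ k ih =>
    subst hk
    intro hP hmem
    rcases hP.1.eq_or_lt with rfl | hlt
    · exact (mem_autGroup le_rfl).2 (mem_of_agree le_rfl hmem fun x => rfl)
    set N := normalizerIn T P
    have hNT : N ≤ T := normalizerIn_le T P
    have : Finite N := finite_of_le hNT
    have hlt₁ : P < N := lt_normalizer_inf hTp hlt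
    have hcard : Nat.card P < Nat.card N :=
      lt_of_not_ge fun hge => hlt₁.ne (eq_of_le_card hlt₁.le hge)
    have hN : E.IsCentric N := isCentric_of_le hP hlt₁.le hNT
    have hle : Nat.card N ≤ Nat.card T := Subgroup.card_le_of_le hNT
    refine ih _ (by omega) N rfl hN ?_
    set φ := (T.subtype.comp α.toMonoidHom).comp (Subgroup.inclusion hP.1)
    let e := toIso φ hmem.2 (rfl : φ.range = φ.range)
    have he : IsIso D e := isIso_toIso φ hmem.2 rfl
    have hQ : D.IsCentric φ.range :=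
      conj_of_isCentric (isCentric_transport hEi hDi.1 hP) ⟨φ, hmem.2, rfl⟩
    obtain ⟨θ, hθ, hθe⟩ := receptive_extend
      (fullyCentralized_receptive hTp hDs (fullyCentralized_of_centric (show D ≤ D from fun _ => subset_rfl) hQ)) he
    let αN := (T.subtype.comp α.toMonoidHom).comp (Subgroup.inclusion hNT)
    have hαe : ∀ (x : P) (hx : (x : Ω) ∈ N), αN ⟨x, hx⟩ = (e x : Ω) := fun x hx => rfl
    have hext : N ≤ extender T P (φ.range.subtype.comp e.toMonoidHom) := fun g hg => by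
      refine (mem_extender_iso e).2 ⟨hg, ?_⟩
      obtain ⟨hh, heq⟩ := extension_conj (e := e) hlt₁.le hαe (g := ⟨g, hg⟩) hg.2
      rw [heq]
      exact conjAut_mem_autInducedBy (Subtype.coe_prop _) hh
    let ψ := θ.comp (Subgroup.inclusion hext)
    have hψ : ψ ∈ D.Hom N := restrict_mem hext hθ
    have hψe : ∀ (x : P) (hx : (x : Ω) ∈ N), ψ ⟨x, hx⟩ = (e x : Ω) := fun x hx => hθe x _
    -- the two extensions have the same image
    have hrange : ∀ g : N, ∃ g' : N, αN g' = ψ g := by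
      intro g
      obtain ⟨hh, heq⟩ := extension_conj (e := e) hlt₁.le hψe (g := g) g.2.2
      obtain ⟨hh', heq'⟩ := extension_conj (e := e) hlt₁.le hαe (g := g) g.2.2
      have hc : (αN g)⁻¹ * ψ g ∈ φ.range := by
        refine centralizer_le_of_isCentric hQ (mem_centralizerIn.2
          ⟨T.mul_mem (T.inv_mem (Subtype.coe_prop _)) (val_mem hψ g), fun x hx => ?_⟩)
        have h2 := congrArg Subtype.val (DFunLike.congr_fun (heq'.symm.trans heq) ⟨x, hx⟩)
        rw [conjAut_apply, conjAut_apply] at h2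
        calc x * ((αN g)⁻¹ * ψ g) = (αN g)⁻¹ * (αN g * x * (αN g)⁻¹) * ψ g := by group
          _ = (αN g)⁻¹ * (ψ g * x * (ψ g)⁻¹) * ψ g := by rw [h2]
          _ = (αN g)⁻¹ * ψ g * x := by group
      obtain ⟨x, hx⟩ := hc
      refine ⟨g * ⟨x, hlt₁.le x.2⟩, ?_⟩
      rw [map_mul, show αN ⟨x, hlt₁.le x.2⟩ = φ x from rfl, hx, mul_inv_cancel_left]
    have hval : ∀ g : N, (((α⁻¹ : MulAut T) ⟨ψ g, val_mem hψ g⟩ : T) : Ω) ∈ N := fun g => by
      obtain ⟨g', hg'⟩ := hrange g
      rw [show (⟨ψ g, val_mem hψ g⟩ : T) = α ⟨g', hNT g'.2⟩ from Subtype.ext hg'.symm,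
        MulAut.inv_apply_self]
      exact g'.2
    let γ₀ : N →* N := ((T.subtype.comp (α⁻¹ : MulAut T).toMonoidHom).comp
      (ψ.codRestrict T (val_mem hψ))).codRestrict N hval
    have hinj : Function.Injective γ₀ := fun a b hab => D.injective_of_mem hψ
      (congrArg Subtype.val ((α⁻¹ : MulAut T).injective (Subtype.ext (congrArg Subtype.val hab :))) :)
    let γ : MulAut N := MulEquiv.ofBijective γ₀ (Finite.injective_iff_bijective.1 hinj)
    have hγe : ∀ x : N, (γ x : Ω) = ((α⁻¹ : MulAut T) ⟨ψ x, val_mem hψ x⟩ : Ω) := fun x => rfl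
    haveI : (P.subgroupOf N).Normal :=
      Subgroup.normal_subgroupOf_of_le_normalizer inf_le_right
    have hγp : ∃ k : ℕ, γ ^ p ^ k = 1 := by
      refine fix_pPower (hTp.to_le hNT) (P.subgroupOf N) (fun c hc => ?_) fun x hx => ?_
      · refine centralizer_le_of_isCentric hP (mem_centralizerIn.2 ⟨hNT c.2, fun x hx => ?_⟩)
        exact congrArg Subtype.val (hc ⟨x, hlt₁.le hx⟩ hx)
      · apply Subtype.ext
        rw [hγe, show (⟨ψ x, val_mem hψ x⟩ : T) = α ⟨x, hNT x.2⟩ from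
          Subtype.ext ((hψe ⟨x, hx⟩ x.2).trans rfl), MulAut.inv_apply_self]
    -- decompose
    obtain ⟨h₂, hh₂, g, hg, hgd⟩ := IndexPrime.decomposes_all (E := G) hTp hDs (fun _ _ h => h.2)
      (fun R hR δ hδ => (mem_autGroup hR.1).2
        ⟨(mem_autGroup hR.1).1 (pPart_le_invariant hTp hDs hDi.1 hEI hR.1 hδ),
          (mem_autGroup hR.1).1 (IndexPrime.pPart_le D p R hδ)⟩) hψ
    have hg' := IndexPrime.hull_le N hg
    have := finite_mulAut (le_refl T)
    set K := G.autGroup T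
    set H := E.autGroup T ⊔ D.autGroup T
    have hEF := autGroup_mono_of_subsystem hEi.1 T
    have hDF := autGroup_mono_of_subsystem hDi.1 T
    have hHF : H ≤ F.autGroup T := sup_le hEF hDF
    have hKH : K ≤ H := le_trans (fun δ hδ => (mem_autGroup le_rfl).2
      (((mem_autGroup le_rfl).1 hδ).1)) le_sup_left
    haveI hKn : (K.subgroupOf H).Normal :=
      Subgroup.normal_subgroupOf_of_le_normalizer (hHF.trans (aut_normal hGI hTS le_rfl))
    have hm : (K.relIndex H).Coprime p := by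
      have hEs' := (fullyAutomized_inn hTp hEs).2.2
      have hDs' := (fullyAutomized_inn hTp hDs).2.2
      refine ((Fact.out : p.Prime).coprime_iff_not_dvd.2 fun hd => ?_).symm
      have h1 := hd.trans (Subgroup.relIndex_dvd_of_le_left H (inn_le_autGroup (F := G) le_rfl))
      rw [← Subgroup.relIndex_mul_relIndex (Inn T) (D.autGroup T) H (inn_le_autGroup le_rfl)
        le_sup_right] at h1
      rcases (Fact.out : p.Prime).dvd_mul.1 h1 with h1 | h1
      · exact hDs' h1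
      · rw [relIndex_sup_of_normalizes (hEF.trans (aut_normal hDI hTS le_rfl))] at h1
        exact hEs' (h1.trans (Subgroup.relIndex_dvd_of_le_left _ (inn_le_autGroup (F := D) le_rfl)))
    have hh : α⁻¹ * h₂ ∈ H :=
      mul_mem (Subgroup.mem_sup_left (inv_mem hα)) (Subgroup.mem_sup_right hh₂)
    have hhm : (α⁻¹ * h₂) ^ K.relIndex H ∈ K :=
      Subgroup.mem_subgroupOf.1 ((K.subgroupOf H).pow_index_mem ⟨_, hh⟩)
    have hγG : γ ∈ G.autGroup N := mem_of_root hTS (hGI.autInvariant hTS) hNT hγp (hHF hh) hg'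
      (fun x => by
        rw [hγe, MulAut.mul_apply]
        exact congrArg (fun y : T => (((α⁻¹ : MulAut T) y : T) : Ω))
          (Subtype.ext (hgd x (val_mem hg' x)))) hm hhm
    refine ⟨restrict_mem hNT ((mem_autGroup le_rfl).1 hα),
      mem_of_comp (((mem_autGroup hNT).1 (inv_mem hγG)).2) hψ (fun x => Subtype.coe_prop _) fun x => ?_⟩
    obtain ⟨y, rfl⟩ := γ.surjective x
    simp only [MonoidHom.coe_comp, Function.comp_apply, Subgroup.coe_subtype,
      MulEquiv.coe_toMonoidHom, MulAut.inv_apply_self]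
    rw [show (Subgroup.inclusion hNT (γ y) : T) = (α⁻¹ : MulAut T) ⟨ψ y, val_mem hψ y⟩ from
      Subtype.ext (hγe y), MulAut.apply_inv_self]

/-- The `p'`-residual subsystem is contained in every weakly normal subsystem over the same
subgroup. -/
theorem res_le_weaklyNormal (hS : IsPGroup p S) (hE : E.IsWeaklyNormalIn F p)
    (hD : D.IsWeaklyNormalIn F p) : (res E p).IsSubsystemOf D := by
  have hTS := hE.2.2.2.1.1
  have : Finite T := finite_of_le hTS
  have hfull : Full E p (meet E D) := by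
    refine ⟨fun _ _ h => h.1, fun P hP δ hδ => ?_, fun α hα P hP h =>
      closed_meet hS hE hD α hα P hP h⟩
    exact (mem_autGroup hP.1).2 ⟨(mem_autGroup hP.1).1 (IndexPrime.pPart_le E p P hδ),
      (mem_autGroup hP.1).1 (pPart_le_invariant (hS.to_le hTS) hE.1 hE.2.2.1
        (IsInvariantIn.strongInvariant hD.2.2) hP.1 hδ)⟩
  exact fun P φ h => (res_le_of_full hfull P h).2

end Cfsg.Agent.Lib.Fusion.Residual
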