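import Cfsg.Agent.Lib.Fusion.PPowerIndex
import Cfsg.Prelude.Def_FusionReduction

/-!
A subsystem of `p`-power index has the same hyperfocal subgroup, hence the same residual limit.
-/

set_option autoImplicit false

namespace Cfsg.Agent.Lib.Fusion.ResidualLimit

open Cfsg Cfsg.FusionSystem

variable {Ω : Type*} [Group Ω] {p : ℕ}

/-- The elements moved by a coprime automorphism of a `p`-group inside an invariant subgroup are
already moved from inside it. -/
theorem disp_mem [Fact p.Prime] {P : Type*} [Group P] [Finite P] (hP : IsPGroup p P) (α : MulAut P)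
    (hcop : (orderOf α).Coprime p) (R : Subgroup P) (hR : ∀ y : P, y⁻¹ * α y ∈ R) (x : P) :
    x⁻¹ * α x ∈ Subgroup.closure {z : P | ∃ r ∈ R, z = r⁻¹ * α r} := by
  set M := Subgroup.closure {z : P | ∃ r ∈ R, z = r⁻¹ * α r} with hM
  have hαR : ∀ r ∈ R, α r ∈ R := fun r hr => by
    have h := R.mul_mem hr (hR r)
    rwa [mul_inv_cancel_left] at h
  have hconj : ∀ s ∈ R, ∀ z ∈ M, s⁻¹ * z * s ∈ M := by
    intro s hs z hz
    induction hz using Subgroup.closure_induction with
    | mem z hz =>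
      obtain ⟨r, hr, rfl⟩ := hz
      have h1 : (r * s)⁻¹ * α (r * s) ∈ M :=
        Subgroup.subset_closure ⟨r * s, R.mul_mem hr hs, rfl⟩
      have h2 : s⁻¹ * α s ∈ M := Subgroup.subset_closure ⟨s, hs, rfl⟩
      have h3 := M.mul_mem h1 (M.inv_mem h2)
      rw [map_mul] at h3
      simpa [mul_assoc] using h3
    | one => simp
    | mul a b _ _ ha hb =>
      have h := M.mul_mem ha hb
      simpa [mul_assoc] using h
    | inv a _ ha =>
      have h := M.inv_mem ha
      simpa [mul_assoc] using h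
  have hαM : ∀ z ∈ M, α z ∈ M := by
    intro z hz
    induction hz using Subgroup.closure_induction with
    | mem z hz =>
      obtain ⟨r, hr, rfl⟩ := hz
      exact Subgroup.subset_closure ⟨α r, hαR r hr, by rw [map_mul, map_inv]⟩
    | one => simp
    | mul a b _ _ ha hb => rw [map_mul]; exact M.mul_mem ha hb
    | inv a _ ha => rw [map_inv]; exact M.inv_mem ha
  set d := x⁻¹ * α x with hd
  clear_value d
  have hdR : d ∈ R := hd ▸ hR x
  have hiter : ∀ i : ℕ, d⁻¹ * (α ^ i) d ∈ M := by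
    intro i
    induction i with
    | zero => simp
    | succ i ih =>
      rw [pow_succ', MulAut.mul_apply]
      have h1 : d⁻¹ * α d ∈ M := Subgroup.subset_closure ⟨d, hdR, rfl⟩
      have h2 := M.mul_mem h1 (hαM _ ih)
      rw [map_mul, map_inv] at h2
      simpa [mul_assoc] using h2
  have hpow : ∀ n : ℕ, (d ^ n)⁻¹ * (x⁻¹ * (α ^ n) x) ∈ M := by
    intro n
    induction n with
    | zero => simp
    | succ n ih =>
      have h1 : x⁻¹ * (α ^ (n + 1)) x = x⁻¹ * (α ^ n) x * (α ^ n) d := by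
        rw [hd, map_mul, map_inv, pow_succ, MulAut.mul_apply]
        group
      rw [h1, pow_succ, mul_inv_rev]
      have h2 := M.mul_mem (hconj d hdR _ ih) (hiter n)
      simpa [mul_assoc] using h2
  have h := hpow (orderOf α)
  rw [pow_orderOf_eq_one, MulAut.one_apply, inv_mul_cancel, mul_one, inv_mem_iff] at h
  obtain ⟨k, hk⟩ := hP d
  obtain ⟨u, v, huv⟩ : IsCoprime (orderOf α : ℤ) ((p ^ k : ℕ) : ℤ) :=
    Nat.isCoprime_iff_coprime.2 (hcop.pow_right k)
  have h2 : d = (d ^ orderOf α) ^ u * (d ^ p ^ k) ^ v := by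
    rw [← zpow_natCast, ← zpow_natCast, ← zpow_mul, ← zpow_mul, ← zpow_add,
      mul_comm _ u, mul_comm _ v, huv, zpow_one]
  rw [h2, hk, one_zpow, mul_one]
  exact M.zpow_mem h u

variable {S T : Subgroup Ω} {F : FusionSystem S} {E : FusionSystem T}

theorem hyperfocal_eq [Finite S] [Fact p.Prime] (hS : IsPGroup p S) (hTS : T ≤ S)
    (hE : E.HasPPowerIndexIn F p) : E.hyperfocalSubgroup p = F.hyperfocalSubgroup p := by
  refine le_antisymm (hyperfocal_le fun P hP α hα hcop x => ?_) (hyperfocal_le fun P hP α hα hcop x => ?_)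
  · exact inv_mul_mem_hyperfocal (hP.trans hTS) (α := ⟨α, (mem_autGroup (hP.trans hTS)).2
      (hE.1 P ((mem_autGroup hP).1 hα))⟩) (coprime_mem_pResidual hcop) x
  · have : Finite P := finite_of_le hP
    let R : Subgroup P := T.subgroupOf P
    have hR : ∀ y : P, y⁻¹ * α y ∈ R := fun y => hE.2.1
      (inv_mul_mem_hyperfocal hP (α := ⟨α, hα⟩) (coprime_mem_pResidual hcop) y)
    have hαR : ∀ r : P, r ∈ R → α r ∈ R := fun r hr => by
      have h := R.mul_mem hr (hR r)
      rwa [mul_inv_cancel_left] at h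
    let P₀ : Subgroup Ω := P ⊓ T
    have hP₀ : P₀ ≤ S := inf_le_left.trans hP
    have := finite_mulAut hP
    have : Finite P₀ := finite_of_le hP₀
    obtain ⟨α₀, hα₀, hα₀e⟩ := exists_aut_of_self_map (F := F) (N := P₀)
      (restrict_mem (inf_le_left : P₀ ≤ P) ((mem_autGroup hP).1 hα))
      fun y => ⟨(α _).2, hαR ⟨y, y.2.1⟩ y.2.2⟩
    have hcop₀ : (orderOf α₀).Coprime p := by
      refine Nat.Coprime.coprime_dvd_left (orderOf_dvd_of_pow_eq_one ?_) hcop
      exact restrict_pow_eq (inf_le_left : P₀ ≤ P) (fun z => hα₀e z) (pow_orderOf_eq_one α)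
    have hα₀E : α₀ ∈ E.autGroup P₀ :=
      hE.2.2 P₀ inf_le_right ⟨⟨α₀, hα₀⟩, coprime_mem_pResidual hcop₀, rfl⟩
    have hle : Subgroup.closure {z : P | ∃ r ∈ R, z = r⁻¹ * α r} ≤
        (E.hyperfocalSubgroup p).comap P.subtype := by
      refine (Subgroup.closure_le _).2 ?_
      rintro _ ⟨r, hr, rfl⟩
      have h := inv_mul_mem_hyperfocal (inf_le_right : P₀ ≤ T) (α := ⟨α₀, hα₀E⟩)
        (coprime_mem_pResidual hcop₀) ⟨r, r.2, hr⟩
      rw [hα₀e] at h
      exact h
    exact hle (disp_mem (hS.to_le hP) α hcop R hR x)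

theorem ext_hom {F F' : FusionSystem S} (h : ∀ P, F.Hom P = F'.Hom P) : F = F' := by
  cases F; cases F'; simp only [FusionSystem.mk.injEq]; exact funext h

/-- The maps of a residual limit are determined by the system. -/
theorem limit_unique {U : Subgroup Ω} {Finf : FusionSystem U}
    (h : Finf.IsResidualLimitOf F p) :
    Fact p.Prime → Finite S → IsPGroup p S → ∀ {V : Subgroup Ω} {Einf : FusionSystem V} {S' : Subgroup Ω}
      {F' : FusionSystem S'}, S' = S → (∀ P, F'.Hom P = F.Hom P) →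
      Einf.IsResidualLimitOf F' p → ∀ P : Subgroup Ω, Einf.Hom P = Finf.Hom P := by
  induction h with
  | @stable F q hhyp hpp =>
    intro hpf _ hS V Einf S' F' hS' hFF h'
    induction h' with
    | stable => exact hFF
    | @step S' Einf F' q D D' hD hD' _ ih =>
      obtain rfl : U = S' := hS'.symm
      obtain rfl : F' = F := ext_hom hFF
      refine ih hhyp hpp hpf hS hhyp fun P => ?_
      obtain ⟨hDs, hD'⟩ := hD
      -- move everything to `S`
      have key : ∀ (H : Subgroup Ω) (D₁ D₂ : FusionSystem H), H = U → D₁.IsSaturated q →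
          D₁.HasPPowerIndexIn F' q → D₁.IsPPrimeResidual q D₂ → ∀ P, D₂.Hom P = F'.Hom P := by
        rintro H D₁ D₂ rfl hDs hDi hR
        obtain rfl : D₁ = F' := PPowerIndex.sys_unique hS le_rfl hpp.1
          ⟨fun _ => subset_rfl, hhyp.le, fun P _ => Subgroup.map_subtype_le _⟩ hDs hDi
        exact fun P => Set.Subset.antisymm (hR.2.2 D₁ hpp.1 hpp.2.1 P) (hpp.2.2 D₂ hR.1 hR.2.1 P)
      exact key _ D D' hhyp hDs hD' (by assumption) P
  | @step S Finf F q D D' hD hD' _ ih =>
    intro hpf _ hS V Einf S' F' hS' hFF h'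
    obtain rfl : S = S' := hS'.symm
    obtain rfl : F' = F := ext_hom hFF
    cases h' with
    | stable _ _ hhyp hpp =>
      have := finite_of_le (hyperfocal_le_base (p := q) F')
      refine ih hpf this (hS.to_le (hyperfocal_le_base F')) hhyp.symm (fun P => ?_)
        (.stable F' q hhyp hpp)
      have key : ∀ (H : Subgroup Ω) (D₁ D₂ : FusionSystem H), H = S → D₁.IsSaturated q →
          D₁.HasPPowerIndexIn F' q → D₁.IsPPrimeResidual q D₂ → ∀ P, F'.Hom P = D₂.Hom P := by
        rintro H D₁ D₂ rfl hDs hDi hR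
        obtain rfl : D₁ = F' := PPowerIndex.sys_unique hS le_rfl hpp.1
          ⟨fun _ => subset_rfl, hhyp.le, fun P _ => Subgroup.map_subtype_le _⟩ hDs hDi
        exact fun P => Set.Subset.antisymm (hpp.2.2 D₂ hR.1 hR.2.1 P) (hR.2.2 D₁ hpp.1 hpp.2.1 P)
      exact key _ D D' hhyp hD.1 hD.2 hD' P
    | step _ _ G G' hG hG' hrest =>
      have := finite_of_le (hyperfocal_le_base (p := q) F')
      obtain rfl : G = D := PPowerIndex.sys_unique hS (hyperfocal_le_base F') hD.1 hD.2 hG.1 hG.2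
      exact ih hpf this (hS.to_le (hyperfocal_le_base F')) rfl (fun P => Set.Subset.antisymm
        (hG'.2.2 D' hD'.1 hD'.2.1 P) (hD'.2.2 G' hG'.1 hG'.2.1 P)) hrest

/-- A subsystem of `p`-power index has the same residual limit. -/
theorem limit_eq [Finite S] [Fact p.Prime] (hS : IsPGroup p S) (hF : F.IsSaturated p) (hTS : T ≤ S)
    (hEs : E.IsSaturated p) (hE : E.HasPPowerIndexIn F p) {U V : Subgroup Ω} {Finf : FusionSystem U}
    (hFi : Finf.IsResidualLimitOf F p) {Einf : FusionSystem V} (hEi : Einf.IsResidualLimitOf E p)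
    (P : Subgroup Ω) : Einf.Hom P = Finf.Hom P := by
  have hhyp := hyperfocal_eq hS hTS hE
  have := finite_of_le hTS
  have hH := hyperfocal_le_base (p := p) F
  have := finite_of_le hH
  cases hFi with
  | stable _ _ hhypF hppF =>
    obtain rfl : T = S := le_antisymm hTS (hhypF.ge.trans hE.2.1)
    obtain rfl : E = F := PPowerIndex.sys_unique hS le_rfl hF
      ⟨fun _ => subset_rfl, hhypF.le, fun P _ => Subgroup.map_subtype_le _⟩ hEs hE
    exact limit_unique (.stable E p hhypF hppF) ‹_› ‹_› hS rfl (fun _ => rfl) hEi P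
  | step _ _ D D' hD hD' hrest =>
    cases hEi with
    | stable _ _ hhypE hppE =>
      refine limit_unique hrest ‹_› ‹_› (hS.to_le hH) (hhypE.symm.trans hhyp) (fun P => ?_)
        (.stable E p hhypE hppE) P
      have key : ∀ (H : Subgroup Ω) (D₁ D₂ : FusionSystem H), H = T → D₁.IsSaturated p →
          D₁.HasPPowerIndexIn F p → D₁.IsPPrimeResidual p D₂ → ∀ P, E.Hom P = D₂.Hom P := by
        rintro H D₁ D₂ rfl hDs hDi hR
        obtain rfl : D₁ = E := PPowerIndex.sys_unique hS hTS hEs hE hDs hDi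
        exact fun P => Set.Subset.antisymm (hppE.2.2 D₂ hR.1 hR.2.1 P) (hR.2.2 D₁ hppE.1 hppE.2.1 P)
      exact key _ D D' (hhyp.symm.trans hhypE) hD.1 hD.2 hD' P
    | step _ _ G G' hG hG' hrest' =>
      refine limit_unique hrest ‹_› ‹_› (hS.to_le hH) hhyp (fun P => ?_) hrest' P
      have hGF : G.HasPPowerIndexIn F p := by
        refine ⟨fun P φ hφ => hE.1 P (hG.2.1 P hφ), hhyp.ge, fun P hP => ?_⟩
        rw [pResidual, MonoidHom.map_closure, Subgroup.closure_le]
        rintro _ ⟨α, hα, rfl⟩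
        have hcop : (orderOf (α : MulAut P)).Coprime p := by rw [Subgroup.orderOf_coe]; exact hα
        have hPT : P ≤ T := hP.trans (hyperfocal_le_base E)
        have h1 : (α : MulAut P) ∈ E.autGroup P :=
          hE.2.2 P hPT ⟨α, coprime_mem_pResidual hcop, rfl⟩
        exact hG.2.2.2 P hP ⟨⟨α, h1⟩, coprime_mem_pResidual hcop, rfl⟩
      have key : ∀ (H : Subgroup Ω) (G₁ G₂ : FusionSystem H), H = F.hyperfocalSubgroup p →
          G₁.IsSaturated p → G₁.HasPPowerIndexIn F p → G₁.IsPPrimeResidual p G₂ →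
          ∀ P, G₂.Hom P = D'.Hom P := by
        rintro H G₁ G₂ rfl hGs hGi hR
        obtain rfl : G₁ = D := PPowerIndex.sys_unique hS hH hD.1 hD.2 hGs hGi
        exact fun P => Set.Subset.antisymm (hR.2.2 D' hD'.1 hD'.2.1 P) (hD'.2.2 G₂ hR.1 hR.2.1 P)
      exact key _ G G' hhyp hG.1 hGF hG' P

end Cfsg.Agent.Lib.Fusion.ResidualLimit
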