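import Cfsg.Agent.Lib.Fusion.Invariant
import Cfsg.Agent.Lib.Fusion.Normal

/-!
Saturation can be tested on a conjugation closed family generating the system.
-/

set_option autoImplicit false

namespace Cfsg.Agent.Lib.Fusion.SatCriterion

open Cfsg Cfsg.FusionSystem

variable {Ω : Type*} [Group Ω] {S : Subgroup Ω} {F : FusionSystem S} {p : ℕ}

/-! ### Extensions -/

/-- `e` extends to a map of the system on `Q`. -/
def Ext (F : FusionSystem S) {A B : Subgroup Ω} (e : A ≃* B) (Q : Subgroup Ω) : Prop :=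
  A ≤ Q ∧ ∃ ψ ∈ F.Hom Q, ∀ (x : A) (hx : (x : Ω) ∈ Q), ψ ⟨x, hx⟩ = (e x : Ω)

/-- Some isomorphism `A ≃ B` extends to `N_S(A)`. -/
def Up (F : FusionSystem S) (A B : Subgroup Ω) : Prop :=
  ∃ e : A ≃* B, Ext F e (normalizerIn S A)

/-- The class of `R` has a fully automized receptive member. -/
def Good (F : FusionSystem S) (p : ℕ) (R : Subgroup Ω) : Prop :=
  ∃ Q, F.IsConj R Q ∧ F.IsFullyAutomized p Q ∧ F.IsReceptive Q

theorem Ext.isIso {A B Q : Subgroup Ω} {e : A ≃* B} (h : Ext F e Q) : IsIso F e := by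
  obtain ⟨hle, ψ, hψ, hψe⟩ := h
  exact isIso_of_agree hle hψ fun x => (hψe x (hle x.2)).symm

theorem Ext.mono {A B Q Q' : Subgroup Ω} {e : A ≃* B} (h : Ext F e Q) (hA : A ≤ Q') (hQ : Q' ≤ Q) :
    Ext F e Q' := by
  obtain ⟨-, ψ, hψ, hψe⟩ := h
  exact ⟨hA, _, restrict_mem hQ hψ, fun x hx => hψe x (hQ hx)⟩

/-- Extensions carry normalizing elements to normalizing elements. -/
theorem mapsTo_normalizer {A B Q : Subgroup Ω} {e : A ≃* B} {ψ : Q →* Ω} (hψ : ψ ∈ F.Hom Q)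
    (hA : A ≤ Q) (hQ : Q ≤ normalizerIn S A)
    (hψe : ∀ (x : A) (hx : (x : Ω) ∈ Q), ψ ⟨x, hx⟩ = (e x : Ω)) (g : Q) :
    ψ g ∈ normalizerIn S B :=
  ⟨val_mem hψ g, (extension_conj hA hψe (hQ g.2).2).1⟩

theorem Ext.trans_normalizer {A B C Q : Subgroup Ω} {e : A ≃* B} {f : B ≃* C} (he : Ext F e Q)
    (hQ : Q ≤ normalizerIn S A) (hf : Ext F f (normalizerIn S B)) : Ext F (e.trans f) Q := by
  obtain ⟨hA, ψ, hψ, hψe⟩ := he
  obtain ⟨hB, χ, hχ, hχe⟩ := hf
  refine ⟨hA, _, F.comp_mem hψ hχ (mapsTo_normalizer hψ hA hQ hψe), fun x hx => ?_⟩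
  show χ ⟨ψ ⟨x, hx⟩, _⟩ = (f (e x) : Ω)
  rw [← hχe (e x) (hB (e x).2)]
  exact congrArg χ (Subtype.ext (hψe x hx))

theorem card_range {Q : Subgroup Ω} {ψ : Q →* Ω} (hψ : ψ ∈ F.Hom Q) :
    Nat.card ψ.range = Nat.card Q :=
  (Nat.card_congr (MonoidHom.ofInjective (F.injective_of_mem hψ)).toEquiv).symm

theorem Ext.symm {A B Q : Subgroup Ω} {e : A ≃* B} (he : Ext F e Q)
    (hQ : Q ≤ normalizerIn S A) :
    ∃ Q', Ext F e.symm Q' ∧ Q' ≤ normalizerIn S B ∧ Nat.card Q' = Nat.card Q := by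
  obtain ⟨hA, ψ, hψ, hψe⟩ := he
  obtain ⟨χ, hχ, hχe⟩ := F.inv_mem hψ
  refine ⟨ψ.range, ⟨fun y hy => ⟨⟨e.symm ⟨y, hy⟩, hA (e.symm ⟨y, hy⟩).2⟩, ?_⟩, χ, hχ,
    fun y hy => ?_⟩, ?_, card_range hψ⟩
  · rw [hψe, e.apply_symm_apply]
  · have h := hχe ⟨e.symm y, hA (e.symm y).2⟩
    refine (congrArg χ (Subtype.ext ?_)).trans h
    show (y : Ω) = ψ _
    rw [hψe, e.apply_symm_apply]
  · rintro _ ⟨g, rfl⟩
    exact mapsTo_normalizer hψ hA hQ hψe g

theorem Up.refl {A : Subgroup Ω} (hA : A ≤ S) : Up F A A :=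
  ⟨MulEquiv.refl A, le_normalizerIn hA, _, subtype_mem (normalizerIn_le S A), fun _ _ => rfl⟩

theorem Up.trans {A B C : Subgroup Ω} (h : Up F A B) (h' : Up F B C) : Up F A C := by
  obtain ⟨e, he⟩ := h
  obtain ⟨f, hf⟩ := h'
  exact ⟨_, he.trans_normalizer le_rfl hf⟩

theorem Up.isConj {A B : Subgroup Ω} (h : Up F A B) : F.IsConj A B := by
  obtain ⟨e, he⟩ := h
  exact isConj_iff_iso.2 ⟨e, he.isIso⟩

/-- Up-arrows between subgroups with equally large normalizers are reversible. -/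
theorem ext_symm_of_card [Finite S] {A B : Subgroup Ω} {e : A ≃* B}
    (he : Ext F e (normalizerIn S A))
    (hc : Nat.card (normalizerIn S B) ≤ Nat.card (normalizerIn S A)) :
    Ext F e.symm (normalizerIn S B) := by
  obtain ⟨Q', hQ', hle, hcard⟩ := he.symm le_rfl
  have : Finite (normalizerIn S B) := finite_of_le (normalizerIn_le S B)
  rwa [← eq_of_le_card hle (by omega)]

theorem Up.card_le [Finite S] {A B : Subgroup Ω} (h : Up F A B) :
    Nat.card (normalizerIn S A) ≤ Nat.card (normalizerIn S B) := by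
  obtain ⟨e, he⟩ := h
  obtain ⟨Q', -, hle, hcard⟩ := he.symm le_rfl
  have : Finite (normalizerIn S B) := finite_of_le (normalizerIn_le S B)
  exact hcard ▸ Subgroup.card_le_of_le hle

/-! ### Stabilizers of a subgroup inside an automorphism group -/

/-- The automorphisms of `M` stabilizing `A`. -/
def stab (M A : Subgroup Ω) : Subgroup (MulAut M) where
  carrier := {β | ∀ x : M, ((β x : M) : Ω) ∈ A ↔ (x : Ω) ∈ A}
  one_mem' x := Iff.rfl
  mul_mem' {a b} ha hb x := (ha (b x)).trans (hb x)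
  inv_mem' {a} ha x := by
    rw [← ha ((a⁻¹ : MulAut M) x), MulAut.apply_inv_self]

/-- Restriction of a stabilizing automorphism. -/
def restr {M A : Subgroup Ω} (h : A ≤ M) : stab M A →* MulAut A where
  toFun β :=
    { toFun := fun x => ⟨(β.1 ⟨x, h x.2⟩ : M), (β.2 _).2 x.2⟩
      invFun := fun x => ⟨((β⁻¹ : stab M A).1 ⟨x, h x.2⟩ : M), ((β⁻¹ : stab M A).2 _).2 x.2⟩
      left_inv := fun x => Subtype.ext (by
        show (((β.1⁻¹ : MulAut M) (β.1 ⟨x, h x.2⟩) : M) : Ω) = x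
        rw [MulAut.inv_apply_self])
      right_inv := fun x => Subtype.ext (by
        show ((β.1 ((β.1⁻¹ : MulAut M) ⟨x, h x.2⟩) : M) : Ω) = x
        rw [MulAut.apply_inv_self])
      map_mul' := fun x y => Subtype.ext (by
        show ((β.1 ⟨(x * y : A), _⟩ : M) : Ω) = _
        rw [show (⟨((x * y : A) : Ω), h (x * y).2⟩ : M) = ⟨x, h x.2⟩ * ⟨y, h y.2⟩ from rfl, map_mul]
        rfl) }
  map_one' := rfl
  map_mul' _ _ := rfl

theorem restr_coe {M A : Subgroup Ω} (h : A ≤ M) (β : stab M A) (x : A) :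
    ((restr h β x : A) : Ω) = (β.1 ⟨x, h x.2⟩ : M) := rfl

theorem restr_mem_autGroup {M A : Subgroup Ω} (h : A ≤ M) (hM : M ≤ S) (β : stab M A)
    (hβ : β.1 ∈ F.autGroup M) : restr h β ∈ F.autGroup A :=
  (mem_autGroup (h.trans hM)).2 (isIso_of_agree h ((mem_autGroup hM).1 hβ) fun x => rfl)

/-- The image of a Sylow subgroup in a homomorphic image is Sylow there. -/
theorem image_sylow {G A : Type*} [Group G] [Finite G] [Group A] [Fact p.Prime] (f : G →* A)
    (T : Sylow p G) :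
    (∀ B : Subgroup A, IsPGroup p B → (T : Subgroup G).map f ≤ B → B ≤ f.range →
      B = (T : Subgroup G).map f) ∧
    ∀ B : Subgroup A, IsPGroup p B → f.range ≤ Subgroup.normalizer (B : Set A) →
      B ⊓ f.range ≤ (T : Subgroup G).map f := by
  have hsurj := f.rangeRestrict_surjective
  let T' : Sylow p f.range := T.mapSurjective hsurj
  have hT' : ∀ y : f.range, y ∈ (T' : Subgroup f.range) ↔ (y : A) ∈ (T : Subgroup G).map f := by
    intro y
    constructor
    · rintro ⟨g, hg, rfl⟩; exact ⟨g, hg, rfl⟩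
    · rintro ⟨g, hg, he⟩; exact ⟨g, hg, Subtype.ext he⟩
  refine ⟨fun B hB hle hBr => le_antisymm ?_ hle, fun B hB hn => ?_⟩
  · intro b hb
    have h := T'.is_maximal' (isPGroup_subgroupOf (K := f.range) hB)
      (fun y hy => hle ((hT' y).1 hy))
    have : (⟨b, hBr hb⟩ : f.range) ∈ (T' : Subgroup f.range) := h ▸ (hb : _ ∈ B.subgroupOf f.range)
    exact (hT' _).1 this
  · rintro b ⟨hb, hbr⟩
    haveI : (B.subgroupOf f.range).Normal := Subgroup.normal_subgroupOf_of_le_normalizer hn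
    exact (hT' ⟨b, hbr⟩).1 (IsPGroup.le_sylow_of_normal
      (isPGroup_subgroupOf (K := f.range) hB) T' (show _ ∈ B.subgroupOf f.range from hb))

/-- A `p`-subgroup with image inside that of a Sylow subgroup is moved into it by the kernel. -/
theorem exists_ker_conj {G A : Type*} [Group G] [Finite G] [Group A] [Fact p.Prime] (f : G →* A)
    (T : Sylow p G) {X : Subgroup G} (hX : IsPGroup p X)
    (h : X.map f ≤ (T : Subgroup G).map f) :
    ∃ w ∈ f.ker, ∀ x ∈ X, w * x * w⁻¹ ∈ (T : Subgroup G) := by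
  let L := ((T : Subgroup G).map f).comap f
  have hTL : (T : Subgroup G) ≤ L := fun t ht => ⟨t, ht, rfl⟩
  have hXL : X ≤ L := fun x hx => h ⟨x, hx, rfl⟩
  obtain ⟨k, hk, hkX⟩ := ((isSylowIn_top T).mono_right hTL le_top).exists_conj_le hXL hX
  obtain ⟨t, ht, he⟩ := hk
  refine ⟨t⁻¹ * k, by rw [MonoidHom.mem_ker, map_mul, map_inv, he, inv_mul_cancel], fun x hx => ?_⟩
  have h1 := mul_mem (mul_mem (inv_mem ht) (hkX x hx)) ht
  simpa [mul_assoc] using h1

/-- Extension from receptivity. -/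
theorem extend_into {Q M : Subgroup Ω} {θ : Q ≃* M} (hθ : IsIso F θ) (hrec : F.IsReceptive M)
    {H : Subgroup Ω} (hH : H ≤ normalizerIn S Q)
    (h : ∀ g (hg : g ∈ H), MulAut.congr θ (conjAut Q (hH hg).2) ∈ autInducedBy S M) :
    Ext F θ (Q ⊔ H) := by
  obtain ⟨ψ, hψ, hψe⟩ := receptive_extend hrec hθ
  have hle : Q ⊔ H ≤ extender S Q (M.subtype.comp θ.toMonoidHom) :=
    sup_le (le_extender hθ) fun g hg => (mem_extender_iso θ).2 ⟨hH hg, h g hg⟩
  exact ⟨le_sup_left, _, restrict_mem hle hψ, fun x hx => hψe x (hle hx)⟩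

/-- A target of `M` in which the stabilizer of the image of `A` is fully automized. -/
structure Adjusted (F : FusionSystem S) (p : ℕ) (M' A' : Subgroup Ω) : Prop where
  le : A' ≤ M'
  receptive : F.IsReceptive M'
  sylow : IsSylowIn p (autInducedBy S M' ⊓ stab M' A') (F.autGroup M' ⊓ stab M' A')

theorem exists_adjusted [Finite S] [Fact p.Prime] (hS : IsPGroup p S) {M A : Subgroup Ω}
    (hAM : A ≤ M) (hgood : Good F p M) :
    ∃ (M' A' : Subgroup Ω) (θ : M ≃* M') (f : A ≃* A'), IsIso F θ ∧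
      (∀ x : A, (f x : Ω) = θ ⟨x, hAM x.2⟩) ∧ Adjusted F p M' A' := by
  obtain ⟨Q₀, hQ₀, hA₀, hR₀⟩ := hgood
  obtain ⟨θ₀, hθ₀⟩ := isConj_iff_iso.1 hQ₀
  obtain ⟨hQS, hsyl⟩ := isFullyAutomized_iff.1 hA₀
  have := finite_mulAut hQS
  let A₀ : Subgroup Ω := (A.subgroupOf M).map (Q₀.subtype.comp θ₀.toMonoidHom)
  let K₀ := F.autGroup Q₀ ⊓ stab Q₀ A₀
  obtain ⟨T, hT, -⟩ := exists_isSylowIn (p := p) (K := K₀) (bot_le : ⊥ ≤ K₀) IsPGroup.of_bot
  obtain ⟨γ, hγ, hγT⟩ := hsyl.exists_conj_le (hT.1.trans inf_le_left) hT.2.1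
  let θ := θ₀.trans γ
  have hθ : IsIso F θ := hθ₀.trans ((mem_autGroup hQS).1 hγ)
  let A' : Subgroup Ω := (A.subgroupOf M).map (Q₀.subtype.comp θ.toMonoidHom)
  obtain ⟨f, -, hfe⟩ := exists_iso_restrict hAM hθ
  have hmem : ∀ y : Q₀, ((γ y : Q₀) : Ω) ∈ A' ↔ (y : Ω) ∈ A₀ := by
    intro y
    constructor
    · rintro ⟨x, hx, he⟩
      exact ⟨x, hx, congrArg Subtype.val (γ.injective (Subtype.ext he) : θ₀ x = y)⟩
    · rintro ⟨x, hx, he⟩
      exact ⟨x, hx, congrArg (fun z : Q₀ => ((γ z : Q₀) : Ω)) (Subtype.ext he : θ₀ x = y)⟩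
  have hconj : ∀ β : MulAut Q₀, γ * β * γ⁻¹ ∈ stab Q₀ A' ↔ β ∈ stab Q₀ A₀ := by
    intro β
    constructor
    · intro h y
      have h1 := h (γ y)
      rw [MulAut.mul_apply, MulAut.mul_apply, MulAut.inv_apply_self, hmem, hmem] at h1
      exact h1
    · intro h y
      obtain ⟨z, rfl⟩ := γ.surjective y
      rw [MulAut.mul_apply, MulAut.mul_apply, MulAut.inv_apply_self, hmem, hmem]
      exact h z
  refine ⟨Q₀, A', θ, f, hθ, hfe, ⟨fun a ⟨x, _, he⟩ => he ▸ (θ x).2, hR₀, ?_⟩⟩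
  have hle : autInducedBy S Q₀ ⊓ stab Q₀ A' ≤ F.autGroup Q₀ ⊓ stab Q₀ A' :=
    inf_le_inf (autInducedBy_le_autGroup hQS) le_rfl
  obtain ⟨T', hT', hle'⟩ := exists_isSylowIn (p := p) hle
    ((isPGroup_autInducedBy hS Q₀).to_le inf_le_left)
  have hback : cj γ⁻¹ T' ≤ K₀ := by
    rintro _ ⟨x, hx, rfl⟩
    refine ⟨mul_mem (mul_mem (Subgroup.inv_mem _ hγ) (hT'.1 hx).1) (by simpa using hγ), ?_⟩
    refine (hconj _).1 ?_
    simpa [mul_assoc] using (hT'.1 hx).2
  obtain ⟨k, -, hkT⟩ := hT.exists_conj_le hback (hT'.2.1.map _)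
  have hcard : Nat.card T' ≤ Nat.card (autInducedBy S Q₀ ⊓ stab Q₀ A' : Subgroup (MulAut Q₀)) := by
    rw [← card_cj γ⁻¹ T', ← card_cj k (cj γ⁻¹ T'), ← card_cj γ (cj k (cj γ⁻¹ T'))]
    refine Subgroup.card_le_of_le ?_
    rintro _ ⟨x, hx, rfl⟩
    have hxT : x ∈ T := by
      obtain ⟨y, hy, rfl⟩ := hx
      exact hkT y hy
    exact ⟨hγT x hxT, (hconj x).2 (hT.1 hxT).2⟩
  rwa [eq_of_le_card hle' hcard]

variable {M' A' Q C : Subgroup Ω} {θ : Q ≃* M'} {f : C ≃* A'}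

theorem congr_mem_stab (hCQ : C ≤ Q) (hf : ∀ x : C, (f x : Ω) = θ ⟨x, hCQ x.2⟩) {g : Ω}
    (hQ : g ∈ Subgroup.normalizer (Q : Set Ω)) (hC : g ∈ Subgroup.normalizer (C : Set Ω)) :
    MulAut.congr θ (conjAut Q hQ) ∈ stab M' A' := by
  have hmem : ∀ z : Q, ((θ z : M') : Ω) ∈ A' ↔ (z : Ω) ∈ C := by
    intro z
    constructor
    · intro hz
      obtain ⟨c, hc⟩ := f.surjective ⟨_, hz⟩
      have h1 : θ ⟨c, hCQ c.2⟩ = θ z := Subtype.ext ((hf c).symm.trans (congrArg Subtype.val hc))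
      exact congrArg Subtype.val (θ.injective h1) ▸ c.2
    · intro hz
      rw [show ((θ z : M') : Ω) = (f ⟨z, hz⟩ : Ω) from (hf ⟨z, hz⟩).symm]
      exact (f _).2
  intro y
  obtain ⟨z, rfl⟩ := θ.surjective y
  simp only [MulAut.congr_apply, MulEquiv.trans_apply, MulEquiv.symm_apply_apply, hmem, conjAut_apply]
  exact (Subgroup.mem_normalizer_iff.1 hC z).symm

/-- The action of `H` transported to `M'`, with values in the stabilizer. -/
noncomputable def transported (hθ : IsIso F θ) (hCQ : C ≤ Q)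
    (hf : ∀ x : C, (f x : Ω) = θ ⟨x, hCQ x.2⟩) {H : Subgroup Ω} (hH : H ≤ normalizerIn S Q)
    (hHC : H ≤ Subgroup.normalizer (C : Set Ω)) :
    H →* ↥(F.autGroup M' ⊓ stab M' A') :=
  (((MulAut.congr θ).toMonoidHom).comp (actHom (hH.trans inf_le_right))).codRestrict _ fun g =>
    ⟨hθ.autGroup_map ▸ ⟨_, autInducedBy_le_autGroup hθ.src_le
      (conjAut_mem_autInducedBy (hH g.2).1 (hH g.2).2), rfl⟩,
      congr_mem_stab hCQ hf (hH g.2).2 (hHC g.2)⟩

theorem restr_congr (hCQ : C ≤ Q) (hA : A' ≤ M') (hf : ∀ x : C, (f x : Ω) = θ ⟨x, hCQ x.2⟩) {g : Ω}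
    (hQ : g ∈ Subgroup.normalizer (Q : Set Ω)) (hC : g ∈ Subgroup.normalizer (C : Set Ω)) :
    restr hA ⟨MulAut.congr θ (conjAut Q hQ), congr_mem_stab hCQ hf hQ hC⟩ =
      MulAut.congr f (conjAut C hC) := by
  refine MulEquiv.ext fun y => Subtype.ext ?_
  obtain ⟨c, rfl⟩ := f.surjective y
  rw [restr_coe]
  simp only [MulAut.congr_apply, MulEquiv.trans_apply, MulEquiv.symm_apply_apply]
  rw [show (⟨(f c : Ω), hA (f c).2⟩ : M') = θ ⟨c, hCQ c.2⟩ from Subtype.ext (hf c),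
    MulEquiv.symm_apply_apply, hf]
  refine congrArg (fun z : Q => ((θ z : M') : Ω)) (Subtype.ext ?_)
  rw [conjAut_apply, conjAut_apply]

variable [Finite S] [Fact p.Prime]

theorem extend_stab (hS : IsPGroup p S) (hadj : Adjusted F p M' A') (hθ : IsIso F θ) (hCQ : C ≤ Q)
    (hf : ∀ x : C, (f x : Ω) = θ ⟨x, hCQ x.2⟩) {H : Subgroup Ω} (hH : H ≤ normalizerIn S Q)
    (hHC : H ≤ Subgroup.normalizer (C : Set Ω)) :
    ∃ f' : C ≃* A', Ext F f' (Q ⊔ H) := by
  have := finite_mulAut hadj.receptive.1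
  let X := ((transported hθ hCQ hf hH hHC).range).map (F.autGroup M' ⊓ stab M' A').subtype
  have hX : IsPGroup p X :=
    (((hS.to_le (hH.trans (normalizerIn_le S Q))).of_surjective _
      (MonoidHom.rangeRestrict_surjective (transported hθ hCQ hf hH hHC))).map _)
  obtain ⟨k, hk, hkX⟩ := hadj.sylow.exists_conj_le (Subgroup.map_subtype_le _) hX
  refine ⟨f.trans (restr hadj.le ⟨k, hk.2⟩), ?_⟩
  have hθk : IsIso F (θ.trans k) := hθ.trans ((mem_autGroup hadj.receptive.1).1 hk.1)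
  have h := extend_into hθk hadj.receptive hH fun g hg => by
    have h1 := hkX _ ⟨_, ⟨⟨g, hg⟩, rfl⟩, rfl⟩
    have h1' : k * MulAut.congr θ (conjAut Q (hH hg).2) * k⁻¹ ∈ autInducedBy S M' := h1.1
    convert h1' using 1
    ext y
    simp
  obtain ⟨-, ψ, hψ, hψe⟩ := h
  refine ⟨hCQ.trans le_sup_left, ψ, hψ, fun x hx => ?_⟩
  rw [hψe ⟨x, hCQ x.2⟩ hx, MulEquiv.trans_apply, MulEquiv.trans_apply, restr_coe,
    show (⟨(f x : Ω), hadj.le (f x).2⟩ : M') = θ ⟨x, hCQ x.2⟩ from Subtype.ext (hf x)]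

/-- The stabilizer Sylow subgroup, as a Sylow subgroup. -/
theorem exists_sylow (hadj : Adjusted F p M' A') :
    ∃ T : Sylow p ↥(F.autGroup M' ⊓ stab M' A'),
      ∀ x, x ∈ (T : Subgroup ↥(F.autGroup M' ⊓ stab M' A')) ↔ (x : MulAut M') ∈ autInducedBy S M' := by
  have := finite_mulAut hadj.receptive.1
  refine ⟨hadj.sylow.toSylow, fun x => ?_⟩
  rw [IsSylowIn.coe_toSylow, Subgroup.mem_subgroupOf]
  exact ⟨fun h => h.1, fun h => ⟨h, x.2.2⟩⟩

theorem extend_ker (hS : IsPGroup p S) (hadj : Adjusted F p M' A') (hθ : IsIso F θ) (hCQ : C ≤ Q)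
    (hf : ∀ x : C, (f x : Ω) = θ ⟨x, hCQ x.2⟩) {H : Subgroup Ω} (hH : H ≤ normalizerIn S Q)
    (hHC : H ≤ Subgroup.normalizer (C : Set Ω))
    (T : Sylow p ↥(F.autGroup M' ⊓ stab M' A'))
    (hT : ∀ x, x ∈ (T : Subgroup ↥(F.autGroup M' ⊓ stab M' A')) ↔ (x : MulAut M') ∈ autInducedBy S M')
    (himg : ∀ g (hg : g ∈ H), MulAut.congr f (conjAut C (hHC hg)) ∈
      (T : Subgroup ↥(F.autGroup M' ⊓ stab M' A')).map ((restr hadj.le).comp (Subgroup.inclusion inf_le_right))) :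
    Ext F f (Q ⊔ H) := by
  have := finite_mulAut hadj.receptive.1
  let t := transported hθ hCQ hf hH hHC
  obtain ⟨w, hw, hwX⟩ := exists_ker_conj ((restr hadj.le).comp (Subgroup.inclusion inf_le_right)) T
    ((hS.to_le (hH.trans (normalizerIn_le S Q))).of_surjective _ (MonoidHom.rangeRestrict_surjective t))
    (by
      rintro _ ⟨_, ⟨⟨g, hg⟩, rfl⟩, rfl⟩
      have h1 := himg g hg
      rw [← restr_congr hCQ hadj.le hf (hH hg).2 (hHC hg)] at h1
      exact h1)
  have hθw : IsIso F (θ.trans (w : MulAut M')) :=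
    hθ.trans ((mem_autGroup hadj.receptive.1).1 w.2.1)
  have h := extend_into hθw hadj.receptive hH fun g hg => by
    have h1 := (hT _).1 (hwX _ ⟨⟨g, hg⟩, rfl⟩)
    convert h1 using 1
    ext y
    simp [t, transported]
    rfl
  obtain ⟨-, ψ, hψ, hψe⟩ := h
  refine ⟨hCQ.trans le_sup_left, ψ, hψ, fun x hx => ?_⟩
  rw [hψe ⟨x, hCQ x.2⟩ hx, MulEquiv.trans_apply]
  have h2 : (restr hadj.le ⟨(w : MulAut M'), w.2.2⟩) (f x) = f x :=
    DFunLike.congr_fun (MonoidHom.mem_ker.1 hw) (f x)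
  have h3 := congrArg Subtype.val h2
  rw [restr_coe, show (⟨(f x : Ω), hadj.le (f x).2⟩ : M') = θ ⟨x, hCQ x.2⟩ from Subtype.ext (hf x)] at h3
  exact h3

/-! ### One conjugacy class, all larger ones being good -/

/-- `O_p(Aut_F(A))`, inside `Aut(A)`. -/
abbrev core (F : FusionSystem S) (p : ℕ) (A : Subgroup Ω) : Subgroup (MulAut A) :=
  (pCore p (F.autGroup A)).map (F.autGroup A).subtype

omit [Finite S] [Fact p.Prime] in
theorem core_normal {A : Subgroup Ω} :
    F.autGroup A ≤ Subgroup.normalizer (core F p A : Set (MulAut A)) := by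
  intro a ha
  rw [Subgroup.mem_normalizer_iff]
  intro y
  constructor
  · rintro ⟨x, hx, rfl⟩
    exact ⟨_, (pCore_normal (p := p)).conj_mem x hx ⟨a, ha⟩, rfl⟩
  · rintro ⟨x, hx, he⟩
    refine ⟨_, (pCore_normal (p := p)).conj_mem x hx ⟨a, ha⟩⁻¹, ?_⟩
    change (x : MulAut A) = a * y * a⁻¹ at he
    simp [he, mul_assoc]

omit [Finite S] [Fact p.Prime] in
theorem congr_core {A B : Subgroup Ω} {e : A ≃* B} (he : IsIso F e) [Finite (MulAut A)]
    [Fact p.Prime] {γ : MulAut A} (hγ : γ ∈ core F p A) :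
    MulAut.congr e γ ∈ core F p B := by
  let φ : F.autGroup A →* F.autGroup B :=
    ((MulAut.congr e).toMonoidHom.comp (F.autGroup A).subtype).codRestrict _ fun a =>
      he.autGroup_map ▸ ⟨a, a.2, rfl⟩
  have hsurj : Function.Surjective φ := by
    rintro ⟨b, hb⟩
    rw [← he.autGroup_map] at hb
    obtain ⟨a, ha, rfl⟩ := hb
    exact ⟨⟨a, ha⟩, rfl⟩
  obtain ⟨x, hx, rfl⟩ := hγ
  exact ⟨φ x, le_pCore ((pCore_normal (p := p)).map φ hsurj) (isPGroup_pCore.map φ) ⟨x, hx, rfl⟩, rfl⟩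

/-- The elements of `N_S(A)` inducing elements of `O_p(Aut_F(A))`. -/
noncomputable def npr (F : FusionSystem S) (p : ℕ) (A : Subgroup Ω) : Subgroup Ω :=
  ((core F p A).comap (actHom (inf_le_right : normalizerIn S A ≤ _))).map (normalizerIn S A).subtype

omit [Finite S] [Fact p.Prime] in
theorem mem_npr {A : Subgroup Ω} {g : Ω} :
    g ∈ npr F p A ↔ ∃ hg : g ∈ normalizerIn S A, conjAut A hg.2 ∈ core F p A := by
  constructor
  · rintro ⟨⟨y, hy⟩, hc, rfl⟩; exact ⟨hy, hc⟩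
  · rintro ⟨hg, hc⟩; exact ⟨⟨g, hg⟩, hc, rfl⟩

omit [Finite S] [Fact p.Prime] in
theorem npr_le {A : Subgroup Ω} : npr F p A ≤ normalizerIn S A := Subgroup.map_subtype_le _

theorem inn_le_core (hS : IsPGroup p S) {A : Subgroup Ω} (hA : A ≤ S) : Inn A ≤ core F p A := by
  intro x hx
  have hI : IsPGroup p (Inn A) :=
    ((isPGroup_autInducedBy hS A)).to_le (inn_le_autInducedBy hA)
  refine ⟨⟨x, inn_le_autGroup hA hx⟩, le_pCore (inn_subgroupOf_normal A _)
    (isPGroup_subgroupOf hI) hx, rfl⟩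

theorem le_npr (hS : IsPGroup p S) {A : Subgroup Ω} (hA : A ≤ S) : A ≤ npr F p A := fun a ha =>
  mem_npr.2 ⟨le_normalizerIn hA ha, inn_le_core hS hA ⟨⟨a, ha⟩, by ext x; simp⟩⟩

omit [Finite S] [Fact p.Prime] in
theorem centralizer_le_npr {A : Subgroup Ω} : centralizerIn S A ≤ npr F p A := fun c hc =>
  mem_npr.2 ⟨centralizerIn_le_normalizerIn S A hc, by
    convert one_mem (core F p A)
    ext x
    rw [conjAut_apply, MulAut.one_apply, ← (mem_centralizerIn.1 hc).2 _ x.2, mul_inv_cancel_right]⟩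

/-- Extensions of isomorphisms carry `npr` into `npr`. -/
theorem mapsTo_npr {A B Q : Subgroup Ω} {e : A ≃* B} {ψ : Q →* Ω} (hψ : ψ ∈ F.Hom Q) (he : IsIso F e)
    (hA : A ≤ Q) (hψe : ∀ (x : A) (hx : (x : Ω) ∈ Q), ψ ⟨x, hx⟩ = (e x : Ω)) (g : Q)
    (hg : (g : Ω) ∈ npr F p A) : ψ g ∈ npr F p B := by
  have := finite_mulAut he.src_le
  obtain ⟨hgN, hc⟩ := mem_npr.1 hg
  obtain ⟨hh, heq⟩ := extension_conj hA hψe hgN.2
  exact mem_npr.2 ⟨⟨val_mem hψ g, hh⟩, heq ▸ congr_core he hc⟩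

section Class

variable {n : ℕ} (hS : IsPGroup p S) (hup : ∀ R : Subgroup Ω, R ≤ S → n < Nat.card R → Good F p R)

include hS hup

/-- A partial step is dominated by two larger ones. -/
theorem step_split {A B Q : Subgroup Ω} {e : A ≃* B} (he : Ext F e Q) (hQN : Q ≤ normalizerIn S A)
    (hn : n < Nat.card Q) (hlt : Q < normalizerIn S A) :
    ∃ (M' A' : Subgroup Ω) (θ : Q ≃* M') (f : A ≃* A'), IsIso F θ ∧ Adjusted F p M' A' ∧
      (∀ x : A, (f x : Ω) = θ ⟨x, he.1 x.2⟩) ∧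
      ∃ f' : A ≃* A', Ext F f' (normalizerIn (normalizerIn S A) Q) := by
  obtain ⟨M', A', θ, f, hθ, hf, hadj⟩ :=
    exists_adjusted hS he.1 (hup Q (hQN.trans (normalizerIn_le S A)) hn)
  refine ⟨M', A', θ, f, hθ, hadj, hf, ?_⟩
  obtain ⟨f', hf'⟩ := extend_stab hS hadj hθ he.1 hf
    (H := normalizerIn (normalizerIn S A) Q)
    (fun g hg => ⟨hg.1.1, hg.2⟩) (fun g hg => hg.1.2)
  exact ⟨f', hf'.mono (fun a ha => ⟨hQN (he.1 ha), Subgroup.le_normalizer (he.1 ha)⟩) le_sup_right⟩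

/-- The subgroups joined by a step have a common target. -/
theorem step_join (k : ℕ) : ∀ (A B Q : Subgroup Ω) (e : A ≃* B), Ext F e Q → Q ≤ normalizerIn S A →
    n < Nat.card Q → Nat.card S - Nat.card Q = k → ∃ C, Up F A C ∧ Up F B C := by
  induction k using Nat.strong_induction_on with
  | _ k ih =>
    intro A B Q e he hQN hn hk
    have hAS : A ≤ S := he.1.trans (hQN.trans (normalizerIn_le S A))
    have hBS : B ≤ S := he.isIso.tgt_le
    rcases hQN.eq_or_lt with rfl | hlt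
    · exact ⟨B, ⟨e, he⟩, Up.refl hBS⟩
    obtain ⟨Q', he', hQ'N, hc⟩ := he.symm hQN
    rcases hQ'N.eq_or_lt with rfl | hlt'
    · exact ⟨A, Up.refl hAS, ⟨_, he'⟩⟩
    have hbig : ∀ (A₀ Q₀ : Subgroup Ω), Q₀ < normalizerIn S A₀ → Nat.card Q₀ = Nat.card Q →
        Nat.card Q < Nat.card (normalizerIn (normalizerIn S A₀) Q₀) ∧
        Nat.card (normalizerIn (normalizerIn S A₀) Q₀) ≤ Nat.card S := by
      intro A₀ Q₀ hl hc₀
      have : Finite (normalizerIn S A₀) := finite_of_le (normalizerIn_le S A₀)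
      have hl' : Q₀ < normalizerIn (normalizerIn S A₀) Q₀ :=
        lt_normalizer_inf (hS.to_le (normalizerIn_le S A₀)) hl
      have : Finite (normalizerIn (normalizerIn S A₀) Q₀) :=
        finite_of_le ((normalizerIn_le _ Q₀).trans (normalizerIn_le S A₀))
      refine ⟨hc₀ ▸ lt_of_not_ge fun hge => hl'.ne (eq_of_le_card hl'.le hge), ?_⟩
      exact Subgroup.card_le_of_le ((normalizerIn_le _ Q₀).trans (normalizerIn_le S A₀))
    -- both ends move to a common target by larger steps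
    obtain ⟨M', A', θ, f, hθ, hadj, hf, f₁, hf₁⟩ := step_split hS hup he hQN hn hlt
    obtain ⟨hAQ, ψ, hψ, hψe⟩ := he
    let η : ψ.range ≃* M' := (toIso ψ hψ rfl).symm.trans θ
    have hB : ∀ b : B, (b : Ω) = ψ ⟨e.symm b, hAQ (e.symm b).2⟩ := by
      intro b; rw [hψe, e.apply_symm_apply]
    have hBR : B ≤ ψ.range := fun b hb => ⟨_, (hB ⟨b, hb⟩).symm⟩
    have hRN : ψ.range ≤ normalizerIn S B := by
      rintro _ ⟨g, rfl⟩; exact mapsTo_normalizer hψ hAQ hQN hψe g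
    have hRlt : ψ.range < normalizerIn S B := by
      refine lt_of_le_of_ne hRN fun heq => ?_
      have h1 : Nat.card Q = Nat.card (normalizerIn S B) := by rw [← heq, card_range hψ]
      have h2 : Q' = normalizerIn S B :=
        haveI : Finite (normalizerIn S B) := finite_of_le (normalizerIn_le S B)
        eq_of_le_card hlt'.le (by omega)
      exact hlt'.ne h2
    have hηf : ∀ x : B, ((e.symm.trans f) x : Ω) = η ⟨x, hBR x.2⟩ := by
      intro x
      show (f (e.symm x) : Ω) = θ ((toIso ψ hψ rfl).symm ⟨x, hBR x.2⟩)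
      rw [hf]
      refine congrArg (fun z : Q => ((θ z : M') : Ω)) ?_
      refine ((toIso ψ hψ rfl).eq_symm_apply).2 (Subtype.ext ?_)
      rw [toIso_apply]
      exact (hB x).symm
    obtain ⟨f₂, hf₂⟩ := extend_stab hS hadj ((isIso_toIso ψ hψ rfl).symm.trans hθ) hBR hηf
      (H := normalizerIn (normalizerIn S B) ψ.range) (fun g hg => ⟨hg.1.1, hg.2⟩)
      (fun g hg => hg.1.2)
    have hf₂' := hf₂.mono (fun b hb => ⟨le_normalizerIn hBS hb, Subgroup.le_normalizer (hBR hb)⟩)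
      (Q' := normalizerIn (normalizerIn S B) ψ.range) le_sup_right
    obtain ⟨h₁, h₁'⟩ := hbig A Q hlt rfl
    obtain ⟨h₂, h₂'⟩ := hbig B ψ.range hRlt (card_range hψ)
    obtain ⟨C₁, hA₁, hA'₁⟩ := ih _ (by omega) A A' _ f₁ hf₁ (normalizerIn_le _ _) (by omega) rfl
    obtain ⟨C₂, hB₂, hA'₂⟩ := ih _ (by omega) B A' _ f₂ hf₂' (normalizerIn_le _ _) (by omega) rfl
    obtain ⟨u₁, hu₁⟩ := hA'₁
    obtain ⟨u₂, hu₂⟩ := hA'₂
    obtain ⟨R, hR, hRN', hRc⟩ := hu₁.symm le_rfl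
    have hbig' : Nat.card Q < Nat.card (normalizerIn S A') := by
      obtain ⟨-, hle, hcard⟩ := (hf₁.symm (normalizerIn_le _ _)).choose_spec
      have : Finite (normalizerIn S A') := finite_of_le (normalizerIn_le S A')
      have := Subgroup.card_le_of_le hle
      omega
    have : Nat.card (normalizerIn S A') ≤ Nat.card S :=
      Subgroup.card_le_of_le (normalizerIn_le S A')
    obtain ⟨C, hC₁, hC₂⟩ := ih _ (by omega) C₁ C₂ R _ (hR.trans_normalizer hRN' hu₂) hRN'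
      (by omega) rfl
    exact ⟨C, hA₁.trans hC₁, hB₂.trans hC₂⟩

variable {ℋ : Set (Subgroup Ω)}

/-- Induction along steps. -/
theorem all_isos (hgen : ∀ E : FusionSystem S, (∀ P ∈ ℋ, F.Hom P ⊆ E.Hom P) → F ≤ E)
    (hℋconj : ∀ P ∈ ℋ, ∀ Q, F.IsConj P Q → Q ∈ ℋ) (hnS : n < Nat.card S)
    (Φ : ∀ R R' : Subgroup Ω, (R ≃* R') → Prop)
    (htrans : ∀ (R R' R'' : Subgroup Ω) (e : R ≃* R') (e' : R' ≃* R''), Nat.card R = n → R ∉ ℋ →
      IsIso F e → IsIso F e' → Φ R R' e → Φ R' R'' e' → Φ R R'' (e.trans e'))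
    (hsymm : ∀ (R R' : Subgroup Ω) (e : R ≃* R'), Nat.card R = n → R ∉ ℋ →
      IsIso F e → Φ R R' e → Φ R' R e.symm)
    (hstep : ∀ (R R' Q : Subgroup Ω) (e : R ≃* R'), Nat.card R = n → R ∉ ℋ → R < Q →
      Q ≤ normalizerIn S R → Ext F e Q → Φ R R' e)
    {R R' : Subgroup Ω} (e : R ≃* R') (he : IsIso F e) (hR : Nat.card R = n) (hRℋ : R ∉ ℋ) :
    Φ R R' e := by
  have hstep' : ∀ (R R' P : Subgroup Ω) (e : R ≃* R'), Nat.card R = n → R ∉ ℋ → R < P →
      P ≤ S → Ext F e P → Φ R R' e := by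
    intro R R' P e hR hRℋ hlt hP he
    have : Finite P := finite_of_le hP
    have hl := lt_normalizer_inf (hS.to_le hP) hlt
    exact hstep R R' (normalizerIn P R) e hR hRℋ hl (inf_le_inf hP le_rfl)
      (he.mono hl.le (normalizerIn_le P R))
  let D : FusionSystem S :=
    { Hom := fun P => {φ | φ ∈ F.Hom P ∧ ∀ (R R' : Subgroup Ω) (e : R ≃* R') (hle : R ≤ P),
        Nat.card R = n → R ∉ ℋ → (∀ x : R, (e x : Ω) = φ ⟨x, hle x.2⟩) → Φ R R' e}
      le_of_mem := fun h => F.le_of_mem h.1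
      injective_of_mem := fun h => F.injective_of_mem h.1
      conj_mem := fun {P g} hP hg => ⟨F.conj_mem hP hg, fun R R' e hle hR hRℋ hRe => by
        refine hstep' R R' S e hR hRℋ (lt_of_le_of_ne (hle.trans hP) ?_) le_rfl
          ⟨hle.trans hP, _, F.conj_mem le_rfl hg, fun x hx => (hRe x).symm⟩
        rintro rfl
        omega⟩
      comp_mem := fun {P Q φ ψ} hφ hψ h => ⟨F.comp_mem hφ.1 hψ.1 h,
        fun R R' e hle hR hRℋ hRe => by
          obtain ⟨a, ha, hae⟩ := exists_iso_restrict hle hφ.1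
          have hle' : (R.subgroupOf P).map φ ≤ Q := by
            rintro _ ⟨x, -, rfl⟩; exact h x
          have hb : ∀ y : (R.subgroupOf P).map φ, ((a.symm.trans e) y : Ω) = ψ ⟨y, hle' y.2⟩ := by
            intro y
            obtain ⟨x, rfl⟩ := a.surjective y
            rw [MulEquiv.trans_apply, a.symm_apply_apply, hRe x]
            exact congrArg ψ (Subtype.ext (hae x).symm)
          have hbi : IsIso F (a.symm.trans e) := isIso_of_agree hle' hψ.1 hb
          have hRℋ' : (R.subgroupOf P).map φ ∉ ℋ := fun hm => hRℋ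
            (hℋconj _ hm R (isConj_symm (isConj_iff_iso.2 ⟨a, ha⟩)))
          have h1 := htrans R _ R' a (a.symm.trans e) hR hRℋ ha hbi
            (hφ.2 R _ a hle hR hRℋ hae)
            (hψ.2 _ R' _ hle' (by rw [← hR]; exact Nat.card_congr a.symm.toEquiv) hRℋ' hb)
          rwa [show a.trans (a.symm.trans e) = e from MulEquiv.ext fun x => by simp] at h1⟩
      inv_mem := fun {P φ} hφ => by
        obtain ⟨ψ, hψ, hψe⟩ := F.inv_mem hφ.1
        refine ⟨ψ, ⟨hψ, fun R R' e hle hR hRℋ hRe => ?_⟩, hψe⟩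
        have hi : IsIso F e := isIso_of_agree hle hψ hRe
        have hR'P : ∀ y : R', ∃ hy : (y : Ω) ∈ P, φ ⟨y, hy⟩ = (e.symm y : Ω) := by
          intro y
          obtain ⟨x, rfl⟩ := e.surjective y
          obtain ⟨z, hz⟩ := hle x.2
          have h1 : (e x : Ω) = z := by
            rw [hRe x, ← hψe z]
            exact congrArg ψ (Subtype.ext hz.symm)
          refine ⟨h1 ▸ z.2, ?_⟩
          rw [e.symm_apply_apply, ← hz]
          exact congrArg φ (Subtype.ext h1)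
        have hle' : R' ≤ P := fun y hy => (hR'P ⟨y, hy⟩).1
        have h1 := hsymm R' R e.symm (by rw [← hR]; exact Nat.card_congr e.symm.toEquiv)
          (fun hm => hRℋ (hℋconj _ hm R (isConj_iff_iso.2 ⟨_, hi.symm⟩))) hi.symm
          (hφ.2 R' R e.symm hle' (by rw [← hR]; exact Nat.card_congr e.symm.toEquiv)
            (fun hm => hRℋ (hℋconj _ hm R (isConj_iff_iso.2 ⟨_, hi.symm⟩)))
            fun y => (hR'P y).2.symm)
        rwa [MulEquiv.symm_symm] at h1 }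
  have hFD : F ≤ D := hgen D fun P hP φ hφ => ⟨hφ, fun R R' e hle hR hRℋ hRe =>
    hstep' R R' P e hR hRℋ (lt_of_le_of_ne hle fun h => hRℋ (h ▸ hP)) (src_le hφ)
      ⟨hle, φ, hφ, fun x hx => (hRe x).symm⟩⟩
  exact (hFD R he).2 R R' e le_rfl hR hRℋ fun x => rfl

/-- Every isomorphism into a fully normalized member is corrected to extend to `N_S`. -/
theorem up_fullyNormalized (hgen : ∀ E : FusionSystem S, (∀ P ∈ ℋ, F.Hom P ⊆ E.Hom P) → F ≤ E)
    (hℋconj : ∀ P ∈ ℋ, ∀ Q, F.IsConj P Q → Q ∈ ℋ) (hnS : n < Nat.card S) {R P : Subgroup Ω}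
    (hP : F.IsFullyNormalized P) (hRP : F.IsConj R P) (hR : Nat.card R = n) (hRℋ : R ∉ ℋ) :
    Up F R P := by
  obtain ⟨e, he⟩ := isConj_iff_iso.1 hRP
  obtain ⟨C, hRC, hPC⟩ := all_isos hS hup hgen hℋconj hnS
    (fun R R' _ => ∃ C, Up F R C ∧ Up F R' C)
    (fun R R' R'' e e' hR hRℋ he he' ⟨C₁, h₁, h₁'⟩ ⟨C₂, h₂, h₂'⟩ => by
      obtain ⟨u₁, hu₁⟩ := h₁'
      obtain ⟨u₂, hu₂⟩ := h₂
      obtain ⟨Q, hQ, hQN, hQc⟩ := hu₁.symm le_rfl
      have hR'S := he.tgt_le
      have hR'c : Nat.card R' = n := by rw [← hR]; exact (Nat.card_congr e.toEquiv).symm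
      have hlt : R' < normalizerIn S R' := by
        refine lt_normalizer_inf hS (lt_of_le_of_ne hR'S fun h => ?_)
        rw [h] at hR'c; omega
      have : Finite (normalizerIn S R') := finite_of_le (normalizerIn_le S R')
      have hn : n < Nat.card Q := by
        rw [hQc, ← hR'c]
        exact lt_of_not_ge fun hge => hlt.ne (eq_of_le_card hlt.le hge)
      obtain ⟨C, hC₁, hC₂⟩ := step_join hS hup _ C₁ C₂ Q _ (hQ.trans_normalizer hQN hu₂) hQN hn rfl
      exact ⟨C, h₁.trans hC₁, h₂'.trans hC₂⟩)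
    (fun R R' e _ _ _ ⟨C, h, h'⟩ => ⟨C, h', h⟩)
    (fun R R' Q e hR _ hlt hQN he => by
      refine step_join hS hup _ R R' Q e he hQN ?_ rfl
      have : Finite Q := finite_of_le (hQN.trans (normalizerIn_le S R))
      rw [← hR]
      exact lt_of_not_ge fun hge => hlt.ne (eq_of_le_card hlt.le hge))
    e he hR hRℋ
  obtain ⟨u, hu⟩ := hPC
  have h := ext_symm_of_card hu (hP.2 C (isConj_iff_iso.2 ⟨u, hu.isIso⟩))
  exact hRC.trans ⟨_, h⟩

/-- The automorphisms of a fully normalized member extend to `npr`. -/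
theorem aut_extends (hgen : ∀ E : FusionSystem S, (∀ P ∈ ℋ, F.Hom P ⊆ E.Hom P) → F ≤ E)
    (hℋconj : ∀ P ∈ ℋ, ∀ Q, F.IsConj P Q → Q ∈ ℋ) (hnS : n < Nat.card S) {P : Subgroup Ω}
    (hP : F.IsFullyNormalized P) (hPc : Nat.card P = n) (hPℋ : P ∉ ℋ)
    {α : MulAut P} (hα : α ∈ F.autGroup P) :
    Ext F (α : P ≃* P) (npr F p P) := by
  have := finite_mulAut hP.1
  let E : Set (MulAut P) := {β | β ∈ F.autGroup P ∧ Ext F (β : P ≃* P) (npr F p P)}
  have hmul : ∀ a b : MulAut P, a ∈ E → b ∈ E → a * b ∈ E := by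
    rintro a b ⟨ha, hla, χ, hχ, hχe⟩ ⟨hb, hlb, ψ, hψ, hψe⟩
    refine ⟨mul_mem ha hb, hla, _, F.comp_mem hψ hχ fun g =>
      mapsTo_npr (e := (b : P ≃* P)) hψ ((mem_autGroup hP.1).1 hb) hlb hψe g g.2, fun x hx => ?_⟩
    show χ ⟨ψ ⟨x, hx⟩, _⟩ = ((a (b x) : P) : Ω)
    rw [← hχe (b x) (hla (b x).2)]
    exact congrArg χ (Subtype.ext (hψe x hx))
  have hone : (1 : MulAut P) ∈ E :=
    ⟨one_mem _, le_npr hS hP.1, _, subtype_mem (npr_le.trans (normalizerIn_le S P)), fun x hx => rfl⟩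
  have hinv : ∀ a ∈ E, a⁻¹ ∈ E := by
    intro a ha
    have hpow : ∀ k : ℕ, a ^ k ∈ E := by
      intro k
      induction k with
      | zero => simpa using hone
      | succ k ih => rw [pow_succ]; exact hmul _ _ ih ha
    rw [show a⁻¹ = a ^ (orderOf a - 1) from inv_eq_of_mul_eq_one_left (by
      rw [← pow_succ, Nat.sub_add_cancel (orderOf_pos a), pow_orderOf_eq_one])]
    exact hpow _
  -- steps fixing `P`
  have hstepP : ∀ (k : ℕ) (Q : Subgroup Ω) (β : MulAut P), Ext F (β : P ≃* P) Q →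
      Q ≤ normalizerIn S P → n < Nat.card Q → Nat.card S - Nat.card Q = k → β ∈ E := by
    intro k
    induction k using Nat.strong_induction_on with
    | _ k ih =>
      intro Q β hβ hQN hn hk
      have hβF : β ∈ F.autGroup P := (mem_autGroup hP.1).2 hβ.isIso
      by_cases hNQ : npr F p P ≤ Q
      · exact ⟨hβF, hβ.mono (le_npr hS hP.1) hNQ⟩
      obtain ⟨hPQ, ψ, hψ, hψe⟩ := hβ
      have hQS : Q ≤ S := hQN.trans (normalizerIn_le S P)
      obtain ⟨M', A', θ, f, hθ, hf, hadj⟩ := exists_adjusted hS hPQ (hup Q hQS hn)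
      have := finite_mulAut hadj.receptive.1
      obtain ⟨T, hT⟩ := exists_sylow hadj
      let r := (restr hadj.le).comp
        (Subgroup.inclusion (inf_le_right : F.autGroup M' ⊓ stab M' A' ≤ stab M' A'))
      have hfi : IsIso F f := isIso_of_agree hPQ hθ fun x => hf x
      have hrA : r.range ≤ F.autGroup A' := by
        rintro _ ⟨b, rfl⟩
        exact restr_mem_autGroup hadj.le hadj.receptive.1 ⟨b.1, b.2.2⟩ b.2.1
      have := finite_mulAut hfi.tgt_le
      have hcoreT : core F p A' ⊓ r.range ≤ (T : Subgroup ↥(F.autGroup M' ⊓ stab M' A')).map r :=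
        (image_sylow r T).2 _ (isPGroup_pCore.map _) (hrA.trans core_normal)
      have key : ∀ (Q₀ : Subgroup Ω) (θ₀ : Q₀ ≃* M') (f₀ : P ≃* A') (hPQ₀ : P ≤ Q₀),
          IsIso F θ₀ → (∀ x : P, (f₀ x : Ω) = θ₀ ⟨x, hPQ₀ x.2⟩) → Q₀ ≤ normalizerIn S P →
          Nat.card Q₀ = Nat.card Q → ¬ npr F p P ≤ Q₀ →
          ∃ Q₁, Ext F f₀ Q₁ ∧ Q₁ ≤ normalizerIn S P ∧ Nat.card Q < Nat.card Q₁ := by
        intro Q₀ θ₀ f₀ hPQ₀ hθ₀ hf₀ hQ₀N hc hN
        have hQ₀S : Q₀ ≤ S := hQ₀N.trans (normalizerIn_le S P)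
        let H := normalizerIn (npr F p P) Q₀
        have hHN : H ≤ normalizerIn S Q₀ := fun g hg => ⟨(npr_le hg.1).1, hg.2⟩
        have hHP : H ≤ Subgroup.normalizer (P : Set Ω) := fun g hg => (npr_le hg.1).2
        have hext := extend_ker hS hadj hθ₀ hPQ₀ hf₀ hHN hHP T hT fun g hg => by
          obtain ⟨hgN, hgc⟩ := mem_npr.1 hg.1
          refine hcoreT ⟨congr_core (isIso_of_agree hPQ₀ hθ₀ fun x => hf₀ x) hgc, ?_⟩
          exact ⟨transported hθ₀ hPQ₀ hf₀ hHN hHP ⟨g, hg⟩,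
            restr_congr hPQ₀ hadj.le hf₀ (hHN hg).2 (hHP hg)⟩
        refine ⟨Q₀ ⊔ H, hext, sup_le hQ₀N fun g hg => npr_le hg.1, ?_⟩
        have hnotle : ¬ H ≤ Q₀ := by
          intro hle
          have hQnorm : Q₀ ≤ Subgroup.normalizer (npr F p P : Set Ω) := by
            intro q hq
            have : Finite (npr F p P) := finite_of_le (npr_le.trans (normalizerIn_le S P))
            refine mem_normalizer_of_conj_mem fun y hy => ?_
            obtain ⟨hyN, hyc⟩ := mem_npr.1 hy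
            have hqN := hQ₀N hq
            refine mem_npr.2 ⟨mul_mem (mul_mem hqN hyN) (inv_mem hqN), ?_⟩
            have hq' : conjAut P hqN.2 ∈ F.autGroup P :=
              autInducedBy_le_autGroup hP.1 (conjAut_mem_autInducedBy hqN.1 hqN.2)
            convert conj_mem_of_mem_normalizer (core_normal (p := p) hq') hyc using 1
            rw [← map_inv, ← map_mul, ← map_mul]
            rfl
          have hlt : Q₀ < Q₀ ⊔ npr F p P :=
            lt_of_le_of_ne le_sup_left fun h => hN (h ▸ le_sup_right)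
          have hsS : Q₀ ⊔ npr F p P ≤ S := sup_le hQ₀S (npr_le.trans (normalizerIn_le S P))
          have : Finite (Q₀ ⊔ npr F p P : Subgroup Ω) := finite_of_le hsS
          obtain ⟨g, hg, hgQ⟩ := SetLike.exists_of_lt (lt_normalizer_inf (hS.to_le hsS) hlt)
          obtain ⟨q, hq, y, hy, rfl⟩ := mem_sup_of_normalizes hQnorm hg.1
          have hy' : y ∈ H := ⟨hy, by
            have := mul_mem (inv_mem (Subgroup.le_normalizer hq)) hg.2
            rwa [inv_mul_cancel_left] at this⟩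
          exact hgQ (mul_mem hq (hle hy'))
        have : Finite (Q₀ ⊔ H : Subgroup Ω) :=
          finite_of_le (sup_le hQ₀S (hHN.trans (normalizerIn_le S Q₀)))
        rw [← hc]
        exact lt_of_not_ge fun hge => hnotle
          (le_sup_right.trans (eq_of_le_card le_sup_left hge).ge)
      let η : ψ.range ≃* M' := (toIso ψ hψ rfl).symm.trans θ
      have hmem : ∀ x : P, ψ ⟨((β⁻¹ : MulAut P) x : P), hPQ ((β⁻¹ : MulAut P) x).2⟩ = x := by
        intro x; rw [hψe, MulAut.apply_inv_self]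
      have hPR : P ≤ ψ.range := fun x hx => ⟨_, hmem ⟨x, hx⟩⟩
      have hηf : ∀ x : P, (((β⁻¹ : MulAut P) : P ≃* P).trans f x : Ω) = η ⟨x, hPR x.2⟩ := by
        intro x
        show (f ((β⁻¹ : MulAut P) x) : Ω) = θ ((toIso ψ hψ rfl).symm ⟨x, hPR x.2⟩)
        rw [hf]
        refine congrArg (fun z : Q => ((θ z : M') : Ω)) ?_
        refine ((toIso ψ hψ rfl).eq_symm_apply).2 (Subtype.ext ?_)
        rw [toIso_apply]
        exact hmem x
      have hRN : ψ.range ≤ normalizerIn S P := by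
        rintro _ ⟨g, rfl⟩; exact mapsTo_normalizer hψ hPQ hQN hψe g
      have hnotR : ¬ npr F p P ≤ ψ.range := by
        intro hle
        refine hNQ fun g hg => ?_
        obtain ⟨q, hq⟩ := hle hg
        have hβF' : β ∈ F.autGroup P := hβF
        have himg : ∀ z : Q, ψ z ∈ npr F p P → (z : Ω) ∈ npr F p P := by
          intro z hz
          obtain ⟨χ, hχ, hχe⟩ := F.inv_mem hψ
          have h1 := mapsTo_npr (e := ((β⁻¹ : MulAut P) : P ≃* P)) hχ
            ((mem_autGroup hP.1).1 (inv_mem hβF')) hPR (fun x hx => by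
              rw [← hχe ⟨_, hPQ ((β⁻¹ : MulAut P) x).2⟩]
              exact congrArg χ (Subtype.ext (hmem x).symm)) ⟨ψ z, ⟨z, rfl⟩⟩ hz
          rwa [hχe z] at h1
        have hcle : Nat.card (npr F p P) ≤ Nat.card (npr F p P ⊓ Q : Subgroup Ω) := by
          have : Finite (npr F p P ⊓ Q : Subgroup Ω) := finite_of_le (inf_le_right.trans hQS)
          refine Finite.card_le_of_embedding ⟨fun y => ⟨((hle y.2).choose : Q),
            himg _ (by rw [(hle y.2).choose_spec]; exact y.2), (hle y.2).choose.2⟩, fun a b hab => ?_⟩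
          have h1 : (hle a.2).choose = (hle b.2).choose :=
            Subtype.ext (congrArg Subtype.val hab :)
          refine Subtype.ext ?_
          rw [← (hle a.2).choose_spec, ← (hle b.2).choose_spec, h1]
        have : Finite (npr F p P) := finite_of_le (npr_le.trans (normalizerIn_le S P))
        exact ((eq_of_le_card inf_le_left hcle).ge hg).2
      obtain ⟨Q₁, hQ₁, hQ₁N, hc₁⟩ := key Q θ f hPQ hθ hf hQN rfl hNQ
      obtain ⟨Q₂, hQ₂, hQ₂N, hc₂⟩ := key ψ.range η _ hPR ((isIso_toIso ψ hψ rfl).symm.trans hθ)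
        hηf hRN (card_range hψ) hnotR
      have hA'ℋ : A' ∉ ℋ := fun h => hPℋ (hℋconj _ h P (isConj_iff_iso.2 ⟨_, hfi.symm⟩))
      obtain ⟨u, hu⟩ := up_fullyNormalized hS hup hgen hℋconj hnS hP
        (isConj_iff_iso.2 ⟨_, hfi.symm⟩) (by rw [← hPc]; exact (Nat.card_congr f.toEquiv).symm) hA'ℋ
      have hle₁ : Nat.card Q₁ ≤ Nat.card S :=
        Subgroup.card_le_of_le (hQ₁N.trans (normalizerIn_le S P))
      have hle₂ : Nat.card Q₂ ≤ Nat.card S :=
        Subgroup.card_le_of_le (hQ₂N.trans (normalizerIn_le S P))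
      have h₁ : ((f.trans u : MulAut P)) ∈ E :=
        ih _ (by omega) Q₁ _ (hQ₁.trans_normalizer hQ₁N hu) hQ₁N (by omega) rfl
      have h₂ : ((((β⁻¹ : MulAut P) : P ≃* P).trans f).trans u : MulAut P) ∈ E :=
        ih _ (by omega) Q₂ _ (hQ₂.trans_normalizer hQ₂N hu) hQ₂N (by omega) rfl
      have h3 := hmul _ _ (hinv _ h₂) h₁
      convert h3 using 1
      rw [eq_inv_mul_iff_mul_eq]
      refine MulEquiv.ext fun x => ?_
      show u (f ((β⁻¹ : MulAut P) (β x))) = u (f x)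
      rw [MulAut.inv_apply_self]
  have hPS := hP.1
  have key : ∀ (f f' : P ≃* P), Ext F f (normalizerIn S P) → Ext F f' (normalizerIn S P) →
      ((f.symm.trans (α : P ≃* P)).trans f' : MulAut P) ∈ E := by
    refine all_isos hS hup hgen hℋconj hnS
      (fun R R' e => ∀ (f : R ≃* P) (f' : R' ≃* P), Ext F f (normalizerIn S R) →
        Ext F f' (normalizerIn S R') → ((f.symm.trans e).trans f' : MulAut P) ∈ E)
      ?_ ?_ ?_ (α : P ≃* P) ((mem_autGroup hPS).1 hα) hPc hPℋ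
    · intro R R' R'' e e' hR hRℋ he he' h h' f f'' hf hf''
      have hPR : F.IsConj R P := isConj_iff_iso.2 ⟨f, hf.isIso⟩
      obtain ⟨g, hg⟩ := up_fullyNormalized hS hup hgen hℋconj hnS hP
        (isConj_trans (isConj_symm (isConj_iff_iso.2 ⟨e, he⟩)) hPR)
        (by rw [← hR]; exact (Nat.card_congr e.toEquiv).symm)
        (fun hm => hRℋ (hℋconj _ hm R (isConj_iff_iso.2 ⟨_, he.symm⟩)))
      have h3 := hmul _ _ (h' g f'' hg hf'') (h f g hf hg)
      convert h3 using 1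
      refine MulEquiv.ext fun x => ?_
      show f'' ((e.trans e') (f.symm x)) = f'' (e' (g.symm (g (e (f.symm x)))))
      rw [g.symm_apply_apply]
      rfl
    · intro R R' e _ _ _ h f f' hf hf'
      exact hinv _ (h f' f hf' hf)
    · intro R R' Q e hR _ hlt hQN he f f' hf hf'
      -- the step moved to `P`
      obtain ⟨hRQ, -⟩ := id he
      obtain ⟨Q', hQ', hQ'N, hQ'c⟩ := (hf.mono hRQ hQN).symm hQN
      obtain ⟨-, χ, hχ, hχe⟩ := hQ'
      obtain ⟨-, ψ, hψ, hψe⟩ := hf.mono hRQ hQN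
      obtain ⟨-, φ, hφ, hφe⟩ := he
      have hPr : P ≤ ψ.range := fun x hx => ⟨⟨(f.symm ⟨x, hx⟩ : R), hRQ (f.symm ⟨x, hx⟩).2⟩, by
        rw [hψe, f.apply_symm_apply]⟩
      obtain ⟨ω, hω, hωe⟩ := F.inv_mem hψ
      have hωQ : ∀ y : ψ.range, ω y ∈ Q := by
        rintro ⟨_, z, rfl⟩
        rw [hωe]
        exact z.2
      have hext : Ext F (f.symm.trans e) ψ.range := by
        refine ⟨hPr, _, F.comp_mem hω hφ hωQ, fun x hx => ?_⟩
        show φ ⟨ω ⟨x, hx⟩, _⟩ = (e (f.symm x) : Ω)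
        rw [← hφe (f.symm x) (hRQ (f.symm x).2)]
        refine congrArg φ (Subtype.ext ?_)
        refine (congrArg ω (Subtype.ext ?_)).trans (hωe ⟨(f.symm x : R), hRQ (f.symm x).2⟩)
        show (x : Ω) = ψ _
        rw [hψe, f.apply_symm_apply]
      have hrN : ψ.range ≤ normalizerIn S P := by
        rintro _ ⟨g, rfl⟩; exact mapsTo_normalizer hψ hRQ hQN hψe g
      refine hstepP _ ψ.range _ (hext.trans_normalizer hrN hf') hrN ?_ rfl
      rw [card_range hψ, ← hR]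
      have : Finite Q := finite_of_le (hQN.trans (normalizerIn_le S R))
      exact lt_of_not_ge fun hge => hlt.ne (eq_of_le_card hlt.le hge)
  have hrefl : Ext F (MulEquiv.refl P) (normalizerIn S P) :=
    ⟨le_normalizerIn hPS, _, subtype_mem (normalizerIn_le S P), fun _ _ => rfl⟩
  exact (key _ _ hrefl hrefl).2

/-- The class of a fully normalized subgroup outside `ℋ` is good. -/
theorem good_of_larger (hgen : ∀ E : FusionSystem S, (∀ P ∈ ℋ, F.Hom P ⊆ E.Hom P) → F ≤ E)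
    (hℋconj : ∀ P ∈ ℋ, ∀ Q, F.IsConj P Q → Q ∈ ℋ) (hnS : n < Nat.card S) {P₀ : Subgroup Ω}
    (hP₀ : P₀ ≤ S) (hn : Nat.card P₀ = n) (hP₀ℋ : P₀ ∉ ℋ)
    (hstar : ∀ P : Subgroup Ω, F.IsCentric P → P ∉ ℋ →
      ∃ Q, F.IsConj P Q ∧ ¬ (autInducedBy S Q ⊓ core F p Q ≤ Inn Q)) :
    Good F p P₀ := by
  obtain ⟨P, hP₀P, hP⟩ := exists_fullyNormalized (F := F) hP₀
  have hPS := hP.1
  have hPc : Nat.card P = n := by rw [← hn, isConj_card hP₀P]
  have hPℋ : P ∉ ℋ := fun h => hP₀ℋ (hℋconj _ h _ (isConj_symm hP₀P))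
  have hmemℋ : ∀ R, F.IsConj P R → R ∉ ℋ := fun R hR h => hPℋ (hℋconj _ h _ (isConj_symm hR))
  have := finite_mulAut hPS
  -- `npr` is strictly larger
  have hgt : n < Nat.card (npr F p P) := by
    have : Finite (npr F p P) := finite_of_le (npr_le.trans (normalizerIn_le S P))
    rw [← hPc]
    refine lt_of_not_ge fun hge => ?_
    have heq : npr F p P = P := (eq_of_le_card (le_npr hS hPS) hge).symm
    by_cases hc : F.IsCentric P
    · obtain ⟨Q, hPQ, hQ⟩ := hstar P hc hPℋ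
      obtain ⟨u, hu⟩ := up_fullyNormalized hS hup hgen hℋconj hnS hP (isConj_symm hPQ)
        (by rw [← hPc, isConj_card hPQ]) (hmemℋ Q hPQ)
      have hQS := isConj_right_le hPQ
      refine hQ fun x hx => ?_
      obtain ⟨g, hg, hgx⟩ := exists_of_mem_autInducedBy hx.1
      obtain ⟨hle, ψ, hψ, hψe⟩ := hu
      have hxc : conjAut Q hg.2 ∈ core F p Q := by
        have h : x ∈ core F p Q := hx.2
        convert h using 1
        ext y
        rw [conjAut_apply, hgx]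
      have hy := mapsTo_npr hψ (Ext.isIso ⟨hle, ψ, hψ, hψe⟩) hle hψe ⟨g, hg⟩
        (mem_npr.2 ⟨hg, hxc⟩)
      rw [heq] at hy
      have hgQ : g ∈ Q := by
        have h1 : ψ ⟨(u.symm ⟨_, hy⟩ : Q), hle (u.symm ⟨_, hy⟩).2⟩ = ψ ⟨g, hg⟩ := by
          rw [hψe, u.apply_symm_apply]
        have h3 : ((u.symm ⟨_, hy⟩ : Q) : Ω) = g := congrArg Subtype.val (F.injective_of_mem hψ h1)
        exact h3 ▸ (u.symm ⟨_, hy⟩).2
      exact ⟨⟨g, hgQ⟩, by ext y; simp [hgx]⟩
    · refine hc ⟨hPS, fun Q hPQ c hcQ => ?_⟩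
      obtain ⟨u, hu⟩ := up_fullyNormalized hS hup hgen hℋconj hnS hP (isConj_symm hPQ)
        (by rw [← hPc, isConj_card hPQ]) (hmemℋ Q hPQ)
      obtain ⟨hle, ψ, hψ, hψe⟩ := hu
      have h1 := extension_centralizer hle (val_mem hψ) hψe
        (g := ⟨c, centralizerIn_le_normalizerIn S Q hcQ⟩) hcQ
      have hy : ψ ⟨c, _⟩ ∈ P := heq ▸ centralizer_le_npr h1
      have h2 : ψ ⟨(u.symm ⟨_, hy⟩ : Q), hle (u.symm ⟨_, hy⟩).2⟩ =
          ψ ⟨c, centralizerIn_le_normalizerIn S Q hcQ⟩ := by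
        rw [hψe, u.apply_symm_apply]
      have h3 : ((u.symm ⟨_, hy⟩ : Q) : Ω) = c := congrArg Subtype.val (F.injective_of_mem hψ h2)
      exact h3 ▸ (u.symm ⟨_, hy⟩).2
  -- move to an adjusted member
  obtain ⟨M', A', θ, f, hθ, hf, hadj⟩ := exists_adjusted hS (le_npr hS hPS)
    (hup _ (npr_le.trans (normalizerIn_le S P)) hgt)
  have hNn : normalizerIn S P ≤ normalizerIn S (npr F p P) := fun g hg => ⟨hg.1, by
    have : Finite (npr F p P) := finite_of_le (npr_le.trans (normalizerIn_le S P))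
    refine mem_normalizer_of_conj_mem fun y hy => ?_
    obtain ⟨hyN, hyc⟩ := mem_npr.1 hy
    refine mem_npr.2 ⟨mul_mem (mul_mem hg hyN) (inv_mem hg), ?_⟩
    have hg' : conjAut P hg.2 ∈ F.autGroup P :=
      autInducedBy_le_autGroup hPS (conjAut_mem_autInducedBy hg.1 hg.2)
    convert conj_mem_of_mem_normalizer (core_normal (p := p) hg') hyc using 1
    rw [← map_inv, ← map_mul, ← map_mul]
    rfl⟩
  obtain ⟨f', hf'⟩ := extend_stab hS hadj hθ (le_npr hS hPS) hf hNn inf_le_right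
  have hf'' : Ext F f' (normalizerIn S P) := hf'.mono (le_normalizerIn hPS) le_sup_right
  have hA'S := hf''.isIso.tgt_le
  have hPA' : F.IsConj P A' := isConj_iff_iso.2 ⟨f', hf''.isIso⟩
  have hback := ext_symm_of_card hf'' (hP.2 A' hPA')
  have hA' : F.IsFullyNormalized A' := ⟨hA'S, fun R hR =>
    (hP.2 R (isConj_trans hPA' hR)).trans (Up.card_le ⟨f', hf''⟩)⟩
  have hA'c : Nat.card A' = n := by rw [← hPc, isConj_card hPA']
  -- `M'` is `npr A'`
  have hM' : M' = npr F p A' := by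
    have hcθ : Nat.card M' = Nat.card (npr F p P) := (Nat.card_congr θ.toEquiv).symm
    obtain ⟨hle, χ, hχ, hχe⟩ := hf'
    have hmono : ∀ y : ↥(npr F p P),
        χ (Subgroup.inclusion le_sup_left y) ∈ npr F p A' := fun y =>
      mapsTo_npr hχ (hf''.isIso) hle hχe _ y.2
    have h1 : Nat.card (npr F p P) ≤ Nat.card (npr F p A') :=
      haveI : Finite (npr F p A') := finite_of_le (npr_le.trans (normalizerIn_le S A'))
      Finite.card_le_of_embedding ⟨fun y => ⟨_, hmono y⟩, fun a b hab =>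
        Subgroup.inclusion_injective le_sup_left (F.injective_of_mem hχ (congrArg Subtype.val hab :))⟩
    obtain ⟨hle', ω, hω, hωe⟩ := hback
    have h2 : Nat.card (npr F p A') ≤ Nat.card (npr F p P) :=
      haveI : Finite (npr F p P) := finite_of_le (npr_le.trans (normalizerIn_le S P))
      Finite.card_le_of_embedding ⟨fun y => ⟨_, mapsTo_npr hω hf''.isIso.symm hle' hωe
        ⟨y, npr_le y.2⟩ y.2⟩, fun a b hab =>
        Subtype.ext (congrArg Subtype.val (F.injective_of_mem hω (congrArg Subtype.val hab :)) :)⟩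
    -- all elements of `M'` induce elements of `O_p`
    have hfi : IsIso F f := isIso_of_agree (le_npr hS hPS) hθ fun x => hf x
    have : Finite (npr F p A') := finite_of_le (npr_le.trans (normalizerIn_le S A'))
    refine eq_of_le_card (fun y hy => ?_) (by omega)
    obtain ⟨z, hz⟩ := θ.surjective ⟨y, hy⟩
    have := mapsTo_npr (Q := npr F p P) (ψ := M'.subtype.comp θ.toMonoidHom) (e := f) hθ hfi
      (le_npr hS hPS) (fun x hx => (hf x).symm) z z.2
    rwa [show ((M'.subtype.comp θ.toMonoidHom) z : Ω) = y from congrArg Subtype.val hz] at this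
  have := finite_mulAut hadj.receptive.1
  have := finite_mulAut hA'S
  obtain ⟨T, hT⟩ := exists_sylow hadj
  let r := (restr hadj.le).comp
    (Subgroup.inclusion (inf_le_right : F.autGroup M' ⊓ stab M' A' ≤ stab M' A'))
  -- every automorphism of `A'` extends to `M'`
  have hlift : ∀ α ∈ F.autGroup A', ∃ b, r b = α := by
    intro α hα
    obtain ⟨hle, ψ, hψ, hψe⟩ := hM' ▸ aut_extends hS hup hgen hℋconj hnS hA' hA'c
      (hmemℋ A' hPA') hα
    have hval : ∀ y : M', ψ y ∈ M' := by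
      intro y
      exact hM'.ge (mapsTo_npr (e := (α : A' ≃* A')) hψ ((mem_autGroup hA'S).1 hα) hle hψe y
        (hM'.le y.2))
    let χ : M' →* M' := ψ.codRestrict M' hval
    have hinj : Function.Injective χ := fun a b hab =>
      F.injective_of_mem hψ (congrArg Subtype.val hab :)
    have : Finite M' := finite_of_le hadj.receptive.1
    let β : MulAut M' := MulEquiv.ofBijective χ (Finite.injective_iff_bijective.1 hinj)
    have hβ : β ∈ stab M' A' := by
      intro y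
      constructor
      · intro hy
        obtain ⟨x, hx⟩ := (α : A' ≃* A').surjective ⟨_, hy⟩
        have h1 : ψ ⟨x, hle x.2⟩ = ψ y := (hψe x _).trans (congrArg Subtype.val hx)
        exact congrArg Subtype.val (F.injective_of_mem hψ h1) ▸ x.2
      · intro hy
        show ψ y ∈ A'
        rw [show y = ⟨((⟨y, hy⟩ : A') : Ω), hle hy⟩ from rfl, hψe]
        exact (α _).2
    refine ⟨⟨β, (mem_autGroup hadj.receptive.1).2 (mem_of_agree le_rfl hψ fun y => rfl), hβ⟩, ?_⟩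
    exact MulEquiv.ext fun x => Subtype.ext (hψe x _)
  have himT : (T : Subgroup ↥(F.autGroup M' ⊓ stab M' A')).map r = autInducedBy S A' := by
    refine ((image_sylow r T).1 _ (isPGroup_autInducedBy hS A') ?_ fun α hα => ?_).symm
    · rintro _ ⟨b, hb, rfl⟩
      obtain ⟨g, hg, hgb⟩ := exists_of_mem_autInducedBy ((hT b).1 hb)
      exact mem_autInducedBy.2 ⟨g, hg.1, fun x => hgb _⟩
    · obtain ⟨b, hb⟩ := hlift α (autInducedBy_le_autGroup hA'S hα)
      exact ⟨b, hb⟩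
  refine ⟨A', isConj_trans hP₀P hPA', ?_, ?_⟩
  · refine isFullyAutomized_iff.2 ⟨hA'S, autInducedBy_le_autGroup hA'S,
      isPGroup_autInducedBy hS A', fun hd => ?_⟩
    have hsurj : Function.Surjective
        (r.codRestrict (F.autGroup A') fun b =>
          restr_mem_autGroup hadj.le hadj.receptive.1 ⟨b.1, b.2.2⟩ b.2.1) := by
      rintro ⟨α, hα⟩
      obtain ⟨b, hb⟩ := hlift α hα
      exact ⟨b, Subtype.ext hb⟩
    have hT' : ((T.mapSurjective hsurj : Sylow p (F.autGroup A')) : Subgroup (F.autGroup A')) =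
        (autInducedBy S A').subgroupOf (F.autGroup A') := by
      ext α
      rw [Subgroup.mem_subgroupOf, ← himT]
      constructor
      · rintro ⟨b, hb, rfl⟩; exact ⟨b, hb, rfl⟩
      · rintro ⟨b, hb, he⟩; exact ⟨b, hb, Subtype.ext he⟩
    exact Sylow.not_dvd_index (T.mapSurjective hsurj) (by rw [hT']; exact hd)
  · refine isReceptive_of_extend hA'S fun R φ hφ => ?_
    obtain ⟨h, hh⟩ := up_fullyNormalized hS hup hgen hℋconj hnS hA'
      (isConj_iff_iso.2 ⟨φ, hφ⟩) (by rw [← hA'c]; exact Nat.card_congr φ.toEquiv)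
      (hmemℋ R (isConj_trans hPA' (isConj_symm (isConj_iff_iso.2 ⟨φ, hφ⟩))))
    set α : MulAut A' := h.symm.trans φ
    have hα : α ∈ F.autGroup A' := (mem_autGroup hA'S).2 (hh.isIso.symm.trans hφ)
    obtain ⟨β, hβ⟩ := hlift α hα
    obtain ⟨hRle, ψ, hψ, hψe⟩ := hh
    have hN : extender S R (A'.subtype.comp φ.toMonoidHom) ≤ normalizerIn S R := extender_le _ _ _
    let H := ((extender S R (A'.subtype.comp φ.toMonoidHom)).subgroupOf (normalizerIn S R)).map ψ
    have hHN : H ≤ normalizerIn S A' := by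
      rintro _ ⟨g, -, rfl⟩; exact mapsTo_normalizer hψ hRle le_rfl hψe g
    have hnprA : normalizerIn S A' ≤ normalizerIn S M' := fun g hg => ⟨hg.1, by
      have : Finite M' := finite_of_le hadj.receptive.1
      refine mem_normalizer_of_conj_mem fun y hy => ?_
      rw [hM'] at hy ⊢
      obtain ⟨hyN, hyc⟩ := mem_npr.1 hy
      refine mem_npr.2 ⟨mul_mem (mul_mem hg hyN) (inv_mem hg), ?_⟩
      have hg' : conjAut A' hg.2 ∈ F.autGroup A' :=
        autInducedBy_le_autGroup hA'S (conjAut_mem_autInducedBy hg.1 hg.2)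
      convert conj_mem_of_mem_normalizer (core_normal (p := p) hg') hyc using 1
      rw [← map_inv, ← map_mul, ← map_mul]
      rfl⟩
    have hθ' : IsIso F (β.1 : M' ≃* M') := (mem_autGroup hadj.receptive.1).1 β.2.1
    have hf₀ : ∀ x : A', ((α : A' ≃* A') x : Ω) = (β.1 : M' ≃* M') ⟨x, hadj.le x.2⟩ := fun x => by
      rw [← hβ]; rfl
    have hext := extend_ker hS hadj hθ' hadj.le hf₀ (hHN.trans hnprA) (hHN.trans inf_le_right) T hT
      fun g hg => by
        obtain ⟨g₀, hg₀, rfl⟩ := hg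
        obtain ⟨hgN, hmem⟩ := (mem_extender_iso φ).1 hg₀
        rw [himT]
        obtain ⟨hh', heq⟩ := extension_conj hRle hψe (g := g₀) hgN.2
        convert hmem using 1
        rw [show conjAut A' _ = MulAut.congr h (conjAut R hgN.2) from heq.symm]
        ext y
        simp [α]
    obtain ⟨-, χ, hχ, hχe⟩ := hext
    have hval : ∀ g : extender S R (A'.subtype.comp φ.toMonoidHom),
        ψ (Subgroup.inclusion hN g) ∈ M' ⊔ H := fun g =>
      Subgroup.mem_sup_right ⟨Subgroup.inclusion hN g, g.2, rfl⟩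
    refine ⟨_, F.comp_mem (restrict_mem hN hψ) hχ hval, fun x hx => ?_⟩
    show χ ⟨ψ ⟨x, _⟩, _⟩ = (φ x : Ω)
    rw [show φ x = (α : A' ≃* A') (h x) from (congrArg φ (h.symm_apply_apply x)).symm,
      ← hχe (h x) (Subgroup.mem_sup_left (hadj.le (h x).2))]
    exact congrArg χ (Subtype.ext (hψe x _))

end Class

/-- The saturation criterion. -/
theorem isSaturated (hS : IsPGroup p S) {ℋ : Set (Subgroup Ω)}
    (hℋconj : ∀ P ∈ ℋ, ∀ Q, F.IsConj P Q → Q ∈ ℋ)
    (hsat : ∀ P ∈ ℋ, Good F p P)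
    (hgen : ∀ E : FusionSystem S, (∀ P ∈ ℋ, F.Hom P ⊆ E.Hom P) → F ≤ E)
    (hstar : ∀ P : Subgroup Ω, F.IsCentric P → P ∉ ℋ →
      ∃ Q, F.IsConj P Q ∧ ¬ (autInducedBy S Q ⊓ core F p Q ≤ Inn Q)) :
    F.IsSaturated p := by
  have hSℋ : S ∈ ℋ := by
    by_contra hS'
    have hc : F.IsCentric S := ⟨le_rfl, fun Q hQ c hc => by
      have : Finite S := inferInstance
      rw [eq_of_le_card (isConj_right_le hQ) (isConj_card hQ).le]
      exact hc.1⟩
    obtain ⟨Q, hQ, hne⟩ := hstar S hc hS'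
    obtain rfl : Q = S := eq_of_le_card (isConj_right_le hQ) (isConj_card hQ).le
    refine hne fun x hx => ?_
    obtain ⟨g, hg, hgx⟩ := mem_autInducedBy.1 hx.1
    exact ⟨⟨g, hg⟩, by ext y; simp [hgx]⟩
  suffices H : ∀ (k : ℕ) (P : Subgroup Ω), P ≤ S → Nat.card S - Nat.card P = k → Good F p P from
    fun P hP => H _ P hP rfl
  intro k
  induction k using Nat.strong_induction_on with
  | _ k ih =>
    intro P hP hk
    by_cases hPℋ : P ∈ ℋ
    · exact hsat P hPℋ
    have hle : ∀ R : Subgroup Ω, R ≤ S → Nat.card R ≤ Nat.card S := fun R hR =>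
      Subgroup.card_le_of_le hR
    have hlt : Nat.card P < Nat.card S :=
      lt_of_not_ge fun hge => hPℋ (eq_of_le_card hP hge ▸ hSℋ)
    refine good_of_larger hS (n := Nat.card P) (fun R hR hn => ih _ ?_ R hR rfl) hgen hℋconj hlt
      hP rfl hPℋ hstar
    have := hle R hR
    omega

end Cfsg.Agent.Lib.Fusion.SatCriterion
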