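import Cfsg.Agent.Lib.Fusion.SmallCyclicGroup
import Cfsg.Agent.Lib.Fusion.SmallExp
import Cfsg.Agent.Lib.Fusion.Chain

/-!
Criteria for `S` to be normal, or for the system to be inner, in terms of cyclic subgroups of
small exponent.
-/

set_option autoImplicit false

namespace Cfsg.Agent.Lib.Fusion

open Cfsg Cfsg.FusionSystem

variable {Ω : Type*} [Group Ω] {S : Subgroup Ω} {F : FusionSystem S} {p : ℕ}

/-- `y` is a small element of `W ∩ R` commuting with `B` and outside it. -/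
def Escapes (p : ℕ) (W : Subgroup Ω) {R : Subgroup Ω} (B : Subgroup R) (y : R) : Prop :=
  (y : Ω) ∈ W ∧ y ^ smallExp p = 1 ∧ (∀ b ∈ B, b * y = y * b) ∧ y ∉ B

theorem Escapes.map {W R : Subgroup Ω} {B : Subgroup R} {y : R} (h : Escapes p W B y)
    {γ : MulAut R} (hW : ∀ x : R, (x : Ω) ∈ W → ((γ x : R) : Ω) ∈ W)
    (hB : ∀ b ∈ B, γ⁻¹ b ∈ B) : Escapes p W B (γ y) := by
  obtain ⟨h1, h2, h3, h4⟩ := h
  refine ⟨hW y h1, by rw [← map_pow, h2, map_one], fun b hb => ?_, fun hy => h4 ?_⟩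
  · have := congrArg γ (h3 _ (hB b hb))
    simpa using this
  · simpa using hB _ hy

theorem eq_top_of_steps [Finite S] [Fact p.Prime] (hS : IsPGroup p S) (hF : F.IsSaturated p)
    {W : Subgroup Ω} (hW : S ≤ Subgroup.normalizer (W : Set Ω))
    (hgen : ∀ R : Subgroup Ω, R ≤ S → ∀ α ∈ F.autGroup R, (orderOf α).Coprime p →
      ∀ x : R, (x : Ω)⁻¹ * (α x : Ω) ∈ W)
    {R : Subgroup Ω} (hc : F.IsCentric R) (hr : F.IsRadical p R)
    (step : ∀ B : Subgroup R, (∀ γ ∈ F.autGroup R, ∀ b ∈ B, γ b ∈ B) →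
      (∃ y, Escapes p W B y) → ∃ y, Escapes p W B y ∧
        ∀ z : R, Escapes p W B z → (∃ γ ∈ F.autGroup R, γ y = z) →
          ∀ g (hg : g ∈ normalizerIn S R), z⁻¹ * conjAut R hg.2 z ∈ B) : R = S := by
  have hRS := hc.1
  have := finite_of_le hRS
  have := finite_mulAut hRS
  set G := F.autGroup R
  set T := (autInducedBy S R).subgroupOf G
  set G₀ := Subgroup.normalClosure (T : Set G)
  have hkeep : ∀ γ ∈ G, ∀ x : R, (x : Ω) ∈ W → ((γ x : R) : Ω) ∈ W := fun γ hγ x hx =>
    (map_mem_of_gen hS hF hW hgen ((mem_autGroup hRS).1 hγ) x).2 hx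
  have hp : IsPGroup p G₀ := by
    intro a
    obtain ⟨k, hk⟩ := Transfer.exists_pow_coprime (p := p) a
    refine ⟨k, ?_⟩
    have hkey : ∀ c : G₀, (orderOf c).Coprime p → c = 1 := fun c hc' => by
      suffices h : ((c : G) : MulAut R) = 1 from Subtype.ext (Subtype.ext h)
      have hcop : (orderOf ((c : G) : MulAut R)).Coprime p := by
        rwa [Subgroup.orderOf_coe, Subgroup.orderOf_coe]
      refine mulAut_eq_one_of_steps (hS.to_le hRS) G
        (fun r => inn_le_autGroup hRS ⟨r, rfl⟩) hcop (W.subgroupOf R)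
        (fun r => hgen R hRS _ (c : G).2 hcop r) fun B hBG hBc hex => ?_
      obtain ⟨y₀, hy₀D, hy₀q, hy₀c, hy₀B⟩ := hex
      obtain ⟨y, hy, hyz⟩ := step B hBG ⟨y₀, hy₀D, hy₀q, hy₀c, hy₀B⟩
      refine ⟨y, hy.2.2.2, fun γ hγ => ?_⟩
      let M : Submonoid G :=
        { carrier := {g | ∀ δ ∈ G, (δ y)⁻¹ * (g : MulAut R) (δ y) ∈ B}
          one_mem' := fun δ _ => by simp
          mul_mem' := by
            intro g h hg hh δ hδ
            have h1 := B.mul_mem (hg δ hδ) (hBG g g.2 _ (hh δ hδ))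
            simpa [mul_assoc] using h1 }
      let M' : Subgroup G :=
        { M with
          inv_mem' := fun {g} hg => by
            rw [show g⁻¹ = g ^ (orderOf g - 1) by
              rw [eq_comm, ← mul_eq_one_iff_eq_inv, ← pow_succ,
                Nat.sub_add_cancel (orderOf_pos g), pow_orderOf_eq_one]]
            exact M.pow_mem hg _ }
      have hM : M'.Normal := ⟨fun g hg δ ε hε => by
        have h1 := hBG δ δ.2 _ (hg ((δ : MulAut R)⁻¹ * ε) (G.mul_mem (G.inv_mem δ.2) hε))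
        simpa [mul_assoc] using h1⟩
      have hTM : (T : Set G) ⊆ M' := by
        intro g hg δ hδ
        obtain ⟨n, hn, hne⟩ := exists_of_mem_autInducedBy (Subgroup.mem_subgroupOf.1 hg)
        have hz : Escapes p W B (δ y) := hy.map (hkeep δ hδ) fun b hb => by
          obtain ⟨b', rfl⟩ : ∃ b', δ b' = b := δ.surjective b
          have hinv := hBG _ (G.inv_mem hδ) _ hb
          exact hinv
        have heq : ((g : G) : MulAut R) = conjAut R hn.2 := by
          ext x
          rw [conjAut_apply]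
          exact hne x
        rw [heq]
        exact hyz _ hz ⟨δ, hδ, rfl⟩ n hn
      exact (Subgroup.normalClosure_le_normal hTM) c.2 γ hγ
    exact hkey _ hk
  refine hRS.antisymm ?_
  by_contra hne
  obtain ⟨g, hg, hgR⟩ := exists_normalizerIn_not_mem hS (lt_of_le_not_ge hRS hne)
  set a : G := ⟨conjAut R hg.2, autInducedBy_le_autGroup hRS (conjAut_mem_autInducedBy hg.1 hg.2)⟩
  exact hgR (mem_of_induced_inn (hc.2 R (isConj_refl hRS)) hRS hg
    (mem_inn_of_radical hr Subgroup.normalClosure_normal hp (α := a)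
      (Subgroup.subset_normalClosure (conjAut_mem_autInducedBy hg.1 hg.2))))

theorem upperCentral_map_mem {G : Type*} [Group G] (e : MulAut G) :
    ∀ (i : ℕ) (x : G), x ∈ Subgroup.upperCentralSeries G i → e x ∈ Subgroup.upperCentralSeries G i := by
  intro i
  induction i with
  | zero =>
    intro x hx
    rw [Subgroup.upperCentralSeries_zero, Subgroup.mem_bot] at hx ⊢
    rw [hx, map_one]
  | succ i ih =>
    intro x hx
    refine Subgroup.mem_upperCentralSeries_succ_iff.2 fun y => ?_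
    obtain ⟨y, rfl⟩ := e.surjective y
    rw [← map_commutatorElement]
    exact ih _ (Subgroup.mem_upperCentralSeries_succ_iff.1 hx y)

/-- The maps of the system preserve the upper central series of `S` on small elements of `W`. -/
def PreservesLevels (F : FusionSystem S) (p : ℕ) (W : Subgroup Ω) : Prop :=
  ∀ (R : Subgroup Ω) (hR : R ≤ S), ∀ α ∈ F.autGroup R, ∀ x : R, (x : Ω) ∈ W →
    x ^ smallExp p = 1 → ∀ i, (⟨x, hR x.2⟩ : S) ∈ Subgroup.upperCentralSeries S i →
      (⟨(α x : R), hR (α x).2⟩ : S) ∈ Subgroup.upperCentralSeries S i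

/-- An escaping element of least level has all its images moved by `N_S(R)` only inside `B`. -/
theorem exists_level_escape [Finite S] [Fact p.Prime] (hS : IsPGroup p S)
    {W : Subgroup Ω} (hW : S ≤ Subgroup.normalizer (W : Set Ω)) (hlev : PreservesLevels F p W)
    {R : Subgroup Ω} (hRS : R ≤ S) (B : Subgroup R) (hB : ∀ γ ∈ F.autGroup R, ∀ b ∈ B, γ b ∈ B)
    (hex : ∃ y, Escapes p W B y) :
    ∃ y, Escapes p W B y ∧ ∀ z : R, Escapes p W B z → (∃ γ ∈ F.autGroup R, γ y = z) →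
      ∀ g (hg : g ∈ normalizerIn S R), z⁻¹ * conjAut R hg.2 z ∈ B := by
  classical
  have := hS.isNilpotent
  obtain ⟨N, hN⟩ := Group.IsNilpotent.nilpotent (G := S)
  have hex' : ∃ i, ∃ y : R, Escapes p W B y ∧
      (⟨y, hRS y.2⟩ : S) ∈ Subgroup.upperCentralSeries S i := by
    obtain ⟨y, hy⟩ := hex
    exact ⟨N, y, hy, hN ▸ Subgroup.mem_top _⟩
  obtain ⟨y, hy, hyi⟩ := Nat.find_spec hex'
  have hmin : ∀ j < Nat.find hex', ∀ t : R, Escapes p W B t →
      (⟨t, hRS t.2⟩ : S) ∉ Subgroup.upperCentralSeries S j :=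
    fun j hj t ht htj => Nat.find_min hex' hj ⟨t, ht, htj⟩
  generalize Nat.find hex' = i at hyi hmin
  refine ⟨y, hy, fun z hz hyz g hg => ?_⟩
  obtain ⟨γ, hγ, hγy⟩ := hyz
  have hzi : (⟨z, hRS z.2⟩ : S) ∈ Subgroup.upperCentralSeries S i := by
    have := hlev R hRS γ hγ y hy.1 hy.2.1 i hyi
    subst hγy
    exact this
  cases i with
  | zero =>
    rw [Subgroup.upperCentralSeries_zero, Subgroup.mem_bot] at hzi
    have : z = 1 := Subtype.ext (congrArg (fun s : S => (s : Ω)) hzi)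
    exact absurd (this ▸ B.one_mem) hz.2.2.2
  | succ i =>
  let M := normalizerIn S R
  have hRM : R ≤ M := le_normalizerIn hRS
  let incl : M →* S := Subgroup.inclusion (normalizerIn_le S R)
  let Z : ℕ → Subgroup M := fun j => (Subgroup.upperCentralSeries S j).comap incl
  have hZ : Descends Z := by
    refine ⟨?_, fun a b hab => Subgroup.comap_mono (Subgroup.upperCentralSeries_mono S hab),
      fun j u hu v => ?_⟩
    · ext x
      simp only [Z, Subgroup.upperCentralSeries_zero, Subgroup.mem_comap, Subgroup.mem_bot]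
      exact ⟨fun h => Subgroup.inclusion_injective _ (h.trans (map_one incl).symm),
        fun h => by rw [h, map_one]⟩
    · have h1 := Subgroup.mem_upperCentralSeries_succ_iff.1 hu (incl v)
      rw [commutatorElement_def] at h1
      have hn : (Subgroup.upperCentralSeries S j).Normal := inferInstance
      constructor
      · have h2 := hn.conj_mem _ h1 (incl v)⁻¹
        simp only [Z, Subgroup.mem_comap, map_mul, map_inv]
        convert h2 using 1
        group
      · have h2 := hn.conj_mem _ (Subgroup.inv_mem _ h1) (incl u)⁻¹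
        simp only [Z, Subgroup.mem_comap, map_mul, map_inv]
        convert h2 using 1
        group
  let B₁ : Subgroup Ω := B.map R.subtype
  let D : Subgroup M := (W ⊓ R ⊓ Subgroup.centralizer (B₁ : Set Ω)).subgroupOf M
  have hconjB : ∀ (n : Ω) (hn : n ∈ M) (b : R), b ∈ B → conjAut R hn.2 b ∈ B := fun n hn b hb =>
    hB _ (autInducedBy_le_autGroup hRS (conjAut_mem_autInducedBy hn.1 hn.2)) b hb
  have hD : D.Normal := by
    refine ⟨fun x hx m => ?_⟩
    obtain ⟨⟨hxW, hxR⟩, hxc⟩ := hx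
    refine ⟨⟨(Subgroup.mem_normalizer_iff.1 (hW m.2.1) _).1 hxW,
      conj_mem_of_mem_normalizer m.2.2 hxR⟩, Subgroup.mem_centralizer_iff.2 ?_⟩
    rintro _ ⟨b, hb, rfl⟩
    have h1 := Subgroup.mem_centralizer_iff.1 hxc _
      ⟨_, hconjB _ (inv_mem m.2) b hb, rfl⟩
    simp only [Subgroup.coe_subtype, conjAut_apply, inv_inv] at h1
    show (b : Ω) * ((m : Ω) * (x : Ω) * (m : Ω)⁻¹) = (m : Ω) * (x : Ω) * (m : Ω)⁻¹ * (b : Ω)
    calc (b : Ω) * ((m : Ω) * (x : Ω) * (m : Ω)⁻¹)
        = (m : Ω) * (((m : Ω)⁻¹ * b * m) * x) * (m : Ω)⁻¹ := by group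
      _ = (m : Ω) * (x * ((m : Ω)⁻¹ * b * m)) * (m : Ω)⁻¹ := by rw [h1]
      _ = (m : Ω) * (x : Ω) * (m : Ω)⁻¹ * (b : Ω) := by group
  have hzD : (⟨(z : Ω), hRM z.2⟩ : M) ∈ D := by
    refine ⟨⟨hz.1, z.2⟩, Subgroup.mem_centralizer_iff.2 ?_⟩
    rintro _ ⟨b, hb, rfl⟩
    exact congrArg Subtype.val (hz.2.2.1 b hb)
  have hres := small_commutator (p := p) hZ D (B₁.subgroupOf M)
    (fun b hb x hx => Subtype.ext (Subgroup.mem_centralizer_iff.1 hx.2 _ hb))
    (i := i) (fun t ht hti htq => ?_) hzD (Subtype.ext (by simpa using congrArg Subtype.val hz.2.1))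
    hzi ⟨g, hg⟩
  · obtain ⟨b, hb, hbe⟩ := hres
    have h2 : b = z⁻¹ * conjAut R hg.2 z := Subtype.ext (by simpa using hbe)
    exact h2 ▸ hb
  · obtain ⟨⟨htW, htR⟩, htc⟩ := ht
    by_contra htB
    refine hmin i (Nat.lt_succ_self i) ⟨t, htR⟩ ⟨htW, Subtype.ext (by simpa using congrArg Subtype.val htq),
      fun b hb => Subtype.ext (Subgroup.mem_centralizer_iff.1 htc _ ⟨b, hb, rfl⟩), fun h => ?_⟩ hti
    exact htB ⟨_, h, rfl⟩

/-- If the maps of the system preserve levels, the only centric radical subgroup is `S`. -/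
theorem isNormal_of_levels [Finite S] [Fact p.Prime] (hS : IsPGroup p S) (hF : F.IsSaturated p)
    {W : Subgroup Ω} (hW : S ≤ Subgroup.normalizer (W : Set Ω))
    (hgen : ∀ R : Subgroup Ω, R ≤ S → ∀ α ∈ F.autGroup R, (orderOf α).Coprime p →
      ∀ x : R, (x : Ω)⁻¹ * (α x : Ω) ∈ W)
    (hlev : PreservesLevels F p W) : F.IsNormal S :=
  isNormal_of_le_radical hS hF stronglyClosed_self fun R hc hr _ =>
    (eq_top_of_steps hS hF hW hgen hc hr fun B hB hex =>
      exists_level_escape hS hW hlev hc.1 B hB hex).ge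

/-- The cyclic subgroup generated by a nontrivial small element has order `p` or `4`. -/
theorem small_cyclic [hp : Fact p.Prime] {x : Ω} (hx : x ^ smallExp p = 1) (h1 : x ≠ 1) :
    Nat.card (Subgroup.zpowers x) = p ∨ Nat.card (Subgroup.zpowers x) = 4 := by
  rw [Nat.card_zpowers]
  rcases smallExp_pow_iff.1 hx with h | ⟨rfl, h⟩
  · exact Or.inl (orderOf_eq_prime h h1)
  · by_cases h2 : x ^ 2 = 1
    · exact Or.inl (orderOf_eq_prime h2 h1)
    · exact Or.inr (orderOf_eq_prime_pow (p := 2) (n := 1) (by simpa using h2) (by simpa using h))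

/-- Cyclic subgroups of small order whose maps extend to `S` give preservation of levels. -/
theorem preservesLevels_of_normalizer [Finite S] [Fact p.Prime] (hS : IsPGroup p S)
    (hF : F.IsSaturated p) {W : Subgroup Ω} (hW : S ≤ Subgroup.normalizer (W : Set Ω))
    (hgen : ∀ R : Subgroup Ω, R ≤ S → ∀ α ∈ F.autGroup R, (orderOf α).Coprime p →
      ∀ x : R, (x : Ω)⁻¹ * (α x : Ω) ∈ W)
    (h : ∀ A B : Subgroup Ω, A ≤ W → B ≤ W → IsCyclic ↥A →
      (Nat.card ↥A = p ∨ Nat.card ↥A = 4) → IsCyclic ↥B → (Nat.card ↥B = p ∨ Nat.card ↥B = 4) →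
      F.homSet A B ⊆ F.normalizerHom S A) : PreservesLevels F p W := by
  intro R hR α hα x hxW hxq i hxi
  by_cases hx1 : x = 1
  · subst hx1
    have : (⟨((α 1 : R) : Ω), hR (α 1).2⟩ : S) = 1 := Subtype.ext (by simp)
    rw [this]; exact one_mem _
  have hα' := (mem_autGroup hR).1 hα
  have hxR : Subgroup.zpowers (x : Ω) ≤ R := Subgroup.zpowers_le.2 x.2
  set φ : Subgroup.zpowers (x : Ω) →* Ω :=
    (R.subtype.comp α.toMonoidHom).comp (Subgroup.inclusion hxR) with hφdef
  have hφ : φ ∈ F.Hom _ := mem_of_agree hxR hα' fun _ => rfl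
  have hyW := (map_mem_of_gen hS hF hW hgen hα' x).2 hxW
  have hxq' : (x : Ω) ^ smallExp p = 1 := by simpa using congrArg Subtype.val hxq
  have hyq : ((α x : R) : Ω) ^ smallExp p = 1 := by
    simpa using congrArg Subtype.val (show (α x) ^ smallExp p = 1 by rw [← map_pow, hxq, map_one])
  have hmem : φ ∈ F.homSet (Subgroup.zpowers (x : Ω)) (Subgroup.zpowers ((α x : R) : Ω)) := by
    refine ⟨hφ, ?_⟩
    rintro ⟨z, hz⟩
    obtain ⟨k, rfl⟩ := Subgroup.mem_zpowers_iff.1 hz
    refine Subgroup.mem_zpowers_iff.2 ⟨k, ?_⟩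
    have h1 : (⟨(x : Ω) ^ k, hz⟩ : Subgroup.zpowers (x : Ω)) = ⟨x, Subgroup.mem_zpowers _⟩ ^ k :=
      Subtype.ext (by simp)
    rw [h1, map_zpow]
    rfl
  have := h _ _ (Subgroup.zpowers_le.2 hxW) (Subgroup.zpowers_le.2 hyW) inferInstance
    (small_cyclic hxq' fun hc => hx1 (Subtype.ext hc)) inferInstance
    (small_cyclic hyq fun hc => hx1 (α.injective (by
      rw [map_one]; exact Subtype.ext hc))) hmem
  obtain ⟨-, -, -, ψ, hψ, hψP, hψS⟩ := this
  set β : MulAut S := ((Subgroup.subgroupOfEquivOfLe (le_sup_right : S ≤ _ ⊔ S)).symm.trans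
    ((S.subgroupOf _).equivMapOfInjective ψ (F.injective_of_mem hψ))).trans
      (MulEquiv.subgroupCongr hψS)
  have hβ : β ⟨x, hR x.2⟩ = ⟨(α x : R), hR (α x).2⟩ := by
    refine Subtype.ext ?_
    show ψ ⟨(x : Ω), _⟩ = _
    exact hψP ⟨x, Subgroup.mem_zpowers _⟩
  rw [← hβ]
  exact upperCentral_map_mem β i _ hxi

end Cfsg.Agent.Lib.Fusion
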