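import Cfsg.Agent.Lib.Fusion.SmallExpGroup

/-!
Commutators of small elements along a central series, and a criterion for an automorphism of
order prime to `p` to be trivial.
-/

set_option autoImplicit false

namespace Cfsg.Agent.Lib.Fusion

open Cfsg

variable {p : ℕ} [hp : Fact p.Prime] {N : Type*} [Group N]

/-- A central series, given by its terms. -/
structure Descends (Z : ℕ → Subgroup N) : Prop where
  zero : Z 0 = ⊥
  mono : Monotone Z
  step : ∀ j, ∀ u ∈ Z (j + 1), ∀ v : N, v⁻¹ * (u * v * u⁻¹) ∈ Z j ∧ u⁻¹ * (v * u * v⁻¹) ∈ Z j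

/-- If the small elements of `D ∩ Z i` lie in a set centralized by `D`, then so do the commutators
of a small element of `D ∩ Z (i + 1)`, which moreover are small. -/
theorem small_commutator {Z : ℕ → Subgroup N} (hZ : Descends Z) (D : Subgroup N) [hD : D.Normal]
    (B : Subgroup N) (hc : ∀ y ∈ B, ∀ z ∈ D, Commute y z) {i : ℕ}
    (hmin : ∀ t ∈ D, t ∈ Z i → t ^ smallExp p = 1 → t ∈ B) {x : N} (hxD : x ∈ D)
    (hxq : x ^ smallExp p = 1) (hxi : x ∈ Z (i + 1)) (r : N) :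
    x⁻¹ * (r * x * r⁻¹) ∈ B := by
  have hxx : ∀ u : N, x⁻¹ * (u * x * u⁻¹) ∈ D := fun u =>
    D.mul_mem (D.inv_mem hxD) (hD.conj_mem x hxD u)
  have hstep : ∀ u : N, x⁻¹ * (u * x * u⁻¹) ∈ Z i →
      (∀ w ∈ D, w = x⁻¹ * (u * x * u⁻¹) → x⁻¹ * (w * x * w⁻¹) ∈ B ∧
        (x⁻¹ * (w * x * w⁻¹)) ^ smallExp p = 1) →
      x⁻¹ * (u * x * u⁻¹) ∈ B ∧ (x⁻¹ * (u * x * u⁻¹)) ^ smallExp p = 1 := by
    intro u hu hrec
    obtain ⟨hkB, hkq⟩ := hrec _ (hxx u) rfl
    generalize hw : x⁻¹ * (u * x * u⁻¹) = w at hu hkB hkq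
    have hwD : w ∈ D := hw ▸ hxx u
    have hwq : w ^ smallExp p = 1 := by
      refine smallExp_right (k := x⁻¹ * (w * x * w⁻¹)) hxq ?_ ?_ (hc _ hkB x hxD) (hc _ hkB w hwD)
        hkq fun h => hc _ (hmin _ (D.pow_mem hwD 2) ((Z i).pow_mem hu 2) h) x hxD
      · rw [← hw, mul_inv_cancel_left, conj_pow, hxq, mul_one, mul_inv_cancel]
      · calc w * x = x * (x⁻¹ * (w * x * w⁻¹)) * w := by group
          _ = x * w * (x⁻¹ * (w * x * w⁻¹)) := by rw [mul_assoc, (hc _ hkB w hwD).eq, ← mul_assoc]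
    exact ⟨hmin _ hwD hu hwq, hwq⟩
  have key : ∀ j ≤ i, ∀ u ∈ D, u ∈ Z j →
      x⁻¹ * (u * x * u⁻¹) ∈ B ∧ (x⁻¹ * (u * x * u⁻¹)) ^ smallExp p = 1 := by
    intro j
    induction j with
    | zero =>
      intro _ u _ hu
      rw [hZ.zero, Subgroup.mem_bot] at hu
      subst hu
      simp [B.one_mem]
    | succ j ih =>
      intro hj u _ hu
      refine hstep u (hZ.mono (by omega) (hZ.step j u hu x).1) ?_
      rintro w hwD rfl
      exact ih (by omega) _ hwD (hZ.step j u hu x).1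
  have hi : x⁻¹ * (r * x * r⁻¹) ∈ Z i := (hZ.step i x hxi r).2
  exact (hstep r hi fun w hwD hw => key i le_rfl w hwD (hw ▸ hi)).1

/-- An automorphism `c` of order prime to `p` of a finite `p`-group `R`, moving every element
inside `D`, is trivial if, whenever a `G`-invariant subgroup `B` fixed by `c` misses a small
element of `C_D(B)`, some such element has its whole `G`-orbit stabilized by `c` modulo `B`. -/
theorem mulAut_eq_one_of_steps {R : Type*} [Group R] [Finite R] (hR : IsPGroup p R)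
    (G : Subgroup (MulAut R)) (hG : ∀ r, MulAut.conj r ∈ G) {c : MulAut R}
    (hc : (orderOf c).Coprime p) (D : Subgroup R) (hgen : ∀ r, r⁻¹ * c r ∈ D)
    (step : ∀ B : Subgroup R, (∀ γ ∈ G, ∀ b ∈ B, γ b ∈ B) → (∀ b ∈ B, c b = b) →
      (∃ y ∈ D, y ^ smallExp p = 1 ∧ (∀ b ∈ B, b * y = y * b) ∧ y ∉ B) →
      ∃ y, y ∉ B ∧ ∀ γ ∈ G, (γ y)⁻¹ * c (γ y) ∈ B) : c = 1 := by
  obtain ⟨B, hB⟩ := (Set.toFinite {B : Subgroup R | (∀ γ ∈ G, ∀ b ∈ B, γ b ∈ B) ∧
      ∀ b ∈ B, c b = b}).exists_maximal ⟨⊥, fun γ _ b hb => by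
        rw [Subgroup.mem_bot] at hb ⊢; rw [hb, map_one], fun b hb => by
        rw [Subgroup.mem_bot] at hb; rw [hb, map_one]⟩
  obtain ⟨hBG, hBc⟩ := hB.prop
  have hBn : B.Normal := ⟨fun b hb r => by simpa using hBG _ (hG r) b hb⟩
  refine mulAut_eq_one_of_fix_maximal hR hc D B hgen hBc fun x hxD hxq hxc => ?_
  by_contra hxB
  obtain ⟨y, hyB, hy⟩ := step B hBG hBc ⟨x, hxD, hxq, hxc, hxB⟩
  have hyfix : ∀ γ ∈ G, c (γ y) = γ y := by
    intro γ hγ
    have h := hy γ hγ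
    generalize γ y = z at h
    generalize ht : z⁻¹ * c z = t at h
    have hct : c t = t := hBc t h
    have hz : c z = z * t := by simp [← ht]
    have hpow : ∀ n : ℕ, (c ^ n) z = z * t ^ n := by
      intro n
      induction n with
      | zero => simp
      | succ n ih =>
        rw [pow_succ', MulAut.mul_apply, ih, map_mul, map_pow, hct, hz, pow_succ', mul_assoc]
    have h1 := hpow (orderOf c)
    rw [pow_orderOf_eq_one, MulAut.one_apply] at h1
    rw [hz, eq_one_of_pGroup_coprime (hR t) (mul_eq_left.1 h1.symm) hc, mul_one]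
  set Y : Set R := (B : Set R) ∪ {z | ∃ γ ∈ G, γ y = z}
  have hmem : Subgroup.closure Y ∈ {B : Subgroup R | (∀ γ ∈ G, ∀ b ∈ B, γ b ∈ B) ∧
      ∀ b ∈ B, c b = b} := by
    refine ⟨fun γ hγ b hb => ?_, fun b hb => ?_⟩
    · induction hb using Subgroup.closure_induction with
      | mem b hb =>
        refine Subgroup.subset_closure ?_
        rcases hb with hb | ⟨δ, hδ, rfl⟩
        · exact Or.inl (hBG γ hγ b hb)
        · exact Or.inr ⟨γ * δ, G.mul_mem hγ hδ, rfl⟩
      | one => rw [map_one]; exact one_mem _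
      | mul _ _ _ _ h1 h2 => rw [map_mul]; exact mul_mem h1 h2
      | inv _ _ h1 => rw [map_inv]; exact inv_mem h1
    · induction hb using Subgroup.closure_induction with
      | mem b hb =>
        rcases hb with hb | ⟨δ, hδ, rfl⟩
        · exact hBc b hb
        · exact hyfix δ hδ
      | one => exact map_one _
      | mul _ _ _ _ h1 h2 => rw [map_mul, h1, h2]
      | inv _ _ h1 => rw [map_inv, h1]
  exact hyB (hB.le_of_ge hmem (fun b hb => Subgroup.subset_closure (Or.inl hb))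
    (Subgroup.subset_closure (Or.inr ⟨1, one_mem _, rfl⟩)))

end Cfsg.Agent.Lib.Fusion
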