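import Cfsg.Agent.Lib.Fusion.Supersoluble
import Cfsg.Agent.Lib.Fusion.MetaTwoFusion
import Cfsg.Agent.Lib.Fusion.Focal
import Cfsg.Agent.Lib.Classical.SLTwoSylow
import Cfsg.Agent.Lib.Classical.Order
import Cfsg.Agent.Lib.Classical.ExcIso.Two
import Cfsg.Agent.Lib.Involution.SDStructure
import Cfsg.Agent.Lib.Transfer.Hall
import Mathlib.NumberTheory.LSeries.PrimesInAP

/-!
A supersoluble two-group is never the Sylow subgroup of `SL(2,q)`, `PSL(2,q)` or `GL(2,q)`.
-/

set_option autoImplicit false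

namespace Cfsg.Agent.Lib.Fusion.SuperTwoModels

open Cfsg Cfsg.FusionSystem
open scoped commutatorElement MatrixGroups

variable {Ω : Type*} [Group Ω] {S : Subgroup Ω}

/-- All saturated systems over a group with `p'`-automorphisms trivial and normal top are inner. -/
theorem eq_inner [Finite S] (hS : IsPGroup 2 S)
    (hn : ∀ F : FusionSystem S, F.IsSaturated 2 → F.IsNormal S)
    (hA : ∀ H : Subgroup (MulAut S), (Nat.card H).Coprime 2 →
      IsMulCommutative H ∧ ∀ h ∈ H, h ^ (2 - 1) = 1)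
    (F : FusionSystem S) (hF : F.IsSaturated 2) (P : Subgroup Ω) :
    F.Hom P = (innerFusionSystem S).Hom P := by
  haveI : Fact (Nat.Prime 2) := ⟨Nat.prime_two⟩
  have := finite_mulAut (S := S) (P := S) le_rfl
  have h2 : IsPGroup 2 (MulAut S) := by
    by_contra h
    obtain ⟨α, m, hm, hα, hne⟩ := exists_odd_of_not_isPGroup h
    refine hne ?_
    have hcop : (Nat.card (Subgroup.zpowers α)).Coprime 2 := by
      rw [Nat.card_zpowers]
      exact (hm.coprime_two_right).coprime_dvd_left (orderOf_dvd_of_pow_eq_one hα)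
    simpa using (hA _ hcop).2 α (Subgroup.mem_zpowers α)
  refine eq_inner_of_coprime_trivial hS hF (fun R hR α hα hcop => ?_) P
  obtain ⟨ψ, hψ, hψe, -⟩ := (hn F hF).2 R _ ((mem_autGroup hR).1 hα)
  let χ : S →* Ω := ψ.comp (Subgroup.inclusion le_sup_right)
  have hχ : χ ∈ F.Hom S := restrict_mem le_sup_right hψ
  let χ' : S →* S := χ.codRestrict S (val_mem hχ)
  have hinj : Function.Injective χ' := fun a b hab =>
    F.injective_of_mem hχ (congrArg Subtype.val hab :)
  let β : MulAut S := MulEquiv.ofBijective χ' (Finite.injective_iff_bijective.1 hinj)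
  have hβ : ∀ x : R, ((β ⟨x, hR x.2⟩ : S) : Ω) = α x := fun x => hψe x
  have hpow : ∀ (m : ℕ) (x : R), (((β ^ m) ⟨x, hR x.2⟩ : S) : Ω) = (α ^ m) x := by
    intro m
    induction m with
    | zero => intro x; rfl
    | succ m ih =>
      intro x
      rw [pow_succ', pow_succ', MulAut.mul_apply, MulAut.mul_apply, ← hβ]
      exact congrArg (fun y : S => ((β y : S) : Ω)) (Subtype.ext (ih x))
  obtain ⟨r, hr⟩ := h2 β
  have hαr : α ^ 2 ^ r = 1 := MulEquiv.ext fun x => Subtype.ext (by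
    rw [← hpow, hr]; rfl)
  exact orderOf_eq_one_iff.1 (Nat.eq_one_of_dvd_coprimes (hcop.pow_right r) dvd_rfl
    (orderOf_dvd_of_pow_eq_one hαr))

/-- If all systems over `S` are inner, a finite group with Sylow subgroup `S` has small focal
subgroup. -/
theorem inter_commutator_le [Finite S] (hS : IsPGroup 2 S)
    (hin : ∀ F : FusionSystem S, F.IsSaturated 2 → ∀ P, F.Hom P = (innerFusionSystem S).Hom P)
    {G : Type*} [Group G] [Finite G] (P : Sylow 2 G) (e : S ≃* (P : Subgroup G)) :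
    commutator G ⊓ P ≤ ⁅(P : Subgroup G), (P : Subgroup G)⁆ := by
  haveI : Fact (Nat.Prime 2) := ⟨Nat.prime_two⟩
  have hcop : Nat.Coprime (P : Subgroup G).index (⁅(P : Subgroup G), (P : Subgroup G)⁆.relIndex P) := by
    obtain ⟨k, hk⟩ := P.isPGroup'.exists_card_eq
    refine Nat.Coprime.coprime_dvd_right (Subgroup.relIndex_dvd_card _ _) ?_
    rw [hk]
    exact ((Nat.prime_two.coprime_iff_not_dvd.2 P.not_dvd_index).symm).pow_right k
  rw [← (Transfer.focal_theorem (P : Subgroup G) hcop).1]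
  let ι : S →* G := (P : Subgroup G).subtype.comp e.toMonoidHom
  have hι : Function.Injective ι := fun a b hab => e.injective (Subtype.ext hab)
  have hr := realizedSystem_realized ι hι
  have hrange : ι.range = P := by
    ext y
    refine ⟨?_, fun hy => ⟨e.symm ⟨y, hy⟩, ?_⟩⟩
    · rintro ⟨s, rfl⟩; exact (e s).2
    · show ((e (e.symm ⟨y, hy⟩) : (P : Subgroup G)) : G) = y
      rw [e.apply_symm_apply]
  have hF : (realizedSystem ι hι).IsSaturated 2 :=
    isSaturated_of_realized hr (by rw [hrange]; exact isSylowIn_top P)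
  rw [Subgroup.focalSubgroup_def, Subgroup.closure_le]
  rintro g ⟨hg, x, hx, u, rfl⟩
  have hy : u * x * u⁻¹ ∈ (P : Subgroup G) := by
    have : u * x * u⁻¹ = ⁅x, u⁆⁻¹ * x := by simp [commutatorElement_def, mul_assoc]
    rw [this]
    exact mul_mem (inv_mem hg) hx
  obtain ⟨x₀, rfl⟩ : ∃ x₀ : S, ι x₀ = x := by rw [← MonoidHom.mem_range, hrange]; exact hx
  obtain ⟨y₀, hy₀⟩ : ∃ y₀ : S, ι y₀ = u * ι x₀ * u⁻¹ := by
    rw [← MonoidHom.mem_range, hrange]; exact hy
  -- the map on the cyclic subgroup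
  let R : Subgroup Ω := Subgroup.zpowers (x₀ : Ω)
  have hR : R ≤ S := Subgroup.zpowers_le.2 x₀.2
  let c : R →* G := ((MulAut.conj u).toMonoidHom.comp ι).comp (Subgroup.inclusion hR)
  have hc : ∀ r : R, c r ∈ ι.range := by
    rintro ⟨_, i, rfl⟩
    refine ⟨y₀ ^ i, ?_⟩
    show ι (y₀ ^ i) = u * ι ⟨(x₀ : Ω) ^ i, _⟩ * u⁻¹
    rw [map_zpow, hy₀, conj_zpow, ← map_zpow]
    rfl
  let φ : R →* Ω := S.subtype.comp
    ((MonoidHom.ofInjective hι).symm.toMonoidHom.comp (c.codRestrict ι.range hc))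
  have hφι : ∀ (r : R) (h : φ r ∈ S), ι ⟨φ r, h⟩ = u * ι ⟨r, hR r.2⟩ * u⁻¹ := fun r h => by
    have := (MonoidHom.ofInjective hι).apply_symm_apply ⟨c r, hc r⟩
    exact congrArg Subtype.val this
  have hφ : φ ∈ (realizedSystem ι hι).Hom R :=
    ⟨hR, fun r => ((MonoidHom.ofInjective hι).symm _).2, u, fun r => hφι r _⟩
  rw [hin _ hF] at hφ
  obtain ⟨-, s, hs, hφs⟩ := hφ
  have hval : u * ι x₀ * u⁻¹ = ι ⟨s, hs⟩ * ι x₀ * (ι ⟨s, hs⟩)⁻¹ := by
    let r : R := ⟨x₀, Subgroup.mem_zpowers _⟩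
    have h1 := hφι r ((MonoidHom.ofInjective hι).symm _).2
    rw [← map_inv, ← map_mul, ← map_mul]
    refine h1.symm.trans (congrArg ι (Subtype.ext ?_))
    exact hφs r
  have hcomm : ⁅ι x₀, u⁆ = ⁅ι x₀, ι ⟨s, hs⟩⁆ := by
    rw [commutatorElement_def, commutatorElement_def,
      show ι x₀ * u * (ι x₀)⁻¹ * u⁻¹ = ι x₀ * (u * ι x₀ * u⁻¹)⁻¹ by group, hval]
    group
  rw [SetLike.mem_coe, hcomm]
  exact Subgroup.commutator_mem_commutator (hrange ▸ ⟨x₀, rfl⟩) (hrange ▸ ⟨_, rfl⟩)

theorem two_pow_eq {a b u v : ℕ} (hu : Odd u) (hv : Odd v) (h : 2 ^ a * u = 2 ^ b * v) : a = b := by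
  rcases le_total a b with hab | hab
  all_goals
    obtain ⟨d, rfl⟩ := Nat.exists_eq_add_of_le hab
    rw [pow_add, mul_assoc] at h
    have := Nat.eq_of_mul_eq_mul_left (by positivity) h
    rcases Nat.eq_zero_or_pos d with rfl | hd
    · simp
    · exfalso
      have he : Even (2 ^ d) := (Nat.even_pow).2 ⟨even_two, hd.ne'⟩
      first
        | exact (Nat.not_even_iff_odd.2 hu) (this ▸ he.mul_right v)
        | exact (Nat.not_even_iff_odd.2 hv) (this ▸ he.mul_right u)

theorem sylow_card {G : Type*} [Group G] [Finite G] (P : Sylow 2 G) {a u : ℕ} (hu : Odd u)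
    (h : Nat.card G = 2 ^ a * u) : Nat.card (P : Subgroup G) = 2 ^ a := by
  haveI : Fact (Nat.Prime 2) := ⟨Nat.prime_two⟩
  obtain ⟨b, hb⟩ := P.isPGroup'.exists_card_eq
  have hi : Odd (P : Subgroup G).index := Nat.not_even_iff_odd.1 fun he =>
    P.not_dvd_index (even_iff_two_dvd.1 he)
  have := (P : Subgroup G).card_mul_index
  rw [hb, h] at this
  rw [hb, two_pow_eq hi hu this]

theorem three_pow_tower (j : ℕ) : ∃ c, Odd c ∧ 3 ^ 2 ^ (j + 1) = 1 + 2 ^ (j + 3) * c := by
  induction j with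
  | zero => exact ⟨1, odd_one, by norm_num⟩
  | succ j ih =>
    obtain ⟨c, hc, e⟩ := ih
    refine ⟨c * (1 + 2 ^ (j + 2) * c), hc.mul ?_, ?_⟩
    · exact (Nat.even_mul.2 (Or.inl ((Nat.even_pow).2 ⟨even_two, by omega⟩))).one_add
    · rw [pow_succ 2 (j + 1), pow_mul, e, show j + 1 + 3 = j + 4 by rfl, pow_succ 2 (j + 3),
        pow_succ 2 (j + 2)]
      ring

/-- `SL(2, 3 ^ (2 ^ j))` has quaternion Sylow subgroups of order `2 ^ (j + 3)`. -/
theorem sl_model (j : ℕ) : ∃ (F : Type) (_ : Field F) (_ : Fintype F),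
    Fintype.card F = 3 ^ 2 ^ j ∧ (∀ P : Sylow 2 SL(2, F),
      Nonempty ((P : Subgroup SL(2, F)) ≃* QuaternionGroup (2 ^ (j + 1)))) := by
  haveI : Fact (Nat.Prime 3) := ⟨Nat.prime_three⟩
  letI : Fintype (GaloisField 3 (2 ^ j)) := Fintype.ofFinite _
  have hcard : Fintype.card (GaloisField 3 (2 ^ j)) = 3 ^ 2 ^ j := by
    rw [← Nat.card_eq_fintype_card, GaloisField.card 3 _ (by positivity)]
  refine ⟨GaloisField 3 (2 ^ j), inferInstance, inferInstance, hcard, fun P => ?_⟩
  obtain ⟨k, hk1, ⟨e⟩⟩ := Classical.sl_two_sylow_quaternion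
    (by rw [hcard]; exact (by decide : Odd 3).pow) P
  obtain ⟨c, hc, htower⟩ := three_pow_tower j
  have hG : Nat.card SL(2, GaloisField 3 (2 ^ j)) = 2 ^ (j + 3) * (c * 3 ^ 2 ^ j) := by
    rw [Classical.card_SL_two, hcard, ← pow_mul, ← pow_succ, htower, Nat.add_sub_cancel_left]
    ring
  have hP := sylow_card P (hc.mul (by decide : Odd 3).pow) hG
  rw [Nat.card_congr e.toEquiv, Nat.card_eq_fintype_card,
    @QuaternionGroup.card _ ⟨by positivity⟩, show 4 * 2 ^ k = 2 ^ (k + 2) by ring] at hP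
  have := Nat.pow_right_injective le_rfl hP
  rw [show j + 1 = k by omega]
  exact ⟨e⟩

theorem not_inter_le_of_perfect {G : Type*} [Group G] [Finite G] (h : commutator G = ⊤)
    (P : Sylow 2 G) (hP : (P : Subgroup G) ≠ ⊥) :
    ¬ commutator G ⊓ P ≤ ⁅(P : Subgroup G), (P : Subgroup G)⁆ := by
  intro hle
  haveI : Fact (Nat.Prime 2) := ⟨Nat.prime_two⟩
  rw [h, top_inf_eq] at hle
  haveI : Nontrivial (P : Subgroup G) := (Subgroup.nontrivial_iff_ne_bot _).2 hP
  haveI : Group.IsNilpotent (P : Subgroup G) := P.isPGroup'.isNilpotent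
  refine (Group.IsSolvable.commutator_lt_top_of_nontrivial (P : Subgroup G)).ne ?_
  refine Subgroup.map_injective (Subgroup.subtype_injective (P : Subgroup G)) ?_
  rw [Subgroup.map_subtype_commutator, ← MonoidHom.range_eq_map, Subgroup.range_subtype]
  exact le_antisymm (Subgroup.commutator_le_self _) hle

/-- Generalized quaternion groups are not supersoluble. -/
theorem not_inner_quaternion [Finite S] (hS : IsPGroup 2 S) (j : ℕ)
    (e : S ≃* QuaternionGroup (2 ^ (j + 1))) :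
    ¬ ∀ F : FusionSystem S, F.IsSaturated 2 → ∀ P, F.Hom P = (innerFusionSystem S).Hom P := by
  intro hin
  obtain ⟨F, _, _, hcard, hP⟩ := sl_model j
  haveI : Fact (Nat.Prime 2) := ⟨Nat.prime_two⟩
  rcases Nat.eq_zero_or_pos j with rfl | hj
  · -- an element of order four in the commutator subgroup of `SL(2, 3)`
    haveI : CharP F 3 := by
      obtain ⟨n, hp, hn⟩ := FiniteField.card F (ringChar F)
      rw [hcard] at hn
      have h3 : ringChar F = 3 := ((Nat.prime_dvd_prime_iff_eq hp Nat.prime_three).1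
        (hn ▸ dvd_pow_self _ n.ne_zero : ringChar F ∣ 3 ^ 2 ^ 0) :)
      exact h3 ▸ ringChar.charP F
    have h30 : (3 : F) = 0 := by exact_mod_cast CharP.cast_eq_zero F 3
    have h20 : (2 : F) ≠ 0 := fun h => one_ne_zero (by linear_combination h30 - h : (1 : F) = 0)
    let T : SL(2, F) := ⟨!![1, 1; 0, 1], by simp [Matrix.det_fin_two]⟩
    let X : SL(2, F) := ⟨!![0, 1; -1, 0], by simp [Matrix.det_fin_two]⟩
    let C : SL(2, F) := ⟨!![2, 1; 1, 1], by simp [Matrix.det_fin_two]; norm_num⟩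
    have hC : ⁅T, X⁆ = C := by
      rw [commutatorElement_def, mul_inv_eq_iff_eq_mul, mul_inv_eq_iff_eq_mul]
      apply Subtype.ext
      change !![(1 : F), 1; 0, 1] * !![0, 1; -1, 0] = !![2, 1; 1, 1] * !![0, 1; -1, 0] * !![1, 1; 0, 1]
      ext a b
      fin_cases a <;> fin_cases b <;> simp [Matrix.mul_apply, Fin.sum_univ_two] <;> norm_num
    have hg : ⁅T, X⁆ ^ 2 = -1 := by
      rw [hC, pow_two]
      apply Subtype.ext
      change !![(2 : F), 1; 1, 1] * !![2, 1; 1, 1] = -1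
      ext a b
      fin_cases a <;> fin_cases b <;> simp [Matrix.mul_apply, Fin.sum_univ_two] <;>
        first | linear_combination h30 | linear_combination 2 * h30
    have hne : (-1 : SL(2, F)) ≠ 1 := Classical.sl_two_neg_one_ne_one h20
    have hg4 : ⁅T, X⁆ ^ 4 = 1 := by
      rw [show 4 = 2 * 2 from rfl, pow_mul, hg, pow_two, neg_mul_neg, one_mul]
    obtain ⟨P, hgP⟩ := (show IsPGroup 2 (Subgroup.zpowers ⁅T, X⁆) from fun y => ⟨2, by
      obtain ⟨_, i, rfl⟩ := y
      refine Subtype.ext ?_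
      show (⁅T, X⁆ ^ i) ^ 4 = 1
      rw [← zpow_natCast, ← zpow_mul, mul_comm, zpow_mul, zpow_natCast, hg4, one_zpow]⟩).exists_le_sylow
    obtain ⟨f⟩ := hP P
    have hmem := inter_commutator_le hS hin P (e.trans f.symm)
      ⟨Subgroup.commutator_mem_commutator (Subgroup.mem_top _) (Subgroup.mem_top _),
        hgP (Subgroup.mem_zpowers _)⟩
    have hW : ∀ w ∈ commutator (QuaternionGroup 2), w ^ 2 = 1 := by
      have h1 : commutator (QuaternionGroup 2) ≤ Subgroup.zpowers (QuaternionGroup.a 2) := by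
        rw [commutator_def, Subgroup.commutator_le]
        intro a _ b _
        have : ∀ a b : QuaternionGroup 2, ⁅a, b⁆ = 1 ∨ ⁅a, b⁆ = QuaternionGroup.a 2 := by decide
        rcases this a b with h | h <;> rw [h]
        exacts [one_mem _, Subgroup.mem_zpowers _]
      intro w hw
      obtain ⟨i, rfl⟩ := h1 hw
      have h2 : (QuaternionGroup.a 2 : QuaternionGroup 2) * QuaternionGroup.a 2 = 1 := by decide
      show ((QuaternionGroup.a 2 : QuaternionGroup 2) ^ i) ^ 2 = 1
      rw [pow_two, ← (Commute.refl _).mul_zpow, h2, one_zpow]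
    rw [← Subgroup.map_subtype_commutator] at hmem
    obtain ⟨w, hw, hwe⟩ := hmem
    have hfw : (commutator (P : Subgroup SL(2, F))).map f.toMonoidHom = commutator (QuaternionGroup 2) := by
      rw [commutator_def, Subgroup.map_commutator, Subgroup.map_top_of_surjective _ f.surjective,
        commutator_def]
    have hw2 := hW (f w) (hfw ▸ ⟨w, hw, rfl⟩)
    rw [← map_pow, map_eq_one_iff _ f.injective] at hw2
    have h1 : ⁅T, X⁆ ^ 2 = 1 := by
      rw [← hwe]
      exact congrArg Subtype.val hw2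
    exact hne (hg ▸ h1)
  · obtain ⟨P⟩ := (inferInstance : Nonempty (Sylow 2 SL(2, F)))
    obtain ⟨f⟩ := hP P
    refine not_inter_le_of_perfect (Classical.ExcIso.sl2_perfect (K := F) ?_) P ?_
      (inter_commutator_le hS hin P (e.trans f.symm))
    · rw [hcard]
      exact (show 4 ≤ 3 ^ 2 by norm_num).trans
        (Nat.pow_le_pow_right (by norm_num) (Nat.le_self_pow (by omega) 2))
    · intro h
      haveI : NeZero (2 ^ (j + 1)) := ⟨by positivity⟩
      have := Nat.card_congr f.toEquiv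
      rw [Nat.card_eq_fintype_card (α := QuaternionGroup _), QuaternionGroup.card,
        Subgroup.card_eq_one.2 h] at this
      omega

/-- The quotient of a quaternion group by its centre. -/
theorem exists_quaternion_to_dihedral (N : ℕ) [NeZero N] :
    ∃ h : QuaternionGroup N →* DihedralGroup N, Function.Surjective h ∧
      ∀ x, h x = 1 ↔ x ^ 2 = 1 := by
  let c : ZMod (2 * N) →+* ZMod N := ZMod.castHom (dvd_mul_left N 2) (ZMod N)
  have hcs : Function.Surjective c := ZMod.castHom_surjective _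
  have hn : c (N : ZMod (2 * N)) = 0 := by rw [map_natCast, ZMod.natCast_self]
  let t : QuaternionGroup N → DihedralGroup N
    | .a i => .r (c i)
    | .xa i => .sr (c i)
  have ht : ∀ u v, t (u * v) = t u * t v := by
    rintro (i | i) (k | k) <;>
      simp [t, hn, map_add, map_sub]
  refine ⟨MonoidHom.mk' t ht, ?_, ?_⟩
  · rintro (i | i) <;> obtain ⟨k, rfl⟩ := hcs i
    exacts [⟨.a k, rfl⟩, ⟨.xa k, rfl⟩]
  rintro (i | i)
  · show DihedralGroup.r (c i) = DihedralGroup.r 0 ↔ _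
    rw [DihedralGroup.r.injEq, pow_two, QuaternionGroup.a_mul_a]
    show c i = 0 ↔ QuaternionGroup.a (i + i) = QuaternionGroup.a 0
    rw [QuaternionGroup.a.injEq, ← ZMod.intCast_zmod_cast i, map_intCast, ← Int.cast_add,
      ZMod.intCast_zmod_eq_zero_iff_dvd, ZMod.intCast_zmod_eq_zero_iff_dvd, ← two_mul,
      Nat.cast_mul, Nat.cast_two, Int.mul_dvd_mul_iff_left two_ne_zero]
  · refine iff_of_false (fun h => by cases h) fun h => ?_
    rw [QuaternionGroup.xa_sq, QuaternionGroup.one_def, QuaternionGroup.a.injEq,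
      ZMod.natCast_eq_zero_iff] at h
    have := Nat.le_of_dvd (NeZero.pos N) h
    have := NeZero.pos N
    omega

/-- Dihedral groups of order at least eight are not supersoluble. -/
theorem not_inner_dihedral [Finite S] (hS : IsPGroup 2 S) (j : ℕ)
    (e : S ≃* DihedralGroup (2 ^ (j + 2))) :
    ¬ ∀ F : FusionSystem S, F.IsSaturated 2 → ∀ P, F.Hom P = (innerFusionSystem S).Hom P := by
  intro hin
  obtain ⟨F, _, _, hcard, hP⟩ := sl_model (j + 1)
  haveI : Fact (Nat.Prime 2) := ⟨Nat.prime_two⟩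
  haveI : NeZero (2 ^ (j + 2)) := ⟨by positivity⟩
  have h20 : (2 : F) ≠ 0 :=
    Classical.two_ne_zero_of_odd_card (by rw [hcard]; exact (by decide : Odd 3).pow)
  let N : Subgroup SL(2, F) := Subgroup.zpowers (-1)
  haveI : N.Normal := ⟨fun n hn g => by
    obtain ⟨i, rfl⟩ := hn
    have hz : g * (-1) * g⁻¹ = (-1 : SL(2, F)) := by rw [mul_neg, mul_one, neg_mul, mul_inv_cancel]
    exact ⟨i, by rw [← conj_zpow, hz]⟩⟩
  have hN : ∀ g : SL(2, F), g ∈ N ↔ g ^ 2 = 1 := by
    refine fun g => ⟨?_, fun h => ?_⟩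
    · rintro ⟨i, rfl⟩
      rw [← zpow_natCast, ← zpow_mul, mul_comm, zpow_mul, zpow_natCast, pow_two, neg_mul_neg,
        one_mul, one_zpow]
    · rcases Classical.sl_two_sq_eq_one h20 h with rfl | rfl
      exacts [one_mem _, Subgroup.mem_zpowers _]
  let π := QuotientGroup.mk' N
  have hπs : Function.Surjective π := QuotientGroup.mk'_surjective N
  obtain ⟨Q⟩ := (inferInstance : Nonempty (Sylow 2 SL(2, F)))
  obtain ⟨f⟩ := hP Q
  obtain ⟨d, hds, hdk⟩ := exists_quaternion_to_dihedral (2 ^ (j + 2))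
  let T : Sylow 2 (SL(2, F) ⧸ N) := Q.mapSurjective hπs
  let r := π.subgroupMap (Q : Subgroup SL(2, F))
  let r' := d.comp f.toMonoidHom
  have hker : r'.ker = r.ker := by
    ext x
    rw [MonoidHom.mem_ker, MonoidHom.mem_ker]
    show d (f x) = 1 ↔ r x = 1
    rw [hdk, ← map_pow, map_eq_one_iff _ f.injective, ← OneMemClass.coe_eq_one,
      Subgroup.coe_pow, ← hN, ← QuotientGroup.eq_one_iff]
    exact (OneMemClass.coe_eq_one (x := r x))
  let g : T ≃* DihedralGroup (2 ^ (j + 2)) :=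
    ((QuotientGroup.quotientKerEquivOfSurjective r (π.subgroupMap_surjective _)).symm.trans
      ((QuotientGroup.quotientMulEquivOfEq hker.symm).trans
        (QuotientGroup.quotientKerEquivOfSurjective r' (hds.comp f.surjective))))
  refine not_inter_le_of_perfect ?_ T ?_ (inter_commutator_le hS hin T (e.trans g.symm))
  · rw [commutator_def, ← Subgroup.map_top_of_surjective π hπs, ← Subgroup.map_commutator,
      ← commutator_def, Classical.ExcIso.sl2_perfect]
    rw [hcard]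
    exact (show 4 ≤ 3 ^ 2 by norm_num).trans
      (Nat.pow_le_pow_right (by norm_num) (Nat.le_self_pow (by omega) 2))
  · intro h
    have := Nat.card_congr g.toEquiv
    rw [DihedralGroup.nat_card, Subgroup.card_eq_one.2 h] at this
    omega

/-- Two quasi-dihedral groups of one order are isomorphic. -/
theorem sd_iso {A B : Type*} [Group A] [Group B] {n : ℕ} {x y : A} {x' y' : B}
    (d : Involution.SDData n x y) (d' : Involution.SDData n x' y') : Nonempty (A ≃* B) := by
  classical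
  haveI : Finite A := d.finite
  haveI : Finite B := d'.finite
  have hex : ∀ s : A, ∃ i : ℤ, s = x ^ i ∨ s = x ^ i * y := by
    intro s
    have hi := d.index_x
    by_cases hs : s ∈ Subgroup.zpowers x
    · obtain ⟨i, rfl⟩ := hs; exact ⟨i, Or.inl rfl⟩
    · obtain ⟨i, hi'⟩ : s * y ∈ Subgroup.zpowers x :=
        (Subgroup.mul_mem_iff_of_index_two hi).2 (iff_of_false hs d.y_notMem)
      refine ⟨i, Or.inr ?_⟩
      show s = x ^ i * y
      rw [show x ^ i = s * y from hi', mul_assoc, d.y_mul_y, mul_one]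
  let t : A → B := fun s => if s ∈ Subgroup.zpowers x then x' ^ (hex s).choose
    else x' ^ (hex s).choose * y'
  have h1 : ∀ i : ℤ, t (x ^ i) = x' ^ i := by
    intro i
    have hm : x ^ i ∈ Subgroup.zpowers x := ⟨i, rfl⟩
    simp only [t, if_pos hm]
    rcases (hex (x ^ i)).choose_spec with h | h
    · rw [d'.eq_iff, ← d.eq_iff]; exact h.symm
    · exact absurd (h ▸ hm) (d.out_notMem _)
  have h2 : ∀ i : ℤ, t (x ^ i * y) = x' ^ i * y' := by
    intro i
    simp only [t, if_neg (d.out_notMem i)]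
    rcases (hex (x ^ i * y)).choose_spec with h | h
    · exact absurd ⟨_, h.symm⟩ (d.out_notMem i)
    · rw [d'.out_eq_iff, ← d.out_eq_iff]; exact h.symm
  have hmul : ∀ u v, t (u * v) = t u * t v := by
    intro u v
    obtain ⟨i, rfl | rfl⟩ := hex u <;> obtain ⟨k, rfl | rfl⟩ := hex v
    · rw [← zpow_add, h1, h1, h1, zpow_add]
    · rw [← mul_assoc, ← zpow_add, h2, h1, h2, ← mul_assoc, zpow_add]
    · rw [d.out_mul_pow, h2, h2, h1, d'.out_mul_pow]
    · rw [d.out_mul_out, h1, h2, h2, d'.out_mul_out]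
  let φ : A →* B := MonoidHom.mk' t hmul
  have hinj : Function.Injective φ := by
    rw [injective_iff_map_eq_one]
    intro s hs
    obtain ⟨i, rfl | rfl⟩ := hex s
    · have h : x' ^ i = x' ^ (0 : ℤ) := by rw [zpow_zero, ← h1]; exact hs
      rw [← zpow_zero x, d.eq_iff, ← d'.eq_iff]; exact h
    · exact absurd ((h2 i).symm.trans hs ▸ one_mem _) (d'.out_notMem i)
  exact ⟨MulEquiv.ofBijective φ
    ((Nat.bijective_iff_injective_and_card φ).2 ⟨hinj, by rw [d.card_eq, d'.card_eq]⟩)⟩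

/-- A quasi-dihedral Sylow subgroup of `GL(2,q)` for a suitable prime `q`. -/
theorem gl_model {n : ℕ} (hn : 3 ≤ n) : ∃ (q : ℕ) (_ : Fact q.Prime) (P : Sylow 2 (GL (Fin 2) (ZMod q)))
    (a b : (P : Subgroup (GL (Fin 2) (ZMod q)))), 5 ≤ q ∧ q % 4 = 3 ∧
      Involution.SDData n a b := by
  obtain ⟨m, rfl⟩ : ∃ m, n = m + 1 := ⟨n - 1, by omega⟩
  have hm : 2 ≤ m := by omega
  have h1m : 1 ≤ 2 ^ m := Nat.one_le_two_pow
  obtain ⟨q, hq5, hqp, hqm⟩ := Nat.forall_exists_prime_gt_and_modEq 5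
    (q := 2 ^ (m + 1)) (a := 2 ^ m - 1) (by positivity)
    ((Nat.prime_two.coprime_iff_not_dvd.2 (by
      obtain ⟨r, hr⟩ : ∃ r, 2 ^ m = 2 * r := ⟨2 ^ (m - 1), by rw [← pow_succ']; congr 1; omega⟩
      omega)).symm.pow_right _)
  haveI : Fact q.Prime := ⟨hqp⟩
  obtain ⟨r, hr⟩ : ∃ r, q = 2 ^ (m + 1) * r + (2 ^ m - 1) := by
    refine ⟨q / 2 ^ (m + 1), ?_⟩
    have h := Nat.div_add_mod q (2 ^ (m + 1))
    rw [show q % 2 ^ (m + 1) = 2 ^ m - 1 from Eq.trans hqm (Nat.mod_eq_of_lt (by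
      rw [pow_succ]; omega))] at h
    exact h.symm
  obtain ⟨w, hw⟩ : ∃ w, 2 ^ m = 4 * w := ⟨2 ^ (m - 2), by rw [show 4 = 2 ^ 2 from rfl, ← pow_add]; congr 1; omega⟩
  have hq4 : q % 4 = 3 := by
    have : q = 4 * (2 * w * r + w - 1) + 3 := by
      rw [hr, pow_succ, hw]
      have : 0 < w := by omega
      obtain ⟨w', rfl⟩ : ∃ w', w = w' + 1 := ⟨w - 1, by omega⟩
      rw [show 4 * (w' + 1) - 1 = 4 * w' + 3 by omega,
        show 2 * (w' + 1) * r + (w' + 1) - 1 = 2 * (w' + 1) * r + w' by omega]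
      ring
    omega
  let K := GaloisField q 2
  letI : Fintype K := Fintype.ofFinite K
  have hK : Fintype.card K = q ^ 2 := by
    rw [← Nat.card_eq_fintype_card, GaloisField.card q 2 two_ne_zero]
  have hdvd : 2 ^ (m + 1) ∣ Nat.card Kˣ := by
    rw [Nat.card_units, Nat.card_eq_fintype_card, hK]
    have hq1 : q + 1 = 2 ^ m * (2 * r + 1) := by
      rw [hr, pow_succ]
      have : 2 ^ m - 1 + 1 = 2 ^ m := by omega
      rw [add_assoc, this]; ring
    obtain ⟨o, ho⟩ : ∃ o, q - 1 = 2 * o := ⟨(q - 1) / 2, by omega⟩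
    refine ⟨(2 * r + 1) * o, ?_⟩
    rw [show q ^ 2 - 1 = (q + 1) * (q - 1) by rw [← Nat.sq_sub_sq, one_pow], hq1, ho, pow_succ]
    ring
  obtain ⟨ζ, hζ⟩ : ∃ ζ : Kˣ, orderOf ζ = 2 ^ (m + 1) := by
    obtain ⟨g, hg⟩ := IsCyclic.exists_generator (α := Kˣ)
    refine ⟨g ^ (Nat.card Kˣ / 2 ^ (m + 1)), ?_⟩
    rw [orderOf_pow, orderOf_eq_card_of_forall_mem_zpowers hg, Nat.gcd_eq_right (Nat.div_dvd_of_dvd hdvd),
      Nat.div_div_self hdvd Nat.card_pos.ne']
  let E := Module.End (ZMod q) K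
  let X : Eˣ := Units.map (Algebra.lmul (ZMod q) K).toMonoidHom ζ
  have hXo : orderOf X = 2 ^ (m + 1) := by
    refine (orderOf_injective (Units.map (Algebra.lmul (ZMod q) K).toMonoidHom) ?_ ζ).trans hζ
    intro a b hab
    refine Units.ext ?_
    have := congrArg (fun u : Eˣ => (u : E) 1) hab
    change (a : K) * 1 = (b : K) * 1 at this
    simpa using this
  let L : E := (FiniteField.frobeniusAlgHom (ZMod q) K).toLinearMap
  have hL : ∀ z : K, L z = z ^ q := fun z => by
    show FiniteField.frobeniusAlgHom (ZMod q) K z = z ^ q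
    rw [FiniteField.coe_frobeniusAlgHom, ZMod.card]
  have hLL : L * L = 1 := LinearMap.ext fun z => by
    show L (L z) = z
    rw [hL, hL, ← pow_mul, ← pow_two, ← hK, FiniteField.pow_card]
  let Y : Eˣ := ⟨L, L, hLL, hLL⟩
  have hXap : ∀ z : K, (X : E) z = (ζ : K) * z := fun z => rfl
  have hζq : (ζ : K) ^ q = (ζ : K) ^ (2 ^ m - 1) := by
    rw [← Units.val_pow_eq_pow_val, ← Units.val_pow_eq_pow_val]
    congr 1
    rw [pow_eq_pow_iff_modEq, hζ]
    exact hqm
  have hconj : Y * X * Y⁻¹ = X ^ (2 ^ m - 1) := by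
    refine Units.ext (LinearMap.ext fun z => ?_)
    rw [show X ^ (2 ^ m - 1) = Units.map (Algebra.lmul (ZMod q) K).toMonoidHom (ζ ^ (2 ^ m - 1)) from
      (map_pow _ _ _).symm]
    show L ((X : E) (L z)) = ((ζ ^ (2 ^ m - 1) : Kˣ) : K) * z
    rw [hXap, hL, mul_pow, hL, ← pow_mul, ← pow_two, ← hK, FiniteField.pow_card, hζq,
      Units.val_pow_eq_pow_val]
  have hYo : orderOf Y = 2 := by
    refine orderOf_eq_prime (Units.ext hLL |> fun h => (pow_two Y).trans h) ?_
    intro h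
    rw [h, one_mul, inv_one, mul_one] at hconj
    have := orderOf_dvd_of_pow_eq_one (x := X) (n := 2 ^ m - 2) (by
      have h2 : 2 ≤ 2 ^ m := Nat.le_self_pow (by omega) 2
      rw [← mul_left_inj X, ← pow_succ, show 2 ^ m - 2 + 1 = 2 ^ m - 1 by omega, ← hconj, one_mul])
    rw [hXo] at this
    rcases Nat.eq_zero_or_pos (2 ^ m - 2) with h0 | h0
    · omega
    · have := Nat.le_of_dvd h0 this
      rw [pow_succ] at this
      omega
  let B := Module.finBasisOfFinrankEq (ZMod q) K (GaloisField.finrank q two_ne_zero)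
  let Φ : Eˣ ≃* GL (Fin 2) (ZMod q) := Units.mapEquiv (LinearMap.toMatrixAlgEquiv B).toMulEquiv
  let A := Φ X
  let C := Φ Y
  have hA : orderOf A = 2 ^ (m + 1) := (Φ.orderOf_eq X).trans hXo
  have hC : orderOf C = 2 := (Φ.orderOf_eq Y).trans hYo
  have hAC : C * A * C⁻¹ = A ^ (2 ^ m - 1) := by
    simp only [A, C, ← map_inv, ← map_mul, ← map_pow, hconj]
  have hpA : IsPGroup 2 (Subgroup.zpowers A) :=
    IsPGroup.of_card (n := m + 1) (by rw [Nat.card_zpowers, hA])
  have hpC : IsPGroup 2 (Subgroup.zpowers C) :=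
    IsPGroup.of_card (n := 1) (by rw [Nat.card_zpowers, hC, pow_one])
  have hnorm : Subgroup.zpowers C ≤ Subgroup.normalizer (Subgroup.zpowers A : Set (GL (Fin 2) (ZMod q))) := by
    rw [Subgroup.zpowers_le]
    refine mem_normalizer_of_conj_mem ?_
    rintro _ ⟨i, rfl⟩
    rw [← conj_zpow, hAC]
    exact zpow_mem (pow_mem (Subgroup.mem_zpowers A) _) i
  haveI : Fact (Nat.Prime 2) := ⟨Nat.prime_two⟩
  obtain ⟨P, hP⟩ := (IsPGroup.to_sup_of_normal_left' hpA hpC hnorm).exists_le_sylow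
  have hcard : Nat.card (P : Subgroup (GL (Fin 2) (ZMod q))) = 2 ^ (m + 2) := by
    obtain ⟨o, ho⟩ : ∃ o, q - 1 = 2 * (2 * o + 1) := ⟨(q - 1) / 4, by omega⟩
    refine sylow_card P (u := (2 * o + 1) * (2 * o + 1) * (2 * r + 1) * q)
      ((((odd_two_mul_add_one o).mul (odd_two_mul_add_one o)).mul (odd_two_mul_add_one r)).mul
        (Nat.odd_iff.2 (by omega))) ?_
    have hq1 : q + 1 = 2 ^ m * (2 * r + 1) := by
      rw [hr, pow_succ]
      have : 2 ^ m - 1 + 1 = 2 ^ m := by omega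
      rw [add_assoc, this]; ring
    rw [Classical.card_GL_eq_units_mul_card_SL, Classical.card_units_field, Classical.card_SL_two,
      ZMod.card, show q ^ 2 - 1 = (q + 1) * (q - 1) by rw [← Nat.sq_sub_sq, one_pow], hq1, ho]
    ring
  refine ⟨q, ⟨hqp⟩, P, ⟨A, hP (Subgroup.mem_sup_left (Subgroup.mem_zpowers A))⟩,
    ⟨C, hP (Subgroup.mem_sup_right (Subgroup.mem_zpowers C))⟩, hq5.le, hq4,
    ⟨by omega, hcard, ?_, ?_, ?_⟩⟩
  · exact (orderOf_injective (P : Subgroup (GL (Fin 2) (ZMod q))).subtype Subtype.val_injective _).symm.trans hA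
  · exact (orderOf_injective (P : Subgroup (GL (Fin 2) (ZMod q))).subtype Subtype.val_injective _).symm.trans hC
  · exact Subtype.ext hAC

/-- Quasi-dihedral groups are not supersoluble. -/
theorem not_inner_quasiDihedral [Finite S] (hS : IsPGroup 2 S) (h : Cfsg.IsQuasiDihedral S) :
    ¬ ∀ F : FusionSystem S, F.IsSaturated 2 → ∀ P, F.Hom P = (innerFusionSystem S).Hom P := by
  intro hin
  obtain ⟨n, x, y, d⟩ := Involution.exists_sdData h
  obtain ⟨q, _, P, a, b, hq5, hq4, d'⟩ := gl_model d.three_le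
  obtain ⟨e⟩ := sd_iso d d'
  have hle := inter_commutator_le hS hin P e
  let δ : (P : Subgroup (GL (Fin 2) (ZMod q))) →* (ZMod q)ˣ :=
    Matrix.GeneralLinearGroup.det.comp (P : Subgroup (GL (Fin 2) (ZMod q))).subtype
  have hrange : Nat.card δ.range ∣ 2 := by
    obtain ⟨o, ho⟩ : ∃ o, q - 1 = 2 * (2 * o + 1) := ⟨(q - 1) / 4, by omega⟩
    have h1 : Nat.card δ.range ∣ 2 ^ (n + 1) := d'.card_eq ▸ Subgroup.card_range_dvd δ
    have h2 : Nat.card δ.range ∣ 2 * (2 * o + 1) := by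
      rw [← ho]
      convert Subgroup.card_subgroup_dvd_card δ.range using 1
      rw [Classical.card_units_field, ZMod.card]
    refine Nat.Coprime.dvd_of_dvd_mul_right ?_ h2
    exact (((odd_two_mul_add_one o).coprime_two_left).pow_left (n + 1)).coprime_dvd_left h1
  have hker : δ.ker ≤ commutator (P : Subgroup (GL (Fin 2) (ZMod q))) := by
    intro g hg
    rw [← Subgroup.mem_map_iff_mem (Subgroup.subtype_injective _), Subgroup.map_subtype_commutator]
    refine hle ⟨?_, g.2⟩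
    have hm : (g : GL (Fin 2) (ZMod q)) ∈
        (Matrix.GeneralLinearGroup.det : GL (Fin 2) (ZMod q) →* (ZMod q)ˣ).ker := hg
    rw [Classical.det_ker_eq_range_toGL, MonoidHom.range_eq_map,
      ← Classical.ExcIso.sl2_perfect (K := ZMod q) (by rw [ZMod.card]; omega), commutator_def,
      Subgroup.map_commutator] at hm
    exact Subgroup.commutator_mono le_top le_top hm
  have h1 : Nat.card δ.ker * Nat.card δ.range = 2 ^ (n + 1) := by
    rw [← d'.card_eq, ← Subgroup.index_ker, Subgroup.card_mul_index]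
  have h2 := (Subgroup.card_le_of_le hker)
  rw [d'.commutator_eq, d'.card_sq] at h2
  have h3 := Nat.le_of_dvd two_pos hrange
  have h4 : 2 ^ (n + 1) = 2 ^ (n - 1) * 4 := by
    rw [show 4 = 2 ^ 2 from rfl, ← pow_add]
    congr 1
    have := d.three_le
    omega
  have h5 := Nat.mul_le_mul h2 h3
  have : 0 < 2 ^ (n - 1) := by positivity
  omega

end Cfsg.Agent.Lib.Fusion.SuperTwoModels
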