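import Cfsg.Agent.Lib.Fusion.SuperAbelian
import Cfsg.Agent.Lib.Fusion.MetaTwoFusion
import Cfsg.Agent.Lib.LocalP2.MetaOddFusion
import Cfsg.Agent.Lib.OddLocal.CoprimeOdd
import Cfsg.Agent.Lib.PGroupFrattini
import Cfsg.Agent.Lib.Fusion.SuperTwoModels

/-!
Metacyclic `p`-groups all of whose systems are supersoluble.
-/

set_option autoImplicit false

namespace Cfsg.Agent.Lib.Fusion.SuperMeta

open Cfsg Cfsg.FusionSystem
open scoped commutatorElement

variable {Q : Type*} [Group Q] {p : ℕ}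

/-- Automorphisms act by scalars on an invariant step of order `p`, so their `(p-1)`-st powers and
their commutators are trivial on it. -/
theorem scalar_step [Fact p.Prime] (H : Subgroup (MulAut Q)) {N M : Subgroup Q} [hN : N.Normal]
    (hNi : ∀ α ∈ H, ∀ y ∈ N, α y ∈ N) (hMi : ∀ α ∈ H, ∀ y ∈ M, α y ∈ M) {x : Q} (hxM : x ∈ M)
    (hM : M ≤ N ⊔ Subgroup.zpowers x) (hxp : x ^ p ∈ N) :
    ∀ α ∈ H, ∀ γ ∈ H, ∀ y ∈ M, (α ^ (p - 1) : MulAut Q) y * y⁻¹ ∈ N ∧
      (α * γ * (γ * α)⁻¹ : MulAut Q) y * y⁻¹ ∈ N := by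
  let π := QuotientGroup.mk' N
  have hπ : ∀ y : Q, π y = 1 ↔ y ∈ N := fun y => QuotientGroup.eq_one_iff y
  have hdec : ∀ y ∈ M, ∃ j : ℤ, π y = π x ^ j := by
    intro y hy
    obtain ⟨w, hw, _, ⟨j, rfl⟩, rfl⟩ := Subgroup.mem_sup_of_normal_left.1 (hM hy)
    exact ⟨j, by rw [map_mul, (hπ w).2 hw, one_mul, map_zpow]⟩
  have hwd : ∀ α ∈ H, ∀ u v : Q, π u = π v → π (α u) = π (α v) := by
    intro α hα u v huv
    refine QuotientGroup.eq.2 ?_
    rw [← map_inv, ← map_mul]
    exact hNi α hα _ (QuotientGroup.eq.1 huv)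
  have hp1 : ∀ y ∈ M, π y ^ p = 1 := by
    intro y hy
    obtain ⟨j, hj⟩ := hdec y hy
    rw [hj, ← zpow_natCast, ← zpow_mul, mul_comm, zpow_mul, zpow_natCast, ← map_pow,
      (hπ _).2 hxp, one_zpow]
  have hscalar : ∀ α ∈ H, ∃ a : ℤ, ∀ y ∈ M, π (α y) = π y ^ a := by
    intro α hα
    obtain ⟨a, ha⟩ := hdec _ (hMi α hα x hxM)
    refine ⟨a, fun y hy => ?_⟩
    obtain ⟨j, hj⟩ := hdec y hy
    rw [hwd α hα y (x ^ j) (by rw [hj, map_zpow]), map_zpow α, map_zpow π, ha, hj, ← zpow_mul,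
      ← zpow_mul, mul_comm]
  intro α hα γ hγ y hy
  obtain ⟨a, ha⟩ := hscalar α hα
  refine ⟨?_, ?_⟩
  · have hiter : ∀ (m : ℕ), ∀ z ∈ M, π ((α ^ m : MulAut Q) z) = π z ^ (a ^ m) := by
      intro m
      induction m with
      | zero => intro z _; simp
      | succ m ih =>
        intro z hz
        rw [pow_succ, MulAut.mul_apply, ih _ (hMi α hα z hz), ha z hz, ← zpow_mul, pow_succ']
    rw [← hπ, map_mul, map_inv, mul_inv_eq_one, hiter (p - 1) y hy]
    by_cases hpa : (p : ℤ) ∣ a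
    · have h1 : π (α y) = 1 := by
        obtain ⟨b, rfl⟩ := hpa
        rw [ha y hy, zpow_mul, zpow_natCast, hp1 y hy, one_zpow]
      have h2 := hNi α⁻¹ (inv_mem hα) (α y) ((hπ _).1 h1)
      rw [MulAut.inv_apply_self] at h2
      rw [(hπ y).2 h2, one_zpow]
    · have hm : a ^ (p - 1) ≡ 1 [ZMOD p] := Int.ModEq.pow_card_sub_one_eq_one (Fact.out : p.Prime)
        (((Nat.prime_iff_prime_int.1 (Fact.out : p.Prime)).coprime_iff_not_dvd.2 hpa).symm)
      obtain ⟨c, hc⟩ := hm.symm.dvd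
      rw [show a ^ (p - 1) = (p : ℤ) * c + 1 by rw [← hc]; ring, zpow_add, zpow_mul,
        zpow_natCast, hp1 y hy, one_zpow, one_mul, zpow_one]
  · obtain ⟨b, hb⟩ := hscalar γ hγ
    rw [← hπ, map_mul, map_inv, mul_inv_eq_one]
    obtain ⟨y', hy'e⟩ : ∃ y', y' = ((γ * α)⁻¹ : MulAut Q) y := ⟨_, rfl⟩
    have hy' : y' ∈ M := hy'e ▸ hMi _ (inv_mem (mul_mem hγ hα)) y hy
    rw [MulAut.mul_apply, ← hy'e]
    have hye : y = γ (α y') := by rw [hy'e, ← MulAut.mul_apply, MulAut.apply_inv_self]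
    rw [hye, MulAut.mul_apply, ha _ (hMi γ hγ y' hy'), hb _ hy',
      hb _ (hMi α hα y' hy'), ha _ hy', ← zpow_mul, ← zpow_mul, mul_comm]

/-- An invariant line in the Frattini quotient makes coprime automorphisms abelian of exponent
dividing `p - 1`. -/
theorem abelian_of_line [Fact p.Prime] [Finite Q] (hQ : IsPGroup p Q) (H : Subgroup (MulAut Q))
    (hH : (Nat.card H).Coprime p) {L : Subgroup Q} (hLi : ∀ α : MulAut Q, ∀ y ∈ L, α y ∈ L)
    (hΦL : frattini Q ≤ L) {x y : Q} (hy : y ∈ L) (hL : L ≤ frattini Q ⊔ Subgroup.zpowers y)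
    (hQL : ⊤ ≤ L ⊔ Subgroup.zpowers x) :
    IsMulCommutative H ∧ ∀ h ∈ H, h ^ (p - 1) = 1 := by
  classical
  have := Finite.of_injective (fun f : MulAut Q => (f : Q → Q)) DFunLike.coe_injective
  have hΦi : ∀ α : MulAut Q, ∀ z ∈ frattini Q, α z ∈ frattini Q := fun α z hz =>
    (Subgroup.characteristic_iff_map_eq.1 frattini_characteristic α).le ⟨z, hz, rfl⟩
  haveI hLn : L.Normal := ⟨fun n hn g => hLi (MulAut.conj g) n hn⟩
  have h2 := scalar_step (p := p) H (N := L) (M := ⊤) (fun α _ => hLi α)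
    (fun _ _ _ _ => Subgroup.mem_top _) (Subgroup.mem_top x) hQL
    (hΦL (PGroupFrattini.pow_mem_frattini hQ x))
  have h1 := scalar_step (p := p) H (N := frattini Q) (M := L) (fun α _ => hΦi α)
    (fun α _ => hLi α) hy hL (PGroupFrattini.pow_mem_frattini hQ y)
  let π := QuotientGroup.mk' (frattini Q)
  have hcrit : ∀ δ : H, (∀ z, (δ : MulAut Q) z * z⁻¹ ∈ L) →
      (∀ z ∈ L, (δ : MulAut Q) z * z⁻¹ ∈ frattini Q) → δ = 1 := by
    intro δ htop hbot
    have hwd : ∀ u v : Q, π u = π v → π ((δ : MulAut Q) u) = π ((δ : MulAut Q) v) := by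
      intro u v huv
      refine QuotientGroup.eq.2 ?_
      rw [← map_inv, ← map_mul]
      exact hΦi _ _ (QuotientGroup.eq.1 huv)
    have hfix : ∀ z ∈ L, π ((δ : MulAut Q) z) = π z := fun z hz => by
      rw [← mul_inv_eq_one, ← map_inv, ← map_mul]
      exact (QuotientGroup.eq_one_iff _).2 (hbot z hz)
    -- the powers of `δ` shift by powers
    have hit : ∀ (m : ℕ) (z : Q), π (((δ : MulAut Q) ^ m) z) =
        π ((δ : MulAut Q) z * z⁻¹) ^ m * π z := by
      intro m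
      induction m with
      | zero => intro z; simp
      | succ m ih =>
        intro z
        have he : π (((δ : MulAut Q) z * z⁻¹) ^ m * z) = π ((δ : MulAut Q) z * z⁻¹) ^ m * π z :=
          (map_mul π _ _).trans (congrArg (· * π z) (map_pow π _ m))
        have hd : π ((δ : MulAut Q) z) = π ((δ : MulAut Q) z * z⁻¹) * π z := by
          rw [← map_mul π, inv_mul_cancel_right]
        rw [pow_succ', MulAut.mul_apply, hwd _ (((δ : MulAut Q) z * z⁻¹) ^ m * z)
          ((ih z).trans he.symm), map_mul (δ : MulAut Q), map_pow (δ : MulAut Q), map_mul π, map_pow π,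
          hfix _ (htop z), hd, pow_succ, mul_assoc]
    refine Subtype.ext (MetaTwo.aut_eq_one_of_trivial_mod_frattini hQ
      ((hH.coprime_dvd_left (orderOf_dvd_natCard δ))) (congrArg Subtype.val (pow_orderOf_eq_one δ)) fun z => ?_)
    refine (QuotientGroup.eq_one_iff _).1 ?_
    show π ((δ : MulAut Q) z * z⁻¹) = 1
    refine eq_one_of_pGroup_coprime ⟨1, ?_⟩ (m := orderOf δ) ?_
      (hH.coprime_dvd_left (orderOf_dvd_natCard δ))
    · rw [pow_one, ← map_pow]
      exact (QuotientGroup.eq_one_iff _).2 (PGroupFrattini.pow_mem_frattini hQ _)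
    · have h := hit (orderOf δ) z
      rw [show (δ : MulAut Q) ^ orderOf δ = 1 from congrArg Subtype.val (pow_orderOf_eq_one δ),
        MulAut.one_apply] at h
      exact mul_eq_right.1 h.symm
  refine ⟨⟨⟨fun α γ => ?_⟩⟩, fun h hh => ?_⟩
  · exact mul_inv_eq_one.1 (hcrit (α * γ * (γ * α)⁻¹)
      (fun z => (h2 α α.2 γ γ.2 z (Subgroup.mem_top z)).2) fun z hz => (h1 α α.2 γ γ.2 z hz).2)
  · exact congrArg Subtype.val (hcrit (⟨h, hh⟩ ^ (p - 1))
      (fun z => (h2 h hh h hh z (Subgroup.mem_top z)).1) fun z hz => (h1 h hh h hh z hz).1)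

/-- A subgroup of the cyclic group generated by `a` is generated by a `p`-power of `a`. -/
theorem exists_pow_gen [Fact p.Prime] [Finite Q] (hQ : IsPGroup p Q) {a : Q} {K : Subgroup Q}
    (hK : K ≤ Subgroup.zpowers a) : ∃ j : ℕ, K = Subgroup.zpowers (a ^ p ^ j) := by
  classical
  have hex : ∃ j, a ^ p ^ j ∈ K := (hQ a).imp fun j hj => by rw [hj]; exact one_mem K
  refine ⟨Nat.find hex, le_antisymm (fun z hz => ?_) (Subgroup.zpowers_le.2 (Nat.find_spec hex))⟩
  obtain ⟨i, rfl⟩ := hK hz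
  obtain ⟨l, hl⟩ := hQ a
  obtain ⟨r, -, hr⟩ := (Nat.dvd_prime_pow (Fact.out : p.Prime)).1
    ((Nat.gcd_dvd_right i.natAbs (p ^ l)))
  have hmem : a ^ p ^ r ∈ K := by
    have hb := Int.gcd_eq_gcd_ab i ((p ^ l : ℕ) : ℤ)
    rw [show Int.gcd i ((p ^ l : ℕ) : ℤ) = i.natAbs.gcd (p ^ l) from rfl, hr] at hb
    rw [← zpow_natCast, hb, zpow_add, zpow_mul, zpow_mul, zpow_natCast, hl, one_zpow, mul_one]
    exact zpow_mem hz _
  have hle : Nat.find hex ≤ r := Nat.find_min' hex hmem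
  have hd : (p ^ Nat.find hex : ℕ) ∣ i.natAbs :=
    (pow_dvd_pow p hle).trans (hr ▸ Nat.gcd_dvd_left i.natAbs (p ^ l))
  obtain ⟨c, hc⟩ : ((p ^ Nat.find hex : ℕ) : ℤ) ∣ i := Int.natCast_dvd.2 hd
  exact ⟨c, show (a ^ p ^ Nat.find hex) ^ c = a ^ i by rw [hc, zpow_mul, zpow_natCast]⟩

/-- The line lemma for a non-abelian metacyclic group of odd order. -/
theorem exists_line [Fact p.Prime] [Finite Q] (hQ : IsPGroup p Q) (hp2 : p ≠ 2)
    {a b : Q} (hab : MetaTwo.Pair a b) (hna : commutator Q ≠ ⊥) :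
    ∃ (L : Subgroup Q) (x y : Q), (∀ α : MulAut Q, ∀ z ∈ L, α z ∈ L) ∧ frattini Q ≤ L ∧ y ∈ L ∧
      L ≤ frattini Q ⊔ Subgroup.zpowers y ∧ ⊤ ≤ L ⊔ Subgroup.zpowers x := by
  classical
  have hp : p.Prime := Fact.out
  let D := commutator Q
  haveI : D.Normal := inferInstanceAs (commutator Q).Normal
  obtain ⟨j, hj⟩ := exists_pow_gen hQ (K := D) hab.commutator_le
  have haj : a ^ p ^ j ∈ D := hj ▸ Subgroup.mem_zpowers _
  have hDi : ∀ α : MulAut Q, ∀ z ∈ D, α z ∈ D := fun α z hz =>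
    (Subgroup.characteristic_iff_map_eq.1 (inferInstanceAs (commutator Q).Characteristic) α).le
      ⟨z, hz, rfl⟩
  let π := QuotientGroup.mk' D
  have hπ : ∀ z : Q, π z = 1 ↔ z ∈ D := fun z => QuotientGroup.eq_one_iff z
  have hcommD : ∀ u v : Q, Commute (π u) (π v) := fun u v => by
    rw [Commute, SemiconjBy, ← map_mul, ← map_mul]
    refine (QuotientGroup.eq (s := D)).2 ?_
    rw [show (u * v)⁻¹ * (v * u) = ⁅v⁻¹, u⁻¹⁆ by simp [commutatorElement_def, mul_assoc]]
    exact Subgroup.commutator_mem_commutator (Subgroup.mem_top _) (Subgroup.mem_top _)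
  have hex : ∃ m, ∀ z : Q, z ^ p ^ m ∈ D := by
    obtain ⟨N, hN⟩ := hQ.exists_card_eq
    exact ⟨N, fun z => by rw [← hN, pow_card_eq_one']; exact one_mem _⟩
  obtain ⟨m, hm, hmin⟩ : ∃ m, (∀ z : Q, z ^ p ^ m ∈ D) ∧ ∀ k < m, ¬ ∀ z : Q, z ^ p ^ k ∈ D :=
    ⟨Nat.find hex, Nat.find_spec hex, fun k hk => Nat.find_min hex hk⟩
  have hgenΦ : ∀ (L : Subgroup Q) (y : Q), y ∈ L → (∀ z ∈ L, ∃ i k : ℤ, z = a ^ i * b ^ k ∧
      a ^ i * b ^ k ∈ frattini Q ⊔ Subgroup.zpowers y) → L ≤ frattini Q ⊔ Subgroup.zpowers y :=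
    fun L y _ h z hz => by
      obtain ⟨i, k, rfl, hik⟩ := h z hz
      exact hik
  have hΦpow : ∀ (z : Q) (i : ℤ), (p : ℤ) ∣ i → z ^ i ∈ frattini Q := by
    rintro z _ ⟨c, rfl⟩
    rw [zpow_mul, zpow_natCast]
    exact zpow_mem (PGroupFrattini.pow_mem_frattini hQ z) c
  have hdiv : ∀ {G : Type _} [Group G] (u : G) (i : ℤ), u ^ p = 1 → u ≠ 1 → u ^ i = 1 → (p : ℤ) ∣ i := by
    intro G _ u i hu hu1 hui
    have ho : orderOf u = p := orderOf_eq_prime hu hu1
    rw [← ho]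
    exact orderOf_dvd_iff_zpow_eq_one.2 hui
  have hj1 : a ∉ D → 0 < j := fun h => Nat.pos_of_ne_zero fun h0 => h (by simpa [h0] using haj)
  by_cases hjm : j < m
  · -- `L = {z | z ^ p ^ (m-1) ∈ D}`
    obtain ⟨m', rfl⟩ : ∃ m', m = m' + 1 := ⟨m - 1, by omega⟩
    let θ : Q →* Q ⧸ D := MonoidHom.mk' (fun z => π z ^ p ^ m')
      fun u v => by rw [map_mul, (hcommD u v).mul_pow]
    have hθ : ∀ z, θ z = 1 ↔ z ^ p ^ m' ∈ D := fun z => by
      show π z ^ p ^ m' = 1 ↔ _
      rw [← map_pow, hπ]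
    have hinv : ∀ α : MulAut Q, ∀ z ∈ θ.ker, α z ∈ θ.ker := fun α z hz => by
      rw [MonoidHom.mem_ker, hθ] at hz ⊢
      rw [← map_pow]
      exact hDi α _ hz
    have hpowker : ∀ z, z ^ p ∈ θ.ker := fun z => by
      rw [MonoidHom.mem_ker, hθ, ← pow_mul, ← pow_succ']
      exact hm z
    have hDker : D ≤ θ.ker := fun z hz => (hθ z).2 (pow_mem hz _)
    have hΦ : frattini Q ≤ θ.ker := PGroupFrattini.frattini_le hp _ hDker hpowker
    have haker : θ a = 1 := by
      rw [hθ, show p ^ m' = p ^ j * p ^ (m' - j) by rw [← pow_add]; congr 1; omega, pow_mul]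
      exact pow_mem haj _
    have hb : θ b ≠ 1 := fun h => hmin m' (Nat.lt_succ_self m') fun z => by
      obtain ⟨i, k, rfl⟩ := hab.2 z
      rw [← hθ, map_mul, map_zpow, map_zpow, haker, h, one_zpow, one_zpow, mul_one]
    refine ⟨θ.ker, b, a, hinv, hΦ, haker, hgenΦ _ a haker fun z hz => ?_, fun z _ => ?_⟩
    · obtain ⟨i, k, rfl⟩ := hab.2 z
      refine ⟨i, k, rfl, ?_⟩
      rw [MonoidHom.mem_ker, map_mul, map_zpow, map_zpow, haker, one_zpow, one_mul] at hz
      have hk := hdiv (θ b) k (by rw [← map_pow]; exact hpowker b) hb hz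
      exact mul_mem (Subgroup.mem_sup_right (zpow_mem (Subgroup.mem_zpowers a) i))
        (Subgroup.mem_sup_left (hΦpow b k hk))
    · obtain ⟨i, k, rfl⟩ := hab.2 z
      exact mul_mem (Subgroup.mem_sup_left (zpow_mem haker i))
        (Subgroup.mem_sup_right (zpow_mem (Subgroup.mem_zpowers b) k))
  · -- the kernel of the power map into `D / D^p`
    have hmj : m ≤ j := not_lt.1 hjm
    have hD1 : a ^ p ^ j ≠ 1 := fun h => hna (by
      show D = ⊥
      rw [hj, h, Subgroup.zpowers_one_eq_bot])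
    -- `T = D^p`
    let T : Subgroup Q := Subgroup.closure {t | ∃ c ∈ D, c ^ p = t}
    have hTD : T ≤ D := (Subgroup.closure_le _).2 fun t ⟨c, hc, e⟩ => e ▸ pow_mem hc p
    have hTi : ∀ α : MulAut Q, ∀ z ∈ T, α z ∈ T := by
      intro α z hz
      refine (show T ≤ T.comap α.toMonoidHom from (Subgroup.closure_le _).2 ?_) hz
      rintro _ ⟨c, hc, rfl⟩
      exact Subgroup.subset_closure ⟨α c, hDi α c hc, (map_pow α c p).symm⟩
    haveI : T.Normal := ⟨fun n hn g => hTi (MulAut.conj g) n hn⟩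
    have hTz : T ≤ Subgroup.zpowers (a ^ p ^ (j + 1)) := by
      refine (Subgroup.closure_le _).2 ?_
      rintro _ ⟨c, hc, rfl⟩
      rw [hj] at hc
      obtain ⟨i, rfl⟩ := hc
      refine ⟨i, ?_⟩
      show (a ^ p ^ (j + 1)) ^ i = ((a ^ p ^ j) ^ i) ^ p
      rw [pow_succ, pow_mul, ← zpow_natCast ((a ^ p ^ j) ^ i), ← zpow_mul, mul_comm, zpow_mul,
        zpow_natCast]
    let σ := QuotientGroup.mk' T
    have hσ : ∀ z : Q, σ z = 1 ↔ z ∈ T := fun z => QuotientGroup.eq_one_iff z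
    have hstrict : ∀ (c : Q) (k : ℤ), (p : ℤ) ∣ k → c ≠ 1 → c ∉ Subgroup.zpowers (c ^ k) := by
      rintro c k hk hc ⟨i, hi⟩
      change (c ^ k) ^ i = c at hi
      rw [← zpow_mul] at hi
      have h1 : c ^ (k * i - 1) = 1 := by rw [zpow_sub, hi, zpow_one, mul_inv_cancel]
      obtain ⟨r, hr⟩ := hQ c
      have hpc : (p : ℤ) ∣ orderOf c := by
        obtain ⟨s, -, hs⟩ := (Nat.dvd_prime_pow hp).1 (orderOf_dvd_of_pow_eq_one hr)
        rcases Nat.eq_zero_or_pos s with h0 | h0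
        · exact absurd (orderOf_eq_one_iff.1 (by rw [hs, h0, pow_zero])) hc
        · rw [hs]; exact_mod_cast dvd_pow_self p h0.ne'
      have h2 := hpc.trans (orderOf_dvd_iff_zpow_eq_one.2 h1)
      have h3 : (p : ℤ) ∣ 1 := by
        have h4 := dvd_sub (hk.mul_right i) h2
        rwa [sub_sub_cancel] at h4
      exact hp.ne_one (Nat.dvd_one.1 (by exact_mod_cast h3))
    have hanT : a ^ p ^ j ∉ T := by
      intro h
      have h' := hTz h
      rw [pow_succ, pow_mul, ← zpow_natCast _ p] at h'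
      exact hstrict _ p dvd_rfl hD1 h'
    -- `D` is central of exponent `p` modulo `T`
    have hDp : ∀ z ∈ D, σ z ^ p = 1 := fun z hz => by
      rw [← map_pow, hσ]
      exact Subgroup.subset_closure ⟨z, hz, rfl⟩
    have hDc : ∀ z ∈ D, ∀ u : Q, Commute (σ z) (σ u) := by
      have hW : (D.map σ).Normal := Subgroup.Normal.map inferInstance σ (QuotientGroup.mk'_surjective T)
      have hnil : Group.IsNilpotent (Q ⧸ T) := (hQ.to_quotient T).isNilpotent
      have hne : D.map σ ≠ ⊥ := fun h => hanT ((hσ _).1 (Subgroup.mem_bot.1 (h ▸ ⟨_, haj, rfl⟩)))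
      have hle : D.map σ ≤ Subgroup.zpowers (σ (a ^ p ^ j)) := by
        rw [hj, MonoidHom.map_zpowers]
      have hcard : Nat.card (D.map σ) = p := by
        have h1 : Nat.card (D.map σ) ∣ p := (Subgroup.card_dvd_of_le hle).trans
          (by rw [Nat.card_zpowers]; exact orderOf_dvd_of_pow_eq_one (hDp _ haj))
        exact ((Nat.dvd_prime hp).1 h1).resolve_left fun h => hne (Subgroup.card_eq_one.1 h)
      have hcen : D.map σ ≤ Subgroup.center (Q ⧸ T) := by
        rcases (Nat.dvd_prime hp).1 (hcard ▸ Subgroup.card_dvd_of_le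
          (inf_le_left : D.map σ ⊓ Subgroup.center _ ≤ D.map σ)) with h | h
        · exact absurd (Subgroup.card_eq_one.1 h) (S0065.inf_center_ne_bot hW hne)
        · exact (Subgroup.eq_of_le_of_card_ge inf_le_left (by rw [h, hcard])).ge.trans inf_le_right
      exact fun z hz u => (Subgroup.mem_center_iff.1 (hcen ⟨z, hz, rfl⟩) (σ u)).symm
    have hmpos : 0 < m := Nat.pos_of_ne_zero fun h0 => hna (by
      by_contra hne
      have htop : (⊤ : Subgroup Q) ≤ D := fun z _ => by simpa [h0] using hm z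
      obtain ⟨z, hz, hz1⟩ := (Subgroup.bot_or_exists_ne_one _).resolve_left hne
      haveI : Nontrivial Q := ⟨⟨z, 1, hz1⟩⟩
      haveI : Group.IsNilpotent Q := hQ.isNilpotent
      exact (Group.IsSolvable.commutator_lt_top_of_nontrivial Q).ne (top_le_iff.1 htop))
    have hodd : Odd p := hp.odd_of_ne_two hp2
    have hmul : ∀ u v : Q, σ (u * v) ^ p ^ m = σ u ^ p ^ m * σ v ^ p ^ m := by
      intro u v
      have hwD : ⁅v, u⁆ ∈ D := Subgroup.commutator_mem_commutator (Subgroup.mem_top _) (Subgroup.mem_top _)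
      have h := (OddLocal.mul_pow_of_central_commutator (x := σ u) (y := σ v) (z := σ ⁅v, u⁆)
        (hDc _ hwD u) (hDc _ hwD v)
        (by rw [← map_mul, ← map_mul, ← map_mul]; congr 1; simp [commutatorElement_def, mul_assoc])
        (p ^ m)).2
      obtain ⟨c, hc⟩ : p ∣ (p ^ m).choose 2 := hp.dvd_choose_pow two_ne_zero
        fun h => Nat.not_even_iff_odd.2 (hodd.pow (n := m)) (h ▸ even_two)
      rw [map_mul, h, hc, pow_mul, hDp _ hwD, one_pow, mul_one]
    -- in fact `j = m`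
    obtain rfl : j = m := by
      by_contra hne
      obtain ⟨d, hd, hjd⟩ : ∃ d, 0 < d ∧ j = m + d := ⟨j - m, by omega, by omega⟩
      have h := hj ▸ hm a
      refine hstrict (a ^ p ^ m) ((p ^ d : ℕ) : ℤ) (Int.natCast_dvd_natCast.2 (dvd_pow_self p hd.ne'))
        (fun h1 => hD1 ?_) ?_
      · rw [hjd, pow_add, pow_mul, h1, one_pow]
      · rw [zpow_natCast, ← pow_mul, ← pow_add, ← hjd]
        exact h
    let θ : Q →* Q ⧸ T := MonoidHom.mk' (fun z => σ z ^ p ^ j) hmul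
    have hθ : ∀ z, θ z = σ (z ^ p ^ j) := fun z => (map_pow σ z _).symm
    have hker : ∀ z, z ∈ θ.ker ↔ z ^ p ^ j ∈ T := fun z => by rw [MonoidHom.mem_ker, hθ, hσ]
    have hinv : ∀ α : MulAut Q, ∀ z ∈ θ.ker, α z ∈ θ.ker := fun α z hz => by
      rw [hker] at hz ⊢
      rw [← map_pow]
      exact hTi α _ hz
    have hpowker : ∀ z, z ^ p ∈ θ.ker := fun z => by
      rw [hker, ← pow_mul, mul_comm, pow_mul]
      exact Subgroup.subset_closure ⟨_, hm z, rfl⟩
    have hDker : D ≤ θ.ker := fun z hz => by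
      obtain ⟨j', rfl⟩ : ∃ j', j = j' + 1 := ⟨j - 1, by omega⟩
      rw [hker, pow_succ, pow_mul]
      exact Subgroup.subset_closure ⟨_, pow_mem hz _, rfl⟩
    have hΦ : frattini Q ≤ θ.ker := PGroupFrattini.frattini_le hp _ hDker hpowker
    have ha : θ a ≠ 1 := fun h => hanT ((hker a).1 h)
    have hz' : ∀ z : Q, ∃ e : ℤ, θ z = θ a ^ e := fun z => by
      obtain ⟨e, he⟩ : z ^ p ^ j ∈ Subgroup.zpowers (a ^ p ^ j) := hj ▸ hm z
      exact ⟨e, by rw [hθ, hθ, ← map_zpow σ]; exact congrArg σ he.symm⟩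
    obtain ⟨s, hs⟩ := hz' b
    have hyker : b * a ^ (-s) ∈ θ.ker := by
      rw [MonoidHom.mem_ker, map_mul, map_zpow, hs, zpow_neg, mul_inv_cancel]
    let ψ := QuotientGroup.mk' (frattini Q)
    have hψ : ∀ u v : Q, Commute (ψ u) (ψ v) := fun u v => by
      rw [Commute, SemiconjBy, ← map_mul, ← map_mul]
      refine (QuotientGroup.eq (s := frattini Q)).2 ?_
      rw [show (u * v)⁻¹ * (v * u) = ⁅v⁻¹, u⁻¹⁆ by simp [commutatorElement_def, mul_assoc]]
      exact PGroupFrattini.commutator_le_frattini hQ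
        (Subgroup.commutator_mem_commutator (Subgroup.mem_top _) (Subgroup.mem_top _))
    refine ⟨θ.ker, a, b * a ^ (-s), hinv, hΦ, hyker, fun z hz => ?_, fun z _ => ?_⟩
    · obtain ⟨i, k, rfl⟩ := hab.2 z
      rw [MonoidHom.mem_ker, map_mul, map_zpow, map_zpow, hs, ← zpow_mul, ← zpow_add] at hz
      have hdvd := hdiv (θ a) _ (by rw [← map_pow]; exact hpowker a) ha hz
      refine Subgroup.mem_sup_of_normal_left.2 ⟨a ^ i * b ^ k * ((b * a ^ (-s)) ^ k)⁻¹, ?_, _,
        zpow_mem (Subgroup.mem_zpowers _) k, inv_mul_cancel_right _ _⟩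
      refine (QuotientGroup.eq_one_iff _).1 (?_ : ψ _ = 1)
      rw [map_mul, map_mul, map_inv, map_zpow ψ a, map_zpow ψ b, map_zpow ψ (b * a ^ (-s)),
        map_mul, map_zpow, ((hψ b a).zpow_right (-s)).mul_zpow, mul_inv_rev, ← mul_assoc,
        ← zpow_mul, ← zpow_neg, mul_assoc (ψ a ^ i), ((hψ b a).zpow_zpow k _).eq, ← mul_assoc,
        ← zpow_add, mul_inv_cancel_right, show i + -(-s * k) = i + s * k by ring, ← map_zpow]
      exact (QuotientGroup.eq_one_iff _).2 (hΦpow a _ hdvd)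
    · obtain ⟨e, he⟩ := hz' z
      have hm' : z * (a ^ e)⁻¹ ∈ θ.ker := by
        rw [MonoidHom.mem_ker, map_mul, map_inv, map_zpow, he, mul_inv_cancel]
      have h := mul_mem (Subgroup.mem_sup_left (T := Subgroup.zpowers a) hm')
        (Subgroup.mem_sup_right (S := θ.ker) (zpow_mem (Subgroup.mem_zpowers a) e))
      rwa [inv_mul_cancel_right] at h

/-- A metacyclic commutative group has few elements of order `p`. -/
theorem no_third_factor [Fact p.Prime] {n : ℕ} (hn : 0 < n) {A : Type*} [CommGroup A] [Finite A]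
    (hm : Cfsg.IsMetacyclic A) {H : Type*} [CommGroup H] [Nontrivial H] (hA : IsPGroup p A)
    (f : A ≃* (Multiplicative (ZMod (p ^ n)) × Multiplicative (ZMod (p ^ n))) × H) : False := by
  have hp : p.Prime := Fact.out
  haveI : NeZero (p ^ n) := ⟨(pow_pos hp.pos n).ne'⟩
  obtain ⟨N, _, hNc, hQc⟩ := hm
  let K : Subgroup A := (powMonoidHom p).ker
  have hKp : ∀ x : K, x ^ p = 1 := fun x => Subtype.ext x.2
  have hle : Nat.card K ≤ p * p := by
    classical
    haveI := hNc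
    haveI := hQc
    let π := (QuotientGroup.mk' N).comp K.subtype
    have hcyc : ∀ (C : Type _) [Group C] [IsCyclic C] [Finite C] (W : Subgroup C),
        (∀ x ∈ W, x ^ p = 1) → Nat.card W ≤ p := by
      intro C _ _ _ W hW
      obtain ⟨g, hg⟩ := IsCyclic.exists_generator (α := W)
      rw [← orderOf_eq_card_of_forall_mem_zpowers hg]
      exact Nat.le_of_dvd hp.pos
        (orderOf_dvd_of_pow_eq_one (Subtype.ext (hW (g : C) g.2)))
    have h1 : Nat.card π.range ≤ p := hcyc _ _ fun x ⟨y, hy⟩ => by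
      rw [← hy, ← map_pow, hKp y, map_one]
    have h2 : Nat.card π.ker ≤ p := by
      refine le_of_eq_of_le ?_ (hcyc N (K.subgroupOf N) fun x hx => Subtype.ext hx)
      refine Nat.card_congr
        { toFun := fun y => ⟨⟨y.1.1, (QuotientGroup.eq_one_iff _).1 y.2⟩, y.1.2⟩
          invFun := fun z => ⟨⟨z.1.1, z.2⟩, (QuotientGroup.eq_one_iff _).2 z.1.2⟩
          left_inv := fun y => rfl
          right_inv := fun z => rfl }
    rw [← Subgroup.card_mul_index π.ker, Subgroup.index_ker]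
    exact Nat.mul_le_mul h2 h1
  obtain ⟨n', rfl⟩ : ∃ n', n = n' + 1 := ⟨n - 1, by omega⟩
  let c : Multiplicative (ZMod (p ^ (n' + 1))) := Multiplicative.ofAdd ((p ^ n' : ℕ) : ZMod (p ^ (n' + 1)))
  have hc : c ^ p = 1 := by
    show Multiplicative.ofAdd (p • ((p ^ n' : ℕ) : ZMod (p ^ (n' + 1)))) = 1
    rw [nsmul_eq_mul, ← Nat.cast_mul, ← pow_succ', ZMod.natCast_self, ofAdd_zero]
  have hc1 : c ≠ 1 := fun h => by
    have h2 := (ZMod.natCast_eq_zero_iff (p ^ n') (p ^ (n' + 1))).1 (congrArg Multiplicative.toAdd h :)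
    have := Nat.le_of_dvd (pow_pos hp.pos _) h2
    exact absurd this (not_le.2 (Nat.pow_lt_pow_right hp.one_lt (Nat.lt_succ_self _)))
  obtain ⟨h₀, hh₀⟩ : ∃ h₀ : H, h₀ ≠ 1 := exists_ne 1
  haveI : Finite H := Finite.of_surjective (fun x => (f x).2) fun h =>
    ⟨f.symm (1, h), congrArg Prod.snd (f.apply_symm_apply (1, h))⟩
  obtain ⟨h₁, hh₁, hh₁p⟩ : ∃ h₁ : H, h₁ ≠ 1 ∧ h₁ ^ p = 1 := by
    have hH : IsPGroup p H := hA.of_surjective ((MonoidHom.snd _ H).comp f.toMonoidHom)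
      fun h => ⟨f.symm (1, h), by simp⟩
    obtain ⟨k, hk⟩ := hH.exists_card_eq
    have hk0 : k ≠ 0 := fun h0 => by
      rw [h0, pow_zero] at hk
      exact hh₀ (@Subsingleton.elim _ (Finite.card_le_one_iff_subsingleton.1 hk.le) _ _)
    haveI := Fintype.ofFinite H
    obtain ⟨h₁, hh₁⟩ := exists_prime_orderOf_dvd_card' (G := H) p
      (by rw [hk]; exact dvd_pow_self p hk0)
    exact ⟨h₁, fun h => hp.ne_one (by rw [← hh₁, h, orderOf_one]), hh₁ ▸ pow_orderOf_eq_one h₁⟩
  have hcomm : ∀ t : Fin p × Fin p × Fin p,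
      ((c ^ (t.1 : ℕ), c ^ (t.2.1 : ℕ)), h₁ ^ (t.2.2 : ℕ)) ^ p =
        (1 : (Multiplicative (ZMod (p ^ (n' + 1))) × Multiplicative (ZMod (p ^ (n' + 1)))) × H) := by
    intro t
    rw [Prod.pow_mk, Prod.pow_mk, ← pow_mul, ← pow_mul, ← pow_mul, mul_comm, pow_mul, hc, one_pow,
      mul_comm, pow_mul, hc, one_pow, mul_comm, pow_mul, hh₁p, one_pow]
    rfl
  let g : Fin p × Fin p × Fin p → K := fun t =>
    ⟨f.symm ((c ^ (t.1 : ℕ), c ^ (t.2.1 : ℕ)), h₁ ^ (t.2.2 : ℕ)), by
      show (f.symm _) ^ p = 1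
      rw [← map_pow, hcomm, map_one]⟩
  have hpow : ∀ u v : Fin p, c ^ (u : ℕ) = c ^ (v : ℕ) → u = v := by
    intro u v huv
    have ho := orderOf_eq_prime hc hc1
    exact Fin.ext (pow_injOn_Iio_orderOf (by rw [ho]; exact u.2) (by rw [ho]; exact v.2) huv)
  have hpow' : ∀ u v : Fin p, h₁ ^ (u : ℕ) = h₁ ^ (v : ℕ) → u = v := by
    intro u v huv
    have ho := orderOf_eq_prime hh₁p hh₁
    exact Fin.ext (pow_injOn_Iio_orderOf (by rw [ho]; exact u.2) (by rw [ho]; exact v.2) huv)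
  have hg : Function.Injective g := fun t t' ht => by
    have h := f.symm.injective (congrArg Subtype.val ht :)
    simp only [Prod.mk.injEq] at h
    exact Prod.ext (hpow _ _ h.1.1)
      (Prod.ext (hpow _ _ h.1.2) (hpow' _ _ h.2))
  have h3 := Nat.card_le_card_of_injective g hg
  rw [Nat.card_prod, Nat.card_prod, Nat.card_fin] at h3
  have h4 : p * (p * p) ≤ 1 * (p * p) := by rw [one_mul]; exact h3.trans hle
  exact absurd (Nat.le_of_mul_le_mul_right h4 (by have := hp.pos; positivity)) (not_le.2 hp.one_lt)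

variable {Ω : Type*} [Group Ω] {S : Subgroup Ω}

theorem main [Finite S] (p : ℕ) [Fact p.Prime] (hS : IsPGroup p S) (hm : Cfsg.IsMetacyclic S) :
    (∀ F : FusionSystem S, F.IsSaturated p → (∃ (m : ℕ) (c : Fin (m + 1) → Subgroup Ω),
      c 0 = ⊥ ∧ c (Fin.last m) = S ∧ (∀ i : Fin (m + 1), F.StronglyClosed (c i)) ∧
        ∀ i : Fin m, c i.castSucc ≤ c i.succ ∧ ∃ x ∈ S, c i.succ = c i.castSucc ⊔ Subgroup.zpowers x)) ↔
      ¬ ((∃ n : ℕ, 0 < n ∧ Nonempty (↥S ≃* Multiplicative (ZMod (p ^ n)) × Multiplicative (ZMod (p ^ n)))) ∨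
        (p = 2 ∧ ((∃ n : ℕ, 2 ≤ n ∧ Nonempty (↥S ≃* DihedralGroup n)) ∨ Cfsg.IsQuasiDihedral ↥S ∨
          (∃ n : ℕ, 2 ≤ n ∧ Nonempty (↥S ≃* QuaternionGroup n))))) := by
  classical
  have hp : p.Prime := Fact.out
  constructor
  · intro h hbad
    have hhom : (∃ n : ℕ, 0 < n ∧ Nonempty (↥S ≃* Multiplicative (ZMod (p ^ n)) × Multiplicative (ZMod (p ^ n)))) → False := by
      rintro ⟨n, hn, ⟨f⟩⟩
      have hab : IsMulCommutative S := ⟨⟨fun x y => f.injective (by rw [map_mul, map_mul, mul_comm])⟩⟩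
      exact (SuperAbelian.slim_iff hS hab).1 h
        ⟨n, PUnit.{1}, inferInstance, hn, ⟨f.trans MulEquiv.prodUnique.symm⟩⟩
    rcases hbad with hbad | ⟨rfl, hbad⟩
    · exact hhom hbad
    obtain ⟨hn, hA⟩ := (Supersoluble.supersoluble_iff hS).1 h
    have hin := SuperTwoModels.eq_inner hS hn hA
    obtain ⟨k, hk⟩ := hS.exists_card_eq
    rcases hbad with ⟨n, hn2, ⟨e⟩⟩ | hqd | ⟨n, hn2, ⟨e⟩⟩
    · have hc : 2 * n = 2 ^ k := by rw [← hk, Nat.card_congr e.toEquiv, DihedralGroup.nat_card]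
      obtain ⟨i, -, rfl⟩ := (Nat.dvd_prime_pow Nat.prime_two).1 (hc ▸ Dvd.intro_left 2 rfl)
      obtain ⟨i, rfl⟩ : ∃ i', i = i' + 1 := ⟨i - 1, by rcases i with _ | i <;> simp_all⟩
      rcases i with _ | i
      · haveI : IsKleinFour (DihedralGroup (2 ^ (0 + 1))) :=
          ⟨by rw [DihedralGroup.nat_card]; rfl, by rw [DihedralGroup.exponent]; rfl⟩
        haveI : IsKleinFour (Multiplicative (ZMod (2 ^ 1)) × Multiplicative (ZMod (2 ^ 1))) :=
          ⟨by simp, by rw [Monoid.exponent_prod, Monoid.exponent_multiplicative, ZMod.exponent]; rfl⟩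
        obtain ⟨g⟩ := IsKleinFour.nonempty_mulEquiv (G₁ := DihedralGroup (2 ^ (0 + 1)))
          (G₂ := Multiplicative (ZMod (2 ^ 1)) × Multiplicative (ZMod (2 ^ 1)))
        exact hhom ⟨1, one_pos, ⟨e.trans g⟩⟩
      · exact SuperTwoModels.not_inner_dihedral hS i e hin
    · exact SuperTwoModels.not_inner_quasiDihedral hS hqd hin
    · haveI : NeZero n := ⟨by omega⟩
      have hc : 4 * n = 2 ^ k := by
        rw [← hk, Nat.card_congr e.toEquiv, Nat.card_eq_fintype_card, QuaternionGroup.card]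
      obtain ⟨i, -, rfl⟩ := (Nat.dvd_prime_pow Nat.prime_two).1 (hc ▸ Dvd.intro_left 4 rfl)
      obtain ⟨i, rfl⟩ : ∃ i', i = i' + 1 := ⟨i - 1, by rcases i with _ | i <;> simp_all⟩
      exact SuperTwoModels.not_inner_quaternion hS i e hin
  · intro hno
    simp only [not_or, not_and, not_exists] at hno
    obtain ⟨hhom, htwo⟩ := hno
    by_cases hab : IsMulCommutative S
    · refine (SuperAbelian.slim_iff hS hab).2 ?_
      rintro ⟨n, H, _, hn, ⟨f⟩⟩
      letI : CommGroup S := { (inferInstance : Group S) with mul_comm := hab.is_comm.comm }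
      rcases subsingleton_or_nontrivial H with hH | hH
      · haveI : Unique H := uniqueOfSubsingleton 1
        exact hhom n hn ⟨f.trans MulEquiv.prodUnique⟩
      · exact no_third_factor hn hm hS f
    have hnc : commutator S ≠ ⊥ := fun h => hab ⟨⟨fun x y => by
      rw [← commutatorElement_eq_one_iff_mul_comm, ← Subgroup.mem_bot, ← h]
      exact Subgroup.commutator_mem_commutator (Subgroup.mem_top _) (Subgroup.mem_top _)⟩⟩
    refine (Supersoluble.supersoluble_iff hS).2 ?_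
    by_cases hp2 : p = 2
    · subst hp2
      have hne : ¬ MetaTwo.Exceptional S := by
        rintro (⟨m, ⟨e⟩⟩ | ⟨m, ⟨e⟩⟩ | hqd)
        · rcases Nat.lt_or_ge m 2 with hlt | hge
          · rcases m with _ | _ | m
            · haveI : Finite (DihedralGroup 0) := Finite.of_equiv _ e.toEquiv
              exact not_finite (DihedralGroup 0)
            · exact hab ⟨⟨fun x y => e.injective (by
                rw [map_mul, map_mul]
                generalize e x = u
                generalize e y = v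
                revert u v
                decide)⟩⟩
            · omega
          · exact (htwo rfl).1 m hge ⟨e⟩
        · rcases Nat.lt_or_ge m 2 with hlt | hge
          · rcases m with _ | _ | m
            · haveI : Finite (QuaternionGroup 0) := Finite.of_equiv _ e.toEquiv
              haveI : Infinite (QuaternionGroup 0) := Infinite.of_injective
                (fun i : ℤ => QuaternionGroup.a i) fun _ _ h => QuaternionGroup.a.inj h
              exact not_finite (QuaternionGroup 0)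
            · exact hab ⟨⟨fun x y => e.injective (by
                rw [map_mul, map_mul]
                generalize e x = u
                generalize e y = v
                revert u v
                decide)⟩⟩
            · omega
          · exact (htwo rfl).2.2 m hge ⟨e⟩
        · exact (htwo rfl).2.1 hqd
      refine ⟨fun F hF => isNormal_of_metacyclic hS hF stronglyClosed_self hm hne, fun H hH => ?_⟩
      have := finite_mulAut (S := S) (P := S) le_rfl
      have hA : IsPGroup 2 (MulAut S) := isPGroup_mulAut_of_metacyclic hS hm hne (by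
        rintro ⟨n, k, ⟨e⟩⟩
        exact hab ⟨⟨fun x y => e.injective (by rw [map_mul, map_mul, mul_comm])⟩⟩)
      have h1 : ∀ h ∈ H, h = 1 := fun h hh => congrArg Subtype.val
        (eq_one_of_pGroup_coprime (m := Nat.card H) (hA.to_subgroup H ⟨h, hh⟩) pow_card_eq_one' hH)
      exact ⟨⟨⟨fun a b => by
        rw [show a = 1 from Subtype.ext (h1 a a.2), one_mul, mul_one]⟩⟩,
        fun h hh => by rw [h1 h hh, one_pow]⟩
    · obtain ⟨a, b, hpair⟩ := MetaTwo.exists_pair hm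
      obtain ⟨L, x, y, hLi, hΦL, hy, hL, hQL⟩ := exists_line hS hp2 hpair hnc
      exact ⟨fun F hF => LocalP2.MetaOdd.isNormal_of_metacyclic_odd hS hF stronglyClosed_self hp2 hm,
        fun H hH => abelian_of_line hS H hH hLi hΦL hy hL hQL⟩

end Cfsg.Agent.Lib.Fusion.SuperMeta
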