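import Cfsg.Agent.Lib.Fusion.Sylow
import Cfsg.Agent.Lib.Fusion.GroupSylow

/-!
A `p`-subgroup inside `S N` is moved into the Sylow subgroup `S` by an element of the normal
subgroup `N`.
-/

set_option autoImplicit false

namespace Cfsg.Agent.Lib.Fusion

open Cfsg

theorem exists_mem_conj_into_sylow {G : Type*} [Group G] [Finite G] {p : ℕ} [Fact p.Prime]
    (S : Sylow p G) (N : Subgroup G) [N.Normal] {Q : Subgroup G} (hQ : IsPGroup p Q)
    (hle : Q ≤ (S : Subgroup G) ⊔ N) : ∃ n ∈ N, ∀ q ∈ Q, n * q * n⁻¹ ∈ (S : Subgroup G) := by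
  have hsyl : IsSylowIn p (S : Subgroup G) ((S : Subgroup G) ⊔ N) :=
    ⟨le_sup_left, S.2, fun h => S.not_dvd_index
      (h.trans ⟨_, (Subgroup.relIndex_mul_index (le_sup_left : (S : Subgroup G) ≤ _ ⊔ N)).symm⟩)⟩
  obtain ⟨m, hm, hmQ⟩ := hsyl.exists_conj_le hle hQ
  obtain ⟨s, hs, n, hn, rfl⟩ := Subgroup.mem_sup_of_normal_right.1 hm
  refine ⟨n, hn, fun q hq => ?_⟩
  have h := S.mul_mem (S.mul_mem (S.inv_mem hs) (hmQ q hq)) hs
  simpa [mul_assoc] using h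

end Cfsg.Agent.Lib.Fusion
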