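import Cfsg.Agent.Lib.Fusion.Morphism

/-!
Transport of fusion systems and of their normal subsystems along an isomorphism of the underlying groups.
-/

set_option autoImplicit false

namespace Cfsg.Agent.Lib.Fusion

open Cfsg Cfsg.FusionSystem

variable {Ω : Type*} [Group Ω] {S : Subgroup Ω} {Ω' : Type*} [Group Ω'] {S' : Subgroup Ω'}

/-- `φ'` corresponds to `φ` under `e`. -/
def Corr (e : S ≃* S') {P : Subgroup Ω} (φ : P →* Ω) {P' : Subgroup Ω'} (φ' : P' →* Ω') : Prop :=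
  ∀ y : P', ∃ (x s : S) (hx : (x : Ω) ∈ P), (e x : Ω') = y ∧ (s : Ω) = φ ⟨x, hx⟩ ∧ φ' y = e s

/-- Every map of `F` gives all corresponding maps to `F'`. -/
def Fwd (e : S ≃* S') (F : FusionSystem S) (F' : FusionSystem S') : Prop :=
  ∀ (P : Subgroup Ω) (φ : P →* Ω), φ ∈ F.Hom P →
    ∀ (P' : Subgroup Ω') (φ' : P' →* Ω'), P' ≤ S' → Corr e φ φ' → φ' ∈ F'.Hom P'

/-- `e` is an isomorphism of the systems. -/
def SysIso (e : S ≃* S') (F : FusionSystem S) (F' : FusionSystem S') : Prop :=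
  Fwd e F F' ∧ Fwd e.symm F' F

theorem SysIso.symm {e : S ≃* S'} {F : FusionSystem S} {F' : FusionSystem S'} (h : SysIso e F F') :
    SysIso e.symm F' F :=
  ⟨h.2, by rw [MulEquiv.symm_symm]; exact h.1⟩

/-- A corresponding map exists on every subgroup carried into the source. -/
theorem exists_corr (e : S ≃* S') {P : Subgroup Ω} {φ : P →* Ω} (hφ : ∀ x, φ x ∈ S)
    {P' : Subgroup Ω'} (hP' : P' ≤ S') (h : ∀ y : P', (e.symm ⟨y, hP' y.2⟩ : Ω) ∈ P) :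
    ∃ φ' : P' →* Ω', Corr e φ φ' := by
  let a : P' →* P := (S.subtype.comp (e.symm.toMonoidHom.comp (Subgroup.inclusion hP'))).codRestrict P h
  let φ' : P' →* Ω' := S'.subtype.comp (e.toMonoidHom.comp ((φ.codRestrict S hφ).comp a))
  exact ⟨φ', fun y => ⟨e.symm ⟨y, hP' y.2⟩, ⟨φ (a y), hφ _⟩, h y, by simp, rfl, rfl⟩⟩

theorem Corr.val_eq {e : S ≃* S'} {P : Subgroup Ω} {φ : P →* Ω} {P' : Subgroup Ω'} {φ' : P' →* Ω'}
    (h : Corr e φ φ') {y : P'} {x : S} (hx : (x : Ω) ∈ P) (hxy : (e x : Ω') = y) (hs : φ ⟨x, hx⟩ ∈ S) :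
    φ' y = e ⟨φ ⟨x, hx⟩, hs⟩ := by
  obtain ⟨x', s, hx', h1, h2, h3⟩ := h y
  have hxx : x' = x := e.injective (Subtype.ext (h1.trans hxy.symm))
  subst hxx
  rw [h3]
  exact congrArg (fun t : S => (e t : Ω')) (Subtype.ext h2)

variable {e : S ≃* S'} {F : FusionSystem S} {F' : FusionSystem S'} {p : ℕ}

/-- The system over the image of `T` corresponding to a system over `T ≤ S`. -/
def pushSystem (e : S ≃* S') {T : Subgroup Ω} (E : FusionSystem T) (hT : T ≤ S) :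
    FusionSystem (imageAlong (S'.subtype.comp e.toMonoidHom) T) where
  Hom P' := {φ' | P' ≤ imageAlong (S'.subtype.comp e.toMonoidHom) T ∧
    ∃ (P : Subgroup Ω) (φ : P →* Ω), φ ∈ E.Hom P ∧ Corr e φ φ'}
  le_of_mem := by
    rintro P' φ' ⟨hP', P, φ, hφ, h⟩
    refine ⟨hP', fun y => ?_⟩
    obtain ⟨x, s, hx, -, h2, h3⟩ := h y
    exact ⟨s, show (s : Ω) ∈ T by rw [h2]; exact val_mem hφ _, h3.symm⟩
  injective_of_mem := by
    rintro P' φ' ⟨-, P, φ, hφ, h⟩ a b hab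
    obtain ⟨xa, sa, hxa, ha1, ha2, ha3⟩ := h a
    obtain ⟨xb, sb, hxb, hb1, hb2, hb3⟩ := h b
    have hs : sa = sb := e.injective (Subtype.ext (by rw [← ha3, ← hb3, hab]))
    have hφ' : φ ⟨xa, hxa⟩ = φ ⟨xb, hxb⟩ := by rw [← ha2, ← hb2, hs]
    have hx : xa = xb := Subtype.ext (congrArg (fun z : P => (z : Ω)) (E.injective_of_mem hφ hφ'))
    exact Subtype.ext (by rw [← ha1, ← hb1, hx])
  conj_mem := by
    intro P' g hP' hg
    obtain ⟨g₀, hg₀, rfl⟩ := hg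
    refine ⟨hP', T, _, E.conj_mem le_rfl hg₀, fun y => ?_⟩
    obtain ⟨x, hx, hxy⟩ := hP' y.2
    refine ⟨x, g₀ * x * g₀⁻¹, hx, hxy, rfl, ?_⟩
    show ((S'.subtype.comp e.toMonoidHom) g₀) * (y : Ω') * ((S'.subtype.comp e.toMonoidHom) g₀)⁻¹ = _
    rw [← hxy]
    simp
  comp_mem := by
    rintro P' Q' φ' ψ' ⟨hP', P, φ, hφ, hφc⟩ ⟨hQ', Q, ψ, hψ, hψc⟩ h
    set P₀ := P ⊓ imageAlong (S.subtype.comp e.symm.toMonoidHom) P'
    have hval : ∀ x : P₀, φ ⟨(x : Ω), x.2.1⟩ ∈ Q := by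
      rintro ⟨x, hxP, z, hz, hzx⟩
      have hzx' : (e.symm z : Ω) = x := hzx
      have hxS : x ∈ S := hzx' ▸ (e.symm z).2
      have he : (e ⟨x, hxS⟩ : Ω') = (z : Ω') := by
        rw [show (⟨x, hxS⟩ : S) = e.symm z from Subtype.ext hzx'.symm, MulEquiv.apply_symm_apply]
      have hv := hφc.val_eq (y := ⟨z, hz⟩) (x := ⟨x, hxS⟩) hxP he (hT (val_mem hφ _))
      obtain ⟨x', s, hx', h1, h2, h3⟩ := hψc ⟨φ' ⟨z, hz⟩, h _⟩
      have : x' = ⟨φ ⟨x, hxP⟩, hT (val_mem hφ _)⟩ := e.injective (Subtype.ext (h1.trans hv))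
      subst this
      exact hx'
    refine ⟨hP', P₀, _, E.comp_mem (restrict_mem inf_le_left hφ) hψ hval, fun y => ?_⟩
    obtain ⟨x, s, hx, h1, h2, h3⟩ := hφc y
    obtain ⟨x', s', hx', h1', h2', h3'⟩ := hψc ⟨φ' y, h y⟩
    have hss : x' = s := e.injective (Subtype.ext (h1'.trans h3))
    subst hss
    have hxP₀ : (x : Ω) ∈ P₀ := by
      refine ⟨hx, e x, ?_, ?_⟩
      · show (e x : Ω') ∈ P'; rw [h1]; exact y.2
      · show ((e.symm (e x) : S) : Ω) = x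
        rw [MulEquiv.symm_apply_apply]
    refine ⟨x, s', hxP₀, h1, ?_, h3'⟩
    rw [h2']
    exact congrArg ψ (Subtype.ext h2)
  inv_mem := by
    rintro P' φ' ⟨hP', P, φ, hφ, hc⟩
    obtain ⟨χ, hχ, hχe⟩ := E.inv_mem hφ
    have hr : φ'.range ≤ S' := by
      rintro _ ⟨y, rfl⟩
      obtain ⟨-, s, -, -, -, h3⟩ := hc y
      exact h3 ▸ (e s).2
    obtain ⟨χ', hχ'⟩ := exists_corr e (fun x => hT (val_mem hχ x)) hr (by
      rintro ⟨_, y, rfl⟩
      obtain ⟨x, s, hx, -, h2, h3⟩ := hc y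
      refine ⟨⟨x, hx⟩, ?_⟩
      rw [← h2]
      refine congrArg (fun t : S => (t : Ω)) ?_
      rw [MulEquiv.eq_symm_apply]
      exact Subtype.ext h3.symm)
    have hrT : φ'.range ≤ imageAlong (S'.subtype.comp e.toMonoidHom) T := by
      rintro _ ⟨y, rfl⟩
      obtain ⟨x, s, hx, -, h2, h3⟩ := hc y
      exact ⟨s, show (s : Ω) ∈ T by rw [h2]; exact val_mem hφ _, h3.symm⟩
    refine ⟨χ', ⟨hrT, φ.range, χ, hχ, hχ'⟩, fun y => ?_⟩
    obtain ⟨x, s, hx, h1, h2, h3⟩ := hc y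
    have hs : (s : Ω) ∈ φ.range := ⟨⟨x, hx⟩, h2.symm⟩
    rw [hχ'.val_eq (y := ⟨φ' y, y, rfl⟩) (x := s) hs h3.symm (hT (val_mem hχ _))]
    rw [← h1]
    refine congrArg (fun t : S => (e t : Ω')) (Subtype.ext ?_)
    show χ ⟨(s : Ω), hs⟩ = (x : Ω)
    rw [show (⟨(s : Ω), hs⟩ : φ.range) = ⟨φ ⟨x, hx⟩, ⟨_, rfl⟩⟩ from Subtype.ext h2]
    exact hχe ⟨x, hx⟩

variable {T : Subgroup Ω} {E : FusionSystem T}

theorem imageAlong_inj_mem {x : S} (h : (e x : Ω') ∈ imageAlong (S'.subtype.comp e.toMonoidHom) T) :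
    (x : Ω) ∈ T := by
  obtain ⟨z, hz, hzx⟩ := h
  rwa [show x = z from e.injective (Subtype.ext hzx.symm)]

/-- An automorphism of the image of `T` as one of `T`. -/
theorem exists_pull_aut (hT : T ≤ S) (α' : MulAut (imageAlong (S'.subtype.comp e.toMonoidHom) T)) :
    ∃ α : MulAut T, ∀ (t : T) (h : (e ⟨t, hT t.2⟩ : Ω') ∈ imageAlong (S'.subtype.comp e.toMonoidHom) T),
      (α' ⟨_, h⟩ : Ω') = e ⟨α t, hT (α t).2⟩ := by
  let g : T →* ↥(imageAlong (S'.subtype.comp e.toMonoidHom) T) := (S'.subtype.comp (e.toMonoidHom.comp (Subgroup.inclusion hT))).codRestrict _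
    fun t => ⟨⟨t, hT t.2⟩, t.2, rfl⟩
  have hg : Function.Bijective g := by
    constructor
    · intro a b hab
      have := congrArg Subtype.val hab
      exact Subgroup.inclusion_injective hT (e.injective (Subtype.ext this))
    · rintro ⟨_, x, hx, rfl⟩
      exact ⟨⟨x, hx⟩, rfl⟩
  let g' := MulEquiv.ofBijective g hg
  refine ⟨(g'.trans α').trans g'.symm, fun t h => ?_⟩
  show _ = ((g' (g'.symm (α' (g' t)))) : Ω')
  rw [MulEquiv.apply_symm_apply]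
  rfl

/-- Transport of normal subsystems. -/
theorem pushSystem_isNormalIn [Finite S] [Fact p.Prime] (hS : IsPGroup p S) (hiso : SysIso e F F')
    (hF' : F'.IsSaturated p) (hE : E.IsNormalIn F p) :
    ∃ hT : T ≤ S, (pushSystem e E hT).IsNormalIn F' p := by
  obtain ⟨⟨hEs, hFs, hsub, hsc, hinv, hfr⟩, hext⟩ := hE
  refine ⟨hsc.1, ?_⟩
  have hT := hsc.1
  haveI : Finite T := finite_of_le hT
  set θ := S'.subtype.comp e.toMonoidHom with hθ
  set T' := imageAlong θ T with hT'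
  have hT'S : T' ≤ S' := by
    rintro _ ⟨x, -, rfl⟩; exact (e x).2
  have hpull : ∀ {P' : Subgroup Ω'} {φ' : P' →* Ω'}, φ' ∈ F'.Hom P' →
      ∃ φ ∈ F.Hom (imageAlong (S.subtype.comp e.symm.toMonoidHom) P'), Corr e φ φ' := by
    intro P' φ' hφ'
    set P := imageAlong (S.subtype.comp e.symm.toMonoidHom) P'
    have hP : P ≤ S := by rintro _ ⟨x, -, rfl⟩; exact (e.symm x).2
    obtain ⟨φ, hφ⟩ := exists_corr e.symm (val_mem hφ') hP (by
      rintro ⟨_, z, hz, rfl⟩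
      show ((e.symm.symm (e.symm z) : S') : Ω') ∈ P'
      rw [MulEquiv.symm_symm, MulEquiv.apply_symm_apply]
      exact hz)
    refine ⟨φ, hiso.2 P' φ' hφ' P φ hP hφ, fun y => ?_⟩
    have hyS : (y : Ω') ∈ S' := src_le hφ' y.2
    have hxP : (e.symm ⟨y, hyS⟩ : Ω) ∈ P := ⟨⟨y, hyS⟩, y.2, rfl⟩
    have hv := hφ.val_eq (y := ⟨(e.symm ⟨(y : Ω'), hyS⟩ : Ω), hxP⟩) (x := ⟨(y : Ω'), hyS⟩) y.2 rfl (val_mem hφ' _)
    refine ⟨e.symm ⟨y, hyS⟩, e.symm ⟨φ' y, val_mem hφ' y⟩, hxP, by simp, ?_, by simp⟩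
    rw [hv]
  -- saturation
  have hsat : (pushSystem e E hT).IsSaturated p := by
    let θT : T →* Ω' := θ.comp (Subgroup.inclusion hT)
    have hinj : Function.Injective θT := fun a b hab =>
      Subgroup.inclusion_injective hT (e.injective (Subtype.ext hab))
    have hrange : θT.range = T' := by
      ext y
      constructor
      · rintro ⟨t, rfl⟩; exact ⟨⟨t, hT t.2⟩, t.2, rfl⟩
      · rintro ⟨x, hx, rfl⟩; exact ⟨⟨x, hx⟩, rfl⟩
    refine saturated_of_surjectiveMorphism (F := E) (θ := θT) (hS.to_le hT) hEs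
      ⟨⟨fun t => ⟨⟨t, hT t.2⟩, t.2, rfl⟩, fun P φ hφ => ?_⟩, hrange, fun P' hP' φ' hφ' => ?_⟩
    · have hP : P ≤ T := src_le hφ
      have him : imageAlong θT P ≤ S' := by rintro _ ⟨x, -, rfl⟩; exact (e _).2
      obtain ⟨φ', hφ'⟩ := exists_corr e (fun x => hT (val_mem hφ x)) him (by
        rintro ⟨_, x, hx, rfl⟩
        show ((e.symm (e ⟨(x : Ω), hT x.2⟩) : S) : Ω) ∈ P
        rw [MulEquiv.symm_apply_apply]
        exact hx)
      refine ⟨φ', ⟨fun y hy => ?_, P, φ, hφ, hφ'⟩, hP, val_mem hφ,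
        fun x => ⟨⟨x, hP x.2⟩, x.2, rfl⟩, fun x => ?_⟩
      · obtain ⟨t, -, rfl⟩ := hy; exact ⟨⟨t, hT t.2⟩, t.2, rfl⟩
      · exact hφ'.val_eq (x := ⟨(x : Ω), hT (hP x.2)⟩) x.2 rfl (hT (val_mem hφ _))
    · obtain ⟨hP'T, P, φ, hφ, hc⟩ := hφ'
      have hle : preimageAlong θT P' ≤ P := by
        rintro _ ⟨t, ht, rfl⟩
        obtain ⟨x', s, hx', h1, -, -⟩ := hc ⟨θT t, ht⟩
        have : x' = ⟨(t : Ω), hT t.2⟩ := e.injective (Subtype.ext h1)
        subst this; exact hx'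
      refine ⟨_, restrict_mem hle hφ, preimageAlong_le θT P', fun x => val_mem hφ _,
        fun x => map_mem_of_preimage x, fun x => ?_⟩
      exact hc.val_eq (x := ⟨(x : Ω), hT (preimageAlong_le θT P' x.2)⟩) (hle x.2) rfl (hT (val_mem hφ _))
  -- subsystem
  have hsub' : (pushSystem e E hT).IsSubsystemOf F' := by
    rintro P' φ' ⟨hP', P, φ, hφ, hc⟩
    exact hiso.1 P φ (hsub P hφ) P' φ' (hP'.trans hT'S) hc
  have hautPull : ∀ α' ∈ F'.autGroup T', ∀ α : MulAut T,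
      (∀ (t : T) (h : (e ⟨t, hT t.2⟩ : Ω') ∈ T'), (α' ⟨_, h⟩ : Ω') = e ⟨α t, hT (α t).2⟩) →
      α ∈ F.autGroup T := by
    intro α' hα' α hα
    refine (mem_autGroup hT).2 (hiso.2 _ _ ((mem_autGroup hT'S).1 hα') T _ hT fun t => ?_)
    have hmem : (e ⟨t, hT t.2⟩ : Ω') ∈ T' := ⟨⟨t, hT t.2⟩, t.2, rfl⟩
    refine ⟨e ⟨t, hT t.2⟩, e ⟨α t, hT (α t).2⟩, hmem, by simp, (hα t hmem).symm, by simp⟩
  refine ⟨⟨hsat, hF', hsub', ⟨hT'S, ?_⟩, ?_, ?_⟩, ?_⟩
  · intro R' hR' φ' hφ' y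
    obtain ⟨φ, hφ, hc⟩ := hpull hφ'
    obtain ⟨x, s, hx, h1, h2, h3⟩ := hc y
    have hxT : (x : Ω) ∈ T := imageAlong_inj_mem (by rw [h1]; exact hR' y.2)
    refine ⟨s, ?_, h3.symm⟩
    show (s : Ω) ∈ T
    rw [h2]
    exact map_mem_of_stronglyClosed hsc hφ _ hxT
  · rintro P' hP'T φ' ⟨-, P, φ, hφ, hc⟩ α' hα'
    obtain ⟨α, hα⟩ := exists_pull_aut (e := e) hT α'
    obtain ⟨χ, hχ, hχe⟩ := hinv P (src_le hφ) φ hφ α (hautPull α' hα' α hα)
    set Q' := (P'.subgroupOf T').map (T'.subtype.comp α'.toMonoidHom)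
    have hQ'T : Q' ≤ T' := by rintro _ ⟨x, -, rfl⟩; exact (α' x).2
    have hkey : ∀ (t : T') (ht : (t : Ω') ∈ P'), ∃ (x : T) (hxP : (x : Ω) ∈ P),
        (e ⟨x, hT x.2⟩ : Ω') = t ∧ (α' t : Ω') = e ⟨α x, hT (α x).2⟩ := by
      intro t ht
      obtain ⟨x, s, hx, h1, h2, h3⟩ := hc ⟨t, ht⟩
      refine ⟨⟨x, src_le hφ hx⟩, hx, h1, ?_⟩
      have := hα ⟨x, src_le hφ hx⟩ (h1 ▸ t.2)
      rw [← this]
      exact congrArg (fun z : T' => (α' z : Ω')) (Subtype.ext h1.symm)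
    obtain ⟨χ', hχ'⟩ := exists_corr e (fun x => hT (val_mem hχ x)) (hQ'T.trans hT'S) (by
      rintro ⟨_, t, ht, rfl⟩
      obtain ⟨x, hxP, h1, h2⟩ := hkey t ht
      refine ⟨x, hxP, ?_⟩
      refine congrArg (fun z : S => (z : Ω)) (a₁ := ⟨α x, hT (α x).2⟩) ?_
      rw [MulEquiv.eq_symm_apply]
      exact Subtype.ext h2.symm)
    refine ⟨χ', ⟨hQ'T, _, χ, hχ, hχ'⟩, fun y hy hαy => ?_⟩
    obtain ⟨x, hxP, h1, h2⟩ := hkey ⟨y, hP'T y.2⟩ y.2
    have hmemχ : (α x : Ω) ∈ (P.subgroupOf T).map (T.subtype.comp α.toMonoidHom) := ⟨x, hxP, rfl⟩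
    rw [hχ'.val_eq (x := ⟨(α x : Ω), hT (α x).2⟩) hmemχ h2.symm (hT (val_mem hχ _))]
    have hfx := hχe ⟨(x : Ω), hxP⟩ (val_mem hφ _) hmemχ
    have hv := hc.val_eq (y := y) (x := ⟨(x : Ω), hT x.2⟩) hxP h1 (hT (val_mem hφ _))
    have hmem2 : (e ⟨φ ⟨x, hxP⟩, hT (val_mem hφ _)⟩ : Ω') ∈ T' := hv ▸ hy
    have h4 := hα ⟨φ ⟨x, hxP⟩, val_mem hφ _⟩ hmem2
    rw [show (⟨φ' y, hy⟩ : T') = ⟨_, hmem2⟩ from Subtype.ext hv, h4]
    exact congrArg (fun z : S => (e z : Ω')) (Subtype.ext hfx)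
  · intro P' hP' φ' hφ'
    obtain ⟨φ, hφ, hc⟩ := hpull hφ'
    have hPT : imageAlong (S.subtype.comp e.symm.toMonoidHom) P' ≤ T := by
      rintro _ ⟨z, hz, rfl⟩
      refine imageAlong_inj_mem (e := e) (x := e.symm z) ?_
      show (e (e.symm z) : Ω') ∈ _
      rw [MulEquiv.apply_symm_apply]
      exact hP' hz
    obtain ⟨α, hα, φ₀, hφ₀, he⟩ := hfr _ hPT φ hφ
    let g : MulAut T := α
    obtain ⟨φ₀', hφ₀'⟩ := exists_corr e (fun x => hT (val_mem hφ₀ x)) (hP'.trans hT'S)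
      (fun y => ⟨_, y.2, rfl⟩)
    -- the automorphism of `T'`
    let gT : T →* T' := (S'.subtype.comp (e.toMonoidHom.comp (Subgroup.inclusion hT))).codRestrict T'
      fun t => ⟨⟨t, hT t.2⟩, t.2, rfl⟩
    have hgT : Function.Bijective gT := by
      constructor
      · intro a b hab
        exact Subgroup.inclusion_injective hT (e.injective (Subtype.ext (congrArg (fun z : T' => (z : Ω')) hab)))
      · rintro ⟨_, x, hx, rfl⟩
        exact ⟨⟨x, hx⟩, rfl⟩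
    let gE := MulEquiv.ofBijective gT hgT
    let α' : MulAut T' := (gE.symm.trans α).trans gE
    have hα'e : ∀ t : T, (α' (gE t) : Ω') = e ⟨α t, hT (α t).2⟩ := fun t => by
      show (gE (α (gE.symm (gE t))) : Ω') = _
      rw [MulEquiv.symm_apply_apply]; rfl
    refine ⟨α', (mem_autGroup hT'S).2 (hiso.1 _ _ ((mem_autGroup hT).1 hα) T' _ hT'S fun y => ?_),
      φ₀', ⟨hP', _, φ₀, hφ₀, hφ₀'⟩, fun y hy => ?_⟩
    · obtain ⟨t, rfl⟩ := gE.surjective y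
      exact ⟨⟨t, hT t.2⟩, ⟨α t, hT (α t).2⟩, t.2, rfl, rfl, hα'e t⟩
    · obtain ⟨x, s, hx, h1, h2, h3⟩ := hc y
      have h4 := hφ₀'.val_eq (y := y) (x := x) hx h1 (hT (val_mem hφ₀ _))
      have h5 : (⟨φ₀' y, hy⟩ : T') = gE ⟨φ₀ ⟨x, hx⟩, val_mem hφ₀ _⟩ := Subtype.ext h4
      rw [h5, hα'e, h3]
      exact congrArg (fun z : S => (e z : Ω')) (Subtype.ext (h2.trans (he ⟨x, hx⟩ (val_mem hφ₀ _))))
  · intro α' hα'
    obtain ⟨α, hα⟩ := exists_pull_aut (e := e) hT α'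
    have hαE : α ∈ E.autGroup T := by
      obtain ⟨-, P, φ, hφ, hc⟩ := (mem_autGroup (F := pushSystem e E hT) le_rfl).1 hα'
      refine (mem_autGroup le_rfl).2 ?_
      have hle : T ≤ P := fun t ht => by
        obtain ⟨x, s, hx, h1, -, -⟩ := hc ⟨_, ⟨⟨t, hT ht⟩, ht, rfl⟩⟩
        have : x = ⟨t, hT ht⟩ := e.injective (Subtype.ext h1)
        subst this; exact hx
      refine mem_of_agree hle hφ fun t => ?_
      have hmem : (e ⟨t, hT t.2⟩ : Ω') ∈ T' := ⟨⟨t, hT t.2⟩, t.2, rfl⟩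
      have h1 : (α' ⟨_, hmem⟩ : Ω') = _ :=
        hc.val_eq (y := ⟨_, hmem⟩) (x := ⟨t, hT t.2⟩) (hle t.2) rfl (hT (val_mem hφ _))
      have h2 := (hα t hmem).symm.trans h1
      exact congrArg (fun z : S => (z : Ω)) (e.injective (Subtype.ext h2))
    set R := T ⊔ centralizerIn S T
    set R' := T' ⊔ centralizerIn S' T'
    obtain ⟨β, hβ, hβT, hβC⟩ := hext α hαE
    have hRS : R ≤ S := sup_le hT (centralizerIn_le _ _)
    have hR'S : R' ≤ S' := sup_le hT'S (centralizerIn_le _ _)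
    have hcent : ∀ {c : S}, (e c : Ω') ∈ centralizerIn S' T' → (c : Ω) ∈ centralizerIn S T := by
      intro c hc
      refine mem_centralizerIn.2 ⟨c.2, fun t ht => ?_⟩
      have h1 := (mem_centralizerIn.1 hc).2 _ ⟨⟨t, hT ht⟩, ht, rfl⟩
      exact congrArg (fun z : S => (z : Ω)) (e.injective (Subtype.ext (show ((e (⟨t, hT ht⟩ * c) : S') : Ω') = e (c * ⟨t, hT ht⟩) by
        rw [map_mul, map_mul, Subgroup.coe_mul, Subgroup.coe_mul]; exact h1)))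
    have hcent' : ∀ {c : S}, (c : Ω) ∈ centralizerIn S T → (e c : Ω') ∈ centralizerIn S' T' := by
      intro c hc
      refine mem_centralizerIn.2 ⟨(e c).2, ?_⟩
      rintro _ ⟨x, hx, rfl⟩
      have h1 := (mem_centralizerIn.1 hc).2 _ hx
      show (e x : Ω') * e c = e c * e x
      rw [← Subgroup.coe_mul, ← Subgroup.coe_mul, ← map_mul, ← map_mul, show x * c = c * x from Subtype.ext h1]
    have hmapR : ∀ x : S, (x : Ω) ∈ R → (e x : Ω') ∈ R' := by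
      have : R.subgroupOf S ≤ R'.comap θ := by
        rw [Subgroup.subgroupOf_sup hT (centralizerIn_le _ _)]
        exact sup_le (fun x hx => Subgroup.mem_sup_left ⟨x, hx, rfl⟩)
          (fun x hx => Subgroup.mem_sup_right (hcent' hx))
      exact fun x hx => this hx
    have hmapR' : ∀ y : S', (y : Ω') ∈ R' → (e.symm y : Ω) ∈ R := by
      have : R'.subgroupOf S' ≤ R.comap (S.subtype.comp e.symm.toMonoidHom) := by
        rw [Subgroup.subgroupOf_sup hT'S (centralizerIn_le _ _)]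
        refine sup_le (fun y hy => ?_) (fun y hy => ?_)
        · exact Subgroup.mem_sup_left (imageAlong_inj_mem (x := e.symm y) (by rw [MulEquiv.apply_symm_apply]; exact hy))
        · exact Subgroup.mem_sup_right (hcent (c := e.symm y) (by rw [MulEquiv.apply_symm_apply]; exact hy))
      exact fun y hy => this hy
    let gR : R →* R' := (S'.subtype.comp (e.toMonoidHom.comp (Subgroup.inclusion hRS))).codRestrict R'
      fun x => hmapR ⟨x, hRS x.2⟩ x.2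
    have hgR : Function.Bijective gR := by
      constructor
      · intro a b hab
        exact Subgroup.inclusion_injective hRS (e.injective (Subtype.ext (congrArg (fun z : R' => (z : Ω')) hab)))
      · intro y
        refine ⟨⟨_, hmapR' ⟨y, hR'S y.2⟩ y.2⟩, Subtype.ext ?_⟩
        show (e (e.symm ⟨(y : Ω'), hR'S y.2⟩) : Ω') = y
        rw [MulEquiv.apply_symm_apply]
    let gE := MulEquiv.ofBijective gR hgR
    let β' : MulAut R' := (gE.symm.trans β).trans gE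
    have hβ'e : ∀ x : R, (β' (gE x) : Ω') = e ⟨β x, hRS (β x).2⟩ := fun x => by
      show (gE (β (gE.symm (gE x))) : Ω') = _
      rw [MulEquiv.symm_apply_apply]; rfl
    refine ⟨β', (mem_autGroup hR'S).2 (hiso.1 _ _ ((mem_autGroup hRS).1 hβ) R' _ hR'S fun y => ?_),
      fun y => ?_, fun c hc => ?_⟩
    · obtain ⟨x, rfl⟩ := gE.surjective y
      exact ⟨⟨x, hRS x.2⟩, ⟨β x, hRS (β x).2⟩, x.2, rfl, rfl, hβ'e x⟩
    · obtain ⟨t, ht, hty⟩ := y.2
      have h1 : gE ⟨(t : Ω), Subgroup.mem_sup_left ht⟩ = Subgroup.inclusion le_sup_left y := Subtype.ext hty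
      rw [← h1, hβ'e]
      have h2 : (e ⟨((⟨(t : Ω), ht⟩ : T) : Ω), hT ht⟩ : Ω') ∈ T' := ⟨t, ht, rfl⟩
      have h3 := hα ⟨(t : Ω), ht⟩ h2
      rw [show (⟨_, h2⟩ : T') = y from Subtype.ext hty] at h3
      rw [h3]
      exact congrArg (fun z : S => (e z : Ω')) (Subtype.ext (hβT ⟨(t : Ω), ht⟩))
    · obtain ⟨x, rfl⟩ := gE.surjective c
      have hxC : (x : Ω) ∈ centralizerIn S T := hcent (c := ⟨x, hRS x.2⟩) hc
      have h1 := hβC x hxC
      rw [hβ'e]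
      set s : S := ⟨(x : Ω), hRS x.2⟩⁻¹ * ⟨(β x : Ω), hRS (β x).2⟩
      have hval : ((gE x : R') : Ω')⁻¹ * (e ⟨(β x : Ω), hRS (β x).2⟩ : Ω') = e s := by
        show (e ⟨(x : Ω), hRS x.2⟩ : Ω')⁻¹ * _ = _
        rw [← Subgroup.coe_inv, ← Subgroup.coe_mul, ← map_inv, ← map_mul]
      rw [hval]
      have hs : (s : Ω) ∈ T ⊓ Subgroup.centralizer (T : Set Ω) := h1
      have h2 := mem_centralizerIn.1 (hcent' (c := s) (mem_centralizerIn.2 ⟨s.2, hs.2⟩))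
      exact ⟨⟨s, hs.1, rfl⟩, fun t ht => h2.2 t ht⟩

/-- Transport of simplicity. -/
theorem isSimple_of_sysIso [Finite S'] [Fact p.Prime] (hS' : IsPGroup p S') (hiso : SysIso e F F')
    (hF : F.IsSimple p) (hF' : F'.IsSaturated p) : F'.IsSimple p := by
  refine ⟨hF', fun h => hF.2.1 ?_, fun T' E' hE' => ?_⟩
  · refine eq_bot_iff.2 fun x hx => ?_
    have h1 : (e ⟨x, hx⟩ : Ω') ∈ (⊥ : Subgroup Ω') := h ▸ (e _).2
    rw [Subgroup.mem_bot] at h1 ⊢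
    have : (⟨x, hx⟩ : S) = 1 := e.injective (Subtype.ext (by rw [map_one]; exact h1))
    exact congrArg Subtype.val this
  obtain ⟨hT', hN⟩ := pushSystem_isNormalIn (e := e.symm) hS' hiso.symm hF.1 hE'
  rcases hF.2.2 _ _ hN with h | ⟨h, hh⟩
  · left
    refine eq_bot_iff.2 fun y hy => ?_
    have h1 : (e.symm ⟨y, hT' hy⟩ : Ω) ∈ imageAlong (S.subtype.comp e.symm.toMonoidHom) T' := ⟨_, hy, rfl⟩
    rw [h, Subgroup.mem_bot] at h1
    have : (⟨y, hT' hy⟩ : S') = 1 := e.symm.injective (Subtype.ext (by rw [map_one]; exact h1))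
    exact Subgroup.mem_bot.2 (congrArg Subtype.val this)
  · right
    refine ⟨le_antisymm hT' fun y hy => ?_, fun P' => Set.Subset.antisymm (hE'.1.2.2.1 P') fun φ' hφ' => ?_⟩
    · exact imageAlong_inj_mem (e := e.symm) (x := ⟨y, hy⟩) (h.symm ▸ (e.symm _).2)
    have hP' := src_le hφ'
    set P := imageAlong (S.subtype.comp e.symm.toMonoidHom) P'
    have hP : P ≤ S := by rintro _ ⟨x, -, rfl⟩; exact (e.symm x).2
    obtain ⟨φ, hφ⟩ := exists_corr e.symm (val_mem hφ') hP (by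
      rintro ⟨_, z, hz, rfl⟩
      show ((e.symm.symm (e.symm z) : S') : Ω') ∈ P'
      rw [MulEquiv.symm_symm, MulEquiv.apply_symm_apply]
      exact hz)
    have hφF := hiso.2 P' φ' hφ' P φ hP hφ
    rw [← hh P] at hφF
    obtain ⟨-, Q', ψ', hψ', hc⟩ := hφF
    have hle : P' ≤ Q' := fun y hy => by
      obtain ⟨x', s, hx', h1, -, -⟩ := hc ⟨_, ⟨⟨y, hP' hy⟩, hy, rfl⟩⟩
      have : x' = ⟨y, hP' hy⟩ := e.symm.injective (Subtype.ext h1)
      subst this; exact hx'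
    refine mem_of_agree hle hψ' fun y => ?_
    have hyP : (e.symm ⟨y, hP' y.2⟩ : Ω) ∈ P := ⟨⟨y, hP' y.2⟩, y.2, rfl⟩
    have h1 := hφ.val_eq (y := ⟨_, hyP⟩) (x := ⟨(y : Ω'), hP' y.2⟩) y.2 rfl (val_mem hφ' _)
    have h2 := hc.val_eq (y := ⟨_, hyP⟩) (x := ⟨(y : Ω'), hP' y.2⟩) (hle y.2) rfl (hT' (val_mem hψ' _))
    exact congrArg (fun z : S' => (z : Ω')) (e.symm.injective (Subtype.ext (h1.symm.trans h2)))

end Cfsg.Agent.Lib.Fusion
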